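import Cfsg.Agent.Lib.Helper9.TCData.L34L0.Main

set_option autoImplicit false
set_option maxRecDepth 1000000

namespace Cfsg.Agent.Helper9.TCData.L34L0
open Cfsg.Agent.Helper9.TC2 Cfsg.Agent.Helper9.LTC

theorem rot_src : chkRotSrc tab relWords relLabs rotSrc = true := by decide +kernel

theorem rel_0 : relVec tab 71 11 = some [Int.ofNat 1, Int.ofNat 1, Int.ofNat 0, Int.ofNat 0, Int.ofNat 0, Int.ofNat 0, Int.ofNat 0, Int.ofNat 0, Int.ofNat 0, Int.ofNat 0, Int.ofNat 0, Int.ofNat 0, Int.ofNat 0, Int.ofNat 0, Int.ofNat 0, Int.ofNat 0, Int.ofNat 0, Int.ofNat 0, Int.ofNat 0] := by decide +kernel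

theorem rel_1 : relVec tab 17 127 = some [Int.negSucc 2, Int.ofNat 0, Int.ofNat 1, Int.ofNat 0, Int.ofNat 0, Int.ofNat 0, Int.ofNat 0, Int.ofNat 1, Int.ofNat 0, Int.ofNat 0, Int.ofNat 0, Int.ofNat 0, Int.ofNat 0, Int.ofNat 0, Int.ofNat 0, Int.ofNat 0, Int.ofNat 0, Int.ofNat 0, Int.ofNat 0] := by decide +kernel

theorem rel_2 : relVec tab 17 31 = some [Int.ofNat 2, Int.negSucc 0, Int.ofNat 6, Int.negSucc 3, Int.negSucc 0, Int.negSucc 5, Int.ofNat 1, Int.ofNat 0, Int.negSucc 0, Int.ofNat 0, Int.ofNat 0, Int.ofNat 0, Int.ofNat 0, Int.ofNat 0, Int.ofNat 3, Int.ofNat 0, Int.ofNat 0, Int.ofNat 0, Int.negSucc 2] := by decide +kernel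

theorem rel_3 : relVec tab 4 2504 = some [Int.ofNat 0, Int.ofNat 0, Int.ofNat 0, Int.ofNat 0, Int.ofNat 0, Int.ofNat 0, Int.ofNat 0, Int.ofNat 0, Int.ofNat 0, Int.ofNat 0, Int.ofNat 0, Int.ofNat 0, Int.ofNat 0, Int.ofNat 0, Int.negSucc 6] := by decide +kernel

theorem rel_4 : relVec tab 4 2669 = some [Int.ofNat 0, Int.ofNat 0, Int.ofNat 0, Int.ofNat 0, Int.ofNat 0, Int.ofNat 0, Int.ofNat 0, Int.ofNat 0, Int.ofNat 0, Int.ofNat 0, Int.ofNat 0, Int.ofNat 0, Int.ofNat 0, Int.ofNat 0, Int.ofNat 0, Int.ofNat 0, Int.negSucc 6] := by decide +kernel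

theorem rel_5 : relVec tab 71 779 = some [Int.negSucc 10, Int.ofNat 4, Int.ofNat 5, Int.negSucc 1, Int.ofNat 0, Int.ofNat 2, Int.ofNat 0, Int.negSucc 0, Int.ofNat 0, Int.ofNat 0, Int.ofNat 0, Int.ofNat 0, Int.ofNat 0, Int.negSucc 0, Int.ofNat 0, Int.ofNat 0, Int.ofNat 1, Int.ofNat 0, Int.ofNat 0] := by decide +kernel

theorem rel_6 : relVec tab 17 945 = some [Int.negSucc 10, Int.negSucc 0, Int.ofNat 5, Int.negSucc 1, Int.ofNat 0, Int.negSucc 2, Int.ofNat 0, Int.ofNat 1, Int.ofNat 0, Int.ofNat 0, Int.ofNat 0, Int.ofNat 0, Int.ofNat 0, Int.ofNat 0, Int.ofNat 3, Int.ofNat 0, Int.negSucc 0, Int.ofNat 0, Int.negSucc 1] := by decide +kernel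

theorem rel_7 : relVec tab 71 435 = some [Int.ofNat 9, Int.negSucc 11, Int.ofNat 3, Int.negSucc 3, Int.ofNat 0, Int.negSucc 5, Int.ofNat 0, Int.ofNat 3, Int.ofNat 0, Int.ofNat 0, Int.ofNat 0, Int.ofNat 0, Int.ofNat 0, Int.ofNat 0, Int.ofNat 10, Int.ofNat 0, Int.negSucc 2, Int.ofNat 0, Int.negSucc 3] := by decide +kernel

theorem rel_8 : relVec tab 71 1732 = some [Int.negSucc 17, Int.negSucc 16, Int.ofNat 8, Int.negSucc 4, Int.negSucc 0, Int.negSucc 5, Int.ofNat 1, Int.ofNat 0, Int.ofNat 0, Int.ofNat 0, Int.ofNat 0, Int.ofNat 0, Int.ofNat 0, Int.ofNat 0, Int.negSucc 1, Int.ofNat 1, Int.ofNat 0, Int.ofNat 0, Int.negSucc 3] := by decide +kernel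

theorem rel_9 : relVec tab 17 2166 = some [Int.negSucc 23, Int.negSucc 16, Int.ofNat 20, Int.negSucc 10, Int.negSucc 0, Int.negSucc 9, Int.negSucc 0, Int.ofNat 9, Int.ofNat 1, Int.ofNat 0, Int.ofNat 0, Int.ofNat 0, Int.ofNat 2, Int.negSucc 0, Int.ofNat 5, Int.ofNat 1, Int.negSucc 3, Int.ofNat 0, Int.negSucc 7] := by decide +kernel

theorem rel_10 : relVec tab 71 1344 = some [Int.negSucc 24, Int.ofNat 5, Int.ofNat 8, Int.ofNat 0, Int.ofNat 0, Int.negSucc 1, Int.ofNat 0, Int.ofNat 0, Int.ofNat 0, Int.ofNat 0, Int.ofNat 0, Int.ofNat 0, Int.ofNat 0, Int.ofNat 0, Int.negSucc 1, Int.ofNat 0, Int.ofNat 0, Int.ofNat 0, Int.negSucc 1] := by decide +kernel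

theorem rel_11 : relVec tab 17 923 = some [Int.negSucc 24, Int.ofNat 21, Int.ofNat 2, Int.ofNat 6, Int.ofNat 1, Int.ofNat 4, Int.ofNat 1, Int.negSucc 5, Int.negSucc 1, Int.ofNat 0, Int.ofNat 0, Int.ofNat 0, Int.negSucc 0, Int.ofNat 0, Int.negSucc 4, Int.negSucc 0, Int.ofNat 2, Int.ofNat 0, Int.ofNat 3] := by decide +kernel

theorem rel_12 : relVec tab 71 1351 = some [Int.ofNat 6, Int.negSucc 26, Int.negSucc 7, Int.ofNat 0, Int.ofNat 0, Int.ofNat 2, Int.negSucc 0, Int.negSucc 0, Int.ofNat 1, Int.ofNat 0, Int.ofNat 0, Int.ofNat 0, Int.negSucc 0, Int.negSucc 0, Int.ofNat 11, Int.ofNat 0, Int.ofNat 1, Int.ofNat 0, Int.ofNat 0] := by decide +kernel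

theorem rel_13 : relVec tab 71 2169 = some [Int.ofNat 0, Int.ofNat 34, Int.ofNat 5, Int.ofNat 7, Int.ofNat 0, Int.ofNat 0, Int.ofNat 2, Int.ofNat 0, Int.negSucc 0, Int.ofNat 0, Int.ofNat 0, Int.ofNat 0, Int.ofNat 1, Int.ofNat 0, Int.negSucc 8, Int.ofNat 0, Int.negSucc 0, Int.ofNat 0, Int.ofNat 3] := by decide +kernel

theorem rel_14 : relVec tab 72 122 = some [Int.negSucc 35, Int.ofNat 12, Int.ofNat 6, Int.ofNat 5, Int.ofNat 3, Int.ofNat 5, Int.ofNat 13, Int.negSucc 18, Int.negSucc 4, Int.ofNat 0, Int.ofNat 0, Int.ofNat 0, Int.negSucc 5, Int.negSucc 0, Int.negSucc 27, Int.negSucc 0, Int.negSucc 0, Int.ofNat 0, Int.ofNat 3] := by decide +kernel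

theorem rel_15 : relVec tab 17 726 = some [Int.negSucc 39, Int.negSucc 4, Int.ofNat 14, Int.negSucc 4, Int.ofNat 0, Int.negSucc 3, Int.negSucc 0, Int.ofNat 0, Int.ofNat 0, Int.ofNat 0, Int.ofNat 0, Int.ofNat 0, Int.ofNat 0, Int.ofNat 0, Int.ofNat 5, Int.ofNat 0, Int.ofNat 1, Int.ofNat 0, Int.negSucc 4] := by decide +kernel

theorem rel_16 : relVec tab 71 1376 = some [Int.ofNat 33, Int.negSucc 39, Int.ofNat 7, Int.negSucc 9, Int.ofNat 2, Int.negSucc 17, Int.negSucc 12, Int.ofNat 13, Int.ofNat 10, Int.negSucc 0, Int.ofNat 1, Int.ofNat 0, Int.negSucc 0, Int.ofNat 3, Int.negSucc 8, Int.ofNat 1, Int.ofNat 28, Int.ofNat 0, Int.negSucc 11] := by decide +kernel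

theorem rel_17 : relVec tab 17 2033 = some [Int.negSucc 40, Int.negSucc 37, Int.ofNat 3, Int.negSucc 3, Int.ofNat 0, Int.negSucc 2, Int.negSucc 1, Int.negSucc 1, Int.ofNat 1, Int.ofNat 0, Int.ofNat 0, Int.ofNat 0, Int.negSucc 1, Int.ofNat 0, Int.ofNat 15, Int.ofNat 0, Int.ofNat 0, Int.ofNat 0, Int.negSucc 4] := by decide +kernel

theorem rel_18 : relVec tab 73 1871 = some [Int.ofNat 2, Int.ofNat 61, Int.negSucc 15, Int.ofNat 0, Int.ofNat 0, Int.ofNat 5, Int.ofNat 0, Int.ofNat 1, Int.ofNat 1, Int.ofNat 0, Int.ofNat 0, Int.ofNat 0, Int.ofNat 0, Int.ofNat 1, Int.ofNat 1, Int.ofNat 0, Int.negSucc 0, Int.ofNat 0, Int.ofNat 4] := by decide +kernel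

theorem rel_19 : relVec tab 71 1897 = some [Int.negSucc 15, Int.negSucc 33, Int.negSucc 21, Int.ofNat 5, Int.negSucc 1, Int.ofNat 5, Int.negSucc 18, Int.ofNat 25, Int.ofNat 11, Int.ofNat 0, Int.ofNat 0, Int.ofNat 1, Int.ofNat 3, Int.ofNat 3, Int.ofNat 73, Int.ofNat 0, Int.negSucc 6, Int.ofNat 1, Int.negSucc 5] := by decide +kernel

theorem rel_20 : relVec tab 33 1019 = some [Int.ofNat 199, Int.negSucc 48, Int.negSucc 48, Int.negSucc 10, Int.negSucc 1, Int.ofNat 13, Int.negSucc 18, Int.ofNat 28, Int.ofNat 12, Int.ofNat 0, Int.ofNat 0, Int.ofNat 0, Int.ofNat 4, Int.ofNat 0, Int.ofNat 67, Int.ofNat 1, Int.negSucc 7, Int.ofNat 1, Int.negSucc 0] := by decide +kernel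

theorem rel_21 : relVec tab 33 650 = some [Int.ofNat 295, Int.ofNat 49, Int.negSucc 63, Int.ofNat 5, Int.ofNat 0, Int.ofNat 23, Int.ofNat 0, Int.ofNat 2, Int.ofNat 2, Int.ofNat 1, Int.ofNat 0, Int.ofNat 0, Int.ofNat 2, Int.ofNat 0, Int.negSucc 2, Int.ofNat 0, Int.ofNat 2, Int.ofNat 0, Int.ofNat 20] := by decide +kernel

theorem rel_22 : relVec tab 43 0 = some [Int.ofNat 638, Int.negSucc 1459, Int.negSucc 71, Int.negSucc 292, Int.negSucc 7, Int.negSucc 235, Int.negSucc 44, Int.ofNat 101, Int.ofNat 20, Int.ofNat 0, Int.ofNat 0, Int.ofNat 0, Int.ofNat 11, Int.negSucc 13, Int.ofNat 393, Int.ofNat 25, Int.negSucc 6, Int.ofNat 0, Int.negSucc 187] := by decide +kernel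

/-- The relation vectors. -/
def rhos : List (List ℤ) := [[Int.ofNat 1, Int.ofNat 1, Int.ofNat 0, Int.ofNat 0, Int.ofNat 0, Int.ofNat 0, Int.ofNat 0, Int.ofNat 0, Int.ofNat 0, Int.ofNat 0, Int.ofNat 0, Int.ofNat 0, Int.ofNat 0, Int.ofNat 0, Int.ofNat 0, Int.ofNat 0, Int.ofNat 0, Int.ofNat 0, Int.ofNat 0],
  [Int.negSucc 2, Int.ofNat 0, Int.ofNat 1, Int.ofNat 0, Int.ofNat 0, Int.ofNat 0, Int.ofNat 0, Int.ofNat 1, Int.ofNat 0, Int.ofNat 0, Int.ofNat 0, Int.ofNat 0, Int.ofNat 0, Int.ofNat 0, Int.ofNat 0, Int.ofNat 0, Int.ofNat 0, Int.ofNat 0, Int.ofNat 0],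
  [Int.ofNat 2, Int.negSucc 0, Int.ofNat 6, Int.negSucc 3, Int.negSucc 0, Int.negSucc 5, Int.ofNat 1, Int.ofNat 0, Int.negSucc 0, Int.ofNat 0, Int.ofNat 0, Int.ofNat 0, Int.ofNat 0, Int.ofNat 0, Int.ofNat 3, Int.ofNat 0, Int.ofNat 0, Int.ofNat 0, Int.negSucc 2],
  [Int.ofNat 0, Int.ofNat 0, Int.ofNat 0, Int.ofNat 0, Int.ofNat 0, Int.ofNat 0, Int.ofNat 0, Int.ofNat 0, Int.ofNat 0, Int.ofNat 0, Int.ofNat 0, Int.ofNat 0, Int.ofNat 0, Int.ofNat 0, Int.negSucc 6],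
  [Int.ofNat 0, Int.ofNat 0, Int.ofNat 0, Int.ofNat 0, Int.ofNat 0, Int.ofNat 0, Int.ofNat 0, Int.ofNat 0, Int.ofNat 0, Int.ofNat 0, Int.ofNat 0, Int.ofNat 0, Int.ofNat 0, Int.ofNat 0, Int.ofNat 0, Int.ofNat 0, Int.negSucc 6],
  [Int.negSucc 10, Int.ofNat 4, Int.ofNat 5, Int.negSucc 1, Int.ofNat 0, Int.ofNat 2, Int.ofNat 0, Int.negSucc 0, Int.ofNat 0, Int.ofNat 0, Int.ofNat 0, Int.ofNat 0, Int.ofNat 0, Int.negSucc 0, Int.ofNat 0, Int.ofNat 0, Int.ofNat 1, Int.ofNat 0, Int.ofNat 0],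
  [Int.negSucc 10, Int.negSucc 0, Int.ofNat 5, Int.negSucc 1, Int.ofNat 0, Int.negSucc 2, Int.ofNat 0, Int.ofNat 1, Int.ofNat 0, Int.ofNat 0, Int.ofNat 0, Int.ofNat 0, Int.ofNat 0, Int.ofNat 0, Int.ofNat 3, Int.ofNat 0, Int.negSucc 0, Int.ofNat 0, Int.negSucc 1],
  [Int.ofNat 9, Int.negSucc 11, Int.ofNat 3, Int.negSucc 3, Int.ofNat 0, Int.negSucc 5, Int.ofNat 0, Int.ofNat 3, Int.ofNat 0, Int.ofNat 0, Int.ofNat 0, Int.ofNat 0, Int.ofNat 0, Int.ofNat 0, Int.ofNat 10, Int.ofNat 0, Int.negSucc 2, Int.ofNat 0, Int.negSucc 3],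
  [Int.negSucc 17, Int.negSucc 16, Int.ofNat 8, Int.negSucc 4, Int.negSucc 0, Int.negSucc 5, Int.ofNat 1, Int.ofNat 0, Int.ofNat 0, Int.ofNat 0, Int.ofNat 0, Int.ofNat 0, Int.ofNat 0, Int.ofNat 0, Int.negSucc 1, Int.ofNat 1, Int.ofNat 0, Int.ofNat 0, Int.negSucc 3],
  [Int.negSucc 23, Int.negSucc 16, Int.ofNat 20, Int.negSucc 10, Int.negSucc 0, Int.negSucc 9, Int.negSucc 0, Int.ofNat 9, Int.ofNat 1, Int.ofNat 0, Int.ofNat 0, Int.ofNat 0, Int.ofNat 2, Int.negSucc 0, Int.ofNat 5, Int.ofNat 1, Int.negSucc 3, Int.ofNat 0, Int.negSucc 7],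
  [Int.negSucc 24, Int.ofNat 5, Int.ofNat 8, Int.ofNat 0, Int.ofNat 0, Int.negSucc 1, Int.ofNat 0, Int.ofNat 0, Int.ofNat 0, Int.ofNat 0, Int.ofNat 0, Int.ofNat 0, Int.ofNat 0, Int.ofNat 0, Int.negSucc 1, Int.ofNat 0, Int.ofNat 0, Int.ofNat 0, Int.negSucc 1],
  [Int.negSucc 24, Int.ofNat 21, Int.ofNat 2, Int.ofNat 6, Int.ofNat 1, Int.ofNat 4, Int.ofNat 1, Int.negSucc 5, Int.negSucc 1, Int.ofNat 0, Int.ofNat 0, Int.ofNat 0, Int.negSucc 0, Int.ofNat 0, Int.negSucc 4, Int.negSucc 0, Int.ofNat 2, Int.ofNat 0, Int.ofNat 3],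
  [Int.ofNat 6, Int.negSucc 26, Int.negSucc 7, Int.ofNat 0, Int.ofNat 0, Int.ofNat 2, Int.negSucc 0, Int.negSucc 0, Int.ofNat 1, Int.ofNat 0, Int.ofNat 0, Int.ofNat 0, Int.negSucc 0, Int.negSucc 0, Int.ofNat 11, Int.ofNat 0, Int.ofNat 1, Int.ofNat 0, Int.ofNat 0],
  [Int.ofNat 0, Int.ofNat 34, Int.ofNat 5, Int.ofNat 7, Int.ofNat 0, Int.ofNat 0, Int.ofNat 2, Int.ofNat 0, Int.negSucc 0, Int.ofNat 0, Int.ofNat 0, Int.ofNat 0, Int.ofNat 1, Int.ofNat 0, Int.negSucc 8, Int.ofNat 0, Int.negSucc 0, Int.ofNat 0, Int.ofNat 3],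
  [Int.negSucc 35, Int.ofNat 12, Int.ofNat 6, Int.ofNat 5, Int.ofNat 3, Int.ofNat 5, Int.ofNat 13, Int.negSucc 18, Int.negSucc 4, Int.ofNat 0, Int.ofNat 0, Int.ofNat 0, Int.negSucc 5, Int.negSucc 0, Int.negSucc 27, Int.negSucc 0, Int.negSucc 0, Int.ofNat 0, Int.ofNat 3],
  [Int.negSucc 39, Int.negSucc 4, Int.ofNat 14, Int.negSucc 4, Int.ofNat 0, Int.negSucc 3, Int.negSucc 0, Int.ofNat 0, Int.ofNat 0, Int.ofNat 0, Int.ofNat 0, Int.ofNat 0, Int.ofNat 0, Int.ofNat 0, Int.ofNat 5, Int.ofNat 0, Int.ofNat 1, Int.ofNat 0, Int.negSucc 4],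
  [Int.ofNat 33, Int.negSucc 39, Int.ofNat 7, Int.negSucc 9, Int.ofNat 2, Int.negSucc 17, Int.negSucc 12, Int.ofNat 13, Int.ofNat 10, Int.negSucc 0, Int.ofNat 1, Int.ofNat 0, Int.negSucc 0, Int.ofNat 3, Int.negSucc 8, Int.ofNat 1, Int.ofNat 28, Int.ofNat 0, Int.negSucc 11],
  [Int.negSucc 40, Int.negSucc 37, Int.ofNat 3, Int.negSucc 3, Int.ofNat 0, Int.negSucc 2, Int.negSucc 1, Int.negSucc 1, Int.ofNat 1, Int.ofNat 0, Int.ofNat 0, Int.ofNat 0, Int.negSucc 1, Int.ofNat 0, Int.ofNat 15, Int.ofNat 0, Int.ofNat 0, Int.ofNat 0, Int.negSucc 4],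
  [Int.ofNat 2, Int.ofNat 61, Int.negSucc 15, Int.ofNat 0, Int.ofNat 0, Int.ofNat 5, Int.ofNat 0, Int.ofNat 1, Int.ofNat 1, Int.ofNat 0, Int.ofNat 0, Int.ofNat 0, Int.ofNat 0, Int.ofNat 1, Int.ofNat 1, Int.ofNat 0, Int.negSucc 0, Int.ofNat 0, Int.ofNat 4],
  [Int.negSucc 15, Int.negSucc 33, Int.negSucc 21, Int.ofNat 5, Int.negSucc 1, Int.ofNat 5, Int.negSucc 18, Int.ofNat 25, Int.ofNat 11, Int.ofNat 0, Int.ofNat 0, Int.ofNat 1, Int.ofNat 3, Int.ofNat 3, Int.ofNat 73, Int.ofNat 0, Int.negSucc 6, Int.ofNat 1, Int.negSucc 5],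
  [Int.ofNat 199, Int.negSucc 48, Int.negSucc 48, Int.negSucc 10, Int.negSucc 1, Int.ofNat 13, Int.negSucc 18, Int.ofNat 28, Int.ofNat 12, Int.ofNat 0, Int.ofNat 0, Int.ofNat 0, Int.ofNat 4, Int.ofNat 0, Int.ofNat 67, Int.ofNat 1, Int.negSucc 7, Int.ofNat 1, Int.negSucc 0],
  [Int.ofNat 295, Int.ofNat 49, Int.negSucc 63, Int.ofNat 5, Int.ofNat 0, Int.ofNat 23, Int.ofNat 0, Int.ofNat 2, Int.ofNat 2, Int.ofNat 1, Int.ofNat 0, Int.ofNat 0, Int.ofNat 2, Int.ofNat 0, Int.negSucc 2, Int.ofNat 0, Int.ofNat 2, Int.ofNat 0, Int.ofNat 20],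
  [Int.ofNat 638, Int.negSucc 1459, Int.negSucc 71, Int.negSucc 292, Int.negSucc 7, Int.negSucc 235, Int.negSucc 44, Int.ofNat 101, Int.ofNat 20, Int.ofNat 0, Int.ofNat 0, Int.ofNat 0, Int.ofNat 11, Int.negSucc 13, Int.ofNat 393, Int.ofNat 25, Int.negSucc 6, Int.ofNat 0, Int.negSucc 187]]

end Cfsg.Agent.Helper9.TCData.L34L0
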