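import Cfsg.Agent.Lib.Helper9.TCData.L34L0.Main

set_option autoImplicit false
set_option maxRecDepth 1000000

namespace Cfsg.Agent.Helper9.TCData.L34L0
open Cfsg.Agent.Helper9.TC2 Cfsg.Agent.Helper9.LTC

theorem e3_0 : allRange 0 360 (fun x => chkEnt tab 3 x) = true := by decide +kernel

theorem e3_360 : allRange 360 360 (fun x => chkEnt tab 3 x) = true := by decide +kernel

theorem e3_720 : allRange 720 360 (fun x => chkEnt tab 3 x) = true := by decide +kernel

theorem e3_1080 : allRange 1080 360 (fun x => chkEnt tab 3 x) = true := by decide +kernel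

end Cfsg.Agent.Helper9.TCData.L34L0
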