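import Cfsg.Agent.Lib.Helper9.TCData.L34L0.S0
import Cfsg.Agent.Lib.Helper9.TCData.L34L0.S1
import Cfsg.Agent.Lib.Helper9.TCData.L34L0.S2
import Cfsg.Agent.Lib.Helper9.TCData.L34L0.S3
import Cfsg.Agent.Lib.Helper9.TCData.L34L0.S4
import Cfsg.Agent.Lib.Helper9.TCData.L34L0.S5
import Cfsg.Agent.Lib.Helper9.TCData.L34L0.S6
import Cfsg.Agent.Lib.Helper9.TCData.L34L0.S7
import Cfsg.Agent.Lib.Helper9.TCData.L34L0.Rel

set_option autoImplicit false
set_option maxRecDepth 1000000

namespace Cfsg.Agent.Helper9.TCData.L34L0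
open Cfsg.Agent.Helper9.TC2 Cfsg.Agent.Helper9.LTC

theorem hE0 : ∀ x < tab.n, chkEnt tab 0 x = true := by
  have h : ∀ x < 2880, chkEnt tab 0 x = true := by
    exact (ext_range (ext_range (ext_range (ext_range (ext_range (ext_range (ext_range (ext_range range_zero e0_0) e0_360) e0_720) e0_1080) e0_1440) e0_1800) e0_2160) e0_2520)
  exact h

theorem hE1 : ∀ x < tab.n, chkEnt tab 1 x = true := by
  have h : ∀ x < 2880, chkEnt tab 1 x = true := by
    exact (ext_range (ext_range (ext_range (ext_range (ext_range (ext_range (ext_range (ext_range range_zero e1_0) e1_360) e1_720) e1_1080) e1_1440) e1_1800) e1_2160) e1_2520)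
  exact h

theorem hE2 : ∀ x < tab.n, chkEnt tab 2 x = true := by
  have h : ∀ x < 2880, chkEnt tab 2 x = true := by
    exact (ext_range (ext_range (ext_range (ext_range (ext_range (ext_range (ext_range (ext_range range_zero e2_0) e2_360) e2_720) e2_1080) e2_1440) e2_1800) e2_2160) e2_2520)
  exact h

theorem hE3 : ∀ x < tab.n, chkEnt tab 3 x = true := by
  have h : ∀ x < 2880, chkEnt tab 3 x = true := by
    exact (ext_range (ext_range (ext_range (ext_range (ext_range (ext_range (ext_range (ext_range range_zero e3_0) e3_360) e3_720) e3_1080) e3_1440) e3_1800) e3_2160) e3_2520)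
  exact h

theorem hE : ∀ c < tab.k, ∀ x < tab.n, chkEnt tab c x = true := by
  intro c hc
  have hc' : c < 4 := hc
  interval_cases c
  · exact hE0
  · exact hE1
  · exact hE2
  · exact hE3

end Cfsg.Agent.Helper9.TCData.L34L0
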