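import Cfsg.Agent.Lib.Helper9.TCData.L34L0.Main
import Cfsg.Agent.Lib.Helper9.LTCNode

set_option autoImplicit false
set_option maxRecDepth 1000000

namespace Cfsg.Agent.Helper9.TCData.L34L0
open Cfsg.Agent.Helper9.TC2 Cfsg.Agent.Helper9.LTC

theorem hNodeA : allRange 0 2880 (fun t => chkNode tab t) = true := by decide +kernel

theorem hNode : ∀ t < tab.n, chkNode tab t = true := by
  intro t ht
  have ht' : t < 2880 := ht
  exact allRange_iff.1 hNodeA t (Nat.zero_le t) (by omega)

theorem hFree : chkFree tab = true := by decide +kernel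

theorem hn : 0 < tab.n := by decide

theorem h0 : tab.rk 0 = 0 := chkNode_zero (hNode 0 hn)

end Cfsg.Agent.Helper9.TCData.L34L0
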