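import Cfsg.Agent.Lib.Helper9.TCData.L34L0.Rel

set_option autoImplicit false
set_option maxRecDepth 1000000

namespace Cfsg.Agent.Helper9.TCData.L34L0
open Cfsg.Agent.Helper9.TC2 Cfsg.Agent.Helper9.LTC

/-- Every relation vector is the relation of a closed path. -/
theorem rel_all : ∀ ρ ∈ rhos, ∃ i s, s < tab.n ∧ relVec tab i s = some ρ := by
  intro ρ hρ
  simp only [rhos, List.mem_cons, List.not_mem_nil, or_false] at hρ
  rcases hρ with rfl | rfl | rfl | rfl | rfl | rfl | rfl | rfl | rfl | rfl | rfl | rfl | rfl | rfl | rfl | rfl | rfl | rfl | rfl | rfl | rfl | rfl | rfl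
  · exact ⟨_, _, by decide, rel_0⟩
  · exact ⟨_, _, by decide, rel_1⟩
  · exact ⟨_, _, by decide, rel_2⟩
  · exact ⟨_, _, by decide, rel_3⟩
  · exact ⟨_, _, by decide, rel_4⟩
  · exact ⟨_, _, by decide, rel_5⟩
  · exact ⟨_, _, by decide, rel_6⟩
  · exact ⟨_, _, by decide, rel_7⟩
  · exact ⟨_, _, by decide, rel_8⟩
  · exact ⟨_, _, by decide, rel_9⟩
  · exact ⟨_, _, by decide, rel_10⟩
  · exact ⟨_, _, by decide, rel_11⟩
  · exact ⟨_, _, by decide, rel_12⟩
  · exact ⟨_, _, by decide, rel_13⟩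
  · exact ⟨_, _, by decide, rel_14⟩
  · exact ⟨_, _, by decide, rel_15⟩
  · exact ⟨_, _, by decide, rel_16⟩
  · exact ⟨_, _, by decide, rel_17⟩
  · exact ⟨_, _, by decide, rel_18⟩
  · exact ⟨_, _, by decide, rel_19⟩
  · exact ⟨_, _, by decide, rel_20⟩
  · exact ⟨_, _, by decide, rel_21⟩
  · exact ⟨_, _, by decide, rel_22⟩

end Cfsg.Agent.Helper9.TCData.L34L0
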