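import Cfsg.Agent.Lib.Helper9.LTC

set_option autoImplicit false
set_option maxRecDepth 1000000

namespace Cfsg.Agent.Helper9.TCData.L34L0
open Cfsg.Agent.Helper9.TC2 Cfsg.Agent.Helper9.LTC

noncomputable def labT_0 : ZT := (ZT.node 180 (ZT.node 90 (ZT.node 45 (ZT.node 22 (ZT.node 11 (ZT.node 5 (ZT.node 2 (ZT.node 1 (ZT.leaf []) (ZT.leaf [Int.ofNat 6092, Int.ofNat 4561, Int.negSucc 1599, Int.ofNat 847, Int.ofNat 25, Int.ofNat 1188, Int.ofNat 127, Int.negSucc 326, Int.negSucc 28, Int.negSucc 0, Int.ofNat 0, Int.ofNat 0, Int.negSucc 2, Int.ofNat 27, Int.negSucc 1447, Int.negSucc 38, Int.ofNat 173, Int.ofNat 0, Int.ofNat 1016])) (ZT.node 3 (ZT.leaf [Int.negSucc 3326, Int.negSucc 2325, Int.ofNat 880, Int.negSucc 439, Int.negSucc 11, Int.negSucc 623, Int.negSucc 59, Int.ofNat 157, Int.ofNat 8, Int.ofNat 0, Int.ofNat 0, Int.ofNat 0, Int.ofNat 1,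 Int.negSucc 14, Int.ofNat 715, Int.ofNat 21, Int.negSucc 85, Int.ofNat 0, Int.negSucc 530]) (ZT.node 4 (ZT.leaf [Int.negSucc 3842, Int.negSucc 2117, Int.ofNat 917, Int.negSucc 354, Int.negSucc 8, Int.negSucc 582, Int.negSucc 72, Int.ofNat 162, Int.ofNat 19, Int.ofNat 1, Int.ofNat 0, Int.ofNat 0, Int.negSucc 6, Int.negSucc 9, Int.ofNat 727, Int.ofNat 11, Int.negSucc 90, Int.ofNat 0, Int.negSucc 515]) (ZT.leaf [Int.ofNat 4734, Int.ofNat 3499, Int.negSucc 1177, Int.ofNat 609, Int.ofNat 16, Int.ofNat 878, Int.ofNat 108, Int.negSucc 261, Int.negSucc 32, Int.negSucc 0, Int.ofNat 0, Int.ofNat 0, Int.ofNat 2, Int.ofNat 22, Int.negSucc 1153, Int.negSucc 24, Int.ofNat 141, Int.ofNat 0, Int.ofNat 772])))) (ZT.node 8 (ZT.node 6 (ZT.leaf []) (ZT.node 7 (ZT.leaf [Int.ofNat 1078, Int.negSucc 116, Int.negSucc 196, Int.negSucc 51, Int.negSucc 3, Int.ofNat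 19, Int.ofNat 6, Int.ofNat 8, Int.ofNat 2, Int.ofNat 0, Int.ofNat 0, Int.ofNat 0, Int.ofNat 9, Int.negSucc 1, Int.ofNat 6, Int.ofNat 7, Int.ofNat 4, Int.ofNat 0, Int.ofNat 31]) (ZT.leaf []))) (ZT.node 9 (ZT.leaf [Int.negSucc 0]) (ZT.node 10 (ZT.leaf [Int.negSucc 2944, Int.negSucc 1577, Int.ofNat 752, Int.negSucc 289, Int.negSucc 5, Int.negSucc 478, Int.negSucc 45, Int.ofNat 118, Int.ofNat 5, Int.ofNat 0, Int.ofNat 0, Int.ofNat 0, Int.negSucc 1, Int.negSucc 9, Int.ofNat 531, Int.ofNat 9, Int.negSucc 71, Int.ofNat 0, Int.negSucc 405]) (ZT.leaf [Int.ofNat 393, Int.ofNat 240, Int.negSucc 64, Int.ofNat 28, Int.ofNat 1, Int.ofNat 39, Int.ofNat 19, Int.negSucc 26, Int.negSucc 10, Int.ofNat 0, Int.ofNat 0, Int.ofNat 0, Int.ofNat 2, Int.negSucc 0, Int.negSucc 92, Int.ofNat 0, Int.ofNat 9, Int.ofNat 0, Int.ofNat 48]))))) (ZT.node 16 (ZT.node 13 (ZT.node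 12 (ZT.leaf []) (ZT.leaf [])) (ZT.node 14 (ZT.leaf [Int.ofNat 3326, Int.ofNat 2326, Int.negSucc 879, Int.ofNat 440, Int.ofNat 12, Int.ofNat 624, Int.ofNat 60, Int.negSucc 156, Int.negSucc 7, Int.ofNat 0, Int.ofNat 0, Int.ofNat 0, Int.negSucc 0, Int.ofNat 15, Int.negSucc 714, Int.negSucc 20, Int.ofNat 86, Int.ofNat 0, Int.ofNat 531]) (ZT.node 15 (ZT.leaf [Int.negSucc 3325, Int.negSucc 2325, Int.ofNat 880, Int.negSucc 439, Int.negSucc 11, Int.negSucc 623, Int.negSucc 59, Int.ofNat 157, Int.ofNat 8, Int.ofNat 0, Int.ofNat 0, Int.ofNat 0, Int.ofNat 1, Int.negSucc 14, Int.ofNat 715, Int.ofNat 21, Int.negSucc 85, Int.ofNat 0, Int.negSucc 530]) (ZT.leaf [Int.ofNat 2787, Int.ofNat 1662, Int.negSucc 635, Int.ofNat 266, Int.ofNat 8, Int.ofNat 411, Int.ofNat 61, Int.negSucc 126, Int.negSucc 21, Int.negSucc 0, Int.ofNat 0, Int.ofNat 0, Int.ofNat 8,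 Int.ofNat 8, Int.negSucc 559, Int.negSucc 7, Int.ofNat 66, Int.ofNat 0, Int.ofNat 377])))) (ZT.node 19 (ZT.node 17 (ZT.leaf []) (ZT.node 18 (ZT.leaf [Int.ofNat 789, Int.ofNat 2824, Int.negSucc 247, Int.ofNat 506, Int.ofNat 15, Int.ofNat 506, Int.ofNat 91, Int.negSucc 224, Int.negSucc 52, Int.negSucc 0, Int.ofNat 0, Int.ofNat 0, Int.negSucc 8, Int.ofNat 19, Int.negSucc 885, Int.negSucc 31, Int.ofNat 78, Int.ofNat 0, Int.ofNat 452]) (ZT.leaf [Int.negSucc 788, Int.negSucc 2823, Int.ofNat 248, Int.negSucc 505, Int.negSucc 14, Int.negSucc 505, Int.negSucc 90, Int.ofNat 225, Int.ofNat 53, Int.ofNat 1, Int.ofNat 0, Int.ofNat 0, Int.ofNat 9, Int.negSucc 18, Int.ofNat 886, Int.ofNat 32, Int.negSucc 77, Int.ofNat 0, Int.negSucc 451]))) (ZT.node 20 (ZT.leaf [Int.negSucc 1789, Int.negSucc 2699, Int.ofNat 426, Int.negSucc 452, Int.negSucc 10, Int.negSucc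 517, Int.negSucc 96, Int.ofNat 217, Int.ofNat 52, Int.ofNat 1, Int.ofNat 0, Int.ofNat 0, Int.ofNat 0, Int.negSucc 16, Int.ofNat 881, Int.ofNat 25, Int.negSucc 81, Int.ofNat 0, Int.negSucc 477]) (ZT.node 21 (ZT.leaf [Int.negSucc 0]) (ZT.leaf [])))))) (ZT.node 33 (ZT.node 27 (ZT.node 24 (ZT.node 23 (ZT.leaf [Int.negSucc 1281, Int.negSucc 630, Int.ofNat 321, Int.negSucc 113, Int.negSucc 2, Int.negSucc 198, Int.negSucc 20, Int.ofNat 49, Int.ofNat 2, Int.ofNat 0, Int.ofNat 0, Int.ofNat 0, Int.ofNat 0, Int.negSucc 2, Int.ofNat 223, Int.ofNat 4, Int.negSucc 26, Int.ofNat 0, Int.negSucc 167]) (ZT.leaf [Int.negSucc 0])) (ZT.node 25 (ZT.leaf [Int.ofNat 2946, Int.ofNat 1578, Int.negSucc 751, Int.ofNat 290, Int.ofNat 6, Int.ofNat 479, Int.ofNat 46, Int.negSucc 117, Int.negSucc 4, Int.ofNat 0, Int.ofNat 0, Int.ofNat 0, Int.ofNat 2, Int.ofNat 10, Int.negSucc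 530, Int.negSucc 8, Int.ofNat 72, Int.ofNat 0, Int.ofNat 406]) (ZT.node 26 (ZT.leaf [Int.ofNat 235, Int.ofNat 1436, Int.negSucc 98, Int.ofNat 262, Int.ofNat 6, Int.ofNat 251, Int.ofNat 48, Int.negSucc 114, Int.negSucc 27, Int.ofNat 0, Int.ofNat 0, Int.ofNat 0, Int.negSucc 4, Int.ofNat 10, Int.negSucc 450, Int.negSucc 17, Int.ofNat 34, Int.ofNat 0, Int.ofNat 226]) (ZT.leaf [Int.ofNat 0, Int.ofNat 1])))) (ZT.node 30 (ZT.node 28 (ZT.leaf [Int.negSucc 0]) (ZT.node 29 (ZT.leaf [Int.negSucc 933, Int.negSucc 344, Int.ofNat 227, Int.negSucc 61, Int.negSucc 1, Int.negSucc 123, Int.negSucc 10, Int.ofNat 28, Int.negSucc 0, Int.ofNat 0, Int.ofNat 0, Int.ofNat 0, Int.ofNat 0, Int.negSucc 0, Int.ofNat 98, Int.ofNat 2, Int.negSucc 21, Int.ofNat 0, Int.negSucc 101]) (ZT.leaf [Int.negSucc 5126, Int.negSucc 3739, Int.ofNat 1243, Int.negSucc 636, Int.negSucc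 16, Int.negSucc 916, Int.negSucc 126, Int.ofNat 289, Int.ofNat 44, Int.ofNat 1, Int.ofNat 0, Int.ofNat 0, Int.negSucc 3, Int.negSucc 20, Int.ofNat 1247, Int.ofNat 25, Int.negSucc 149, Int.ofNat 0, Int.negSucc 819]))) (ZT.node 31 (ZT.leaf [Int.ofNat 5129, Int.ofNat 3741, Int.negSucc 1242, Int.ofNat 637, Int.ofNat 17, Int.ofNat 917, Int.ofNat 127, Int.negSucc 288, Int.negSucc 43, Int.negSucc 0, Int.ofNat 0, Int.ofNat 0, Int.ofNat 4, Int.ofNat 21, Int.negSucc 1246, Int.negSucc 24, Int.ofNat 150, Int.ofNat 0, Int.ofNat 820]) (ZT.node 32 (ZT.leaf []) (ZT.leaf []))))) (ZT.node 39 (ZT.node 36 (ZT.node 34 (ZT.leaf []) (ZT.node 35 (ZT.leaf [Int.negSucc 387, Int.negSucc 145, Int.ofNat 88, Int.negSucc 22, Int.negSucc 0, Int.negSucc 43, Int.negSucc 3, Int.ofNat 7, Int.ofNat 0, Int.ofNat 0, Int.ofNat 0, Int.ofNat 0, Int.negSucc 1, Int.negSucc 0, Int.ofNat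 47, Int.ofNat 0, Int.negSucc 5, Int.ofNat 0, Int.negSucc 38]) (ZT.leaf [Int.negSucc 0]))) (ZT.node 37 (ZT.leaf []) (ZT.node 38 (ZT.leaf []) (ZT.leaf [Int.negSucc 2850, Int.negSucc 1635, Int.ofNat 700, Int.negSucc 283, Int.negSucc 6, Int.negSucc 457, Int.negSucc 57, Int.ofNat 136, Int.ofNat 17, Int.ofNat 1, Int.ofNat 0, Int.ofNat 0, Int.negSucc 1, Int.negSucc 6, Int.ofNat 573, Int.ofNat 8, Int.negSucc 69, Int.ofNat 0, Int.negSucc 401])))) (ZT.node 42 (ZT.node 40 (ZT.leaf [Int.ofNat 3842, Int.ofNat 2118, Int.negSucc 916, Int.ofNat 355, Int.ofNat 9, Int.ofNat 583, Int.ofNat 73, Int.negSucc 161, Int.negSucc 18, Int.negSucc 0, Int.ofNat 0, Int.ofNat 0, Int.ofNat 7, Int.ofNat 10, Int.negSucc 726, Int.negSucc 10, Int.ofNat 91, Int.ofNat 0, Int.ofNat 516]) (ZT.node 41 (ZT.leaf []) (ZT.leaf [Int.ofNat 5932, Int.ofNat 3811, Int.negSucc 1492, Int.ofNat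 686, Int.ofNat 18, Int.ofNat 1018, Int.ofNat 114, Int.negSucc 270, Int.negSucc 22, Int.ofNat 0, Int.ofNat 0, Int.ofNat 0, Int.ofNat 5, Int.ofNat 22, Int.negSucc 1205, Int.negSucc 27, Int.ofNat 146, Int.ofNat 0, Int.ofNat 885]))) (ZT.node 43 (ZT.leaf []) (ZT.node 44 (ZT.leaf [Int.ofNat 3350, Int.ofNat 1899, Int.negSucc 754, Int.ofNat 303, Int.ofNat 9, Int.ofNat 478, Int.ofNat 105, Int.negSucc 184, Int.negSucc 41, Int.ofNat 0, Int.ofNat 0, Int.negSucc 0, Int.ofNat 5, Int.ofNat 4, Int.negSucc 724, Int.negSucc 5, Int.ofNat 88, Int.negSucc 0, Int.ofNat 456]) (ZT.leaf [Int.negSucc 1326, Int.negSucc 735, Int.ofNat 318, Int.negSucc 121, Int.negSucc 2, Int.negSucc 199, Int.negSucc 27, Int.ofNat 67, Int.ofNat 10, Int.ofNat 0, Int.ofNat 0, Int.ofNat 0, Int.ofNat 0, Int.negSucc 2, Int.ofNat 254, Int.ofNat 2, Int.negSucc 36, Int.ofNat 0, Int.negSucc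 182]))))))) (ZT.node 67 (ZT.node 56 (ZT.node 50 (ZT.node 47 (ZT.node 46 (ZT.leaf [Int.negSucc 1355, Int.negSucc 735, Int.ofNat 305, Int.negSucc 117, Int.negSucc 3, Int.negSucc 191, Int.negSucc 42, Int.ofNat 71, Int.ofNat 16, Int.ofNat 0, Int.ofNat 0, Int.ofNat 1, Int.negSucc 2, Int.negSucc 0, Int.ofNat 302, Int.ofNat 3, Int.negSucc 34, Int.ofNat 1, Int.negSucc 182]) (ZT.leaf [Int.ofNat 771, Int.ofNat 394, Int.negSucc 160, Int.ofNat 54, Int.ofNat 1, Int.ofNat 97, Int.ofNat 18, Int.negSucc 29, Int.negSucc 2, Int.ofNat 0, Int.ofNat 0, Int.ofNat 0, Int.ofNat 2, Int.ofNat 2, Int.negSucc 125, Int.negSucc 1, Int.ofNat 11, Int.ofNat 0, Int.ofNat 91])) (ZT.node 48 (ZT.leaf [Int.negSucc 466, Int.negSucc 134, Int.ofNat 151, Int.negSucc 43, Int.negSucc 1, Int.negSucc 83, Int.ofNat 1, Int.ofNat 10, Int.negSucc 4, Int.ofNat 0, Int.ofNat 0, Int.ofNat 0,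 Int.ofNat 3, Int.negSucc 0, Int.ofNat 49, Int.ofNat 1, Int.negSucc 8, Int.ofNat 0, Int.negSucc 58]) (ZT.node 49 (ZT.leaf [Int.negSucc 989, Int.negSucc 480, Int.ofNat 217, Int.negSucc 70, Int.negSucc 1, Int.negSucc 124, Int.negSucc 14, Int.ofNat 26, Int.ofNat 2, Int.ofNat 0, Int.ofNat 0, Int.ofNat 0, Int.negSucc 4, Int.negSucc 2, Int.ofNat 154, Int.ofNat 3, Int.negSucc 20, Int.ofNat 0, Int.negSucc 113]) (ZT.leaf [Int.negSucc 768, Int.negSucc 393, Int.ofNat 161, Int.negSucc 53, Int.negSucc 0, Int.negSucc 96, Int.negSucc 17, Int.ofNat 30, Int.ofNat 3, Int.ofNat 0, Int.ofNat 0, Int.ofNat 0, Int.negSucc 1, Int.negSucc 1, Int.ofNat 126, Int.ofNat 2, Int.negSucc 10, Int.ofNat 0, Int.negSucc 90])))) (ZT.node 53 (ZT.node 51 (ZT.leaf [Int.negSucc 8074, Int.negSucc 5318, Int.ofNat 1995, Int.negSucc 926, Int.negSucc 22, Int.negSucc 1395, Int.negSucc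 172, Int.ofNat 407, Int.ofNat 49, Int.ofNat 1, Int.ofNat 0, Int.ofNat 0, Int.negSucc 5, Int.negSucc 30, Int.ofNat 1778, Int.ofNat 34, Int.negSucc 221, Int.ofNat 0, Int.negSucc 1225]) (ZT.node 52 (ZT.leaf []) (ZT.leaf []))) (ZT.node 54 (ZT.leaf []) (ZT.node 55 (ZT.leaf [Int.negSucc 195, Int.negSucc 414, Int.negSucc 0, Int.negSucc 42, Int.negSucc 0, Int.negSucc 43, Int.negSucc 29, Int.ofNat 47, Int.ofNat 19, Int.ofNat 0, Int.ofNat 0, Int.ofNat 0, Int.negSucc 1, Int.ofNat 0, Int.ofNat 149, Int.ofNat 2, Int.negSucc 6, Int.ofNat 0, Int.negSucc 57]) (ZT.leaf []))))) (ZT.node 61 (ZT.node 58 (ZT.node 57 (ZT.leaf [Int.ofNat 29, Int.negSucc 196, Int.negSucc 28, Int.negSucc 22, Int.negSucc 1, Int.negSucc 12, Int.negSucc 19, Int.ofNat 31, Int.ofNat 16, Int.ofNat 0, Int.ofNat 0, Int.ofNat 0, Int.negSucc 1, Int.ofNat 2, Int.ofNat 130, Int.negSucc 0, Int.negSucc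 14, Int.ofNat 0, Int.negSucc 28]) (ZT.leaf [Int.ofNat 257, Int.ofNat 86, Int.negSucc 57, Int.ofNat 14, Int.ofNat 1, Int.ofNat 21, Int.ofNat 1, Int.negSucc 3, Int.negSucc 0, Int.ofNat 0, Int.ofNat 0, Int.ofNat 0, Int.ofNat 2, Int.ofNat 0, Int.negSucc 33, Int.ofNat 0, Int.ofNat 6, Int.ofNat 0, Int.ofNat 22])) (ZT.node 59 (ZT.leaf []) (ZT.node 60 (ZT.leaf [Int.ofNat 1536, Int.ofNat 1052, Int.negSucc 437, Int.ofNat 219, Int.ofNat 7, Int.ofNat 304, Int.ofNat 28, Int.negSucc 84, Int.negSucc 4, Int.ofNat 0, Int.ofNat 0, Int.ofNat 0, Int.negSucc 5, Int.ofNat 2, Int.negSucc 355, Int.negSucc 5, Int.ofNat 46, Int.ofNat 0, Int.ofNat 253]) (ZT.leaf [Int.negSucc 0])))) (ZT.node 64 (ZT.node 62 (ZT.leaf [Int.negSucc 1049, Int.negSucc 434, Int.ofNat 231, Int.negSucc 62, Int.negSucc 1, Int.negSucc 118, Int.negSucc 16, Int.ofNat 31, Int.ofNat 6, Int.ofNat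 0, Int.ofNat 0, Int.ofNat 0, Int.negSucc 3, Int.negSucc 0, Int.ofNat 155, Int.ofNat 0, Int.negSucc 19, Int.ofNat 0, Int.negSucc 113]) (ZT.node 63 (ZT.leaf [Int.negSucc 4, Int.negSucc 1, Int.ofNat 1, Int.ofNat 0, Int.ofNat 0, Int.ofNat 0, Int.ofNat 0, Int.ofNat 1, Int.ofNat 0, Int.ofNat 0, Int.ofNat 0, Int.ofNat 0, Int.ofNat 0, Int.ofNat 0, Int.ofNat 0, Int.ofNat 0, Int.ofNat 0, Int.ofNat 0, Int.ofNat 0]) (ZT.leaf []))) (ZT.node 65 (ZT.leaf [Int.negSucc 1993, Int.negSucc 1161, Int.ofNat 450, Int.negSucc 184, Int.negSucc 4, Int.negSucc 285, Int.negSucc 61, Int.ofNat 114, Int.ofNat 26, Int.ofNat 0, Int.ofNat 0, Int.ofNat 0, Int.negSucc 1, Int.negSucc 2, Int.ofNat 423, Int.ofNat 3, Int.negSucc 52, Int.ofNat 0, Int.negSucc 272]) (ZT.node 66 (ZT.leaf []) (ZT.leaf [])))))) (ZT.node 78 (ZT.node 72 (ZT.node 69 (ZT.node 68 (ZT.leaf []) (ZT.leaf [Int.ofNat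 5127, Int.ofNat 3740, Int.negSucc 1242, Int.ofNat 637, Int.ofNat 17, Int.ofNat 917, Int.ofNat 127, Int.negSucc 288, Int.negSucc 43, Int.negSucc 0, Int.ofNat 0, Int.ofNat 0, Int.ofNat 4, Int.ofNat 21, Int.negSucc 1246, Int.negSucc 24, Int.ofNat 150, Int.ofNat 0, Int.ofNat 820])) (ZT.node 70 (ZT.leaf [Int.negSucc 234, Int.negSucc 1435, Int.ofNat 99, Int.negSucc 261, Int.negSucc 5, Int.negSucc 250, Int.negSucc 47, Int.ofNat 115, Int.ofNat 28, Int.ofNat 0, Int.ofNat 0, Int.ofNat 0, Int.ofNat 5, Int.negSucc 9, Int.ofNat 451, Int.ofNat 18, Int.negSucc 33, Int.ofNat 0, Int.negSucc 225]) (ZT.node 71 (ZT.leaf [Int.negSucc 3421, Int.negSucc 3625, Int.ofNat 839, Int.negSucc 617, Int.negSucc 15, Int.negSucc 781, Int.negSucc 153, Int.ofNat 312, Int.ofNat 69, Int.ofNat 1, Int.ofNat 0, Int.ofNat 0, Int.negSucc 0, Int.negSucc 14, Int.ofNat 1271, Int.ofNat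 30, Int.negSucc 120, Int.ofNat 0, Int.negSucc 720]) (ZT.leaf [])))) (ZT.node 75 (ZT.node 73 (ZT.leaf [Int.ofNat 1329, Int.ofNat 736, Int.negSucc 317, Int.ofNat 122, Int.ofNat 3, Int.ofNat 199, Int.ofNat 28, Int.negSucc 66, Int.negSucc 9, Int.ofNat 0, Int.ofNat 0, Int.ofNat 0, Int.ofNat 0, Int.ofNat 3, Int.negSucc 253, Int.negSucc 1, Int.ofNat 37, Int.ofNat 0, Int.ofNat 183]) (ZT.node 74 (ZT.leaf [Int.negSucc 3025, Int.negSucc 919, Int.ofNat 645, Int.negSucc 119, Int.negSucc 1, Int.negSucc 305, Int.negSucc 58, Int.ofNat 74, Int.ofNat 11, Int.ofNat 0, Int.ofNat 0, Int.ofNat 1, Int.negSucc 12, Int.negSucc 1, Int.ofNat 378, Int.ofNat 0, Int.negSucc 37, Int.ofNat 1, Int.negSucc 285]) (ZT.leaf [Int.negSucc 2397, Int.negSucc 1515, Int.ofNat 548, Int.negSucc 242, Int.negSucc 6, Int.negSucc 366, Int.negSucc 56, Int.ofNat 120, Int.ofNat 22, Int.ofNat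 1, Int.ofNat 0, Int.ofNat 0, Int.negSucc 5, Int.negSucc 6, Int.ofNat 513, Int.ofNat 8, Int.negSucc 59, Int.ofNat 0, Int.negSucc 337]))) (ZT.node 76 (ZT.leaf [Int.negSucc 3326, Int.negSucc 2325, Int.ofNat 880, Int.negSucc 439, Int.negSucc 11, Int.negSucc 623, Int.negSucc 59, Int.ofNat 157, Int.ofNat 8, Int.ofNat 0, Int.ofNat 0, Int.ofNat 0, Int.ofNat 1, Int.negSucc 14, Int.ofNat 715, Int.ofNat 21, Int.negSucc 85, Int.ofNat 0, Int.negSucc 530]) (ZT.node 77 (ZT.leaf [Int.ofNat 3583, Int.ofNat 4033, Int.negSucc 888, Int.ofNat 696, Int.ofNat 21, Int.ofNat 857, Int.ofNat 147, Int.negSucc 332, Int.negSucc 72, Int.negSucc 0, Int.ofNat 0, Int.negSucc 0, Int.negSucc 2, Int.ofNat 25, Int.negSucc 1363, Int.negSucc 34, Int.ofNat 148, Int.negSucc 0, Int.ofNat 783]) (ZT.leaf [Int.ofNat 4455, Int.ofNat 2682, Int.negSucc 1043, Int.ofNat 441, Int.ofNat 9,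 Int.ofNat 695, Int.ofNat 99, Int.negSucc 205, Int.negSucc 30, Int.ofNat 0, Int.ofNat 0, Int.ofNat 0, Int.ofNat 11, Int.ofNat 13, Int.negSucc 935, Int.negSucc 13, Int.ofNat 114, Int.ofNat 0, Int.ofNat 626]))))) (ZT.node 84 (ZT.node 81 (ZT.node 79 (ZT.leaf [Int.ofNat 2851, Int.ofNat 1636, Int.negSucc 699, Int.ofNat 284, Int.ofNat 7, Int.ofNat 458, Int.ofNat 58, Int.negSucc 135, Int.negSucc 16, Int.negSucc 0, Int.ofNat 0, Int.ofNat 0, Int.ofNat 2, Int.ofNat 7, Int.negSucc 572, Int.negSucc 7, Int.ofNat 70, Int.ofNat 0, Int.ofNat 402]) (ZT.node 80 (ZT.leaf [Int.ofNat 1484, Int.ofNat 2501, Int.negSucc 358, Int.ofNat 421, Int.ofNat 11, Int.ofNat 470, Int.ofNat 85, Int.negSucc 198, Int.negSucc 48, Int.negSucc 0, Int.ofNat 0, Int.ofNat 0, Int.ofNat 0, Int.ofNat 17, Int.negSucc 823, Int.negSucc 23, Int.ofNat 80, Int.ofNat 0, Int.ofNat 432]) (ZT.leaf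 []))) (ZT.node 82 (ZT.leaf [Int.negSucc 2849, Int.negSucc 1634, Int.ofNat 700, Int.negSucc 283, Int.negSucc 6, Int.negSucc 457, Int.negSucc 57, Int.ofNat 136, Int.ofNat 17, Int.ofNat 1, Int.ofNat 0, Int.ofNat 0, Int.negSucc 1, Int.negSucc 6, Int.ofNat 573, Int.ofNat 8, Int.negSucc 69, Int.ofNat 0, Int.negSucc 401]) (ZT.node 83 (ZT.leaf [Int.ofNat 989, Int.ofNat 481, Int.negSucc 216, Int.ofNat 71, Int.ofNat 2, Int.ofNat 125, Int.ofNat 15, Int.negSucc 25, Int.negSucc 1, Int.ofNat 0, Int.ofNat 0, Int.ofNat 0, Int.ofNat 5, Int.ofNat 3, Int.negSucc 153, Int.negSucc 2, Int.ofNat 21, Int.ofNat 0, Int.ofNat 114]) (ZT.leaf [])))) (ZT.node 87 (ZT.node 85 (ZT.leaf [Int.ofNat 2850, Int.ofNat 1636, Int.negSucc 699, Int.ofNat 284, Int.ofNat 7, Int.ofNat 458, Int.ofNat 58, Int.negSucc 135, Int.negSucc 16, Int.negSucc 0, Int.ofNat 0, Int.ofNat 0, Int.ofNat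 2, Int.ofNat 7, Int.negSucc 572, Int.negSucc 7, Int.ofNat 70, Int.ofNat 0, Int.ofNat 402]) (ZT.node 86 (ZT.leaf [Int.ofNat 1020, Int.ofNat 361, Int.negSucc 234, Int.ofNat 53, Int.ofNat 0, Int.ofNat 129, Int.ofNat 15, Int.negSucc 26, Int.ofNat 1, Int.ofNat 0, Int.ofNat 0, Int.ofNat 0, Int.ofNat 2, Int.ofNat 1, Int.negSucc 116, Int.ofNat 1, Int.ofNat 13, Int.ofNat 0, Int.ofNat 109]) (ZT.leaf [Int.negSucc 0, Int.negSucc 0]))) (ZT.node 88 (ZT.leaf [Int.ofNat 82, Int.ofNat 27, Int.negSucc 21, Int.ofNat 4, Int.ofNat 0, Int.ofNat 10, Int.ofNat 0, Int.negSucc 0, Int.ofNat 0, Int.negSucc 0, Int.ofNat 0, Int.ofNat 0, Int.ofNat 0, Int.ofNat 0, Int.negSucc 10, Int.ofNat 0, Int.ofNat 2, Int.ofNat 0, Int.ofNat 9]) (ZT.node 89 (ZT.leaf [Int.negSucc 217, Int.negSucc 82, Int.ofNat 44, Int.negSucc 9, Int.ofNat 0, Int.negSucc 21, Int.negSucc 1, Int.ofNat 5,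 Int.ofNat 1, Int.ofNat 0, Int.ofNat 0, Int.ofNat 0, Int.negSucc 0, Int.ofNat 0, Int.ofNat 28, Int.ofNat 0, Int.negSucc 4, Int.ofNat 0, Int.negSucc 20]) (ZT.leaf [])))))))) (ZT.node 135 (ZT.node 112 (ZT.node 101 (ZT.node 95 (ZT.node 92 (ZT.node 91 (ZT.leaf [Int.negSucc 1640, Int.negSucc 190, Int.ofNat 330, Int.negSucc 3, Int.ofNat 3, Int.negSucc 99, Int.negSucc 32, Int.ofNat 33, Int.ofNat 6, Int.ofNat 0, Int.ofNat 0, Int.ofNat 0, Int.negSucc 6, Int.ofNat 6, Int.ofNat 88, Int.negSucc 6, Int.negSucc 13, Int.ofNat 0, Int.negSucc 107]) (ZT.leaf [])) (ZT.node 93 (ZT.leaf [Int.ofNat 76, Int.ofNat 7, Int.negSucc 18, Int.ofNat 1, Int.ofNat 0, Int.ofNat 7, Int.ofNat 0, Int.ofNat 0, Int.ofNat 1, Int.ofNat 0, Int.ofNat 0, Int.ofNat 0, Int.ofNat 0, Int.ofNat 0, Int.ofNat 1, Int.ofNat 0, Int.ofNat 0, Int.ofNat 0, Int.ofNat 5]) (ZT.node 94 (ZT.leaf [Int.negSucc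 436, Int.negSucc 596, Int.ofNat 158, Int.negSucc 124, Int.negSucc 5, Int.negSucc 146, Int.negSucc 6, Int.ofNat 45, Int.ofNat 5, Int.ofNat 0, Int.ofNat 0, Int.ofNat 0, Int.ofNat 6, Int.negSucc 6, Int.ofNat 181, Int.ofNat 7, Int.negSucc 30, Int.ofNat 0, Int.negSucc 121]) (ZT.leaf [Int.ofNat 1993, Int.ofNat 1162, Int.negSucc 449, Int.ofNat 185, Int.ofNat 5, Int.ofNat 286, Int.ofNat 62, Int.negSucc 113, Int.negSucc 25, Int.ofNat 0, Int.ofNat 0, Int.ofNat 0, Int.ofNat 2, Int.ofNat 3, Int.negSucc 422, Int.negSucc 2, Int.ofNat 53, Int.ofNat 0, Int.ofNat 273])))) (ZT.node 98 (ZT.node 96 (ZT.leaf [Int.ofNat 1104, Int.ofNat 690, Int.negSucc 200, Int.ofNat 83, Int.ofNat 2, Int.ofNat 128, Int.ofNat 48, Int.negSucc 75, Int.negSucc 23, Int.ofNat 0, Int.ofNat 0, Int.ofNat 0, Int.ofNat 4, Int.ofNat 0, Int.negSucc 263, Int.ofNat 0, Int.ofNat 35, Int.ofNat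 0, Int.ofNat 144]) (ZT.node 97 (ZT.leaf []) (ZT.leaf [Int.negSucc 0]))) (ZT.node 99 (ZT.leaf []) (ZT.node 100 (ZT.leaf []) (ZT.leaf []))))) (ZT.node 106 (ZT.node 103 (ZT.node 102 (ZT.leaf [Int.negSucc 418, Int.negSucc 238, Int.ofNat 108, Int.negSucc 42, Int.negSucc 2, Int.negSucc 77, Int.negSucc 8, Int.ofNat 24, Int.ofNat 1, Int.ofNat 0, Int.ofNat 0, Int.ofNat 0, Int.ofNat 3, Int.negSucc 1, Int.ofNat 71, Int.ofNat 3, Int.negSucc 5, Int.ofNat 0, Int.negSucc 59]) (ZT.leaf [Int.ofNat 883, Int.negSucc 344, Int.negSucc 179, Int.negSucc 78, Int.negSucc 3, Int.ofNat 0, Int.negSucc 6, Int.ofNat 25, Int.ofNat 13, Int.ofNat 1, Int.ofNat 0, Int.ofNat 0, Int.ofNat 3, Int.negSucc 3, Int.ofNat 47, Int.ofNat 11, Int.ofNat 17, Int.ofNat 0, Int.ofNat 4])) (ZT.node 104 (ZT.leaf [Int.ofNat 3516, Int.ofNat 1841, Int.negSucc 873, Int.ofNat 326, Int.ofNat 7,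 Int.ofNat 548, Int.ofNat 58, Int.negSucc 137, Int.negSucc 6, Int.ofNat 0, Int.ofNat 0, Int.ofNat 0, Int.ofNat 3, Int.ofNat 12, Int.negSucc 614, Int.negSucc 9, Int.ofNat 81, Int.ofNat 0, Int.ofNat 472]) (ZT.node 105 (ZT.leaf [Int.ofNat 7, Int.ofNat 1, Int.negSucc 0, Int.ofNat 0, Int.ofNat 0, Int.ofNat 0, Int.ofNat 0, Int.ofNat 0, Int.ofNat 0, Int.ofNat 0, Int.ofNat 0, Int.ofNat 0, Int.ofNat 0, Int.ofNat 0, Int.ofNat 2, Int.ofNat 0, Int.ofNat 0, Int.ofNat 0, Int.negSucc 0]) (ZT.leaf [Int.negSucc 2559, Int.negSucc 1486, Int.ofNat 596, Int.negSucc 240, Int.negSucc 5, Int.negSucc 383, Int.negSucc 51, Int.ofNat 113, Int.ofNat 17, Int.ofNat 1, Int.ofNat 0, Int.ofNat 0, Int.negSucc 6, Int.negSucc 6, Int.ofNat 504, Int.ofNat 7, Int.negSucc 63, Int.ofNat 0, Int.negSucc 347])))) (ZT.node 109 (ZT.node 107 (ZT.leaf [Int.ofNat 710, Int.ofNat 375, Int.negSucc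 204, Int.ofNat 80, Int.ofNat 1, Int.ofNat 131, Int.ofNat 5, Int.negSucc 20, Int.ofNat 4, Int.ofNat 0, Int.ofNat 0, Int.ofNat 0, Int.negSucc 0, Int.ofNat 4, Int.negSucc 105, Int.negSucc 2, Int.ofNat 12, Int.ofNat 0, Int.ofNat 103]) (ZT.node 108 (ZT.leaf [Int.ofNat 1282, Int.ofNat 632, Int.negSucc 320, Int.ofNat 114, Int.ofNat 3, Int.ofNat 199, Int.ofNat 21, Int.negSucc 48, Int.negSucc 1, Int.ofNat 0, Int.ofNat 0, Int.ofNat 0, Int.ofNat 0, Int.ofNat 3, Int.negSucc 222, Int.negSucc 3, Int.ofNat 27, Int.ofNat 0, Int.ofNat 168]) (ZT.leaf [Int.negSucc 232, Int.ofNat 181, Int.ofNat 99, Int.ofNat 8, Int.negSucc 0, Int.negSucc 27, Int.ofNat 15, Int.negSucc 21, Int.negSucc 13, Int.ofNat 0, Int.ofNat 0, Int.ofNat 0, Int.ofNat 2, Int.ofNat 1, Int.negSucc 62, Int.negSucc 0, Int.ofNat 3, Int.ofNat 0, Int.negSucc 1]))) (ZT.node 110 (ZT.leaf [Int.negSucc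 0]) (ZT.node 111 (ZT.leaf []) (ZT.leaf [Int.negSucc 0])))))) (ZT.node 123 (ZT.node 117 (ZT.node 114 (ZT.node 113 (ZT.leaf [Int.negSucc 572, Int.negSucc 262, Int.ofNat 122, Int.negSucc 35, Int.negSucc 0, Int.negSucc 68, Int.negSucc 11, Int.ofNat 20, Int.ofNat 2, Int.ofNat 0, Int.ofNat 0, Int.ofNat 0, Int.negSucc 0, Int.negSucc 1, Int.ofNat 84, Int.ofNat 1, Int.negSucc 8, Int.ofNat 0, Int.negSucc 65]) (ZT.leaf [])) (ZT.node 115 (ZT.leaf []) (ZT.node 116 (ZT.leaf [Int.negSucc 3719, Int.negSucc 3789, Int.ofNat 907, Int.negSucc 644, Int.negSucc 16, Int.negSucc 821, Int.negSucc 164, Int.ofNat 321, Int.ofNat 71, Int.ofNat 1, Int.ofNat 0, Int.ofNat 1, Int.negSucc 1, Int.negSucc 16, Int.ofNat 1337, Int.ofNat 32, Int.negSucc 116, Int.ofNat 1, Int.negSucc 759]) (ZT.leaf [Int.negSucc 1989, Int.negSucc 1635, Int.ofNat 509, Int.negSucc 295, Int.negSucc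 7, Int.negSucc 397, Int.negSucc 55, Int.ofNat 142, Int.ofNat 24, Int.ofNat 0, Int.ofNat 0, Int.ofNat 0, Int.ofNat 4, Int.negSucc 3, Int.ofNat 568, Int.ofNat 8, Int.negSucc 68, Int.ofNat 0, Int.negSucc 352])))) (ZT.node 120 (ZT.node 118 (ZT.leaf []) (ZT.node 119 (ZT.leaf []) (ZT.leaf [Int.negSucc 501, Int.negSucc 111, Int.ofNat 124, Int.negSucc 22, Int.ofNat 0, Int.negSucc 47, Int.ofNat 10, Int.negSucc 12, Int.negSucc 9, Int.ofNat 0, Int.ofNat 0, Int.ofNat 0, Int.negSucc 2, Int.negSucc 2, Int.negSucc 9, Int.ofNat 3, Int.negSucc 2, Int.ofNat 0, Int.negSucc 34]))) (ZT.node 121 (ZT.leaf [Int.ofNat 395, Int.ofNat 93, Int.negSucc 95, Int.ofNat 18, Int.ofNat 0, Int.ofNat 35, Int.negSucc 9, Int.ofNat 14, Int.ofNat 9, Int.ofNat 0, Int.ofNat 0, Int.ofNat 0, Int.ofNat 3, Int.ofNat 3, Int.ofNat 17, Int.negSucc 2, Int.ofNat 0, Int.ofNat 0, Int.ofNat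 24]) (ZT.node 122 (ZT.leaf [Int.negSucc 1009, Int.negSucc 222, Int.ofNat 269, Int.negSucc 49, Int.negSucc 0, Int.negSucc 116, Int.negSucc 2, Int.ofNat 11, Int.negSucc 6, Int.ofNat 0, Int.ofNat 0, Int.ofNat 0, Int.negSucc 1, Int.ofNat 0, Int.ofNat 74, Int.ofNat 0, Int.negSucc 15, Int.ofNat 0, Int.negSucc 95]) (ZT.leaf [Int.ofNat 512, Int.ofNat 244, Int.negSucc 116, Int.ofNat 38, Int.ofNat 0, Int.ofNat 70, Int.ofNat 7, Int.negSucc 14, Int.negSucc 0, Int.ofNat 0, Int.ofNat 0, Int.ofNat 0, Int.ofNat 2, Int.ofNat 1, Int.negSucc 77, Int.negSucc 0, Int.ofNat 8, Int.ofNat 0, Int.ofNat 61]))))) (ZT.node 129 (ZT.node 126 (ZT.node 124 (ZT.leaf [Int.negSucc 0]) (ZT.node 125 (ZT.leaf [Int.ofNat 798, Int.ofNat 350, Int.negSucc 173, Int.ofNat 49, Int.ofNat 1, Int.ofNat 98, Int.ofNat 16, Int.negSucc 27, Int.negSucc 4, Int.ofNat 0, Int.ofNat 0, Int.ofNat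 0, Int.ofNat 2, Int.ofNat 1, Int.negSucc 120, Int.ofNat 0, Int.ofNat 14, Int.ofNat 0, Int.ofNat 92]) (ZT.leaf [Int.negSucc 393, Int.negSucc 239, Int.ofNat 65, Int.negSucc 27, Int.negSucc 0, Int.negSucc 38, Int.negSucc 18, Int.ofNat 27, Int.ofNat 11, Int.ofNat 0, Int.ofNat 0, Int.ofNat 0, Int.negSucc 1, Int.ofNat 1, Int.ofNat 93, Int.ofNat 0, Int.negSucc 8, Int.ofNat 0, Int.negSucc 47]))) (ZT.node 127 (ZT.leaf [Int.negSucc 250, Int.negSucc 83, Int.ofNat 57, Int.negSucc 13, Int.negSucc 0, Int.negSucc 20, Int.negSucc 0, Int.ofNat 3, Int.ofNat 1, Int.ofNat 0, Int.ofNat 0, Int.ofNat 0, Int.negSucc 1, Int.ofNat 0, Int.ofNat 34, Int.ofNat 0, Int.negSucc 5, Int.ofNat 0, Int.negSucc 21]) (ZT.node 128 (ZT.leaf []) (ZT.leaf [Int.negSucc 5, Int.negSucc 2, Int.ofNat 1, Int.ofNat 0, Int.ofNat 0, Int.ofNat 0, Int.ofNat 0, Int.ofNat 1, Int.ofNat 0, Int.ofNat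 0, Int.ofNat 0, Int.ofNat 0, Int.ofNat 0, Int.ofNat 0, Int.ofNat 0, Int.ofNat 0, Int.ofNat 0, Int.ofNat 0, Int.ofNat 0])))) (ZT.node 132 (ZT.node 130 (ZT.leaf [Int.ofNat 391, Int.ofNat 236, Int.negSucc 65, Int.ofNat 27, Int.ofNat 1, Int.ofNat 40, Int.ofNat 18, Int.negSucc 27, Int.negSucc 10, Int.ofNat 0, Int.ofNat 0, Int.ofNat 0, Int.ofNat 2, Int.negSucc 0, Int.negSucc 92, Int.ofNat 0, Int.ofNat 9, Int.ofNat 0, Int.ofNat 48]) (ZT.node 131 (ZT.leaf [Int.ofNat 436, Int.ofNat 597, Int.negSucc 157, Int.ofNat 125, Int.ofNat 6, Int.ofNat 147, Int.ofNat 7, Int.negSucc 44, Int.negSucc 4, Int.ofNat 0, Int.ofNat 0, Int.ofNat 0, Int.negSucc 5, Int.ofNat 7, Int.negSucc 180, Int.negSucc 6, Int.ofNat 31, Int.ofNat 0, Int.ofNat 122]) (ZT.leaf [Int.ofNat 6619, Int.ofNat 5494, Int.negSucc 1554, Int.ofNat 915, Int.ofNat 26, Int.ofNat 1245, Int.ofNat 258,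 Int.negSucc 493, Int.negSucc 111, Int.negSucc 0, Int.ofNat 0, Int.negSucc 0, Int.ofNat 6, Int.ofNat 19, Int.negSucc 1987, Int.negSucc 35, Int.ofNat 207, Int.negSucc 0, Int.ofNat 1164]))) (ZT.node 133 (ZT.leaf [Int.negSucc 3350, Int.negSucc 1898, Int.ofNat 755, Int.negSucc 302, Int.negSucc 8, Int.negSucc 477, Int.negSucc 104, Int.ofNat 185, Int.ofNat 42, Int.ofNat 0, Int.ofNat 0, Int.ofNat 1, Int.negSucc 4, Int.negSucc 3, Int.ofNat 725, Int.ofNat 6, Int.negSucc 87, Int.ofNat 1, Int.negSucc 455]) (ZT.node 134 (ZT.leaf [Int.ofNat 611, Int.ofNat 225, Int.negSucc 142, Int.ofNat 35, Int.ofNat 0, Int.ofNat 75, Int.ofNat 8, Int.negSucc 9, Int.negSucc 0, Int.ofNat 0, Int.ofNat 0, Int.ofNat 0, Int.ofNat 4, Int.ofNat 1, Int.negSucc 88, Int.ofNat 2, Int.ofNat 12, Int.ofNat 0, Int.ofNat 67]) (ZT.leaf []))))))) (ZT.node 157 (ZT.node 146 (ZT.node 140 (ZT.node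 137 (ZT.node 136 (ZT.leaf [Int.ofNat 113, Int.negSucc 31, Int.negSucc 23, Int.negSucc 7, Int.negSucc 0, Int.negSucc 1, Int.negSucc 4, Int.ofNat 13, Int.ofNat 3, Int.ofNat 0, Int.ofNat 0, Int.ofNat 0, Int.ofNat 4, Int.ofNat 0, Int.ofNat 23, Int.ofNat 0, Int.ofNat 1, Int.ofNat 0, Int.ofNat 2]) (ZT.leaf [Int.negSucc 0, Int.negSucc 0])) (ZT.node 138 (ZT.leaf [Int.negSucc 4931, Int.negSucc 3325, Int.ofNat 1244, Int.negSucc 593, Int.negSucc 15, Int.negSucc 872, Int.negSucc 96, Int.ofNat 242, Int.ofNat 25, Int.ofNat 1, Int.ofNat 0, Int.ofNat 0, Int.negSucc 1, Int.negSucc 20, Int.ofNat 1098, Int.ofNat 23, Int.negSucc 142, Int.ofNat 0, Int.negSucc 761]) (ZT.node 139 (ZT.leaf [Int.negSucc 2576, Int.negSucc 818, Int.ofNat 596, Int.negSucc 119, Int.negSucc 0, Int.negSucc 283, Int.negSucc 20, Int.ofNat 48, Int.negSucc 1, Int.ofNat 1, Int.ofNat 0, Int.ofNat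 0, Int.negSucc 8, Int.negSucc 1, Int.ofNat 279, Int.negSucc 1, Int.negSucc 52, Int.ofNat 0, Int.negSucc 255]) (ZT.leaf [])))) (ZT.node 143 (ZT.node 141 (ZT.leaf [Int.negSucc 790, Int.negSucc 2823, Int.ofNat 248, Int.negSucc 505, Int.negSucc 14, Int.negSucc 505, Int.negSucc 90, Int.ofNat 225, Int.ofNat 53, Int.ofNat 1, Int.ofNat 0, Int.ofNat 0, Int.ofNat 9, Int.negSucc 18, Int.ofNat 886, Int.ofNat 32, Int.negSucc 77, Int.ofNat 0, Int.negSucc 451]) (ZT.node 142 (ZT.leaf [Int.negSucc 6684, Int.negSucc 4819, Int.ofNat 1705, Int.negSucc 870, Int.negSucc 19, Int.negSucc 1220, Int.negSucc 127, Int.ofNat 369, Int.ofNat 40, Int.negSucc 0, Int.ofNat 1, Int.ofNat 0, Int.ofNat 4, Int.negSucc 22, Int.ofNat 1548, Int.ofNat 35, Int.negSucc 195, Int.ofNat 0, Int.negSucc 1063]) (ZT.leaf [Int.negSucc 3268, Int.negSucc 3592, Int.ofNat 794, Int.negSucc 607,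 Int.negSucc 15, Int.negSucc 760, Int.negSucc 153, Int.ofNat 309, Int.ofNat 71, Int.ofNat 1, Int.ofNat 0, Int.ofNat 0, Int.negSucc 0, Int.negSucc 14, Int.ofNat 1260, Int.ofNat 30, Int.negSucc 118, Int.ofNat 0, Int.negSucc 704]))) (ZT.node 144 (ZT.leaf [Int.ofNat 72, Int.ofNat 10, Int.negSucc 15, Int.ofNat 0, Int.ofNat 0, Int.ofNat 5, Int.ofNat 0, Int.ofNat 1, Int.ofNat 1, Int.ofNat 0, Int.ofNat 0, Int.ofNat 0, Int.ofNat 0, Int.ofNat 1, Int.ofNat 1, Int.ofNat 0, Int.negSucc 0, Int.ofNat 0, Int.ofNat 4]) (ZT.node 145 (ZT.leaf [Int.ofNat 101, Int.ofNat 7, Int.negSucc 23, Int.ofNat 0, Int.ofNat 0, Int.ofNat 6, Int.ofNat 0, Int.ofNat 2, Int.ofNat 2, Int.ofNat 0, Int.ofNat 0, Int.ofNat 0, Int.ofNat 0, Int.ofNat 2, Int.ofNat 3, Int.ofNat 0, Int.negSucc 0, Int.ofNat 0, Int.ofNat 5]) (ZT.leaf [Int.negSucc 11, Int.ofNat 13, Int.ofNat 9, Int.negSucc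 0, Int.ofNat 0, Int.negSucc 2, Int.ofNat 1, Int.ofNat 1, Int.negSucc 0, Int.ofNat 0, Int.ofNat 0, Int.ofNat 0, Int.ofNat 1, Int.ofNat 0, Int.negSucc 3, Int.ofNat 0, Int.negSucc 0, Int.ofNat 0, Int.negSucc 1]))))) (ZT.node 151 (ZT.node 148 (ZT.node 147 (ZT.leaf [Int.negSucc 0]) (ZT.leaf [Int.negSucc 1, Int.negSucc 0, Int.ofNat 0, Int.ofNat 0, Int.ofNat 0, Int.ofNat 1])) (ZT.node 149 (ZT.leaf [Int.negSucc 0]) (ZT.node 150 (ZT.leaf [Int.ofNat 216, Int.negSucc 640, Int.ofNat 9, Int.negSucc 138, Int.negSucc 5, Int.negSucc 115, Int.negSucc 14, Int.ofNat 62, Int.ofNat 12, Int.ofNat 0, Int.ofNat 0, Int.ofNat 0, Int.ofNat 10, Int.negSucc 3, Int.ofNat 193, Int.ofNat 8, Int.negSucc 24, Int.ofNat 0, Int.negSucc 95]) (ZT.leaf [Int.negSucc 4236, Int.negSucc 2607, Int.ofNat 983, Int.negSucc 423, Int.negSucc 8, Int.negSucc 658, Int.negSucc 92, Int.ofNat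 192, Int.ofNat 30, Int.ofNat 1, Int.ofNat 0, Int.ofNat 0, Int.negSucc 11, Int.negSucc 13, Int.ofNat 896, Int.ofNat 15, Int.negSucc 105, Int.ofNat 0, Int.negSucc 594])))) (ZT.node 154 (ZT.node 152 (ZT.leaf [Int.ofNat 0, Int.ofNat 5, Int.ofNat 1, Int.ofNat 0, Int.ofNat 0, Int.ofNat 0, Int.ofNat 1]) (ZT.node 153 (ZT.leaf [Int.ofNat 0, Int.ofNat 1]) (ZT.leaf [Int.negSucc 2685, Int.negSucc 1511, Int.ofNat 635, Int.negSucc 249, Int.negSucc 5, Int.negSucc 403, Int.negSucc 53, Int.ofNat 115, Int.ofNat 15, Int.ofNat 1, Int.ofNat 0, Int.ofNat 0, Int.negSucc 5, Int.negSucc 6, Int.ofNat 502, Int.ofNat 7, Int.negSucc 61, Int.ofNat 0, Int.negSucc 362]))) (ZT.node 155 (ZT.leaf [Int.ofNat 2397, Int.ofNat 1516, Int.negSucc 547, Int.ofNat 243, Int.ofNat 7, Int.ofNat 367, Int.ofNat 57, Int.negSucc 119, Int.negSucc 21, Int.negSucc 0, Int.ofNat 0, Int.ofNat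 0, Int.ofNat 6, Int.ofNat 7, Int.negSucc 512, Int.negSucc 7, Int.ofNat 60, Int.ofNat 0, Int.ofNat 338]) (ZT.node 156 (ZT.leaf []) (ZT.leaf [Int.ofNat 6359, Int.ofNat 4320, Int.negSucc 1528, Int.ofNat 727, Int.ofNat 18, Int.ofNat 1074, Int.ofNat 140, Int.negSucc 328, Int.negSucc 49, Int.negSucc 0, Int.ofNat 0, Int.ofNat 0, Int.ofNat 10, Int.ofNat 24, Int.negSucc 1430, Int.negSucc 25, Int.ofNat 181, Int.ofNat 0, Int.ofNat 964])))))) (ZT.node 168 (ZT.node 162 (ZT.node 159 (ZT.node 158 (ZT.leaf []) (ZT.leaf [Int.negSucc 8111, Int.negSucc 3614, Int.ofNat 1851, Int.negSucc 554, Int.negSucc 12, Int.negSucc 1064, Int.negSucc 152, Int.ofNat 294, Int.ofNat 32, Int.negSucc 0, Int.ofNat 0, Int.ofNat 0, Int.negSucc 16, Int.negSucc 10, Int.ofNat 1365, Int.ofNat 11, Int.negSucc 185, Int.ofNat 0, Int.negSucc 966])) (ZT.node 160 (ZT.leaf [Int.negSucc 883,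 Int.ofNat 345, Int.ofNat 180, Int.ofNat 79, Int.ofNat 4, Int.ofNat 0, Int.ofNat 7, Int.negSucc 24, Int.negSucc 12, Int.negSucc 0, Int.ofNat 0, Int.ofNat 0, Int.negSucc 2, Int.ofNat 4, Int.negSucc 46, Int.negSucc 10, Int.negSucc 16, Int.ofNat 0, Int.negSucc 3]) (ZT.node 161 (ZT.leaf [Int.ofNat 3186, Int.ofNat 1078, Int.negSucc 752, Int.ofNat 174, Int.ofNat 4, Int.ofNat 378, Int.ofNat 35, Int.negSucc 73, Int.ofNat 2, Int.ofNat 0, Int.ofNat 0, Int.ofNat 0, Int.ofNat 6, Int.ofNat 3, Int.negSucc 390, Int.ofNat 1, Int.ofNat 67, Int.ofNat 0, Int.ofNat 332]) (ZT.leaf [Int.ofNat 2685, Int.ofNat 1512, Int.negSucc 634, Int.ofNat 250, Int.ofNat 6, Int.ofNat 404, Int.ofNat 54, Int.negSucc 114, Int.negSucc 14, Int.negSucc 0, Int.ofNat 0, Int.ofNat 0, Int.ofNat 6, Int.ofNat 7, Int.negSucc 501, Int.negSucc 6, Int.ofNat 62, Int.ofNat 0, Int.ofNat 363]))))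 (ZT.node 165 (ZT.node 163 (ZT.leaf [Int.negSucc 1024, Int.negSucc 686, Int.ofNat 264, Int.negSucc 123, Int.negSucc 3, Int.negSucc 184, Int.negSucc 20, Int.ofNat 62, Int.ofNat 8, Int.ofNat 0, Int.ofNat 0, Int.ofNat 0, Int.ofNat 2, Int.negSucc 2, Int.ofNat 232, Int.ofNat 4, Int.negSucc 30, Int.ofNat 0, Int.negSucc 160]) (ZT.node 164 (ZT.leaf [Int.negSucc 0]) (ZT.leaf [Int.ofNat 9110, Int.ofNat 2646, Int.negSucc 2052, Int.ofNat 354, Int.ofNat 1, Int.ofNat 989, Int.ofNat 114, Int.negSucc 165, Int.ofNat 9, Int.negSucc 0, Int.ofNat 0, Int.ofNat 0, Int.ofNat 36, Int.ofNat 17, Int.negSucc 985, Int.ofNat 4, Int.ofNat 146, Int.ofNat 0, Int.ofNat 878]))) (ZT.node 166 (ZT.leaf [Int.negSucc 1844, Int.negSucc 1113, Int.ofNat 501, Int.negSucc 218, Int.negSucc 3, Int.negSucc 341, Int.negSucc 30, Int.ofNat 95, Int.ofNat 5, Int.ofNat 0, Int.ofNat 0, Int.ofNat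 0, Int.ofNat 3, Int.negSucc 4, Int.ofNat 373, Int.ofNat 6, Int.negSucc 52, Int.ofNat 0, Int.negSucc 285]) (ZT.node 167 (ZT.leaf [Int.ofNat 143, Int.negSucc 62, Int.negSucc 81, Int.ofNat 17, Int.ofNat 1, Int.ofNat 39, Int.negSucc 7, Int.ofNat 2, Int.ofNat 8, Int.ofNat 0, Int.ofNat 0, Int.ofNat 0, Int.negSucc 4, Int.ofNat 0, Int.ofNat 19, Int.ofNat 0, Int.ofNat 1, Int.ofNat 0, Int.ofNat 17]) (ZT.leaf [Int.negSucc 0]))))) (ZT.node 174 (ZT.node 171 (ZT.node 169 (ZT.leaf [Int.negSucc 69, Int.negSucc 16, Int.ofNat 8, Int.ofNat 1, Int.ofNat 0, Int.negSucc 1, Int.negSucc 0, Int.negSucc 0, Int.ofNat 0, Int.negSucc 0, Int.ofNat 0, Int.ofNat 0, Int.negSucc 0, Int.ofNat 0, Int.ofNat 1, Int.ofNat 0, Int.ofNat 0, Int.ofNat 0, Int.negSucc 2]) (ZT.node 170 (ZT.leaf [Int.negSucc 1768, Int.negSucc 1995, Int.ofNat 471, Int.negSucc 358, Int.negSucc 9, Int.negSucc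 443, Int.negSucc 60, Int.ofNat 163, Int.ofNat 31, Int.ofNat 0, Int.ofNat 0, Int.ofNat 0, Int.ofNat 4, Int.negSucc 11, Int.ofNat 660, Int.ofNat 16, Int.negSucc 80, Int.ofNat 0, Int.negSucc 394]) (ZT.leaf [Int.negSucc 0]))) (ZT.node 172 (ZT.leaf [Int.negSucc 1321, Int.negSucc 605, Int.ofNat 315, Int.negSucc 98, Int.negSucc 0, Int.negSucc 179, Int.negSucc 19, Int.ofNat 48, Int.ofNat 3, Int.ofNat 0, Int.ofNat 0, Int.ofNat 0, Int.negSucc 1, Int.negSucc 2, Int.ofNat 199, Int.ofNat 0, Int.negSucc 29, Int.ofNat 0, Int.negSucc 162]) (ZT.node 173 (ZT.leaf [Int.ofNat 3, Int.ofNat 1, Int.ofNat 0, Int.ofNat 0, Int.ofNat 0, Int.ofNat 0, Int.ofNat 1]) (ZT.leaf [Int.negSucc 517, Int.negSucc 212, Int.ofNat 114, Int.negSucc 30, Int.ofNat 0, Int.negSucc 63, Int.negSucc 8, Int.ofNat 10, Int.ofNat 2, Int.negSucc 0, Int.ofNat 0, Int.ofNat 0, Int.negSucc 3, Int.negSucc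 0, Int.ofNat 80, Int.negSucc 1, Int.negSucc 9, Int.ofNat 0, Int.negSucc 56])))) (ZT.node 177 (ZT.node 175 (ZT.leaf [Int.negSucc 0]) (ZT.node 176 (ZT.leaf []) (ZT.leaf []))) (ZT.node 178 (ZT.leaf [Int.negSucc 0]) (ZT.node 179 (ZT.leaf [Int.ofNat 13, Int.negSucc 12, Int.negSucc 8, Int.ofNat 1, Int.ofNat 0, Int.ofNat 3, Int.negSucc 0, Int.negSucc 0, Int.ofNat 1, Int.ofNat 0, Int.ofNat 0, Int.ofNat 0, Int.negSucc 0, Int.ofNat 0, Int.ofNat 4, Int.ofNat 0, Int.ofNat 1, Int.ofNat 0, Int.ofNat 2]) (ZT.leaf []))))))))) (ZT.node 270 (ZT.node 225 (ZT.node 202 (ZT.node 191 (ZT.node 185 (ZT.node 182 (ZT.node 181 (ZT.leaf [Int.ofNat 1101, Int.negSucc 146, Int.negSucc 228, Int.negSucc 39, Int.negSucc 3, Int.ofNat 44, Int.ofNat 2, Int.ofNat 16, Int.ofNat 13, Int.ofNat 0, Int.ofNat 0, Int.ofNat 0, Int.ofNat 5, Int.negSucc 3, Int.ofNat 66, Int.ofNat 5, Int.negSucc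 10, Int.ofNat 0, Int.ofNat 34]) (ZT.leaf [])) (ZT.node 183 (ZT.leaf [Int.ofNat 0, Int.ofNat 1]) (ZT.node 184 (ZT.leaf [Int.negSucc 712, Int.negSucc 410, Int.ofNat 183, Int.negSucc 73, Int.negSucc 1, Int.negSucc 111, Int.negSucc 10, Int.ofNat 34, Int.ofNat 4, Int.ofNat 0, Int.ofNat 0, Int.ofNat 0, Int.ofNat 0, Int.negSucc 1, Int.ofNat 130, Int.ofNat 2, Int.negSucc 22, Int.ofNat 0, Int.negSucc 100]) (ZT.leaf [])))) (ZT.node 188 (ZT.node 186 (ZT.leaf []) (ZT.node 187 (ZT.leaf [Int.negSucc 68, Int.negSucc 472, Int.ofNat 64, Int.negSucc 99, Int.negSucc 5, Int.negSucc 96, Int.negSucc 3, Int.ofNat 36, Int.ofNat 6, Int.ofNat 0, Int.ofNat 0, Int.ofNat 0, Int.ofNat 6, Int.negSucc 6, Int.ofNat 143, Int.ofNat 7, Int.negSucc 24, Int.ofNat 0, Int.negSucc 81]) (ZT.leaf []))) (ZT.node 189 (ZT.leaf [Int.negSucc 0]) (ZT.node 190 (ZT.leaf [Int.ofNat 1, Int.ofNat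 1]) (ZT.leaf [Int.ofNat 119, Int.ofNat 133, Int.ofNat 12, Int.ofNat 0, Int.negSucc 0, Int.negSucc 2, Int.ofNat 9, Int.negSucc 7, Int.negSucc 5, Int.ofNat 0, Int.ofNat 0, Int.ofNat 0, Int.ofNat 4, Int.ofNat 0, Int.negSucc 40, Int.ofNat 0, Int.ofNat 3, Int.ofNat 0, Int.ofNat 11]))))) (ZT.node 196 (ZT.node 193 (ZT.node 192 (ZT.leaf [Int.negSucc 4, Int.ofNat 98, Int.negSucc 12, Int.ofNat 24, Int.ofNat 2, Int.ofNat 22, Int.ofNat 1, Int.negSucc 7, Int.negSucc 1, Int.ofNat 0, Int.ofNat 0, Int.ofNat 0, Int.negSucc 1, Int.ofNat 0, Int.negSucc 22, Int.negSucc 1, Int.ofNat 0, Int.ofNat 0, Int.ofNat 15]) (ZT.leaf [])) (ZT.node 194 (ZT.leaf [Int.negSucc 663, Int.negSucc 282, Int.ofNat 148, Int.negSucc 43, Int.negSucc 0, Int.negSucc 79, Int.negSucc 7, Int.ofNat 14, Int.negSucc 0, Int.ofNat 0, Int.ofNat 0, Int.ofNat 0, Int.negSucc 2, Int.negSucc 1, Int.ofNat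 86, Int.ofNat 2, Int.negSucc 12, Int.ofNat 0, Int.negSucc 71]) (ZT.node 195 (ZT.leaf []) (ZT.leaf [Int.negSucc 274, Int.negSucc 135, Int.ofNat 44, Int.negSucc 10, Int.ofNat 0, Int.negSucc 23, Int.negSucc 2, Int.ofNat 4, Int.ofNat 1, Int.ofNat 0, Int.ofNat 0, Int.ofNat 0, Int.negSucc 2, Int.ofNat 0, Int.ofNat 34, Int.ofNat 1, Int.negSucc 2, Int.ofNat 0, Int.negSucc 23])))) (ZT.node 199 (ZT.node 197 (ZT.leaf [Int.negSucc 0]) (ZT.node 198 (ZT.leaf [Int.negSucc 73, Int.ofNat 202, Int.ofNat 54, Int.ofNat 15, Int.negSucc 0, Int.negSucc 4, Int.ofNat 15, Int.negSucc 20, Int.negSucc 10, Int.ofNat 0, Int.ofNat 0, Int.ofNat 0, Int.ofNat 2, Int.ofNat 1, Int.negSucc 63, Int.negSucc 0, Int.ofNat 3, Int.ofNat 0, Int.ofNat 13]) (ZT.leaf [Int.negSucc 5269, Int.negSucc 529, Int.ofNat 1136, Int.ofNat 1, Int.ofNat 8, Int.negSucc 405, Int.negSucc 40, Int.ofNat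 4, Int.negSucc 27, Int.ofNat 0, Int.ofNat 0, Int.ofNat 0, Int.negSucc 28, Int.negSucc 6, Int.ofNat 259, Int.negSucc 14, Int.negSucc 54, Int.ofNat 0, Int.negSucc 361]))) (ZT.node 200 (ZT.leaf [Int.negSucc 1343, Int.negSucc 661, Int.ofNat 330, Int.negSucc 115, Int.negSucc 2, Int.negSucc 205, Int.negSucc 20, Int.ofNat 48, Int.ofNat 1, Int.ofNat 0, Int.ofNat 0, Int.ofNat 0, Int.negSucc 0, Int.negSucc 2, Int.ofNat 231, Int.ofNat 4, Int.negSucc 26, Int.ofNat 0, Int.negSucc 172]) (ZT.node 201 (ZT.leaf [Int.negSucc 1282, Int.negSucc 631, Int.ofNat 321, Int.negSucc 113, Int.negSucc 2, Int.negSucc 198, Int.negSucc 20, Int.ofNat 49, Int.ofNat 2, Int.ofNat 0, Int.ofNat 0, Int.ofNat 0, Int.ofNat 0, Int.negSucc 2, Int.ofNat 223, Int.ofNat 4, Int.negSucc 26, Int.ofNat 0, Int.negSucc 167]) (ZT.leaf [Int.ofNat 73, Int.negSucc 201, Int.negSucc 53, Int.negSucc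 14, Int.ofNat 1, Int.ofNat 5, Int.negSucc 14, Int.ofNat 21, Int.ofNat 11, Int.ofNat 0, Int.ofNat 0, Int.ofNat 0, Int.negSucc 1, Int.negSucc 0, Int.ofNat 64, Int.ofNat 1, Int.negSucc 2, Int.ofNat 0, Int.negSucc 12])))))) (ZT.node 213 (ZT.node 207 (ZT.node 204 (ZT.node 203 (ZT.leaf [Int.negSucc 1343, Int.negSucc 661, Int.ofNat 330, Int.negSucc 115, Int.negSucc 2, Int.negSucc 205, Int.negSucc 20, Int.ofNat 48, Int.ofNat 1, Int.ofNat 0, Int.ofNat 0, Int.ofNat 0, Int.negSucc 0, Int.negSucc 2, Int.ofNat 231, Int.ofNat 4, Int.negSucc 26, Int.ofNat 0, Int.negSucc 172]) (ZT.leaf [])) (ZT.node 205 (ZT.leaf [Int.negSucc 0]) (ZT.node 206 (ZT.leaf [Int.negSucc 524, Int.negSucc 335, Int.ofNat 99, Int.negSucc 43, Int.negSucc 0, Int.negSucc 55, Int.negSucc 30, Int.ofNat 49, Int.ofNat 19, Int.ofNat 0, Int.ofNat 0, Int.ofNat 0, Int.negSucc 1, Int.ofNat 2,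 Int.ofNat 154, Int.negSucc 1, Int.negSucc 24, Int.ofNat 0, Int.negSucc 73]) (ZT.leaf [Int.negSucc 771, Int.negSucc 393, Int.ofNat 161, Int.negSucc 53, Int.negSucc 0, Int.negSucc 96, Int.negSucc 17, Int.ofNat 30, Int.ofNat 3, Int.ofNat 0, Int.ofNat 0, Int.ofNat 0, Int.negSucc 1, Int.negSucc 1, Int.ofNat 126, Int.ofNat 2, Int.negSucc 10, Int.ofNat 0, Int.negSucc 90])))) (ZT.node 210 (ZT.node 208 (ZT.leaf [Int.negSucc 110, Int.negSucc 100, Int.negSucc 8, Int.ofNat 6, Int.ofNat 1, Int.ofNat 0, Int.negSucc 4, Int.ofNat 4, Int.ofNat 5, Int.ofNat 0, Int.ofNat 0, Int.ofNat 0, Int.negSucc 2, Int.negSucc 0, Int.ofNat 52, Int.negSucc 0, Int.negSucc 5, Int.ofNat 0, Int.negSucc 9]) (ZT.node 209 (ZT.leaf [Int.negSucc 0, Int.negSucc 0]) (ZT.leaf []))) (ZT.node 211 (ZT.leaf []) (ZT.node 212 (ZT.leaf [Int.ofNat 7692, Int.ofNat 1883, Int.negSucc 1673, Int.ofNat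 213, Int.negSucc 2, Int.ofNat 777, Int.ofNat 125, Int.negSucc 133, Int.ofNat 8, Int.ofNat 1, Int.ofNat 0, Int.ofNat 0, Int.ofNat 28, Int.ofNat 14, Int.negSucc 796, Int.ofNat 13, Int.ofNat 89, Int.ofNat 0, Int.ofNat 696]) (ZT.leaf [Int.ofNat 6553, Int.ofNat 1163, Int.negSucc 1456, Int.ofNat 113, Int.negSucc 4, Int.ofNat 605, Int.ofNat 62, Int.negSucc 52, Int.ofNat 26, Int.ofNat 0, Int.ofNat 0, Int.ofNat 0, Int.ofNat 29, Int.ofNat 10, Int.negSucc 481, Int.ofNat 11, Int.ofNat 82, Int.ofNat 0, Int.ofNat 530]))))) (ZT.node 219 (ZT.node 216 (ZT.node 214 (ZT.leaf [Int.ofNat 6994, Int.ofNat 3613, Int.negSucc 1611, Int.ofNat 574, Int.ofNat 14, Int.ofNat 991, Int.ofNat 139, Int.negSucc 279, Int.negSucc 34, Int.ofNat 0, Int.ofNat 0, Int.ofNat 0, Int.ofNat 17, Int.ofNat 15, Int.negSucc 1273, Int.negSucc 17, Int.ofNat 155, Int.ofNat 0, Int.ofNat 898])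 (ZT.node 215 (ZT.leaf [Int.negSucc 314, Int.negSucc 163, Int.ofNat 34, Int.negSucc 8, Int.negSucc 0, Int.negSucc 14, Int.negSucc 13, Int.ofNat 15, Int.ofNat 8, Int.ofNat 0, Int.ofNat 0, Int.ofNat 0, Int.negSucc 3, Int.ofNat 1, Int.ofNat 65, Int.ofNat 0, Int.negSucc 5, Int.ofNat 0, Int.negSucc 26]) (ZT.leaf [Int.ofNat 567, Int.ofNat 162, Int.negSucc 131, Int.ofNat 25, Int.ofNat 0, Int.ofNat 64, Int.ofNat 2, Int.negSucc 6, Int.ofNat 3, Int.ofNat 0, Int.ofNat 0, Int.ofNat 0, Int.ofNat 2, Int.ofNat 1, Int.negSucc 45, Int.ofNat 0, Int.ofNat 10, Int.ofNat 0, Int.ofNat 54]))) (ZT.node 217 (ZT.leaf [Int.ofNat 160, Int.ofNat 21, Int.negSucc 44, Int.ofNat 7, Int.ofNat 0, Int.ofNat 23, Int.ofNat 0, Int.ofNat 1, Int.ofNat 3, Int.ofNat 0, Int.ofNat 0, Int.ofNat 0, Int.ofNat 0, Int.ofNat 0, Int.negSucc 0, Int.ofNat 0, Int.ofNat 0, Int.ofNat 0, Int.ofNat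 15]) (ZT.node 218 (ZT.leaf [Int.ofNat 104, Int.ofNat 19, Int.negSucc 27, Int.ofNat 5, Int.ofNat 0, Int.ofNat 13, Int.ofNat 0, Int.negSucc 0, Int.ofNat 1, Int.ofNat 0, Int.ofNat 0, Int.ofNat 0, Int.ofNat 0, Int.ofNat 0, Int.negSucc 6, Int.ofNat 0, Int.ofNat 3, Int.ofNat 0, Int.ofNat 11]) (ZT.leaf [Int.negSucc 111, Int.ofNat 32, Int.ofNat 24, Int.ofNat 8, Int.ofNat 1, Int.ofNat 2, Int.ofNat 5, Int.negSucc 12, Int.negSucc 2, Int.ofNat 0, Int.ofNat 0, Int.ofNat 0, Int.negSucc 3, Int.ofNat 0, Int.negSucc 22, Int.ofNat 0, Int.negSucc 0, Int.ofNat 0, Int.negSucc 1])))) (ZT.node 222 (ZT.node 220 (ZT.leaf [Int.negSucc 142, Int.negSucc 7, Int.ofNat 36, Int.negSucc 1, Int.ofNat 0, Int.negSucc 10, Int.ofNat 2, Int.negSucc 2, Int.negSucc 1, Int.ofNat 0, Int.ofNat 0, Int.ofNat 0, Int.negSucc 0, Int.ofNat 0, Int.negSucc 5, Int.ofNat 0, Int.negSucc 0, Int.ofNat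 0, Int.negSucc 7]) (ZT.node 221 (ZT.leaf [Int.negSucc 0]) (ZT.leaf []))) (ZT.node 223 (ZT.leaf [Int.negSucc 0]) (ZT.node 224 (ZT.leaf [Int.ofNat 399, Int.ofNat 196, Int.negSucc 81, Int.ofNat 27, Int.ofNat 1, Int.ofNat 47, Int.ofNat 8, Int.negSucc 13, Int.negSucc 1, Int.ofNat 0, Int.ofNat 0, Int.ofNat 0, Int.ofNat 1, Int.ofNat 1, Int.negSucc 54, Int.negSucc 0, Int.ofNat 6, Int.ofNat 0, Int.ofNat 44]) (ZT.leaf []))))))) (ZT.node 247 (ZT.node 236 (ZT.node 230 (ZT.node 227 (ZT.node 226 (ZT.leaf [Int.ofNat 252, Int.ofNat 85, Int.negSucc 56, Int.ofNat 14, Int.ofNat 1, Int.ofNat 21, Int.ofNat 1, Int.negSucc 2, Int.negSucc 0, Int.ofNat 0, Int.ofNat 0, Int.ofNat 0, Int.ofNat 2, Int.ofNat 0, Int.negSucc 33, Int.ofNat 0, Int.ofNat 6, Int.ofNat 0, Int.ofNat 22]) (ZT.leaf [Int.negSucc 329, Int.negSucc 235, Int.ofNat 59, Int.negSucc 28, Int.negSucc 1,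 Int.negSucc 47, Int.negSucc 18, Int.ofNat 34, Int.ofNat 10, Int.ofNat 0, Int.ofNat 0, Int.ofNat 0, Int.ofNat 1, Int.ofNat 1, Int.ofNat 119, Int.ofNat 1, Int.negSucc 13, Int.ofNat 0, Int.negSucc 47])) (ZT.node 228 (ZT.leaf [Int.negSucc 179, Int.negSucc 7, Int.ofNat 58, Int.negSucc 8, Int.ofNat 2, Int.negSucc 21, Int.ofNat 12, Int.negSucc 18, Int.negSucc 8, Int.ofNat 0, Int.ofNat 0, Int.ofNat 0, Int.negSucc 2, Int.negSucc 1, Int.negSucc 40, Int.ofNat 0, Int.ofNat 6, Int.ofNat 0, Int.negSucc 12]) (ZT.node 229 (ZT.leaf [Int.negSucc 0]) (ZT.leaf [Int.negSucc 0])))) (ZT.node 233 (ZT.node 231 (ZT.leaf []) (ZT.node 232 (ZT.leaf [Int.ofNat 1464, Int.ofNat 807, Int.negSucc 339, Int.ofNat 127, Int.ofNat 2, Int.ofNat 211, Int.ofNat 31, Int.negSucc 67, Int.negSucc 11, Int.ofNat 0, Int.ofNat 0, Int.ofNat 0, Int.ofNat 4, Int.ofNat 2, Int.negSucc 285, Int.negSucc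 1, Int.ofNat 39, Int.ofNat 0, Int.ofNat 196]) (ZT.leaf [Int.negSucc 0]))) (ZT.node 234 (ZT.leaf [Int.negSucc 674, Int.negSucc 257, Int.ofNat 169, Int.negSucc 47, Int.negSucc 0, Int.negSucc 102, Int.negSucc 9, Int.ofNat 24, Int.negSucc 1, Int.ofNat 0, Int.ofNat 0, Int.ofNat 0, Int.ofNat 2, Int.negSucc 0, Int.ofNat 64, Int.ofNat 2, Int.negSucc 15, Int.ofNat 0, Int.negSucc 79]) (ZT.node 235 (ZT.leaf []) (ZT.leaf []))))) (ZT.node 241 (ZT.node 238 (ZT.node 237 (ZT.leaf [Int.ofNat 675, Int.ofNat 259, Int.negSucc 168, Int.ofNat 48, Int.ofNat 1, Int.ofNat 103, Int.ofNat 10, Int.negSucc 23, Int.ofNat 2, Int.ofNat 0, Int.ofNat 0, Int.ofNat 0, Int.negSucc 1, Int.ofNat 1, Int.negSucc 63, Int.negSucc 1, Int.ofNat 16, Int.ofNat 0, Int.ofNat 80]) (ZT.leaf [])) (ZT.node 239 (ZT.leaf [Int.ofNat 21165, Int.ofNat 6510, Int.negSucc 4490, Int.ofNat 829, Int.ofNat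 27, Int.ofNat 2039, Int.ofNat 383, Int.negSucc 531, Int.negSucc 97, Int.ofNat 3, Int.negSucc 2, Int.negSucc 0, Int.ofNat 92, Int.ofNat 4, Int.negSucc 3125, Int.ofNat 37, Int.ofNat 418, Int.negSucc 1, Int.ofNat 2000]) (ZT.node 240 (ZT.leaf [Int.ofNat 629, Int.ofNat 1529, Int.negSucc 194, Int.ofNat 280, Int.ofNat 6, Int.ofNat 286, Int.ofNat 38, Int.negSucc 100, Int.negSucc 18, Int.ofNat 0, Int.ofNat 0, Int.ofNat 0, Int.negSucc 1, Int.ofNat 13, Int.negSucc 433, Int.negSucc 20, Int.ofNat 34, Int.ofNat 0, Int.ofNat 250]) (ZT.leaf [])))) (ZT.node 244 (ZT.node 242 (ZT.leaf [Int.negSucc 567, Int.negSucc 161, Int.ofNat 132, Int.negSucc 24, Int.ofNat 0, Int.negSucc 63, Int.negSucc 1, Int.ofNat 7, Int.negSucc 2, Int.ofNat 0, Int.ofNat 0, Int.ofNat 0, Int.negSucc 1, Int.negSucc 0, Int.ofNat 46, Int.ofNat 0, Int.negSucc 9, Int.ofNat 0, Int.negSucc 53])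 (ZT.node 243 (ZT.leaf [Int.negSucc 330, Int.negSucc 235, Int.ofNat 59, Int.negSucc 28, Int.negSucc 1, Int.negSucc 47, Int.negSucc 18, Int.ofNat 34, Int.ofNat 10, Int.ofNat 0, Int.ofNat 0, Int.ofNat 0, Int.ofNat 1, Int.ofNat 1, Int.ofNat 119, Int.ofNat 1, Int.negSucc 13, Int.ofNat 0, Int.negSucc 47]) (ZT.leaf [Int.negSucc 242, Int.negSucc 94, Int.ofNat 50, Int.negSucc 12, Int.negSucc 0, Int.negSucc 24, Int.negSucc 2, Int.ofNat 6, Int.ofNat 1, Int.ofNat 0, Int.ofNat 0, Int.ofNat 0, Int.negSucc 0, Int.ofNat 0, Int.ofNat 31, Int.ofNat 0, Int.negSucc 5, Int.ofNat 0, Int.negSucc 23]))) (ZT.node 245 (ZT.leaf [Int.negSucc 1865, Int.negSucc 588, Int.ofNat 429, Int.negSucc 88, Int.negSucc 1, Int.negSucc 214, Int.negSucc 29, Int.ofNat 51, Int.ofNat 3, Int.ofNat 0, Int.ofNat 0, Int.ofNat 0, Int.negSucc 4, Int.ofNat 0, Int.ofNat 243, Int.negSucc 1, Int.negSucc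 43, Int.ofNat 0, Int.negSucc 192]) (ZT.node 246 (ZT.leaf [Int.negSucc 267, Int.negSucc 74, Int.ofNat 66, Int.negSucc 14, Int.negSucc 0, Int.negSucc 23, Int.negSucc 0, Int.ofNat 5, Int.ofNat 0, Int.ofNat 0, Int.ofNat 0, Int.ofNat 0, Int.negSucc 0, Int.ofNat 0, Int.ofNat 30, Int.ofNat 0, Int.negSucc 7, Int.ofNat 0, Int.negSucc 23]) (ZT.leaf [Int.negSucc 0, Int.negSucc 0])))))) (ZT.node 258 (ZT.node 252 (ZT.node 249 (ZT.node 248 (ZT.leaf []) (ZT.leaf [])) (ZT.node 250 (ZT.leaf [Int.ofNat 5, Int.ofNat 3, Int.negSucc 0, Int.ofNat 0, Int.ofNat 0, Int.ofNat 0, Int.ofNat 0, Int.negSucc 0, Int.ofNat 0, Int.ofNat 0, Int.ofNat 0, Int.ofNat 0, Int.ofNat 0, Int.ofNat 0, Int.ofNat 0, Int.ofNat 0, Int.ofNat 0, Int.ofNat 0, Int.ofNat 0]) (ZT.node 251 (ZT.leaf [Int.ofNat 0, Int.ofNat 1]) (ZT.leaf [])))) (ZT.node 255 (ZT.node 253 (ZT.leaf [Int.ofNat 3, Int.ofNat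 2, Int.ofNat 1, Int.ofNat 0, Int.ofNat 0, Int.ofNat 0, Int.ofNat 0, Int.ofNat 0, Int.ofNat 0, Int.ofNat 1, Int.ofNat 0, Int.ofNat 0, Int.ofNat 0, Int.ofNat 0, Int.ofNat 0, Int.ofNat 0, Int.ofNat 0, Int.ofNat 0, Int.ofNat 0]) (ZT.node 254 (ZT.leaf []) (ZT.leaf []))) (ZT.node 256 (ZT.leaf [Int.negSucc 0]) (ZT.node 257 (ZT.leaf []) (ZT.leaf [Int.ofNat 3, Int.ofNat 3, Int.ofNat 1, Int.ofNat 1, Int.ofNat 0, Int.negSucc 0, Int.ofNat 1, Int.ofNat 1, Int.ofNat 0, Int.ofNat 0, Int.ofNat 0, Int.ofNat 0, Int.ofNat 0, Int.ofNat 0, Int.ofNat 0, Int.ofNat 0, Int.ofNat 0, Int.ofNat 0, Int.ofNat 0]))))) (ZT.node 264 (ZT.node 261 (ZT.node 259 (ZT.leaf [Int.ofNat 975, Int.ofNat 599, Int.negSucc 228, Int.ofNat 100, Int.ofNat 2, Int.ofNat 152, Int.ofNat 23, Int.negSucc 44, Int.negSucc 7, Int.ofNat 0, Int.ofNat 0, Int.ofNat 0, Int.ofNat 2, Int.ofNat 3, Int.negSucc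 194, Int.negSucc 2, Int.ofNat 20, Int.ofNat 0, Int.ofNat 137]) (ZT.node 260 (ZT.leaf [Int.ofNat 1, Int.ofNat 1]) (ZT.leaf [Int.negSucc 434, Int.negSucc 596, Int.ofNat 158, Int.negSucc 124, Int.negSucc 5, Int.negSucc 146, Int.negSucc 6, Int.ofNat 45, Int.ofNat 5, Int.ofNat 0, Int.ofNat 0, Int.ofNat 0, Int.ofNat 6, Int.negSucc 6, Int.ofNat 181, Int.ofNat 7, Int.negSucc 30, Int.ofNat 0, Int.negSucc 121]))) (ZT.node 262 (ZT.leaf []) (ZT.node 263 (ZT.leaf []) (ZT.leaf [Int.ofNat 6733, Int.ofNat 5516, Int.negSucc 1582, Int.ofNat 919, Int.ofNat 26, Int.ofNat 1256, Int.ofNat 258, Int.negSucc 494, Int.negSucc 110, Int.negSucc 0, Int.ofNat 0, Int.negSucc 0, Int.ofNat 6, Int.ofNat 19, Int.negSucc 1991, Int.negSucc 35, Int.ofNat 208, Int.negSucc 0, Int.ofNat 1173])))) (ZT.node 267 (ZT.node 265 (ZT.leaf [Int.negSucc 6619, Int.negSucc 5493, Int.ofNat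 1555, Int.negSucc 914, Int.negSucc 25, Int.negSucc 1244, Int.negSucc 257, Int.ofNat 494, Int.ofNat 112, Int.ofNat 1, Int.ofNat 0, Int.ofNat 1, Int.negSucc 5, Int.negSucc 18, Int.ofNat 1988, Int.ofNat 36, Int.negSucc 206, Int.ofNat 1, Int.negSucc 1163]) (ZT.node 266 (ZT.leaf [Int.negSucc 609, Int.negSucc 224, Int.ofNat 143, Int.negSucc 34, Int.ofNat 0, Int.negSucc 74, Int.negSucc 7, Int.ofNat 10, Int.ofNat 1, Int.ofNat 0, Int.ofNat 0, Int.ofNat 0, Int.negSucc 3, Int.negSucc 0, Int.ofNat 89, Int.negSucc 1, Int.negSucc 11, Int.ofNat 0, Int.negSucc 66]) (ZT.leaf [Int.ofNat 3245, Int.ofNat 1110, Int.negSucc 688, Int.ofNat 144, Int.ofNat 0, Int.ofNat 342, Int.ofNat 43, Int.negSucc 65, Int.ofNat 0, Int.negSucc 0, Int.ofNat 1, Int.ofNat 0, Int.ofNat 13, Int.ofNat 6, Int.negSucc 417, Int.ofNat 1, Int.ofNat 65, Int.ofNat 0, Int.ofNat 317]))) (ZT.node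 268 (ZT.leaf []) (ZT.node 269 (ZT.leaf [Int.negSucc 12212, Int.negSucc 6059, Int.ofNat 2941, Int.negSucc 1020, Int.negSucc 22, Int.negSucc 1756, Int.negSucc 188, Int.ofNat 442, Int.ofNat 36, Int.ofNat 0, Int.ofNat 0, Int.ofNat 0, Int.negSucc 20, Int.negSucc 24, Int.ofNat 2028, Int.ofNat 21, Int.negSucc 269, Int.ofNat 0, Int.negSucc 1537]) (ZT.leaf [Int.negSucc 411, Int.negSucc 132, Int.ofNat 87, Int.negSucc 19, Int.negSucc 0, Int.negSucc 31, Int.negSucc 3, Int.ofNat 4, Int.ofNat 2, Int.ofNat 0, Int.ofNat 0, Int.ofNat 0, Int.negSucc 3, Int.ofNat 0, Int.ofNat 53, Int.negSucc 0, Int.negSucc 8, Int.ofNat 0, Int.negSucc 33])))))))) (ZT.node 315 (ZT.node 292 (ZT.node 281 (ZT.node 275 (ZT.node 272 (ZT.node 271 (ZT.leaf []) (ZT.leaf [Int.negSucc 426, Int.negSucc 1259, Int.ofNat 150, Int.negSucc 227, Int.negSucc 3, Int.negSucc 239, Int.negSucc 29,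 Int.ofNat 99, Int.ofNat 22, Int.ofNat 0, Int.ofNat 0, Int.ofNat 0, Int.ofNat 4, Int.negSucc 8, Int.ofNat 377, Int.ofNat 13, Int.negSucc 35, Int.ofNat 0, Int.negSucc 208])) (ZT.node 273 (ZT.leaf [Int.negSucc 29, Int.negSucc 40, Int.negSucc 5, Int.ofNat 2, Int.ofNat 1, Int.ofNat 1, Int.ofNat 0, Int.negSucc 1, Int.ofNat 0, Int.ofNat 0, Int.ofNat 0, Int.ofNat 0, Int.negSucc 1, Int.ofNat 0, Int.ofNat 3, Int.ofNat 1, Int.ofNat 3, Int.ofNat 0, Int.ofNat 0]) (ZT.node 274 (ZT.leaf [Int.ofNat 270, Int.ofNat 76, Int.negSucc 65, Int.ofNat 15, Int.ofNat 1, Int.ofNat 24, Int.ofNat 1, Int.negSucc 4, Int.ofNat 0, Int.ofNat 0, Int.ofNat 0, Int.ofNat 0, Int.ofNat 1, Int.ofNat 0, Int.negSucc 29, Int.ofNat 0, Int.ofNat 8, Int.ofNat 0, Int.ofNat 24]) (ZT.leaf [Int.negSucc 114, Int.ofNat 32, Int.ofNat 24, Int.ofNat 8, Int.ofNat 1, Int.ofNat 2, Int.ofNat 5, Int.negSucc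 12, Int.negSucc 2, Int.ofNat 0, Int.ofNat 0, Int.ofNat 0, Int.negSucc 3, Int.ofNat 0, Int.negSucc 22, Int.ofNat 0, Int.negSucc 0, Int.ofNat 0, Int.negSucc 1])))) (ZT.node 278 (ZT.node 276 (ZT.leaf [Int.ofNat 121, Int.ofNat 14, Int.negSucc 34, Int.ofNat 5, Int.ofNat 0, Int.ofNat 14, Int.ofNat 0, Int.negSucc 0, Int.ofNat 2, Int.ofNat 0, Int.ofNat 0, Int.ofNat 0, Int.ofNat 0, Int.ofNat 0, Int.ofNat 0, Int.ofNat 0, Int.ofNat 1, Int.ofNat 0, Int.ofNat 10]) (ZT.node 277 (ZT.leaf [Int.ofNat 468, Int.ofNat 56, Int.negSucc 70, Int.negSucc 12, Int.negSucc 1, Int.ofNat 34, Int.ofNat 20, Int.negSucc 6, Int.negSucc 0, Int.ofNat 0, Int.ofNat 0, Int.ofNat 0, Int.ofNat 3, Int.ofNat 1, Int.negSucc 40, Int.ofNat 3, Int.negSucc 4, Int.ofNat 0, Int.ofNat 34]) (ZT.leaf [Int.negSucc 11991, Int.negSucc 1342, Int.ofNat 2603, Int.negSucc 66, Int.ofNat 12, Int.negSucc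 905, Int.negSucc 35, Int.ofNat 54, Int.negSucc 48, Int.negSucc 1, Int.ofNat 1, Int.negSucc 0, Int.negSucc 65, Int.ofNat 9, Int.ofNat 692, Int.negSucc 46, Int.negSucc 194, Int.negSucc 0, Int.negSucc 813]))) (ZT.node 279 (ZT.leaf []) (ZT.node 280 (ZT.leaf [Int.negSucc 120, Int.negSucc 12, Int.ofNat 35, Int.negSucc 4, Int.ofNat 0, Int.negSucc 13, Int.ofNat 0, Int.ofNat 1, Int.negSucc 1, Int.ofNat 0, Int.ofNat 0, Int.ofNat 0, Int.ofNat 0, Int.ofNat 0, Int.ofNat 0, Int.ofNat 0, Int.negSucc 0, Int.ofNat 0, Int.negSucc 9]) (ZT.leaf [Int.ofNat 7877, Int.ofNat 5144, Int.negSucc 1945, Int.ofNat 890, Int.ofNat 21, Int.ofNat 1346, Int.ofNat 153, Int.negSucc 377, Int.negSucc 44, Int.ofNat 0, Int.ofNat 0, Int.ofNat 0, Int.ofNat 8, Int.ofNat 23, Int.negSucc 1666, Int.negSucc 27, Int.ofNat 198, Int.ofNat 0, Int.ofNat 1170]))))) (ZT.node 286 (ZT.node 283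 (ZT.node 282 (ZT.leaf [Int.ofNat 516, Int.ofNat 213, Int.negSucc 113, Int.ofNat 31, Int.ofNat 0, Int.ofNat 64, Int.ofNat 9, Int.negSucc 9, Int.negSucc 1, Int.ofNat 1, Int.ofNat 0, Int.ofNat 0, Int.ofNat 4, Int.ofNat 1, Int.negSucc 79, Int.ofNat 2, Int.ofNat 10, Int.ofNat 0, Int.ofNat 57]) (ZT.leaf [Int.negSucc 627, Int.negSucc 312, Int.ofNat 138, Int.negSucc 48, Int.negSucc 0, Int.negSucc 78, Int.negSucc 10, Int.ofNat 18, Int.ofNat 3, Int.ofNat 1, Int.negSucc 0, Int.ofNat 0, Int.negSucc 2, Int.negSucc 1, Int.ofNat 97, Int.ofNat 2, Int.negSucc 8, Int.ofNat 0, Int.negSucc 74])) (ZT.node 284 (ZT.leaf [Int.negSucc 1360, Int.negSucc 3271, Int.ofNat 427, Int.negSucc 605, Int.negSucc 13, Int.negSucc 626, Int.negSucc 81, Int.ofNat 211, Int.ofNat 45, Int.ofNat 0, Int.ofNat 0, Int.ofNat 0, Int.ofNat 4, Int.negSucc 28, Int.ofNat 967, Int.ofNat 36,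 Int.negSucc 63, Int.negSucc 0, Int.negSucc 539]) (ZT.node 285 (ZT.leaf [Int.ofNat 3421, Int.ofNat 3625, Int.negSucc 838, Int.ofNat 618, Int.ofNat 16, Int.ofNat 782, Int.ofNat 154, Int.negSucc 311, Int.negSucc 68, Int.negSucc 0, Int.ofNat 0, Int.ofNat 0, Int.ofNat 1, Int.ofNat 15, Int.negSucc 1270, Int.negSucc 29, Int.ofNat 121, Int.ofNat 0, Int.ofNat 721]) (ZT.leaf [])))) (ZT.node 289 (ZT.node 287 (ZT.leaf [Int.negSucc 31, Int.negSucc 0, Int.ofNat 5, Int.ofNat 2, Int.negSucc 0, Int.negSucc 0, Int.ofNat 1, Int.negSucc 2, Int.negSucc 0, Int.ofNat 0, Int.ofNat 0, Int.ofNat 0, Int.ofNat 0, Int.negSucc 0, Int.negSucc 4, Int.ofNat 0, Int.ofNat 2, Int.ofNat 0, Int.ofNat 0]) (ZT.node 288 (ZT.leaf [Int.negSucc 0]) (ZT.leaf [Int.ofNat 1, Int.ofNat 2]))) (ZT.node 290 (ZT.leaf [Int.negSucc 1, Int.ofNat 0, Int.negSucc 0, Int.ofNat 0, Int.ofNat 0, Int.ofNat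 0, Int.ofNat 0, Int.ofNat 0, Int.ofNat 0, Int.ofNat 0, Int.ofNat 0, Int.ofNat 0, Int.ofNat 0, Int.ofNat 0, Int.ofNat 0, Int.ofNat 0, Int.ofNat 1, Int.ofNat 0, Int.ofNat 0]) (ZT.node 291 (ZT.leaf []) (ZT.leaf [Int.negSucc 250, Int.negSucc 181, Int.ofNat 71, Int.negSucc 34, Int.negSucc 0, Int.negSucc 48, Int.ofNat 0, Int.ofNat 12, Int.ofNat 2, Int.ofNat 0, Int.ofNat 0, Int.ofNat 0, Int.ofNat 0, Int.ofNat 0, Int.ofNat 34, Int.ofNat 2, Int.negSucc 10, Int.ofNat 0, Int.negSucc 40])))))) (ZT.node 303 (ZT.node 297 (ZT.node 294 (ZT.node 293 (ZT.leaf [Int.ofNat 219, Int.ofNat 83, Int.negSucc 43, Int.ofNat 10, Int.ofNat 0, Int.ofNat 22, Int.ofNat 2, Int.negSucc 4, Int.negSucc 0, Int.ofNat 0, Int.ofNat 0, Int.ofNat 0, Int.ofNat 1, Int.ofNat 0, Int.negSucc 27, Int.ofNat 0, Int.ofNat 5, Int.ofNat 0, Int.ofNat 21]) (ZT.leaf [Int.ofNat 387, Int.ofNat 146,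 Int.negSucc 87, Int.ofNat 23, Int.ofNat 1, Int.ofNat 44, Int.ofNat 4, Int.negSucc 6, Int.ofNat 0, Int.ofNat 0, Int.ofNat 0, Int.ofNat 0, Int.ofNat 2, Int.ofNat 1, Int.negSucc 46, Int.ofNat 0, Int.ofNat 6, Int.ofNat 0, Int.ofNat 39])) (ZT.node 295 (ZT.leaf []) (ZT.node 296 (ZT.leaf []) (ZT.leaf [])))) (ZT.node 300 (ZT.node 298 (ZT.leaf []) (ZT.node 299 (ZT.leaf [Int.negSucc 37, Int.negSucc 728, Int.ofNat 64, Int.negSucc 149, Int.negSucc 4, Int.negSucc 139, Int.negSucc 17, Int.ofNat 64, Int.ofNat 12, Int.ofNat 0, Int.ofNat 0, Int.ofNat 0, Int.ofNat 7, Int.negSucc 4, Int.ofNat 230, Int.ofNat 8, Int.negSucc 27, Int.ofNat 0, Int.negSucc 119]) (ZT.leaf [Int.negSucc 6359, Int.negSucc 4319, Int.ofNat 1529, Int.negSucc 726, Int.negSucc 17, Int.negSucc 1073, Int.negSucc 139, Int.ofNat 329, Int.ofNat 50, Int.ofNat 1, Int.ofNat 0, Int.ofNat 0, Int.negSucc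 9, Int.negSucc 23, Int.ofNat 1431, Int.ofNat 26, Int.negSucc 180, Int.ofNat 0, Int.negSucc 963]))) (ZT.node 301 (ZT.leaf [Int.negSucc 0]) (ZT.node 302 (ZT.leaf [Int.negSucc 216, Int.ofNat 641, Int.negSucc 8, Int.ofNat 139, Int.ofNat 6, Int.ofNat 116, Int.ofNat 15, Int.negSucc 61, Int.negSucc 11, Int.ofNat 0, Int.ofNat 0, Int.ofNat 0, Int.negSucc 9, Int.ofNat 4, Int.negSucc 192, Int.negSucc 7, Int.ofNat 25, Int.ofNat 0, Int.ofNat 96]) (ZT.leaf []))))) (ZT.node 309 (ZT.node 306 (ZT.node 304 (ZT.leaf [Int.negSucc 272, Int.negSucc 150, Int.ofNat 47, Int.negSucc 13, Int.negSucc 0, Int.negSucc 23, Int.negSucc 3, Int.ofNat 10, Int.ofNat 4, Int.ofNat 0, Int.ofNat 0, Int.ofNat 0, Int.negSucc 1, Int.negSucc 0, Int.ofNat 53, Int.ofNat 1, Int.negSucc 9, Int.ofNat 0, Int.negSucc 27]) (ZT.node 305 (ZT.leaf [Int.negSucc 108, Int.ofNat 96, Int.ofNat 27,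 Int.ofNat 19, Int.ofNat 1, Int.negSucc 8, Int.negSucc 1, Int.negSucc 3, Int.negSucc 2, Int.ofNat 0, Int.ofNat 0, Int.ofNat 0, Int.ofNat 0, Int.ofNat 2, Int.negSucc 16, Int.negSucc 1, Int.ofNat 5, Int.ofNat 0, Int.ofNat 1]) (ZT.leaf []))) (ZT.node 307 (ZT.leaf [Int.negSucc 599, Int.negSucc 155, Int.ofNat 144, Int.negSucc 22, Int.ofNat 0, Int.negSucc 64, Int.negSucc 0, Int.ofNat 6, Int.negSucc 2, Int.ofNat 0, Int.ofNat 0, Int.ofNat 0, Int.negSucc 1, Int.negSucc 0, Int.ofNat 46, Int.ofNat 0, Int.negSucc 12, Int.ofNat 0, Int.negSucc 55]) (ZT.node 308 (ZT.leaf [Int.ofNat 150, Int.ofNat 77, Int.negSucc 34, Int.ofNat 14, Int.ofNat 0, Int.ofNat 21, Int.ofNat 5, Int.negSucc 0, Int.negSucc 1, Int.ofNat 0, Int.ofNat 0, Int.ofNat 0, Int.ofNat 3, Int.ofNat 0, Int.negSucc 36, Int.ofNat 2, Int.ofNat 0, Int.ofNat 0, Int.ofNat 19]) (ZT.leaf [Int.negSucc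 2083, Int.negSucc 1352, Int.ofNat 492, Int.negSucc 226, Int.negSucc 5, Int.negSucc 338, Int.negSucc 52, Int.ofNat 109, Int.ofNat 18, Int.ofNat 1, Int.ofNat 0, Int.ofNat 0, Int.negSucc 3, Int.negSucc 5, Int.ofNat 456, Int.ofNat 7, Int.negSucc 48, Int.ofNat 0, Int.negSucc 306])))) (ZT.node 312 (ZT.node 310 (ZT.leaf [Int.ofNat 10426, Int.ofNat 2793, Int.negSucc 2281, Int.ofNat 336, Int.ofNat 5, Int.ofNat 1030, Int.ofNat 132, Int.negSucc 206, Int.negSucc 0, Int.negSucc 0, Int.ofNat 0, Int.ofNat 0, Int.ofNat 38, Int.ofNat 17, Int.negSucc 1089, Int.ofNat 10, Int.ofNat 202, Int.ofNat 0, Int.ofNat 951]) (ZT.node 311 (ZT.leaf []) (ZT.leaf [Int.negSucc 5582, Int.negSucc 3348, Int.ofNat 1306, Int.negSucc 546, Int.negSucc 11, Int.negSucc 861, Int.negSucc 120, Int.ofNat 260, Int.ofNat 40, Int.ofNat 1, Int.ofNat 0, Int.ofNat 0, Int.negSucc 11, Int.negSucc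 16, Int.ofNat 1153, Int.ofNat 17, Int.negSucc 143, Int.ofNat 0, Int.negSucc 780]))) (ZT.node 313 (ZT.leaf [Int.negSucc 216, Int.negSucc 73, Int.ofNat 61, Int.negSucc 16, Int.ofNat 0, Int.negSucc 35, Int.negSucc 5, Int.ofNat 14, Int.ofNat 1, Int.negSucc 0, Int.ofNat 0, Int.ofNat 0, Int.ofNat 1, Int.ofNat 1, Int.ofNat 40, Int.negSucc 0, Int.negSucc 7, Int.ofNat 0, Int.negSucc 30]) (ZT.node 314 (ZT.leaf [Int.negSucc 59, Int.negSucc 13, Int.ofNat 6, Int.ofNat 1, Int.ofNat 0, Int.negSucc 0, Int.negSucc 0, Int.negSucc 1, Int.ofNat 0, Int.negSucc 0, Int.ofNat 0, Int.ofNat 0, Int.negSucc 0, Int.ofNat 0, Int.ofNat 1, Int.ofNat 0, Int.ofNat 0, Int.ofNat 0, Int.negSucc 2]) (ZT.leaf [Int.ofNat 7754, Int.ofNat 4296, Int.negSucc 1769, Int.ofNat 678, Int.ofNat 18, Int.ofNat 1121, Int.ofNat 191, Int.negSucc 367, Int.negSucc 63, Int.ofNat 0, Int.ofNat 0,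 Int.ofNat 0, Int.ofNat 16, Int.ofNat 13, Int.negSucc 1565, Int.negSucc 19, Int.ofNat 194, Int.ofNat 0, Int.ofNat 1037]))))))) (ZT.node 337 (ZT.node 326 (ZT.node 320 (ZT.node 317 (ZT.node 316 (ZT.leaf []) (ZT.leaf [Int.ofNat 1303, Int.negSucc 105, Int.negSucc 287, Int.negSucc 35, Int.negSucc 0, Int.ofNat 78, Int.ofNat 2, Int.ofNat 1, Int.ofNat 12, Int.ofNat 1, Int.ofNat 0, Int.ofNat 0, Int.ofNat 0, Int.negSucc 1, Int.negSucc 23, Int.ofNat 8, Int.ofNat 23, Int.ofNat 0, Int.ofNat 64])) (ZT.node 318 (ZT.leaf [Int.negSucc 0]) (ZT.node 319 (ZT.leaf [Int.ofNat 308, Int.ofNat 148, Int.negSucc 78, Int.ofNat 29, Int.ofNat 1, Int.ofNat 30, Int.negSucc 5, Int.ofNat 5, Int.ofNat 2, Int.ofNat 1, Int.ofNat 0, Int.ofNat 0, Int.ofNat 3, Int.ofNat 1, Int.negSucc 31, Int.negSucc 0, Int.ofNat 10, Int.ofNat 0, Int.ofNat 30]) (ZT.leaf [])))) (ZT.node 323 (ZT.node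 321 (ZT.leaf [Int.negSucc 0]) (ZT.node 322 (ZT.leaf [Int.ofNat 541, Int.ofNat 307, Int.negSucc 146, Int.ofNat 60, Int.ofNat 2, Int.ofNat 94, Int.ofNat 6, Int.negSucc 27, Int.negSucc 1, Int.ofNat 0, Int.ofNat 0, Int.ofNat 0, Int.negSucc 0, Int.ofNat 1, Int.negSucc 103, Int.negSucc 0, Int.ofNat 19, Int.ofNat 0, Int.ofNat 80]) (ZT.leaf [Int.negSucc 2384, Int.negSucc 1725, Int.ofNat 579, Int.negSucc 290, Int.negSucc 4, Int.negSucc 428, Int.negSucc 61, Int.ofNat 143, Int.ofNat 22, Int.ofNat 0, Int.ofNat 0, Int.ofNat 0, Int.negSucc 1, Int.negSucc 7, Int.ofNat 572, Int.ofNat 10, Int.negSucc 65, Int.ofNat 0, Int.negSucc 382]))) (ZT.node 324 (ZT.leaf [Int.ofNat 6650, Int.ofNat 3604, Int.negSucc 1568, Int.ofNat 595, Int.ofNat 16, Int.ofNat 993, Int.ofNat 143, Int.negSucc 291, Int.negSucc 39, Int.ofNat 0, Int.ofNat 0, Int.ofNat 0, Int.ofNat 12, Int.ofNat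 13, Int.negSucc 1301, Int.negSucc 19, Int.ofNat 159, Int.ofNat 0, Int.ofNat 893]) (ZT.node 325 (ZT.leaf [Int.negSucc 2561, Int.negSucc 1852, Int.ofNat 570, Int.negSucc 294, Int.negSucc 5, Int.negSucc 418, Int.negSucc 74, Int.ofNat 141, Int.ofNat 29, Int.ofNat 1, Int.ofNat 0, Int.ofNat 0, Int.negSucc 8, Int.negSucc 7, Int.ofNat 617, Int.ofNat 10, Int.negSucc 53, Int.ofNat 0, Int.negSucc 390]) (ZT.leaf [Int.negSucc 5512, Int.negSucc 966, Int.ofNat 1251, Int.negSucc 134, Int.ofNat 0, Int.negSucc 511, Int.negSucc 53, Int.ofNat 72, Int.negSucc 16, Int.ofNat 0, Int.ofNat 0, Int.ofNat 0, Int.negSucc 16, Int.ofNat 5, Int.ofNat 381, Int.negSucc 13, Int.negSucc 58, Int.ofNat 0, Int.negSucc 437]))))) (ZT.node 331 (ZT.node 328 (ZT.node 327 (ZT.leaf []) (ZT.leaf [])) (ZT.node 329 (ZT.leaf []) (ZT.node 330 (ZT.leaf [Int.negSucc 357, Int.negSucc 137, Int.ofNat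 86, Int.negSucc 22, Int.negSucc 0, Int.negSucc 43, Int.negSucc 3, Int.ofNat 10, Int.ofNat 0, Int.ofNat 0, Int.ofNat 0, Int.ofNat 0, Int.negSucc 0, Int.negSucc 0, Int.ofNat 46, Int.ofNat 1, Int.negSucc 4, Int.ofNat 0, Int.negSucc 38]) (ZT.leaf [Int.negSucc 1315, Int.negSucc 959, Int.ofNat 374, Int.negSucc 184, Int.negSucc 6, Int.negSucc 276, Int.negSucc 24, Int.ofNat 83, Int.ofNat 8, Int.ofNat 0, Int.ofNat 0, Int.ofNat 0, Int.ofNat 6, Int.negSucc 5, Int.ofNat 324, Int.ofNat 7, Int.negSucc 45, Int.ofNat 0, Int.negSucc 229])))) (ZT.node 334 (ZT.node 332 (ZT.leaf [Int.ofNat 1784, Int.ofNat 1211, Int.negSucc 466, Int.ofNat 223, Int.ofNat 4, Int.ofNat 335, Int.ofNat 38, Int.negSucc 99, Int.negSucc 10, Int.ofNat 0, Int.ofNat 0, Int.ofNat 0, Int.negSucc 0, Int.ofNat 6, Int.negSucc 399, Int.negSucc 6, Int.ofNat 51, Int.ofNat 0, Int.ofNat 287]) (ZT.node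 333 (ZT.leaf [Int.negSucc 143, Int.ofNat 63, Int.ofNat 82, Int.negSucc 16, Int.negSucc 0, Int.negSucc 38, Int.ofNat 8, Int.negSucc 1, Int.negSucc 7, Int.ofNat 0, Int.ofNat 0, Int.ofNat 0, Int.ofNat 5, Int.ofNat 0, Int.negSucc 18, Int.ofNat 0, Int.negSucc 0, Int.ofNat 0, Int.negSucc 16]) (ZT.leaf [Int.ofNat 677, Int.ofNat 164, Int.negSucc 153, Int.ofNat 23, Int.ofNat 0, Int.ofNat 66, Int.ofNat 2, Int.negSucc 4, Int.ofNat 3, Int.ofNat 1, Int.ofNat 0, Int.ofNat 0, Int.ofNat 3, Int.ofNat 1, Int.negSucc 36, Int.ofNat 0, Int.ofNat 9, Int.ofNat 0, Int.ofNat 57]))) (ZT.node 335 (ZT.leaf [Int.negSucc 28, Int.negSucc 6, Int.ofNat 5, Int.negSucc 0, Int.ofNat 0, Int.negSucc 0, Int.ofNat 0, Int.ofNat 0, Int.ofNat 0, Int.ofNat 0, Int.ofNat 0, Int.ofNat 0, Int.ofNat 0, Int.negSucc 0, Int.ofNat 5, Int.ofNat 0, Int.ofNat 0, Int.ofNat 0, Int.negSucc 1]) (ZT.node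 336 (ZT.leaf [Int.negSucc 24995, Int.negSucc 8412, Int.ofNat 5683, Int.negSucc 1239, Int.negSucc 7, Int.negSucc 2882, Int.negSucc 343, Int.ofNat 589, Int.ofNat 4, Int.ofNat 0, Int.negSucc 0, Int.ofNat 0, Int.negSucc 81, Int.negSucc 39, Int.ofNat 3055, Int.ofNat 2, Int.negSucc 444, Int.ofNat 0, Int.negSucc 2566]) (ZT.leaf [Int.negSucc 1003, Int.negSucc 521, Int.ofNat 199, Int.negSucc 64, Int.negSucc 2, Int.negSucc 115, Int.negSucc 26, Int.ofNat 41, Int.ofNat 12, Int.ofNat 1, Int.ofNat 0, Int.ofNat 0, Int.negSucc 4, Int.negSucc 1, Int.ofNat 200, Int.ofNat 2, Int.negSucc 16, Int.ofNat 0, Int.negSucc 115])))))) (ZT.node 348 (ZT.node 342 (ZT.node 339 (ZT.node 338 (ZT.leaf [Int.ofNat 5582, Int.ofNat 3349, Int.negSucc 1305, Int.ofNat 547, Int.ofNat 12, Int.ofNat 862, Int.ofNat 121, Int.negSucc 259, Int.negSucc 39, Int.negSucc 0, Int.ofNat 0, Int.ofNat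 0, Int.ofNat 12, Int.ofNat 17, Int.negSucc 1152, Int.negSucc 16, Int.ofNat 144, Int.ofNat 0, Int.ofNat 781]) (ZT.leaf [Int.ofNat 411, Int.ofNat 148, Int.negSucc 106, Int.ofNat 27, Int.ofNat 0, Int.ofNat 60, Int.ofNat 7, Int.negSucc 16, Int.negSucc 0, Int.ofNat 0, Int.ofNat 0, Int.ofNat 0, Int.ofNat 0, Int.ofNat 0, Int.negSucc 64, Int.ofNat 1, Int.ofNat 12, Int.ofNat 0, Int.ofNat 53])) (ZT.node 340 (ZT.leaf [Int.ofNat 432, Int.ofNat 722, Int.negSucc 162, Int.ofNat 148, Int.ofNat 7, Int.ofNat 167, Int.ofNat 16, Int.negSucc 61, Int.negSucc 11, Int.ofNat 0, Int.ofNat 0, Int.ofNat 0, Int.negSucc 5, Int.ofNat 6, Int.negSucc 243, Int.negSucc 8, Int.ofNat 36, Int.ofNat 0, Int.ofNat 142]) (ZT.node 341 (ZT.leaf [Int.negSucc 1031, Int.negSucc 346, Int.ofNat 244, Int.negSucc 53, Int.ofNat 0, Int.negSucc 131, Int.negSucc 13, Int.ofNat 28, Int.negSucc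 1, Int.ofNat 0, Int.ofNat 0, Int.ofNat 0, Int.negSucc 0, Int.negSucc 0, Int.ofNat 113, Int.negSucc 0, Int.negSucc 13, Int.ofNat 0, Int.negSucc 110]) (ZT.leaf [])))) (ZT.node 345 (ZT.node 343 (ZT.leaf []) (ZT.node 344 (ZT.leaf [Int.ofNat 519, Int.ofNat 209, Int.negSucc 114, Int.ofNat 31, Int.ofNat 0, Int.ofNat 64, Int.ofNat 8, Int.negSucc 9, Int.negSucc 1, Int.ofNat 1, Int.ofNat 0, Int.ofNat 0, Int.ofNat 4, Int.ofNat 1, Int.negSucc 79, Int.ofNat 2, Int.ofNat 10, Int.ofNat 0, Int.ofNat 57]) (ZT.leaf []))) (ZT.node 346 (ZT.leaf [Int.negSucc 1, Int.negSucc 0]) (ZT.node 347 (ZT.leaf [Int.ofNat 7, Int.negSucc 9, Int.negSucc 5, Int.ofNat 0, Int.ofNat 0, Int.ofNat 1, Int.ofNat 0, Int.ofNat 1, Int.ofNat 1, Int.ofNat 0, Int.ofNat 0, Int.ofNat 0, Int.ofNat 0, Int.ofNat 0, Int.ofNat 2, Int.ofNat 0, Int.ofNat 0, Int.ofNat 0, Int.ofNat 1]) (ZT.leaf [Int.negSucc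 1121, Int.negSucc 626, Int.ofNat 293, Int.negSucc 113, Int.ofNat 3, Int.negSucc 187, Int.negSucc 14, Int.ofNat 33, Int.negSucc 3, Int.ofNat 0, Int.ofNat 0, Int.ofNat 0, Int.negSucc 2, Int.negSucc 7, Int.ofNat 179, Int.ofNat 7, Int.negSucc 12, Int.ofNat 0, Int.negSucc 154]))))) (ZT.node 354 (ZT.node 351 (ZT.node 349 (ZT.leaf [Int.ofNat 16, Int.negSucc 10, Int.negSucc 7, Int.ofNat 0, Int.ofNat 0, Int.ofNat 1, Int.ofNat 0, Int.ofNat 0, Int.ofNat 1, Int.negSucc 0, Int.ofNat 0, Int.ofNat 0, Int.ofNat 0, Int.ofNat 0, Int.ofNat 7, Int.ofNat 0, Int.negSucc 1, Int.ofNat 0, Int.negSucc 0]) (ZT.node 350 (ZT.leaf []) (ZT.leaf []))) (ZT.node 352 (ZT.leaf [Int.negSucc 0]) (ZT.node 353 (ZT.leaf [Int.negSucc 0]) (ZT.leaf [Int.ofNat 1, Int.ofNat 1, Int.ofNat 0, Int.ofNat 0, Int.ofNat 0, Int.ofNat 0, Int.ofNat 1])))) (ZT.node 357 (ZT.node 355 (ZT.leaf [Int.negSucc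 0]) (ZT.node 356 (ZT.leaf [Int.negSucc 0]) (ZT.leaf [Int.ofNat 1031, Int.ofNat 347, Int.negSucc 243, Int.ofNat 54, Int.ofNat 0, Int.ofNat 132, Int.ofNat 14, Int.negSucc 27, Int.ofNat 2, Int.ofNat 0, Int.ofNat 0, Int.ofNat 0, Int.ofNat 1, Int.ofNat 1, Int.negSucc 112, Int.ofNat 1, Int.ofNat 14, Int.ofNat 0, Int.ofNat 111]))) (ZT.node 358 (ZT.leaf [Int.negSucc 1, Int.negSucc 0, Int.ofNat 0, Int.ofNat 0, Int.ofNat 0, Int.ofNat 0, Int.negSucc 0]) (ZT.node 359 (ZT.leaf [Int.negSucc 13, Int.ofNat 13, Int.ofNat 9, Int.negSucc 0, Int.ofNat 0, Int.negSucc 2, Int.ofNat 1, Int.ofNat 1, Int.negSucc 0, Int.ofNat 0, Int.ofNat 0, Int.ofNat 0, Int.ofNat 1, Int.ofNat 0, Int.negSucc 3, Int.ofNat 0, Int.negSucc 0, Int.ofNat 0, Int.negSucc 1]) (ZT.leaf [Int.negSucc 1312, Int.negSucc 2283, Int.ofNat 402, Int.negSucc 423, Int.negSucc 13, Int.negSucc 467, Int.negSucc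 59, Int.ofNat 185, Int.ofNat 40, Int.ofNat 0, Int.ofNat 0, Int.ofNat 0, Int.ofNat 7, Int.negSucc 16, Int.ofNat 759, Int.ofNat 21, Int.negSucc 101, Int.ofNat 0, Int.negSucc 417]))))))))))

noncomputable def labT_1 : ZT := (ZT.node 540 (ZT.node 450 (ZT.node 405 (ZT.node 382 (ZT.node 371 (ZT.node 365 (ZT.node 362 (ZT.node 361 (ZT.leaf [Int.negSucc 1803, Int.negSucc 1206, Int.ofNat 437, Int.negSucc 205, Int.negSucc 4, Int.negSucc 312, Int.negSucc 42, Int.ofNat 82, Int.ofNat 12, Int.ofNat 0, Int.ofNat 0, Int.ofNat 0, Int.negSucc 5, Int.negSucc 6, Int.ofNat 412, Int.ofNat 4, Int.negSucc 38, Int.ofNat 0, Int.negSucc 272]) (ZT.leaf [Int.negSucc 1990, Int.negSucc 1161, Int.ofNat 450, Int.negSucc 184, Int.negSucc 4, Int.negSucc 285, Int.negSucc 61, Int.ofNat 114, Int.ofNat 26, Int.ofNat 0, Int.ofNat 0, Int.ofNat 0, Int.negSucc 1, Int.negSucc 2, Int.ofNat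 423, Int.ofNat 3, Int.negSucc 52, Int.ofNat 0, Int.negSucc 272])) (ZT.node 363 (ZT.leaf [Int.ofNat 1639, Int.ofNat 191, Int.negSucc 329, Int.ofNat 4, Int.negSucc 2, Int.ofNat 100, Int.ofNat 33, Int.negSucc 32, Int.negSucc 5, Int.ofNat 0, Int.ofNat 0, Int.ofNat 0, Int.ofNat 7, Int.negSucc 5, Int.negSucc 87, Int.ofNat 7, Int.ofNat 14, Int.ofNat 0, Int.ofNat 108]) (ZT.node 364 (ZT.leaf []) (ZT.leaf [Int.negSucc 0])))) (ZT.node 368 (ZT.node 366 (ZT.leaf [Int.ofNat 686, Int.ofNat 411, Int.negSucc 173, Int.ofNat 73, Int.ofNat 2, Int.ofNat 110, Int.ofNat 11, Int.negSucc 33, Int.negSucc 4, Int.ofNat 0, Int.ofNat 0, Int.ofNat 0, Int.ofNat 0, Int.ofNat 2, Int.negSucc 133, Int.negSucc 1, Int.ofNat 23, Int.ofNat 0, Int.ofNat 99]) (ZT.node 367 (ZT.leaf [Int.negSucc 0, Int.negSucc 0]) (ZT.leaf [Int.negSucc 73, Int.negSucc 6, Int.ofNat 19, Int.negSucc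 0, Int.ofNat 0, Int.negSucc 6, Int.ofNat 0, Int.ofNat 0, Int.negSucc 0, Int.ofNat 0, Int.ofNat 0, Int.ofNat 0, Int.ofNat 0, Int.ofNat 0, Int.negSucc 0, Int.ofNat 0, Int.ofNat 0, Int.ofNat 0, Int.negSucc 4]))) (ZT.node 369 (ZT.leaf [Int.negSucc 418, Int.negSucc 270, Int.ofNat 90, Int.negSucc 40, Int.negSucc 0, Int.negSucc 58, Int.negSucc 10, Int.ofNat 18, Int.ofNat 4, Int.ofNat 0, Int.ofNat 0, Int.ofNat 0, Int.negSucc 1, Int.negSucc 1, Int.ofNat 88, Int.ofNat 2, Int.negSucc 8, Int.ofNat 0, Int.negSucc 57]) (ZT.node 370 (ZT.leaf [Int.negSucc 0]) (ZT.leaf [Int.negSucc 1758, Int.negSucc 177, Int.ofNat 357, Int.ofNat 0, Int.ofNat 3, Int.negSucc 135, Int.negSucc 35, Int.ofNat 34, Int.negSucc 0, Int.ofNat 0, Int.ofNat 0, Int.ofNat 0, Int.negSucc 4, Int.ofNat 6, Int.ofNat 151, Int.negSucc 8, Int.negSucc 15, Int.ofNat 0, Int.negSucc 123]))))) (ZT.node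 376 (ZT.node 373 (ZT.node 372 (ZT.leaf [Int.negSucc 3584, Int.negSucc 4032, Int.ofNat 889, Int.negSucc 695, Int.negSucc 20, Int.negSucc 856, Int.negSucc 146, Int.ofNat 333, Int.ofNat 73, Int.ofNat 1, Int.ofNat 0, Int.ofNat 1, Int.ofNat 3, Int.negSucc 24, Int.ofNat 1364, Int.ofNat 35, Int.negSucc 147, Int.ofNat 1, Int.negSucc 782]) (ZT.leaf [Int.negSucc 0])) (ZT.node 374 (ZT.leaf [Int.ofNat 576, Int.ofNat 413, Int.negSucc 127, Int.ofNat 65, Int.ofNat 0, Int.ofNat 85, Int.ofNat 16, Int.negSucc 25, Int.negSucc 6, Int.ofNat 0, Int.ofNat 0, Int.ofNat 0, Int.ofNat 4, Int.ofNat 3, Int.negSucc 145, Int.negSucc 0, Int.ofNat 7, Int.ofNat 0, Int.ofNat 85]) (ZT.node 375 (ZT.leaf [Int.negSucc 7753, Int.negSucc 4294, Int.ofNat 1770, Int.negSucc 677, Int.negSucc 17, Int.negSucc 1120, Int.negSucc 190, Int.ofNat 368, Int.ofNat 64, Int.ofNat 0, Int.ofNat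 0, Int.ofNat 0, Int.negSucc 15, Int.negSucc 12, Int.ofNat 1566, Int.ofNat 20, Int.negSucc 193, Int.ofNat 0, Int.negSucc 1036]) (ZT.leaf [Int.negSucc 1640, Int.negSucc 190, Int.ofNat 330, Int.negSucc 3, Int.ofNat 3, Int.negSucc 99, Int.negSucc 32, Int.ofNat 33, Int.ofNat 6, Int.ofNat 0, Int.ofNat 0, Int.ofNat 0, Int.negSucc 6, Int.ofNat 6, Int.ofNat 88, Int.negSucc 6, Int.negSucc 13, Int.ofNat 0, Int.negSucc 107])))) (ZT.node 379 (ZT.node 377 (ZT.leaf [Int.ofNat 120, Int.ofNat 132, Int.ofNat 12, Int.ofNat 0, Int.negSucc 0, Int.negSucc 2, Int.ofNat 9, Int.negSucc 7, Int.negSucc 5, Int.ofNat 0, Int.ofNat 0, Int.ofNat 0, Int.ofNat 4, Int.ofNat 0, Int.negSucc 40, Int.ofNat 0, Int.ofNat 3, Int.ofNat 0, Int.ofNat 11]) (ZT.node 378 (ZT.leaf [Int.ofNat 150, Int.ofNat 32, Int.negSucc 44, Int.ofNat 10, Int.ofNat 0, Int.ofNat 21, Int.ofNat 0, Int.negSucc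 2, Int.ofNat 2, Int.ofNat 0, Int.ofNat 0, Int.ofNat 0, Int.ofNat 0, Int.ofNat 0, Int.negSucc 10, Int.ofNat 0, Int.ofNat 2, Int.ofNat 0, Int.ofNat 16]) (ZT.leaf [Int.ofNat 841, Int.ofNat 339, Int.negSucc 147, Int.ofNat 31, Int.ofNat 1, Int.ofNat 64, Int.ofNat 15, Int.negSucc 14, Int.negSucc 3, Int.ofNat 0, Int.ofNat 0, Int.ofNat 0, Int.ofNat 9, Int.ofNat 1, Int.negSucc 121, Int.negSucc 0, Int.ofNat 12, Int.ofNat 0, Int.ofNat 73]))) (ZT.node 380 (ZT.leaf [Int.ofNat 489, Int.ofNat 282, Int.negSucc 103, Int.ofNat 40, Int.ofNat 0, Int.ofNat 69, Int.ofNat 14, Int.negSucc 25, Int.negSucc 3, Int.ofNat 0, Int.ofNat 0, Int.ofNat 0, Int.ofNat 1, Int.ofNat 2, Int.negSucc 104, Int.negSucc 0, Int.ofNat 12, Int.ofNat 0, Int.ofNat 66]) (ZT.node 381 (ZT.leaf [Int.ofNat 343, Int.ofNat 178, Int.negSucc 57, Int.ofNat 19, Int.ofNat 0, Int.ofNat 32, Int.ofNat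 5, Int.negSucc 6, Int.negSucc 1, Int.ofNat 0, Int.ofNat 0, Int.ofNat 0, Int.ofNat 3, Int.ofNat 0, Int.negSucc 47, Int.negSucc 0, Int.ofNat 5, Int.ofNat 0, Int.ofNat 32]) (ZT.leaf [Int.ofNat 274, Int.ofNat 136, Int.negSucc 43, Int.ofNat 11, Int.ofNat 0, Int.ofNat 24, Int.ofNat 3, Int.negSucc 3, Int.negSucc 0, Int.ofNat 0, Int.ofNat 0, Int.ofNat 0, Int.ofNat 3, Int.ofNat 0, Int.negSucc 33, Int.negSucc 0, Int.ofNat 3, Int.ofNat 0, Int.ofNat 24])))))) (ZT.node 393 (ZT.node 387 (ZT.node 384 (ZT.node 383 (ZT.leaf [Int.ofNat 4, Int.ofNat 12, Int.ofNat 5, Int.negSucc 0, Int.ofNat 0, Int.negSucc 2, Int.ofNat 1, Int.ofNat 1, Int.negSucc 0, Int.ofNat 0, Int.ofNat 0, Int.ofNat 0, Int.ofNat 1, Int.ofNat 0, Int.negSucc 3, Int.ofNat 0, Int.negSucc 0, Int.ofNat 0, Int.negSucc 0]) (ZT.leaf [Int.ofNat 4, Int.negSucc 97, Int.ofNat 13, Int.negSucc 23, Int.negSucc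 1, Int.negSucc 21, Int.negSucc 0, Int.ofNat 8, Int.ofNat 2, Int.ofNat 0, Int.ofNat 0, Int.ofNat 0, Int.ofNat 2, Int.ofNat 0, Int.ofNat 23, Int.ofNat 2, Int.ofNat 0, Int.ofNat 0, Int.negSucc 14])) (ZT.node 385 (ZT.leaf [Int.negSucc 527, Int.negSucc 159, Int.ofNat 136, Int.negSucc 30, Int.ofNat 0, Int.negSucc 59, Int.ofNat 2, Int.ofNat 8, Int.negSucc 3, Int.ofNat 0, Int.ofNat 0, Int.ofNat 0, Int.negSucc 0, Int.negSucc 1, Int.ofNat 46, Int.ofNat 0, Int.negSucc 15, Int.ofNat 0, Int.negSucc 53]) (ZT.node 386 (ZT.leaf [Int.ofNat 1010, Int.ofNat 535, Int.negSucc 222, Int.ofNat 82, Int.ofNat 3, Int.ofNat 141, Int.ofNat 28, Int.negSucc 48, Int.negSucc 10, Int.ofNat 0, Int.ofNat 0, Int.ofNat 0, Int.ofNat 2, Int.ofNat 0, Int.negSucc 205, Int.negSucc 0, Int.ofNat 21, Int.ofNat 0, Int.ofNat 130]) (ZT.leaf [Int.ofNat 379, Int.ofNat 260, Int.negSucc 90,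 Int.ofNat 45, Int.ofNat 1, Int.ofNat 66, Int.ofNat 11, Int.negSucc 21, Int.negSucc 3, Int.ofNat 1, Int.ofNat 0, Int.ofNat 0, Int.ofNat 0, Int.ofNat 1, Int.negSucc 84, Int.negSucc 0, Int.ofNat 9, Int.ofNat 0, Int.ofNat 58])))) (ZT.node 390 (ZT.node 388 (ZT.leaf [Int.negSucc 45, Int.negSucc 37, Int.ofNat 11, Int.negSucc 7, Int.ofNat 0, Int.negSucc 7, Int.negSucc 0, Int.ofNat 3, Int.ofNat 1, Int.ofNat 0, Int.ofNat 0, Int.ofNat 0, Int.ofNat 0, Int.ofNat 0, Int.ofNat 14, Int.ofNat 0, Int.negSucc 1, Int.ofNat 0, Int.negSucc 6]) (ZT.node 389 (ZT.leaf [Int.ofNat 466, Int.ofNat 135, Int.negSucc 150, Int.ofNat 44, Int.ofNat 2, Int.ofNat 84, Int.negSucc 0, Int.negSucc 9, Int.ofNat 5, Int.ofNat 0, Int.ofNat 0, Int.ofNat 0, Int.negSucc 2, Int.ofNat 1, Int.negSucc 48, Int.negSucc 0, Int.ofNat 9, Int.ofNat 0, Int.ofNat 59]) (ZT.leaf [Int.negSucc 2, Int.negSucc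 11, Int.negSucc 4, Int.ofNat 1, Int.ofNat 0, Int.ofNat 3, Int.negSucc 0, Int.negSucc 0, Int.ofNat 1, Int.ofNat 0, Int.ofNat 0, Int.ofNat 0, Int.negSucc 0, Int.ofNat 0, Int.ofNat 4, Int.ofNat 0, Int.ofNat 1, Int.ofNat 0, Int.ofNat 1]))) (ZT.node 391 (ZT.leaf []) (ZT.node 392 (ZT.leaf [Int.negSucc 0]) (ZT.leaf [Int.ofNat 88, Int.ofNat 31, Int.negSucc 12, Int.ofNat 2, Int.ofNat 0, Int.ofNat 4, Int.ofNat 2, Int.ofNat 2, Int.negSucc 0, Int.ofNat 0, Int.ofNat 0, Int.ofNat 0, Int.ofNat 2, Int.ofNat 0, Int.negSucc 7, Int.ofNat 0, Int.ofNat 0, Int.ofNat 0, Int.ofNat 6]))))) (ZT.node 399 (ZT.node 396 (ZT.node 394 (ZT.leaf [Int.ofNat 1153, Int.ofNat 2827, Int.negSucc 359, Int.ofNat 541, Int.ofNat 20, Int.ofNat 517, Int.ofNat 82, Int.negSucc 247, Int.negSucc 56, Int.ofNat 0, Int.ofNat 0, Int.ofNat 0, Int.negSucc 12, Int.ofNat 9, Int.negSucc 897, Int.negSucc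 31, Int.ofNat 85, Int.ofNat 0, Int.ofNat 471]) (ZT.node 395 (ZT.leaf [Int.negSucc 6553, Int.negSucc 1162, Int.ofNat 1457, Int.negSucc 112, Int.ofNat 5, Int.negSucc 604, Int.negSucc 61, Int.ofNat 53, Int.negSucc 25, Int.ofNat 0, Int.ofNat 0, Int.ofNat 0, Int.negSucc 28, Int.negSucc 9, Int.ofNat 482, Int.negSucc 10, Int.negSucc 81, Int.ofNat 0, Int.negSucc 529]) (ZT.leaf [Int.negSucc 0]))) (ZT.node 397 (ZT.leaf [Int.negSucc 726, Int.negSucc 437, Int.ofNat 152, Int.negSucc 64, Int.negSucc 1, Int.negSucc 94, Int.negSucc 24, Int.ofNat 47, Int.ofNat 14, Int.ofNat 0, Int.ofNat 0, Int.ofNat 0, Int.negSucc 4, Int.ofNat 1, Int.ofNat 223, Int.negSucc 1, Int.negSucc 33, Int.ofNat 0, Int.negSucc 105]) (ZT.node 398 (ZT.leaf [Int.negSucc 6420, Int.negSucc 3355, Int.ofNat 1496, Int.negSucc 539, Int.negSucc 11, Int.negSucc 922, Int.negSucc 122, Int.ofNat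 252, Int.ofNat 29, Int.ofNat 0, Int.ofNat 0, Int.ofNat 0, Int.negSucc 15, Int.negSucc 15, Int.ofNat 1157, Int.ofNat 17, Int.negSucc 139, Int.ofNat 0, Int.negSucc 832]) (ZT.leaf [Int.ofNat 5269, Int.ofNat 530, Int.negSucc 1135, Int.negSucc 0, Int.negSucc 7, Int.ofNat 406, Int.ofNat 41, Int.negSucc 3, Int.ofNat 28, Int.ofNat 0, Int.ofNat 0, Int.ofNat 0, Int.ofNat 29, Int.ofNat 7, Int.negSucc 258, Int.ofNat 15, Int.ofNat 55, Int.ofNat 0, Int.ofNat 362])))) (ZT.node 402 (ZT.node 400 (ZT.leaf [Int.negSucc 0]) (ZT.node 401 (ZT.leaf [Int.negSucc 2827, Int.negSucc 884, Int.ofNat 688, Int.negSucc 155, Int.negSucc 3, Int.negSucc 362, Int.negSucc 40, Int.ofNat 71, Int.negSucc 4, Int.ofNat 0, Int.ofNat 0, Int.ofNat 0, Int.negSucc 1, Int.negSucc 1, Int.ofNat 332, Int.negSucc 1, Int.negSucc 43, Int.ofNat 0, Int.negSucc 299]) (ZT.leaf [Int.negSucc 0])))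 (ZT.node 403 (ZT.leaf []) (ZT.node 404 (ZT.leaf [Int.negSucc 7, Int.ofNat 10, Int.ofNat 6, Int.ofNat 0, Int.ofNat 0, Int.negSucc 0, Int.ofNat 0, Int.negSucc 0, Int.negSucc 0, Int.ofNat 0, Int.ofNat 0, Int.ofNat 0, Int.ofNat 0, Int.ofNat 0, Int.negSucc 1, Int.ofNat 0, Int.ofNat 0, Int.ofNat 0, Int.negSucc 0]) (ZT.leaf [Int.negSucc 0]))))))) (ZT.node 427 (ZT.node 416 (ZT.node 410 (ZT.node 407 (ZT.node 406 (ZT.leaf [Int.negSucc 1, Int.negSucc 0]) (ZT.leaf [])) (ZT.node 408 (ZT.leaf []) (ZT.node 409 (ZT.leaf []) (ZT.leaf [])))) (ZT.node 413 (ZT.node 411 (ZT.leaf [Int.negSucc 2297, Int.negSucc 782, Int.ofNat 533, Int.negSucc 124, Int.negSucc 1, Int.negSucc 253, Int.negSucc 28, Int.ofNat 55, Int.ofNat 4, Int.ofNat 0, Int.ofNat 0, Int.ofNat 0, Int.negSucc 7, Int.ofNat 0, Int.ofNat 331, Int.negSucc 3, Int.negSucc 55, Int.ofNat 0, Int.negSucc 235])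 (ZT.node 412 (ZT.leaf [Int.negSucc 459, Int.negSucc 221, Int.ofNat 114, Int.negSucc 38, Int.negSucc 1, Int.negSucc 74, Int.negSucc 7, Int.ofNat 19, Int.negSucc 0, Int.ofNat 0, Int.ofNat 0, Int.ofNat 0, Int.ofNat 2, Int.negSucc 1, Int.ofNat 69, Int.ofNat 2, Int.negSucc 6, Int.ofNat 0, Int.negSucc 58]) (ZT.leaf []))) (ZT.node 414 (ZT.leaf [Int.negSucc 2091, Int.negSucc 695, Int.ofNat 505, Int.negSucc 118, Int.negSucc 2, Int.negSucc 252, Int.negSucc 25, Int.ofNat 52, Int.ofNat 0, Int.ofNat 0, Int.ofNat 0, Int.ofNat 0, Int.negSucc 2, Int.ofNat 0, Int.ofNat 285, Int.negSucc 1, Int.negSucc 45, Int.ofNat 0, Int.negSucc 220]) (ZT.node 415 (ZT.leaf [Int.ofNat 21, Int.ofNat 8, Int.negSucc 5, Int.ofNat 3, Int.ofNat 0, Int.ofNat 3, Int.ofNat 0, Int.negSucc 0, Int.ofNat 0, Int.ofNat 0, Int.ofNat 0, Int.ofNat 0, Int.ofNat 0, Int.ofNat 0, Int.negSucc 6,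 Int.ofNat 0, Int.ofNat 1, Int.ofNat 0, Int.ofNat 2]) (ZT.leaf [Int.ofNat 12, Int.negSucc 7, Int.negSucc 5, Int.ofNat 0, Int.ofNat 0, Int.ofNat 1, Int.ofNat 0, Int.ofNat 1, Int.ofNat 1, Int.ofNat 0, Int.ofNat 0, Int.ofNat 0, Int.ofNat 0, Int.ofNat 0, Int.ofNat 2, Int.ofNat 0, Int.ofNat 0, Int.ofNat 0, Int.ofNat 1]))))) (ZT.node 421 (ZT.node 418 (ZT.node 417 (ZT.leaf []) (ZT.leaf [Int.negSucc 3, Int.ofNat 0, Int.ofNat 1, Int.ofNat 0, Int.ofNat 0, Int.ofNat 0, Int.ofNat 0, Int.ofNat 0, Int.ofNat 0, Int.ofNat 0, Int.ofNat 0, Int.ofNat 0, Int.ofNat 0, Int.ofNat 0, Int.negSucc 1, Int.ofNat 0, Int.ofNat 0, Int.ofNat 0, Int.ofNat 1])) (ZT.node 419 (ZT.leaf [Int.negSucc 157, Int.negSucc 11, Int.ofNat 45, Int.negSucc 4, Int.ofNat 0, Int.negSucc 17, Int.ofNat 2, Int.ofNat 1, Int.negSucc 1, Int.ofNat 0, Int.ofNat 0, Int.ofNat 0, Int.ofNat 0, Int.ofNat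 0, Int.ofNat 6, Int.ofNat 0, Int.negSucc 5, Int.ofNat 0, Int.negSucc 13]) (ZT.node 420 (ZT.leaf [Int.negSucc 2295, Int.negSucc 1782, Int.ofNat 524, Int.negSucc 288, Int.negSucc 5, Int.negSucc 404, Int.negSucc 74, Int.ofNat 141, Int.ofNat 29, Int.ofNat 0, Int.ofNat 0, Int.ofNat 0, Int.negSucc 5, Int.negSucc 7, Int.ofNat 592, Int.ofNat 10, Int.negSucc 47, Int.ofNat 0, Int.negSucc 373]) (ZT.leaf [Int.ofNat 19409, Int.ofNat 5276, Int.negSucc 4361, Int.ofNat 728, Int.negSucc 0, Int.ofNat 2035, Int.ofNat 248, Int.negSucc 362, Int.ofNat 20, Int.negSucc 0, Int.ofNat 1, Int.ofNat 0, Int.ofNat 70, Int.ofNat 21, Int.negSucc 2054, Int.ofNat 15, Int.ofNat 298, Int.ofNat 0, Int.ofNat 1816])))) (ZT.node 424 (ZT.node 422 (ZT.leaf [Int.negSucc 712, Int.negSucc 378, Int.ofNat 205, Int.negSucc 79, Int.negSucc 0, Int.negSucc 130, Int.negSucc 4, Int.ofNat 21,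 Int.negSucc 3, Int.ofNat 0, Int.ofNat 0, Int.ofNat 0, Int.ofNat 1, Int.negSucc 3, Int.ofNat 106, Int.ofNat 3, Int.negSucc 11, Int.ofNat 0, Int.negSucc 102]) (ZT.node 423 (ZT.leaf [Int.negSucc 0]) (ZT.leaf []))) (ZT.node 425 (ZT.leaf [Int.ofNat 9865, Int.ofNat 5938, Int.negSucc 2378, Int.ofNat 1004, Int.ofNat 27, Int.ofNat 1596, Int.ofNat 208, Int.negSucc 466, Int.negSucc 59, Int.ofNat 0, Int.ofNat 0, Int.ofNat 0, Int.ofNat 10, Int.ofNat 28, Int.negSucc 2025, Int.negSucc 34, Int.ofNat 254, Int.ofNat 0, Int.ofNat 1411]) (ZT.node 426 (ZT.leaf []) (ZT.leaf [])))))) (ZT.node 438 (ZT.node 432 (ZT.node 429 (ZT.node 428 (ZT.leaf [Int.negSucc 0]) (ZT.leaf [Int.negSucc 503, Int.negSucc 131, Int.ofNat 123, Int.negSucc 22, Int.ofNat 0, Int.negSucc 56, Int.negSucc 1, Int.ofNat 8, Int.negSucc 1, Int.ofNat 0, Int.ofNat 0, Int.ofNat 0, Int.negSucc 0, Int.negSucc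 0, Int.ofNat 38, Int.ofNat 0, Int.negSucc 9, Int.ofNat 0, Int.negSucc 48])) (ZT.node 430 (ZT.leaf []) (ZT.node 431 (ZT.leaf [Int.ofNat 2522, Int.ofNat 883, Int.negSucc 615, Int.ofNat 154, Int.ofNat 6, Int.ofNat 322, Int.ofNat 24, Int.negSucc 55, Int.ofNat 4, Int.ofNat 0, Int.ofNat 0, Int.ofNat 0, Int.ofNat 4, Int.ofNat 3, Int.negSucc 300, Int.negSucc 1, Int.ofNat 42, Int.ofNat 0, Int.ofNat 268]) (ZT.leaf [Int.ofNat 2209, Int.ofNat 966, Int.negSucc 556, Int.ofNat 183, Int.ofNat 7, Int.ofNat 320, Int.ofNat 33, Int.negSucc 74, Int.negSucc 3, Int.ofNat 0, Int.ofNat 0, Int.ofNat 0, Int.ofNat 1, Int.ofNat 2, Int.negSucc 358, Int.negSucc 1, Int.ofNat 38, Int.ofNat 0, Int.ofNat 272])))) (ZT.node 435 (ZT.node 433 (ZT.leaf []) (ZT.node 434 (ZT.leaf [Int.ofNat 3447, Int.ofNat 2055, Int.negSucc 872, Int.ofNat 362, Int.ofNat 11, Int.ofNat 552, Int.ofNat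 20, Int.negSucc 109, Int.ofNat 1, Int.ofNat 1, Int.ofNat 0, Int.ofNat 1, Int.ofNat 6, Int.ofNat 18, Int.negSucc 534, Int.negSucc 18, Int.ofNat 97, Int.ofNat 1, Int.ofNat 478]) (ZT.leaf [Int.negSucc 112, Int.ofNat 16, Int.ofNat 25, Int.ofNat 3, Int.ofNat 0, Int.negSucc 1, Int.ofNat 2, Int.negSucc 5, Int.negSucc 1, Int.ofNat 0, Int.ofNat 0, Int.ofNat 0, Int.ofNat 0, Int.ofNat 0, Int.negSucc 19, Int.ofNat 0, Int.ofNat 3, Int.ofNat 0, Int.negSucc 1]))) (ZT.node 436 (ZT.leaf []) (ZT.node 437 (ZT.leaf [Int.negSucc 492, Int.negSucc 334, Int.ofNat 146, Int.negSucc 64, Int.ofNat 0, Int.negSucc 105, Int.negSucc 15, Int.ofNat 38, Int.ofNat 5, Int.ofNat 0, Int.ofNat 0, Int.ofNat 0, Int.ofNat 2, Int.ofNat 0, Int.ofNat 123, Int.ofNat 1, Int.negSucc 14, Int.ofNat 0, Int.negSucc 91]) (ZT.leaf [Int.negSucc 574, Int.negSucc 262, Int.ofNat 122, Int.negSucc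 35, Int.negSucc 0, Int.negSucc 68, Int.negSucc 11, Int.ofNat 20, Int.ofNat 2, Int.ofNat 0, Int.ofNat 0, Int.ofNat 0, Int.negSucc 0, Int.negSucc 1, Int.ofNat 84, Int.ofNat 1, Int.negSucc 8, Int.ofNat 0, Int.negSucc 65]))))) (ZT.node 444 (ZT.node 441 (ZT.node 439 (ZT.leaf [Int.negSucc 0, Int.negSucc 4, Int.negSucc 0, Int.ofNat 0, Int.ofNat 0, Int.ofNat 0, Int.negSucc 0]) (ZT.node 440 (ZT.leaf [Int.negSucc 399, Int.negSucc 195, Int.ofNat 82, Int.negSucc 26, Int.negSucc 0, Int.negSucc 46, Int.negSucc 7, Int.ofNat 14, Int.ofNat 2, Int.ofNat 0, Int.ofNat 0, Int.ofNat 0, Int.negSucc 0, Int.negSucc 0, Int.ofNat 55, Int.ofNat 1, Int.negSucc 5, Int.ofNat 0, Int.negSucc 43]) (ZT.leaf [Int.ofNat 574, Int.ofNat 263, Int.negSucc 121, Int.ofNat 36, Int.ofNat 1, Int.ofNat 69, Int.ofNat 12, Int.negSucc 19, Int.negSucc 1, Int.ofNat 0, Int.ofNat 0, Int.ofNat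 0, Int.ofNat 1, Int.ofNat 2, Int.negSucc 83, Int.negSucc 0, Int.ofNat 9, Int.ofNat 0, Int.ofNat 66]))) (ZT.node 442 (ZT.leaf []) (ZT.node 443 (ZT.leaf []) (ZT.leaf [])))) (ZT.node 447 (ZT.node 445 (ZT.leaf [Int.ofNat 157, Int.ofNat 12, Int.negSucc 44, Int.ofNat 5, Int.ofNat 0, Int.ofNat 18, Int.negSucc 1, Int.negSucc 0, Int.ofNat 2, Int.ofNat 0, Int.ofNat 0, Int.ofNat 0, Int.ofNat 0, Int.ofNat 0, Int.negSucc 5, Int.ofNat 0, Int.ofNat 6, Int.ofNat 0, Int.ofNat 14]) (ZT.node 446 (ZT.leaf [Int.negSucc 0]) (ZT.leaf [Int.negSucc 184, Int.negSucc 73, Int.ofNat 53, Int.negSucc 15, Int.negSucc 0, Int.negSucc 28, Int.ofNat 0, Int.ofNat 7, Int.ofNat 0, Int.ofNat 0, Int.ofNat 0, Int.ofNat 0, Int.ofNat 0, Int.negSucc 0, Int.ofNat 24, Int.ofNat 1, Int.negSucc 8, Int.ofNat 0, Int.negSucc 23]))) (ZT.node 448 (ZT.leaf [Int.ofNat 1, Int.ofNat 0, Int.ofNat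 0, Int.ofNat 0, Int.ofNat 0, Int.ofNat 1]) (ZT.node 449 (ZT.leaf [Int.negSucc 0]) (ZT.leaf [])))))))) (ZT.node 495 (ZT.node 472 (ZT.node 461 (ZT.node 455 (ZT.node 452 (ZT.node 451 (ZT.leaf [Int.negSucc 19133, Int.negSucc 6435, Int.ofNat 4384, Int.negSucc 965, Int.negSucc 20, Int.negSucc 2224, Int.negSucc 252, Int.ofNat 493, Int.ofNat 17, Int.negSucc 0, Int.ofNat 1, Int.ofNat 0, Int.negSucc 45, Int.negSucc 19, Int.ofNat 2353, Int.negSucc 6, Int.negSucc 398, Int.ofNat 0, Int.negSucc 1971]) (ZT.leaf [])) (ZT.node 453 (ZT.leaf []) (ZT.node 454 (ZT.leaf [Int.ofNat 637, Int.ofNat 343, Int.negSucc 181, Int.ofNat 67, Int.ofNat 0, Int.ofNat 117, Int.ofNat 14, Int.negSucc 34, Int.negSucc 2, Int.ofNat 0, Int.ofNat 0, Int.ofNat 0, Int.negSucc 0, Int.ofNat 0, Int.negSucc 116, Int.negSucc 0, Int.ofNat 16, Int.ofNat 0, Int.ofNat 100]) (ZT.leaf [Int.negSucc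 10816, Int.negSucc 2625, Int.ofNat 2391, Int.negSucc 319, Int.negSucc 8, Int.negSucc 1043, Int.negSucc 126, Int.ofNat 207, Int.negSucc 0, Int.ofNat 0, Int.ofNat 0, Int.ofNat 0, Int.negSucc 29, Int.negSucc 9, Int.ofNat 1111, Int.negSucc 19, Int.negSucc 239, Int.ofNat 0, Int.negSucc 961])))) (ZT.node 458 (ZT.node 456 (ZT.leaf [Int.negSucc 7311, Int.negSucc 5131, Int.ofNat 1843, Int.negSucc 919, Int.negSucc 20, Int.negSucc 1299, Int.negSucc 138, Int.ofNat 387, Int.ofNat 43, Int.ofNat 0, Int.ofNat 0, Int.ofNat 0, Int.ofNat 1, Int.negSucc 24, Int.ofNat 1645, Int.ofNat 37, Int.negSucc 204, Int.ofNat 0, Int.negSucc 1138]) (ZT.node 457 (ZT.leaf [Int.ofNat 517, Int.ofNat 341, Int.negSucc 148, Int.ofNat 64, Int.ofNat 0, Int.ofNat 106, Int.ofNat 16, Int.negSucc 36, Int.negSucc 4, Int.ofNat 0, Int.ofNat 0, Int.ofNat 0, Int.negSucc 1, Int.ofNat 0, Int.negSucc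 123, Int.negSucc 0, Int.ofNat 15, Int.ofNat 0, Int.ofNat 92]) (ZT.leaf [Int.negSucc 0, Int.ofNat 0, Int.ofNat 0, Int.ofNat 0, Int.ofNat 0, Int.ofNat 0, Int.ofNat 0, Int.ofNat 0, Int.ofNat 0, Int.ofNat 0, Int.ofNat 0, Int.ofNat 0, Int.ofNat 0, Int.ofNat 0, Int.ofNat 0, Int.ofNat 0, Int.ofNat 0, Int.ofNat 0, Int.ofNat 0]))) (ZT.node 459 (ZT.leaf [Int.ofNat 3]) (ZT.node 460 (ZT.leaf [Int.negSucc 235, Int.negSucc 119, Int.ofNat 49, Int.negSucc 16, Int.negSucc 0, Int.negSucc 26, Int.ofNat 0, Int.ofNat 0, Int.negSucc 1, Int.ofNat 0, Int.ofNat 0, Int.ofNat 0, Int.negSucc 0, Int.negSucc 1, Int.ofNat 16, Int.ofNat 2, Int.ofNat 0, Int.ofNat 0, Int.negSucc 21]) (ZT.leaf [Int.negSucc 1989, Int.negSucc 1635, Int.ofNat 509, Int.negSucc 295, Int.negSucc 7, Int.negSucc 397, Int.negSucc 55, Int.ofNat 142, Int.ofNat 24, Int.ofNat 0, Int.ofNat 0, Int.ofNat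 0, Int.ofNat 4, Int.negSucc 3, Int.ofNat 568, Int.ofNat 8, Int.negSucc 68, Int.ofNat 0, Int.negSucc 352]))))) (ZT.node 466 (ZT.node 463 (ZT.node 462 (ZT.leaf [Int.negSucc 0]) (ZT.leaf [Int.negSucc 6800, Int.negSucc 4604, Int.ofNat 1623, Int.negSucc 780, Int.negSucc 22, Int.negSucc 1116, Int.negSucc 134, Int.ofNat 350, Int.ofNat 55, Int.ofNat 0, Int.ofNat 0, Int.ofNat 0, Int.negSucc 9, Int.negSucc 16, Int.ofNat 1527, Int.ofNat 29, Int.negSucc 193, Int.ofNat 0, Int.negSucc 1009])) (ZT.node 464 (ZT.leaf [Int.negSucc 5640, Int.negSucc 3019, Int.ofNat 1326, Int.negSucc 502, Int.negSucc 14, Int.negSucc 810, Int.negSucc 87, Int.ofNat 226, Int.ofNat 26, Int.ofNat 0, Int.ofNat 0, Int.ofNat 0, Int.negSucc 6, Int.negSucc 8, Int.ofNat 996, Int.ofNat 11, Int.negSucc 154, Int.ofNat 0, Int.negSucc 724]) (ZT.node 465 (ZT.leaf []) (ZT.leaf [Int.ofNat 250,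 Int.ofNat 84, Int.negSucc 56, Int.ofNat 14, Int.ofNat 1, Int.ofNat 21, Int.ofNat 1, Int.negSucc 2, Int.negSucc 0, Int.ofNat 0, Int.ofNat 0, Int.ofNat 0, Int.ofNat 2, Int.ofNat 0, Int.negSucc 33, Int.ofNat 0, Int.ofNat 6, Int.ofNat 0, Int.ofNat 22])))) (ZT.node 469 (ZT.node 467 (ZT.leaf [Int.ofNat 330, Int.ofNat 236, Int.negSucc 58, Int.ofNat 29, Int.ofNat 2, Int.ofNat 48, Int.ofNat 19, Int.negSucc 33, Int.negSucc 9, Int.ofNat 0, Int.ofNat 0, Int.ofNat 0, Int.negSucc 0, Int.negSucc 0, Int.negSucc 118, Int.negSucc 0, Int.ofNat 14, Int.ofNat 0, Int.ofNat 48]) (ZT.node 468 (ZT.leaf []) (ZT.leaf [Int.ofNat 51, Int.ofNat 1014, Int.negSucc 67, Int.ofNat 212, Int.ofNat 9, Int.ofNat 146, Int.negSucc 6, Int.negSucc 63, Int.negSucc 15, Int.ofNat 0, Int.ofNat 0, Int.ofNat 0, Int.negSucc 4, Int.ofNat 2, Int.negSucc 250, Int.negSucc 10, Int.ofNat 40,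 Int.ofNat 0, Int.ofNat 129]))) (ZT.node 470 (ZT.leaf []) (ZT.node 471 (ZT.leaf [Int.ofNat 503, Int.ofNat 112, Int.negSucc 123, Int.ofNat 23, Int.ofNat 0, Int.ofNat 48, Int.negSucc 9, Int.ofNat 13, Int.ofNat 10, Int.ofNat 0, Int.ofNat 0, Int.ofNat 0, Int.ofNat 3, Int.ofNat 3, Int.ofNat 10, Int.negSucc 2, Int.ofNat 3, Int.ofNat 0, Int.ofNat 35]) (ZT.leaf [Int.negSucc 100, Int.negSucc 107, Int.negSucc 10, Int.negSucc 2, Int.negSucc 1, Int.ofNat 15, Int.negSucc 12, Int.ofNat 14, Int.ofNat 11, Int.ofNat 0, Int.ofNat 0, Int.ofNat 0, Int.negSucc 3, Int.ofNat 2, Int.ofNat 60, Int.ofNat 0, Int.negSucc 5, Int.ofNat 0, Int.negSucc 5])))))) (ZT.node 483 (ZT.node 477 (ZT.node 474 (ZT.node 473 (ZT.leaf [Int.negSucc 14246, Int.negSucc 1470, Int.ofNat 2744, Int.ofNat 73, Int.negSucc 5, Int.negSucc 773, Int.negSucc 233, Int.ofNat 131, Int.ofNat 46, Int.negSucc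 2, Int.ofNat 3, Int.ofNat 1, Int.negSucc 95, Int.ofNat 18, Int.ofNat 1464, Int.negSucc 70, Int.negSucc 212, Int.ofNat 2, Int.negSucc 884]) (ZT.leaf [Int.ofNat 9256, Int.ofNat 892, Int.negSucc 1841, Int.negSucc 35, Int.negSucc 0, Int.ofNat 480, Int.ofNat 120, Int.negSucc 19, Int.negSucc 9, Int.ofNat 3, Int.negSucc 1, Int.negSucc 0, Int.ofNat 75, Int.negSucc 3, Int.negSucc 1057, Int.ofNat 39, Int.ofNat 122, Int.negSucc 1, Int.ofNat 565])) (ZT.node 475 (ZT.leaf [Int.ofNat 25060, Int.ofNat 12681, Int.negSucc 5786, Int.ofNat 2031, Int.ofNat 60, Int.ofNat 3495, Int.ofNat 466, Int.negSucc 1045, Int.negSucc 144, Int.ofNat 1, Int.negSucc 0, Int.ofNat 1, Int.ofNat 42, Int.ofNat 40, Int.negSucc 4425, Int.negSucc 30, Int.ofNat 665, Int.ofNat 1, Int.ofNat 3166]) (ZT.node 476 (ZT.leaf []) (ZT.leaf [Int.negSucc 0])))) (ZT.node 480 (ZT.node 478 (ZT.leaf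 [Int.negSucc 64, Int.negSucc 50, Int.ofNat 8, Int.negSucc 1, Int.ofNat 0, Int.negSucc 15, Int.negSucc 11, Int.ofNat 20, Int.ofNat 7, Int.ofNat 0, Int.ofNat 0, Int.ofNat 0, Int.ofNat 1, Int.ofNat 2, Int.ofNat 56, Int.negSucc 2, Int.negSucc 6, Int.ofNat 0, Int.negSucc 18]) (ZT.node 479 (ZT.leaf [Int.ofNat 314, Int.ofNat 164, Int.negSucc 33, Int.ofNat 9, Int.ofNat 1, Int.ofNat 15, Int.ofNat 14, Int.negSucc 14, Int.negSucc 7, Int.ofNat 0, Int.ofNat 0, Int.ofNat 0, Int.ofNat 4, Int.negSucc 0, Int.negSucc 64, Int.ofNat 0, Int.ofNat 6, Int.ofNat 0, Int.ofNat 27]) (ZT.leaf [Int.negSucc 443, Int.negSucc 204, Int.ofNat 83, Int.negSucc 20, Int.negSucc 0, Int.negSucc 45, Int.negSucc 13, Int.ofNat 21, Int.ofNat 7, Int.ofNat 0, Int.ofNat 0, Int.ofNat 0, Int.negSucc 2, Int.ofNat 1, Int.ofNat 96, Int.ofNat 1, Int.negSucc 14, Int.ofNat 0, Int.negSucc 49])))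 (ZT.node 481 (ZT.leaf [Int.negSucc 0]) (ZT.node 482 (ZT.leaf [Int.negSucc 240, Int.negSucc 93, Int.ofNat 50, Int.negSucc 12, Int.ofNat 0, Int.negSucc 24, Int.negSucc 2, Int.ofNat 7, Int.ofNat 1, Int.ofNat 0, Int.ofNat 0, Int.ofNat 0, Int.negSucc 0, Int.ofNat 0, Int.ofNat 31, Int.ofNat 0, Int.negSucc 5, Int.ofNat 0, Int.negSucc 23]) (ZT.leaf [Int.negSucc 22, Int.negSucc 12, Int.ofNat 24, Int.negSucc 11, Int.negSucc 0, Int.negSucc 21, Int.negSucc 1, Int.ofNat 4, Int.negSucc 2, Int.ofNat 0, Int.ofNat 0, Int.ofNat 0, Int.ofNat 4, Int.negSucc 0, Int.negSucc 1, Int.ofNat 1, Int.ofNat 4, Int.ofNat 0, Int.negSucc 10]))))) (ZT.node 489 (ZT.node 486 (ZT.node 484 (ZT.leaf []) (ZT.node 485 (ZT.leaf []) (ZT.leaf []))) (ZT.node 487 (ZT.leaf [Int.negSucc 33, Int.negSucc 4, Int.ofNat 12, Int.negSucc 1, Int.ofNat 0, Int.negSucc 3, Int.ofNat 0, Int.ofNat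 1, Int.ofNat 0, Int.ofNat 0, Int.ofNat 0, Int.ofNat 0, Int.ofNat 0, Int.ofNat 0, Int.ofNat 4, Int.ofNat 0, Int.negSucc 0, Int.ofNat 0, Int.negSucc 3]) (ZT.node 488 (ZT.leaf [Int.negSucc 91, Int.negSucc 15, Int.ofNat 29, Int.negSucc 6, Int.ofNat 0, Int.negSucc 13, Int.negSucc 0, Int.ofNat 3, Int.negSucc 0, Int.ofNat 0, Int.ofNat 0, Int.ofNat 0, Int.ofNat 1, Int.ofNat 0, Int.ofNat 7, Int.ofNat 0, Int.negSucc 1, Int.ofNat 0, Int.negSucc 10]) (ZT.leaf [])))) (ZT.node 492 (ZT.node 490 (ZT.leaf [Int.negSucc 0]) (ZT.node 491 (ZT.leaf [Int.ofNat 8, Int.ofNat 3, Int.negSucc 0, Int.ofNat 0, Int.negSucc 0, Int.ofNat 0, Int.ofNat 0, Int.negSucc 0, Int.ofNat 0, Int.ofNat 0, Int.ofNat 0, Int.ofNat 0, Int.ofNat 0, Int.ofNat 0, Int.ofNat 0, Int.ofNat 0, Int.ofNat 0, Int.ofNat 0, Int.ofNat 0]) (ZT.leaf []))) (ZT.node 493 (ZT.leaf [Int.negSucc 4, Int.negSucc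 2, Int.ofNat 1, Int.ofNat 0, Int.ofNat 0, Int.ofNat 0, Int.ofNat 0, Int.ofNat 1, Int.ofNat 0, Int.ofNat 0, Int.ofNat 0, Int.ofNat 0, Int.ofNat 0, Int.ofNat 0, Int.ofNat 0, Int.ofNat 0, Int.ofNat 0, Int.ofNat 0, Int.ofNat 0]) (ZT.node 494 (ZT.leaf [Int.negSucc 0]) (ZT.leaf []))))))) (ZT.node 517 (ZT.node 506 (ZT.node 500 (ZT.node 497 (ZT.node 496 (ZT.leaf [Int.negSucc 0]) (ZT.leaf [])) (ZT.node 498 (ZT.leaf [Int.ofNat 16, Int.negSucc 10, Int.negSucc 7, Int.ofNat 0, Int.ofNat 0, Int.ofNat 1, Int.ofNat 0, Int.ofNat 0, Int.ofNat 1, Int.negSucc 0, Int.ofNat 0, Int.ofNat 0, Int.ofNat 0, Int.ofNat 0, Int.ofNat 7, Int.ofNat 0, Int.negSucc 1, Int.ofNat 0, Int.negSucc 0]) (ZT.node 499 (ZT.leaf [Int.ofNat 4, Int.ofNat 3, Int.ofNat 1, Int.ofNat 0, Int.ofNat 0, Int.ofNat 0, Int.ofNat 0, Int.ofNat 0, Int.ofNat 0, Int.ofNat 1, Int.ofNat 0, Int.ofNat 0,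 Int.ofNat 0, Int.ofNat 0, Int.ofNat 0, Int.ofNat 0, Int.ofNat 0, Int.ofNat 0, Int.ofNat 0]) (ZT.leaf [Int.ofNat 4, Int.ofNat 2, Int.negSucc 0, Int.ofNat 0, Int.ofNat 0, Int.ofNat 0, Int.ofNat 0, Int.negSucc 0, Int.ofNat 0, Int.ofNat 0, Int.ofNat 0, Int.ofNat 0, Int.ofNat 0, Int.ofNat 0, Int.ofNat 0, Int.ofNat 0, Int.ofNat 0, Int.ofNat 0, Int.ofNat 0])))) (ZT.node 503 (ZT.node 501 (ZT.leaf []) (ZT.node 502 (ZT.leaf [Int.negSucc 0]) (ZT.leaf [Int.negSucc 0, Int.ofNat 0, Int.ofNat 0, Int.ofNat 0, Int.ofNat 1]))) (ZT.node 504 (ZT.leaf []) (ZT.node 505 (ZT.leaf [Int.negSucc 1, Int.negSucc 0, Int.ofNat 0, Int.ofNat 0, Int.ofNat 1]) (ZT.leaf []))))) (ZT.node 511 (ZT.node 508 (ZT.node 507 (ZT.leaf []) (ZT.leaf [Int.ofNat 149, Int.ofNat 47, Int.negSucc 41, Int.ofNat 13, Int.ofNat 0, Int.ofNat 29, Int.ofNat 3, Int.negSucc 7, Int.ofNat 1, Int.ofNat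 0, Int.ofNat 0, Int.ofNat 0, Int.negSucc 1, Int.ofNat 0, Int.negSucc 1, Int.negSucc 0, Int.ofNat 6, Int.ofNat 0, Int.ofNat 19])) (ZT.node 509 (ZT.leaf [Int.negSucc 254, Int.negSucc 139, Int.ofNat 59, Int.negSucc 21, Int.negSucc 1, Int.negSucc 37, Int.negSucc 3, Int.ofNat 11, Int.ofNat 2, Int.ofNat 0, Int.ofNat 0, Int.ofNat 0, Int.ofNat 0, Int.ofNat 0, Int.ofNat 47, Int.ofNat 1, Int.negSucc 6, Int.ofNat 0, Int.negSucc 32]) (ZT.node 510 (ZT.leaf [Int.negSucc 2164, Int.negSucc 1121, Int.ofNat 507, Int.negSucc 183, Int.negSucc 3, Int.negSucc 314, Int.negSucc 42, Int.ofNat 84, Int.ofNat 10, Int.ofNat 0, Int.ofNat 0, Int.ofNat 0, Int.negSucc 4, Int.negSucc 5, Int.ofNat 395, Int.ofNat 5, Int.negSucc 44, Int.ofNat 0, Int.negSucc 279]) (ZT.leaf [Int.ofNat 977, Int.ofNat 600, Int.negSucc 228, Int.ofNat 100, Int.ofNat 2, Int.ofNat 152, Int.ofNat 23,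 Int.negSucc 44, Int.negSucc 7, Int.ofNat 0, Int.ofNat 0, Int.ofNat 0, Int.ofNat 2, Int.ofNat 3, Int.negSucc 194, Int.negSucc 2, Int.ofNat 20, Int.ofNat 0, Int.ofNat 137])))) (ZT.node 514 (ZT.node 512 (ZT.leaf [Int.ofNat 3672, Int.ofNat 1345, Int.negSucc 877, Int.ofNat 226, Int.ofNat 8, Int.ofNat 451, Int.ofNat 51, Int.negSucc 115, Int.negSucc 7, Int.ofNat 0, Int.ofNat 0, Int.ofNat 0, Int.ofNat 2, Int.ofNat 2, Int.negSucc 459, Int.negSucc 1, Int.ofNat 79, Int.negSucc 0, Int.ofNat 399]) (ZT.node 513 (ZT.leaf [Int.negSucc 0]) (ZT.leaf []))) (ZT.node 515 (ZT.leaf [Int.negSucc 0]) (ZT.node 516 (ZT.leaf [Int.ofNat 823, Int.ofNat 540, Int.negSucc 227, Int.ofNat 101, Int.negSucc 1, Int.ofNat 160, Int.ofNat 12, Int.negSucc 29, Int.ofNat 4, Int.ofNat 0, Int.ofNat 0, Int.ofNat 0, Int.ofNat 1, Int.ofNat 8, Int.negSucc 153, Int.negSucc 6, Int.ofNat 14,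 Int.ofNat 0, Int.ofNat 130]) (ZT.leaf [])))))) (ZT.node 528 (ZT.node 522 (ZT.node 519 (ZT.node 518 (ZT.leaf [Int.negSucc 644, Int.negSucc 331, Int.ofNat 179, Int.negSucc 62, Int.ofNat 0, Int.negSucc 110, Int.negSucc 13, Int.ofNat 32, Int.ofNat 3, Int.ofNat 0, Int.ofNat 0, Int.ofNat 0, Int.ofNat 1, Int.ofNat 0, Int.ofNat 107, Int.ofNat 1, Int.negSucc 12, Int.ofNat 0, Int.negSucc 95]) (ZT.leaf [])) (ZT.node 520 (ZT.leaf [Int.ofNat 112, Int.ofNat 21, Int.negSucc 27, Int.ofNat 4, Int.ofNat 0, Int.ofNat 11, Int.ofNat 0, Int.negSucc 0, Int.ofNat 1, Int.ofNat 0, Int.ofNat 0, Int.ofNat 0, Int.ofNat 0, Int.ofNat 0, Int.negSucc 3, Int.ofNat 0, Int.ofNat 1, Int.ofNat 0, Int.ofNat 9]) (ZT.node 521 (ZT.leaf []) (ZT.leaf [Int.negSucc 5093, Int.negSucc 5324, Int.ofNat 1253, Int.negSucc 914, Int.negSucc 28, Int.negSucc 1155, Int.negSucc 224, Int.ofNat 462,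 Int.ofNat 105, Int.ofNat 1, Int.ofNat 0, Int.ofNat 1, Int.ofNat 1, Int.negSucc 24, Int.ofNat 1904, Int.ofNat 43, Int.negSucc 193, Int.ofNat 1, Int.negSucc 1064])))) (ZT.node 525 (ZT.node 523 (ZT.leaf [Int.negSucc 676, Int.negSucc 194, Int.ofNat 125, Int.negSucc 12, Int.ofNat 1, Int.negSucc 53, Int.negSucc 13, Int.ofNat 3, Int.ofNat 1, Int.ofNat 0, Int.ofNat 0, Int.ofNat 0, Int.negSucc 5, Int.negSucc 1, Int.ofNat 73, Int.negSucc 1, Int.negSucc 2, Int.ofNat 0, Int.negSucc 55]) (ZT.node 524 (ZT.leaf [Int.negSucc 468, Int.negSucc 55, Int.ofNat 71, Int.ofNat 13, Int.ofNat 2, Int.negSucc 33, Int.negSucc 19, Int.ofNat 7, Int.ofNat 1, Int.ofNat 0, Int.ofNat 0, Int.ofNat 0, Int.negSucc 2, Int.negSucc 0, Int.ofNat 41, Int.negSucc 2, Int.ofNat 5, Int.ofNat 0, Int.negSucc 33]) (ZT.leaf [Int.negSucc 3290, Int.negSucc 1110, Int.ofNat 702, Int.negSucc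 144, Int.ofNat 0, Int.negSucc 345, Int.negSucc 42, Int.ofNat 66, Int.negSucc 0, Int.ofNat 1, Int.negSucc 0, Int.ofNat 0, Int.negSucc 12, Int.negSucc 5, Int.ofNat 415, Int.negSucc 0, Int.negSucc 63, Int.ofNat 0, Int.negSucc 319]))) (ZT.node 526 (ZT.leaf [Int.ofNat 1762, Int.ofNat 938, Int.negSucc 408, Int.ofNat 150, Int.ofNat 5, Int.ofNat 247, Int.ofNat 47, Int.negSucc 99, Int.negSucc 21, Int.ofNat 0, Int.ofNat 0, Int.ofNat 0, Int.ofNat 0, Int.ofNat 1, Int.negSucc 352, Int.ofNat 0, Int.ofNat 57, Int.ofNat 0, Int.ofNat 233]) (ZT.node 527 (ZT.leaf [Int.ofNat 8666, Int.ofNat 2700, Int.negSucc 1989, Int.ofNat 388, Int.ofNat 6, Int.ofNat 936, Int.ofNat 89, Int.negSucc 193, Int.negSucc 6, Int.ofNat 0, Int.negSucc 0, Int.ofNat 0, Int.ofNat 30, Int.ofNat 6, Int.negSucc 962, Int.ofNat 8, Int.ofNat 181, Int.ofNat 0, Int.ofNat 852]) (ZT.leaf [Int.negSucc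 1295, Int.negSucc 1050, Int.ofNat 497, Int.negSucc 274, Int.ofNat 2, Int.negSucc 345, Int.ofNat 23, Int.ofNat 31, Int.negSucc 18, Int.ofNat 0, Int.ofNat 0, Int.ofNat 1, Int.ofNat 2, Int.negSucc 5, Int.ofNat 194, Int.ofNat 15, Int.negSucc 2, Int.ofNat 1, Int.negSucc 250]))))) (ZT.node 534 (ZT.node 531 (ZT.node 529 (ZT.leaf [Int.negSucc 7032, Int.negSucc 3114, Int.ofNat 1655, Int.negSucc 505, Int.negSucc 9, Int.negSucc 932, Int.negSucc 97, Int.ofNat 227, Int.ofNat 15, Int.ofNat 0, Int.ofNat 0, Int.ofNat 0, Int.negSucc 12, Int.negSucc 9, Int.ofNat 1040, Int.ofNat 6, Int.negSucc 152, Int.ofNat 0, Int.negSucc 819]) (ZT.node 530 (ZT.leaf [Int.ofNat 822, Int.ofNat 578, Int.negSucc 178, Int.ofNat 89, Int.ofNat 5, Int.ofNat 134, Int.ofNat 33, Int.negSucc 65, Int.negSucc 14, Int.ofNat 0, Int.ofNat 0, Int.ofNat 0, Int.negSucc 2, Int.ofNat 1, Int.negSucc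 232, Int.negSucc 2, Int.ofNat 23, Int.ofNat 0, Int.ofNat 130]) (ZT.leaf []))) (ZT.node 532 (ZT.leaf [Int.negSucc 485, Int.negSucc 308, Int.ofNat 123, Int.negSucc 57, Int.negSucc 1, Int.negSucc 87, Int.negSucc 12, Int.ofNat 29, Int.ofNat 4, Int.ofNat 0, Int.ofNat 0, Int.ofNat 0, Int.ofNat 2, Int.negSucc 0, Int.ofNat 106, Int.ofNat 1, Int.negSucc 4, Int.ofNat 0, Int.negSucc 72]) (ZT.node 533 (ZT.leaf [Int.ofNat 443, Int.ofNat 205, Int.negSucc 82, Int.ofNat 21, Int.ofNat 1, Int.ofNat 46, Int.ofNat 14, Int.negSucc 20, Int.negSucc 6, Int.ofNat 0, Int.ofNat 0, Int.ofNat 0, Int.ofNat 3, Int.negSucc 0, Int.negSucc 95, Int.negSucc 0, Int.ofNat 15, Int.ofNat 0, Int.ofNat 50]) (ZT.leaf [])))) (ZT.node 537 (ZT.node 535 (ZT.leaf []) (ZT.node 536 (ZT.leaf [Int.negSucc 2017, Int.negSucc 688, Int.ofNat 456, Int.negSucc 99, Int.negSucc 1, Int.negSucc 236,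 Int.negSucc 31, Int.ofNat 57, Int.ofNat 3, Int.ofNat 0, Int.ofNat 0, Int.ofNat 0, Int.negSucc 4, Int.ofNat 0, Int.ofNat 267, Int.negSucc 0, Int.negSucc 40, Int.ofNat 0, Int.negSucc 207]) (ZT.leaf [Int.negSucc 381, Int.negSucc 101, Int.ofNat 117, Int.negSucc 36, Int.negSucc 0, Int.negSucc 67, Int.ofNat 1, Int.negSucc 1, Int.negSucc 7, Int.ofNat 0, Int.ofNat 0, Int.ofNat 0, Int.ofNat 0, Int.negSucc 1, Int.ofNat 26, Int.ofNat 0, Int.negSucc 9, Int.ofNat 0, Int.negSucc 44]))) (ZT.node 538 (ZT.leaf []) (ZT.node 539 (ZT.leaf []) (ZT.leaf [Int.ofNat 4638, Int.ofNat 914, Int.negSucc 1024, Int.ofNat 96, Int.negSucc 1, Int.ofNat 419, Int.ofNat 35, Int.negSucc 47, Int.ofNat 11, Int.ofNat 0, Int.ofNat 0, Int.ofNat 0, Int.ofNat 22, Int.ofNat 2, Int.negSucc 345, Int.ofNat 9, Int.ofNat 73, Int.ofNat 0, Int.ofNat 380]))))))))) (ZT.node 630 (ZT.node 585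 (ZT.node 562 (ZT.node 551 (ZT.node 545 (ZT.node 542 (ZT.node 541 (ZT.leaf [Int.ofNat 103, Int.ofNat 22, Int.negSucc 27, Int.ofNat 5, Int.ofNat 0, Int.ofNat 13, Int.ofNat 0, Int.negSucc 0, Int.ofNat 1, Int.ofNat 0, Int.ofNat 0, Int.ofNat 0, Int.ofNat 0, Int.ofNat 0, Int.negSucc 6, Int.ofNat 0, Int.ofNat 3, Int.ofNat 0, Int.ofNat 11]) (ZT.leaf [Int.negSucc 97, Int.negSucc 8, Int.ofNat 25, Int.negSucc 2, Int.ofNat 0, Int.negSucc 9, Int.ofNat 0, Int.negSucc 0, Int.negSucc 1, Int.negSucc 0, Int.ofNat 0, Int.ofNat 0, Int.ofNat 0, Int.ofNat 0, Int.ofNat 0, Int.ofNat 0, Int.negSucc 1, Int.ofNat 0, Int.negSucc 7])) (ZT.node 543 (ZT.leaf []) (ZT.node 544 (ZT.leaf [Int.ofNat 5903, Int.negSucc 537, Int.negSucc 1208, Int.negSucc 200, Int.negSucc 16, Int.ofNat 254, Int.negSucc 31, Int.ofNat 92, Int.ofNat 58, Int.ofNat 1, Int.ofNat 0, Int.ofNat 1, Int.ofNat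 45, Int.negSucc 12, Int.negSucc 7, Int.ofNat 41, Int.ofNat 67, Int.ofNat 1, Int.ofNat 218]) (ZT.leaf [])))) (ZT.node 548 (ZT.node 546 (ZT.leaf [Int.ofNat 46, Int.ofNat 1, Int.negSucc 12, Int.ofNat 1, Int.ofNat 0, Int.ofNat 4, Int.ofNat 0, Int.ofNat 0, Int.ofNat 1, Int.ofNat 0, Int.ofNat 0, Int.ofNat 0, Int.ofNat 0, Int.ofNat 0, Int.ofNat 3, Int.ofNat 0, Int.negSucc 0, Int.ofNat 0, Int.ofNat 3]) (ZT.node 547 (ZT.leaf [Int.negSucc 0, Int.ofNat 0, Int.ofNat 0, Int.ofNat 0, Int.ofNat 0, Int.negSucc 0]) (ZT.leaf [Int.negSucc 2935, Int.negSucc 2107, Int.ofNat 729, Int.negSucc 355, Int.negSucc 5, Int.negSucc 535, Int.negSucc 66, Int.ofNat 165, Int.ofNat 24, Int.ofNat 0, Int.ofNat 0, Int.ofNat 0, Int.negSucc 2, Int.negSucc 9, Int.ofNat 694, Int.ofNat 12, Int.negSucc 86, Int.ofNat 0, Int.negSucc 470]))) (ZT.node 549 (ZT.leaf [Int.ofNat 7318, Int.ofNat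 5135, Int.negSucc 1842, Int.ofNat 920, Int.ofNat 21, Int.ofNat 1300, Int.ofNat 140, Int.negSucc 386, Int.negSucc 42, Int.ofNat 0, Int.ofNat 0, Int.ofNat 0, Int.negSucc 0, Int.ofNat 25, Int.negSucc 1644, Int.negSucc 36, Int.ofNat 205, Int.ofNat 0, Int.ofNat 1139]) (ZT.node 550 (ZT.leaf [Int.negSucc 4413, Int.negSucc 2028, Int.ofNat 1146, Int.negSucc 396, Int.negSucc 15, Int.negSucc 629, Int.negSucc 19, Int.ofNat 122, Int.negSucc 16, Int.ofNat 0, Int.ofNat 0, Int.ofNat 0, Int.ofNat 9, Int.negSucc 9, Int.ofNat 576, Int.ofNat 10, Int.negSucc 123, Int.ofNat 0, Int.negSucc 534]) (ZT.leaf [Int.negSucc 3, Int.negSucc 0, Int.ofNat 0, Int.ofNat 0, Int.ofNat 0, Int.ofNat 0, Int.negSucc 0]))))) (ZT.node 556 (ZT.node 553 (ZT.node 552 (ZT.leaf [Int.ofNat 7313, Int.ofNat 5133, Int.negSucc 1842, Int.ofNat 920, Int.ofNat 21, Int.ofNat 1300, Int.ofNat 139,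 Int.negSucc 386, Int.negSucc 42, Int.ofNat 0, Int.ofNat 0, Int.ofNat 0, Int.negSucc 0, Int.ofNat 25, Int.negSucc 1644, Int.negSucc 36, Int.ofNat 205, Int.ofNat 0, Int.ofNat 1139]) (ZT.leaf [Int.negSucc 25059, Int.negSucc 12680, Int.ofNat 5787, Int.negSucc 2030, Int.negSucc 59, Int.negSucc 3494, Int.negSucc 465, Int.ofNat 1046, Int.ofNat 145, Int.negSucc 0, Int.ofNat 1, Int.negSucc 0, Int.negSucc 41, Int.negSucc 39, Int.ofNat 4426, Int.ofNat 31, Int.negSucc 664, Int.negSucc 0, Int.negSucc 3165])) (ZT.node 554 (ZT.leaf [Int.negSucc 25085, Int.negSucc 12675, Int.ofNat 5799, Int.negSucc 2034, Int.negSucc 59, Int.negSucc 3504, Int.negSucc 466, Int.ofNat 1046, Int.ofNat 143, Int.negSucc 0, Int.ofNat 1, Int.negSucc 0, Int.negSucc 40, Int.negSucc 39, Int.ofNat 4419, Int.ofNat 31, Int.negSucc 660, Int.negSucc 0, Int.negSucc 3168]) (ZT.node 555 (ZT.leaf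 [Int.negSucc 1390, Int.negSucc 732, Int.ofNat 303, Int.negSucc 104, Int.negSucc 5, Int.negSucc 186, Int.negSucc 45, Int.ofNat 95, Int.ofNat 20, Int.ofNat 1, Int.ofNat 0, Int.ofNat 0, Int.ofNat 1, Int.ofNat 0, Int.ofNat 294, Int.ofNat 3, Int.negSucc 58, Int.ofNat 1, Int.negSucc 185]) (ZT.leaf [Int.ofNat 97, Int.ofNat 7, Int.negSucc 24, Int.ofNat 0, Int.ofNat 0, Int.ofNat 6, Int.ofNat 0, Int.ofNat 2, Int.ofNat 2, Int.ofNat 0, Int.ofNat 0, Int.ofNat 0, Int.ofNat 0, Int.ofNat 2, Int.ofNat 3, Int.ofNat 0, Int.ofNat 0, Int.ofNat 0, Int.ofNat 5])))) (ZT.node 559 (ZT.node 557 (ZT.leaf [Int.negSucc 150, Int.negSucc 31, Int.ofNat 45, Int.negSucc 9, Int.ofNat 0, Int.negSucc 20, Int.ofNat 0, Int.ofNat 3, Int.negSucc 1, Int.ofNat 0, Int.ofNat 0, Int.ofNat 0, Int.ofNat 0, Int.ofNat 0, Int.ofNat 11, Int.ofNat 0, Int.negSucc 1, Int.ofNat 0, Int.negSucc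 15]) (ZT.node 558 (ZT.leaf [Int.ofNat 198, Int.negSucc 51, Int.negSucc 56, Int.negSucc 5, Int.ofNat 0, Int.ofNat 18, Int.negSucc 3, Int.ofNat 4, Int.ofNat 4, Int.ofNat 0, Int.ofNat 0, Int.ofNat 0, Int.ofNat 0, Int.negSucc 1, Int.ofNat 16, Int.ofNat 2, Int.ofNat 3, Int.ofNat 0, Int.ofNat 9]) (ZT.leaf [Int.negSucc 1, Int.negSucc 1]))) (ZT.node 560 (ZT.leaf [Int.negSucc 97, Int.negSucc 6, Int.ofNat 25, Int.ofNat 0, Int.ofNat 0, Int.negSucc 5, Int.ofNat 0, Int.negSucc 1, Int.negSucc 1, Int.ofNat 0, Int.ofNat 0, Int.ofNat 0, Int.ofNat 0, Int.negSucc 1, Int.negSucc 2, Int.ofNat 0, Int.ofNat 0, Int.ofNat 0, Int.negSucc 4]) (ZT.node 561 (ZT.leaf [Int.negSucc 3421, Int.negSucc 3624, Int.ofNat 839, Int.negSucc 617, Int.negSucc 15, Int.negSucc 781, Int.negSucc 153, Int.ofNat 312, Int.ofNat 69, Int.ofNat 1, Int.ofNat 0, Int.ofNat 0, Int.negSucc 0, Int.negSucc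 14, Int.ofNat 1271, Int.ofNat 30, Int.negSucc 120, Int.ofNat 0, Int.negSucc 720]) (ZT.leaf [Int.negSucc 30, Int.ofNat 0, Int.ofNat 5, Int.ofNat 2, Int.negSucc 0, Int.negSucc 0, Int.ofNat 1, Int.negSucc 2, Int.negSucc 0, Int.ofNat 0, Int.ofNat 0, Int.ofNat 0, Int.ofNat 0, Int.negSucc 0, Int.negSucc 4, Int.ofNat 0, Int.ofNat 2, Int.ofNat 0, Int.ofNat 0])))))) (ZT.node 573 (ZT.node 567 (ZT.node 564 (ZT.node 563 (ZT.leaf []) (ZT.leaf [Int.ofNat 2, Int.ofNat 1])) (ZT.node 565 (ZT.leaf [Int.ofNat 69, Int.ofNat 7, Int.negSucc 15, Int.ofNat 0, Int.ofNat 0, Int.ofNat 5, Int.ofNat 0, Int.ofNat 1, Int.ofNat 1, Int.ofNat 0, Int.ofNat 0, Int.ofNat 0, Int.ofNat 0, Int.ofNat 1, Int.ofNat 1, Int.ofNat 0, Int.negSucc 0, Int.ofNat 0, Int.ofNat 4]) (ZT.node 566 (ZT.leaf [Int.ofNat 418, Int.ofNat 271, Int.negSucc 89, Int.ofNat 41, Int.ofNat 1, Int.ofNat 59,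 Int.ofNat 11, Int.negSucc 17, Int.negSucc 3, Int.ofNat 0, Int.ofNat 0, Int.ofNat 0, Int.ofNat 2, Int.ofNat 2, Int.negSucc 87, Int.negSucc 1, Int.ofNat 9, Int.ofNat 0, Int.ofNat 58]) (ZT.leaf [Int.negSucc 0])))) (ZT.node 570 (ZT.node 568 (ZT.leaf []) (ZT.node 569 (ZT.leaf [Int.ofNat 5512, Int.ofNat 967, Int.negSucc 1250, Int.ofNat 135, Int.ofNat 0, Int.ofNat 512, Int.ofNat 54, Int.negSucc 71, Int.ofNat 17, Int.ofNat 0, Int.ofNat 0, Int.ofNat 0, Int.ofNat 17, Int.negSucc 4, Int.negSucc 380, Int.ofNat 14, Int.ofNat 59, Int.ofNat 0, Int.ofNat 438]) (ZT.leaf [Int.ofNat 410, Int.ofNat 147, Int.negSucc 106, Int.ofNat 27, Int.ofNat 0, Int.ofNat 60, Int.ofNat 7, Int.negSucc 16, Int.negSucc 0, Int.ofNat 0, Int.ofNat 0, Int.ofNat 0, Int.ofNat 0, Int.ofNat 0, Int.negSucc 64, Int.ofNat 1, Int.ofNat 12, Int.ofNat 0, Int.ofNat 53]))) (ZT.node 571 (ZT.leaf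 []) (ZT.node 572 (ZT.leaf [Int.ofNat 382, Int.ofNat 146, Int.negSucc 87, Int.ofNat 23, Int.ofNat 1, Int.ofNat 44, Int.ofNat 4, Int.negSucc 6, Int.ofNat 0, Int.ofNat 0, Int.ofNat 0, Int.ofNat 0, Int.ofNat 2, Int.ofNat 1, Int.negSucc 46, Int.ofNat 0, Int.ofNat 6, Int.ofNat 0, Int.ofNat 39]) (ZT.leaf []))))) (ZT.node 579 (ZT.node 576 (ZT.node 574 (ZT.leaf [Int.ofNat 3, Int.ofNat 2, Int.ofNat 0, Int.ofNat 0, Int.ofNat 0, Int.negSucc 0]) (ZT.node 575 (ZT.leaf []) (ZT.leaf [Int.negSucc 220, Int.negSucc 82, Int.ofNat 44, Int.negSucc 9, Int.ofNat 0, Int.negSucc 21, Int.negSucc 1, Int.ofNat 5, Int.ofNat 1, Int.ofNat 0, Int.ofNat 0, Int.ofNat 0, Int.negSucc 0, Int.ofNat 0, Int.ofNat 28, Int.ofNat 0, Int.negSucc 4, Int.ofNat 0, Int.negSucc 20]))) (ZT.node 577 (ZT.leaf [Int.ofNat 537, Int.ofNat 159, Int.negSucc 126, Int.ofNat 26, Int.ofNat 0, Int.ofNat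 60, Int.ofNat 3, Int.negSucc 9, Int.ofNat 2, Int.ofNat 1, Int.ofNat 0, Int.ofNat 0, Int.ofNat 1, Int.ofNat 1, Int.negSucc 46, Int.ofNat 0, Int.ofNat 12, Int.ofNat 0, Int.ofNat 51]) (ZT.node 578 (ZT.leaf [Int.ofNat 44, Int.ofNat 1, Int.negSucc 2, Int.negSucc 3, Int.negSucc 0, Int.ofNat 0, Int.negSucc 0, Int.ofNat 4, Int.ofNat 1, Int.ofNat 0, Int.ofNat 0, Int.ofNat 0, Int.ofNat 1, Int.ofNat 0, Int.negSucc 1, Int.ofNat 1, Int.ofNat 0, Int.ofNat 0, Int.ofNat 0]) (ZT.leaf [Int.ofNat 1331, Int.ofNat 737, Int.negSucc 317, Int.ofNat 122, Int.ofNat 3, Int.ofNat 199, Int.ofNat 28, Int.negSucc 66, Int.negSucc 9, Int.ofNat 0, Int.ofNat 0, Int.ofNat 0, Int.ofNat 0, Int.ofNat 3, Int.negSucc 253, Int.negSucc 1, Int.ofNat 37, Int.ofNat 0, Int.ofNat 183])))) (ZT.node 582 (ZT.node 580 (ZT.leaf [Int.negSucc 1329, Int.negSucc 735, Int.ofNat 318, Int.negSucc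 121, Int.negSucc 2, Int.negSucc 198, Int.negSucc 27, Int.ofNat 67, Int.ofNat 10, Int.ofNat 0, Int.ofNat 0, Int.ofNat 0, Int.ofNat 0, Int.negSucc 2, Int.ofNat 254, Int.ofNat 2, Int.negSucc 36, Int.ofNat 0, Int.negSucc 182]) (ZT.node 581 (ZT.leaf [Int.negSucc 385, Int.negSucc 145, Int.ofNat 88, Int.negSucc 22, Int.negSucc 0, Int.negSucc 43, Int.negSucc 3, Int.ofNat 7, Int.ofNat 0, Int.ofNat 0, Int.ofNat 0, Int.ofNat 0, Int.negSucc 1, Int.negSucc 0, Int.ofNat 47, Int.ofNat 0, Int.negSucc 5, Int.ofNat 0, Int.negSucc 38]) (ZT.leaf []))) (ZT.node 583 (ZT.leaf []) (ZT.node 584 (ZT.leaf [Int.ofNat 3540, Int.ofNat 1104, Int.negSucc 818, Int.ofNat 168, Int.negSucc 0, Int.ofNat 411, Int.ofNat 55, Int.negSucc 87, Int.negSucc 2, Int.ofNat 0, Int.ofNat 0, Int.ofNat 0, Int.ofNat 9, Int.ofNat 2, Int.negSucc 405, Int.ofNat 2, Int.ofNat 44, Int.ofNat 0, Int.ofNat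 359]) (ZT.leaf [Int.negSucc 668, Int.negSucc 225, Int.ofNat 151, Int.negSucc 30, Int.negSucc 0, Int.negSucc 69, Int.ofNat 0, Int.ofNat 6, Int.negSucc 1, Int.ofNat 1, Int.ofNat 0, Int.ofNat 0, Int.negSucc 3, Int.negSucc 1, Int.ofNat 47, Int.ofNat 1, Int.negSucc 8, Int.ofNat 0, Int.negSucc 59]))))))) (ZT.node 607 (ZT.node 596 (ZT.node 590 (ZT.node 587 (ZT.node 586 (ZT.leaf [Int.ofNat 256, Int.negSucc 561, Int.ofNat 3, Int.negSucc 126, Int.negSucc 5, Int.negSucc 108, Int.negSucc 10, Int.ofNat 55, Int.ofNat 9, Int.ofNat 0, Int.ofNat 0, Int.ofNat 0, Int.ofNat 11, Int.negSucc 2, Int.ofNat 164, Int.ofNat 7, Int.negSucc 20, Int.ofNat 0, Int.negSucc 83]) (ZT.leaf [Int.ofNat 2415, Int.ofNat 2138, Int.negSucc 630, Int.ofNat 384, Int.ofNat 10, Int.ofNat 512, Int.ofNat 62, Int.negSucc 168, Int.negSucc 26, Int.ofNat 0, Int.ofNat 0, Int.ofNat 0, Int.negSucc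 1, Int.ofNat 13, Int.negSucc 692, Int.negSucc 15, Int.ofNat 91, Int.ofNat 0, Int.ofNat 452])) (ZT.node 588 (ZT.leaf []) (ZT.node 589 (ZT.leaf [Int.negSucc 241, Int.negSucc 234, Int.ofNat 33, Int.negSucc 31, Int.negSucc 1, Int.negSucc 26, Int.negSucc 11, Int.ofNat 20, Int.ofNat 8, Int.ofNat 0, Int.ofNat 0, Int.ofNat 0, Int.negSucc 0, Int.negSucc 0, Int.ofNat 86, Int.ofNat 1, Int.negSucc 5, Int.ofNat 0, Int.negSucc 33]) (ZT.leaf [Int.negSucc 0])))) (ZT.node 593 (ZT.node 591 (ZT.leaf []) (ZT.node 592 (ZT.leaf [Int.negSucc 732, Int.negSucc 262, Int.ofNat 183, Int.negSucc 47, Int.negSucc 0, Int.negSucc 90, Int.negSucc 8, Int.ofNat 16, Int.ofNat 1, Int.ofNat 0, Int.ofNat 0, Int.ofNat 0, Int.negSucc 2, Int.negSucc 0, Int.ofNat 93, Int.negSucc 0, Int.negSucc 14, Int.ofNat 0, Int.negSucc 78]) (ZT.leaf [Int.ofNat 458, Int.ofNat 148, Int.negSucc 107,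 Int.ofNat 21, Int.ofNat 0, Int.ofNat 54, Int.ofNat 3, Int.negSucc 8, Int.ofNat 1, Int.ofNat 0, Int.ofNat 0, Int.ofNat 0, Int.ofNat 1, Int.ofNat 1, Int.negSucc 51, Int.ofNat 0, Int.ofNat 12, Int.ofNat 0, Int.ofNat 48]))) (ZT.node 594 (ZT.leaf [Int.negSucc 39, Int.negSucc 11, Int.ofNat 9, Int.negSucc 1, Int.ofNat 0, Int.negSucc 3, Int.ofNat 0, Int.ofNat 1, Int.ofNat 0, Int.ofNat 0, Int.ofNat 0, Int.ofNat 0, Int.ofNat 0, Int.ofNat 0, Int.ofNat 4, Int.ofNat 0, Int.negSucc 0, Int.ofNat 0, Int.negSucc 2]) (ZT.node 595 (ZT.leaf [Int.negSucc 554, Int.negSucc 202, Int.ofNat 128, Int.negSucc 31, Int.negSucc 0, Int.negSucc 64, Int.negSucc 4, Int.ofNat 15, Int.ofNat 0, Int.ofNat 0, Int.ofNat 0, Int.ofNat 0, Int.negSucc 0, Int.negSucc 0, Int.ofNat 61, Int.ofNat 1, Int.negSucc 11, Int.ofNat 0, Int.negSucc 57]) (ZT.leaf [Int.negSucc 221, Int.negSucc 53,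 Int.ofNat 57, Int.negSucc 9, Int.ofNat 0, Int.negSucc 26, Int.ofNat 0, Int.ofNat 3, Int.negSucc 1, Int.ofNat 0, Int.ofNat 0, Int.ofNat 0, Int.ofNat 0, Int.negSucc 0, Int.ofNat 14, Int.ofNat 0, Int.negSucc 4, Int.ofNat 0, Int.negSucc 22]))))) (ZT.node 601 (ZT.node 598 (ZT.node 597 (ZT.leaf [Int.negSucc 410, Int.negSucc 146, Int.ofNat 107, Int.negSucc 26, Int.ofNat 0, Int.negSucc 59, Int.negSucc 6, Int.ofNat 17, Int.ofNat 1, Int.ofNat 0, Int.ofNat 0, Int.ofNat 0, Int.ofNat 0, Int.ofNat 0, Int.ofNat 65, Int.negSucc 0, Int.negSucc 11, Int.ofNat 0, Int.negSucc 52]) (ZT.leaf [Int.ofNat 554, Int.ofNat 203, Int.negSucc 127, Int.ofNat 32, Int.ofNat 1, Int.ofNat 65, Int.ofNat 5, Int.negSucc 14, Int.ofNat 0, Int.ofNat 0, Int.ofNat 0, Int.ofNat 0, Int.ofNat 1, Int.ofNat 1, Int.negSucc 60, Int.negSucc 0, Int.ofNat 12, Int.ofNat 0, Int.ofNat 58])) (ZT.node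 599 (ZT.leaf [Int.negSucc 1280, Int.negSucc 757, Int.ofNat 286, Int.negSucc 111, Int.negSucc 2, Int.negSucc 176, Int.negSucc 24, Int.ofNat 58, Int.ofNat 12, Int.ofNat 0, Int.ofNat 0, Int.ofNat 0, Int.negSucc 3, Int.negSucc 3, Int.ofNat 258, Int.ofNat 4, Int.negSucc 36, Int.ofNat 0, Int.negSucc 168]) (ZT.node 600 (ZT.leaf []) (ZT.leaf [Int.negSucc 0])))) (ZT.node 604 (ZT.node 602 (ZT.leaf []) (ZT.node 603 (ZT.leaf []) (ZT.leaf [Int.ofNat 0, Int.ofNat 2, Int.ofNat 1]))) (ZT.node 605 (ZT.leaf [Int.negSucc 6480, Int.negSucc 610, Int.ofNat 1384, Int.ofNat 7, Int.ofNat 3, Int.negSucc 467, Int.negSucc 53, Int.ofNat 47, Int.negSucc 21, Int.ofNat 0, Int.ofNat 0, Int.ofNat 0, Int.negSucc 25, Int.negSucc 5, Int.ofNat 352, Int.negSucc 19, Int.negSucc 111, Int.ofNat 0, Int.negSucc 438]) (ZT.node 606 (ZT.leaf [Int.negSucc 1461, Int.negSucc 944, Int.ofNat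 283, Int.negSucc 129, Int.negSucc 5, Int.negSucc 208, Int.negSucc 75, Int.ofNat 124, Int.ofNat 35, Int.ofNat 0, Int.ofNat 0, Int.ofNat 0, Int.ofNat 1, Int.ofNat 1, Int.ofNat 485, Int.negSucc 2, Int.negSucc 53, Int.ofNat 0, Int.negSucc 219]) (ZT.leaf [Int.negSucc 3429, Int.negSucc 1353, Int.ofNat 821, Int.negSucc 237, Int.negSucc 3, Int.negSucc 449, Int.negSucc 43, Int.ofNat 89, Int.ofNat 0, Int.ofNat 0, Int.ofNat 0, Int.ofNat 0, Int.negSucc 9, Int.negSucc 2, Int.ofNat 416, Int.ofNat 3, Int.negSucc 49, Int.ofNat 0, Int.negSucc 377])))))) (ZT.node 618 (ZT.node 612 (ZT.node 609 (ZT.node 608 (ZT.leaf [Int.ofNat 3586, Int.ofNat 4033, Int.negSucc 888, Int.ofNat 696, Int.ofNat 21, Int.ofNat 857, Int.ofNat 147, Int.negSucc 332, Int.negSucc 72, Int.negSucc 0, Int.ofNat 0, Int.negSucc 0, Int.negSucc 2, Int.ofNat 25, Int.negSucc 1363, Int.negSucc 34,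 Int.ofNat 148, Int.negSucc 0, Int.ofNat 783]) (ZT.leaf [Int.negSucc 1519, Int.negSucc 360, Int.ofNat 417, Int.negSucc 88, Int.negSucc 2, Int.negSucc 205, Int.ofNat 3, Int.ofNat 15, Int.negSucc 15, Int.negSucc 0, Int.ofNat 0, Int.ofNat 0, Int.ofNat 1, Int.negSucc 0, Int.ofNat 101, Int.ofNat 0, Int.negSucc 24, Int.ofNat 0, Int.negSucc 151])) (ZT.node 610 (ZT.leaf [Int.negSucc 68, Int.negSucc 15, Int.ofNat 8, Int.ofNat 1, Int.ofNat 0, Int.negSucc 1, Int.negSucc 0, Int.negSucc 0, Int.ofNat 0, Int.negSucc 0, Int.ofNat 0, Int.ofNat 0, Int.negSucc 0, Int.ofNat 0, Int.ofNat 1, Int.ofNat 0, Int.ofNat 0, Int.ofNat 0, Int.negSucc 2]) (ZT.node 611 (ZT.leaf [Int.ofNat 69, Int.ofNat 17, Int.negSucc 7, Int.negSucc 0, Int.ofNat 0, Int.ofNat 2, Int.ofNat 1, Int.ofNat 1, Int.ofNat 0, Int.ofNat 1, Int.ofNat 0, Int.ofNat 0, Int.ofNat 1, Int.ofNat 0, Int.negSucc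 0, Int.ofNat 0, Int.ofNat 0, Int.ofNat 0, Int.ofNat 3]) (ZT.leaf [Int.negSucc 23, Int.ofNat 19, Int.ofNat 10, Int.ofNat 0, Int.ofNat 0, Int.negSucc 2, Int.ofNat 1, Int.ofNat 0, Int.negSucc 1, Int.negSucc 0, Int.ofNat 0, Int.ofNat 0, Int.ofNat 1, Int.ofNat 0, Int.negSucc 10, Int.ofNat 0, Int.negSucc 0, Int.ofNat 0, Int.negSucc 0])))) (ZT.node 615 (ZT.node 613 (ZT.leaf []) (ZT.node 614 (ZT.leaf [Int.ofNat 0, Int.ofNat 1]) (ZT.leaf [Int.ofNat 28, Int.ofNat 7, Int.negSucc 4, Int.ofNat 1, Int.ofNat 0, Int.ofNat 1, Int.ofNat 0, Int.ofNat 0, Int.ofNat 0, Int.ofNat 0, Int.ofNat 0, Int.ofNat 0, Int.ofNat 0, Int.ofNat 1, Int.negSucc 4, Int.ofNat 0, Int.ofNat 0, Int.ofNat 0, Int.ofNat 2]))) (ZT.node 616 (ZT.leaf [Int.ofNat 6735, Int.ofNat 5516, Int.negSucc 1582, Int.ofNat 919, Int.ofNat 26, Int.ofNat 1256, Int.ofNat 258, Int.negSucc 494, Int.negSucc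 110, Int.negSucc 0, Int.ofNat 0, Int.negSucc 0, Int.ofNat 6, Int.ofNat 19, Int.negSucc 1991, Int.negSucc 35, Int.ofNat 208, Int.negSucc 0, Int.ofNat 1173]) (ZT.node 617 (ZT.leaf [Int.ofNat 1113, Int.ofNat 953, Int.negSucc 257, Int.ofNat 158, Int.ofNat 3, Int.ofNat 219, Int.ofNat 44, Int.negSucc 83, Int.negSucc 15, Int.negSucc 0, Int.ofNat 0, Int.ofNat 0, Int.ofNat 0, Int.ofNat 5, Int.negSucc 314, Int.negSucc 5, Int.ofNat 27, Int.ofNat 0, Int.ofNat 199]) (ZT.leaf [Int.ofNat 1901, Int.ofNat 1485, Int.negSucc 440, Int.ofNat 246, Int.ofNat 5, Int.ofNat 340, Int.ofNat 64, Int.negSucc 121, Int.negSucc 24, Int.negSucc 0, Int.ofNat 0, Int.ofNat 0, Int.ofNat 4, Int.ofNat 7, Int.negSucc 503, Int.negSucc 7, Int.ofNat 42, Int.ofNat 0, Int.ofNat 316]))))) (ZT.node 624 (ZT.node 621 (ZT.node 619 (ZT.leaf [Int.ofNat 2659, Int.ofNat 1506, Int.negSucc 631,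 Int.ofNat 251, Int.ofNat 6, Int.ofNat 404, Int.ofNat 54, Int.negSucc 115, Int.negSucc 14, Int.negSucc 0, Int.ofNat 0, Int.ofNat 0, Int.ofNat 6, Int.ofNat 7, Int.negSucc 500, Int.negSucc 6, Int.ofNat 62, Int.ofNat 0, Int.ofNat 362]) (ZT.node 620 (ZT.leaf [Int.ofNat 3, Int.ofNat 2, Int.ofNat 1]) (ZT.leaf [Int.negSucc 2682, Int.negSucc 1511, Int.ofNat 635, Int.negSucc 249, Int.negSucc 5, Int.negSucc 403, Int.negSucc 53, Int.ofNat 115, Int.ofNat 15, Int.ofNat 1, Int.ofNat 0, Int.ofNat 0, Int.negSucc 5, Int.negSucc 6, Int.ofNat 502, Int.ofNat 7, Int.negSucc 61, Int.ofNat 0, Int.negSucc 362]))) (ZT.node 622 (ZT.leaf [Int.negSucc 1979, Int.negSucc 88, Int.ofNat 413, Int.ofNat 23, Int.ofNat 2, Int.negSucc 131, Int.negSucc 15, Int.ofNat 2, Int.negSucc 10, Int.negSucc 0, Int.ofNat 0, Int.ofNat 0, Int.negSucc 5, Int.ofNat 0, Int.ofNat 97, Int.negSucc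 9, Int.negSucc 25, Int.ofNat 0, Int.negSucc 119]) (ZT.node 623 (ZT.leaf [Int.negSucc 0]) (ZT.leaf [])))) (ZT.node 627 (ZT.node 625 (ZT.leaf [Int.negSucc 0, Int.negSucc 1, Int.negSucc 0]) (ZT.node 626 (ZT.leaf []) (ZT.leaf [Int.negSucc 0]))) (ZT.node 628 (ZT.leaf [Int.negSucc 145, Int.negSucc 108, Int.ofNat 33, Int.negSucc 16, Int.ofNat 0, Int.negSucc 21, Int.negSucc 4, Int.ofNat 7, Int.ofNat 2, Int.ofNat 0, Int.ofNat 0, Int.ofNat 0, Int.negSucc 0, Int.negSucc 0, Int.ofNat 33, Int.ofNat 1, Int.negSucc 3, Int.ofNat 0, Int.negSucc 22]) (ZT.node 629 (ZT.leaf [Int.ofNat 1315, Int.ofNat 960, Int.negSucc 373, Int.ofNat 185, Int.ofNat 7, Int.ofNat 277, Int.ofNat 25, Int.negSucc 82, Int.negSucc 7, Int.ofNat 0, Int.ofNat 0, Int.ofNat 0, Int.negSucc 5, Int.ofNat 6, Int.negSucc 323, Int.negSucc 6, Int.ofNat 46, Int.ofNat 0, Int.ofNat 230]) (ZT.leaf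 [Int.negSucc 1741, Int.negSucc 452, Int.ofNat 438, Int.negSucc 89, Int.negSucc 3, Int.negSucc 206, Int.negSucc 7, Int.ofNat 30, Int.negSucc 6, Int.ofNat 0, Int.ofNat 0, Int.ofNat 0, Int.negSucc 0, Int.negSucc 0, Int.ofNat 165, Int.negSucc 0, Int.negSucc 31, Int.ofNat 0, Int.negSucc 168])))))))) (ZT.node 675 (ZT.node 652 (ZT.node 641 (ZT.node 635 (ZT.node 632 (ZT.node 631 (ZT.leaf [Int.negSucc 4360, Int.negSucc 1976, Int.ofNat 1078, Int.negSucc 350, Int.negSucc 9, Int.negSucc 617, Int.negSucc 57, Int.ofNat 155, Int.ofNat 9, Int.ofNat 0, Int.ofNat 0, Int.ofNat 0, Int.negSucc 1, Int.negSucc 6, Int.ofNat 643, Int.ofNat 7, Int.negSucc 96, Int.ofNat 0, Int.negSucc 534]) (ZT.leaf [Int.negSucc 0])) (ZT.node 633 (ZT.leaf []) (ZT.node 634 (ZT.leaf [Int.ofNat 661, Int.ofNat 368, Int.negSucc 128, Int.ofNat 49, Int.ofNat 1, Int.ofNat 79, Int.ofNat 11,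 Int.negSucc 18, Int.negSucc 3, Int.ofNat 0, Int.ofNat 0, Int.ofNat 0, Int.ofNat 5, Int.ofNat 1, Int.negSucc 112, Int.negSucc 1, Int.ofNat 12, Int.ofNat 0, Int.ofNat 75]) (ZT.leaf [Int.negSucc 659, Int.negSucc 366, Int.ofNat 129, Int.negSucc 48, Int.negSucc 0, Int.negSucc 78, Int.negSucc 10, Int.ofNat 19, Int.ofNat 4, Int.ofNat 0, Int.ofNat 0, Int.ofNat 0, Int.negSucc 4, Int.negSucc 0, Int.ofNat 113, Int.ofNat 2, Int.negSucc 11, Int.ofNat 0, Int.negSucc 74])))) (ZT.node 638 (ZT.node 636 (ZT.leaf []) (ZT.node 637 (ZT.leaf [Int.negSucc 5509, Int.negSucc 965, Int.ofNat 1251, Int.negSucc 134, Int.ofNat 0, Int.negSucc 511, Int.negSucc 53, Int.ofNat 72, Int.negSucc 16, Int.ofNat 0, Int.ofNat 0, Int.ofNat 0, Int.negSucc 16, Int.ofNat 5, Int.ofNat 381, Int.negSucc 13, Int.negSucc 58, Int.ofNat 0, Int.negSucc 437]) (ZT.leaf []))) (ZT.node 639 (ZT.leaf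 [Int.ofNat 4617, Int.ofNat 3631, Int.negSucc 1170, Int.ofNat 643, Int.ofNat 17, Int.ofNat 902, Int.ofNat 119, Int.negSucc 298, Int.negSucc 47, Int.negSucc 0, Int.ofNat 0, Int.ofNat 0, Int.negSucc 1, Int.ofNat 19, Int.negSucc 1232, Int.negSucc 23, Int.ofNat 151, Int.ofNat 0, Int.ofNat 797]) (ZT.node 640 (ZT.leaf [Int.negSucc 2360, Int.negSucc 860, Int.ofNat 571, Int.negSucc 146, Int.negSucc 5, Int.negSucc 298, Int.negSucc 23, Int.ofNat 57, Int.negSucc 0, Int.ofNat 0, Int.ofNat 0, Int.ofNat 0, Int.negSucc 3, Int.negSucc 2, Int.ofNat 300, Int.ofNat 2, Int.negSucc 41, Int.ofNat 0, Int.negSucc 252]) (ZT.leaf [Int.ofNat 832, Int.ofNat 502, Int.negSucc 159, Int.ofNat 70, Int.negSucc 1, Int.ofNat 103, Int.ofNat 20, Int.negSucc 39, Int.negSucc 8, Int.ofNat 0, Int.ofNat 0, Int.ofNat 0, Int.ofNat 7, Int.negSucc 0, Int.negSucc 162, Int.ofNat 0, Int.ofNat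 24, Int.ofNat 0, Int.ofNat 106]))))) (ZT.node 646 (ZT.node 643 (ZT.node 642 (ZT.leaf [Int.negSucc 3524, Int.negSucc 1662, Int.ofNat 905, Int.negSucc 312, Int.negSucc 7, Int.negSucc 541, Int.negSucc 45, Int.ofNat 130, Int.ofNat 4, Int.ofNat 0, Int.ofNat 0, Int.ofNat 0, Int.ofNat 0, Int.negSucc 6, Int.ofNat 565, Int.ofNat 6, Int.negSucc 82, Int.ofNat 0, Int.negSucc 455]) (ZT.leaf [Int.negSucc 0])) (ZT.node 644 (ZT.leaf []) (ZT.node 645 (ZT.leaf [Int.ofNat 663, Int.ofNat 283, Int.negSucc 147, Int.ofNat 44, Int.ofNat 1, Int.ofNat 80, Int.ofNat 8, Int.negSucc 13, Int.ofNat 1, Int.ofNat 0, Int.ofNat 0, Int.ofNat 0, Int.ofNat 3, Int.ofNat 2, Int.negSucc 85, Int.negSucc 1, Int.ofNat 13, Int.ofNat 0, Int.ofNat 72]) (ZT.leaf [Int.ofNat 2344, Int.ofNat 968, Int.negSucc 549, Int.ofNat 158, Int.ofNat 5, Int.ofNat 301, Int.ofNat 32, Int.negSucc 72, Int.negSucc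 3, Int.ofNat 0, Int.ofNat 0, Int.ofNat 0, Int.ofNat 4, Int.ofNat 3, Int.negSucc 336, Int.negSucc 1, Int.ofNat 47, Int.ofNat 0, Int.ofNat 265])))) (ZT.node 649 (ZT.node 647 (ZT.leaf []) (ZT.node 648 (ZT.leaf [Int.ofNat 1558, Int.ofNat 621, Int.negSucc 363, Int.ofNat 101, Int.ofNat 3, Int.ofNat 197, Int.ofNat 21, Int.negSucc 48, Int.negSucc 2, Int.ofNat 0, Int.ofNat 0, Int.ofNat 0, Int.ofNat 2, Int.ofNat 1, Int.negSucc 223, Int.ofNat 0, Int.ofNat 35, Int.ofNat 0, Int.ofNat 174]) (ZT.leaf [Int.ofNat 1844, Int.ofNat 1114, Int.negSucc 500, Int.ofNat 219, Int.ofNat 4, Int.ofNat 342, Int.ofNat 31, Int.negSucc 94, Int.negSucc 4, Int.ofNat 0, Int.ofNat 0, Int.ofNat 0, Int.negSucc 2, Int.ofNat 5, Int.negSucc 372, Int.negSucc 5, Int.ofNat 53, Int.ofNat 0, Int.ofNat 286]))) (ZT.node 650 (ZT.leaf [Int.negSucc 606, Int.negSucc 146, Int.ofNat 146, Int.negSucc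 23, Int.ofNat 0, Int.negSucc 63, Int.negSucc 0, Int.ofNat 6, Int.negSucc 2, Int.ofNat 0, Int.ofNat 0, Int.ofNat 0, Int.negSucc 1, Int.negSucc 0, Int.ofNat 36, Int.ofNat 0, Int.negSucc 8, Int.ofNat 0, Int.negSucc 53]) (ZT.node 651 (ZT.leaf [Int.ofNat 34, Int.ofNat 10, Int.negSucc 9, Int.ofNat 2, Int.ofNat 0, Int.ofNat 5, Int.ofNat 0, Int.negSucc 0, Int.ofNat 0, Int.ofNat 0, Int.ofNat 0, Int.ofNat 0, Int.ofNat 0, Int.ofNat 0, Int.negSucc 2, Int.ofNat 0, Int.ofNat 1, Int.ofNat 0, Int.ofNat 4]) (ZT.leaf [Int.ofNat 7311, Int.ofNat 2970, Int.negSucc 1726, Int.ofNat 495, Int.ofNat 10, Int.ofNat 957, Int.ofNat 115, Int.negSucc 234, Int.negSucc 13, Int.ofNat 0, Int.ofNat 0, Int.ofNat 0, Int.ofNat 13, Int.ofNat 8, Int.negSucc 1045, Int.negSucc 1, Int.ofNat 140, Int.ofNat 0, Int.ofNat 835])))))) (ZT.node 663 (ZT.node 657 (ZT.node 654 (ZT.node 653 (ZT.leaf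 [Int.negSucc 379, Int.negSucc 259, Int.ofNat 91, Int.negSucc 44, Int.negSucc 0, Int.negSucc 65, Int.negSucc 10, Int.ofNat 22, Int.ofNat 4, Int.negSucc 0, Int.ofNat 0, Int.ofNat 0, Int.ofNat 0, Int.negSucc 0, Int.ofNat 85, Int.ofNat 1, Int.negSucc 8, Int.ofNat 0, Int.negSucc 57]) (ZT.leaf [])) (ZT.node 655 (ZT.leaf [Int.ofNat 59, Int.ofNat 14, Int.negSucc 5, Int.negSucc 0, Int.ofNat 0, Int.ofNat 1, Int.ofNat 1, Int.ofNat 2, Int.ofNat 0, Int.ofNat 1, Int.ofNat 0, Int.ofNat 0, Int.ofNat 1, Int.ofNat 0, Int.negSucc 0, Int.ofNat 0, Int.ofNat 0, Int.ofNat 0, Int.ofNat 3]) (ZT.node 656 (ZT.leaf [Int.negSucc 3333, Int.negSucc 1254, Int.ofNat 843, Int.negSucc 231, Int.negSucc 5, Int.negSucc 456, Int.negSucc 25, Int.ofNat 72, Int.negSucc 11, Int.ofNat 0, Int.ofNat 0, Int.ofNat 0, Int.negSucc 3, Int.negSucc 7, Int.ofNat 405, Int.ofNat 4, Int.negSucc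 56, Int.ofNat 0, Int.negSucc 374]) (ZT.leaf [Int.ofNat 3, Int.ofNat 1])))) (ZT.node 660 (ZT.node 658 (ZT.leaf [Int.negSucc 10778, Int.negSucc 3004, Int.ofNat 2358, Int.negSucc 364, Int.ofNat 0, Int.negSucc 1085, Int.negSucc 149, Int.ofNat 223, Int.ofNat 7, Int.ofNat 1, Int.ofNat 0, Int.ofNat 0, Int.negSucc 42, Int.negSucc 14, Int.ofNat 1182, Int.negSucc 11, Int.negSucc 194, Int.ofNat 0, Int.negSucc 1001]) (ZT.node 659 (ZT.leaf []) (ZT.leaf [Int.negSucc 0]))) (ZT.node 661 (ZT.leaf [Int.negSucc 0]) (ZT.node 662 (ZT.leaf [Int.negSucc 1526, Int.negSucc 533, Int.ofNat 393, Int.negSucc 108, Int.negSucc 4, Int.negSucc 215, Int.negSucc 27, Int.ofNat 55, Int.ofNat 1, Int.negSucc 0, Int.ofNat 0, Int.ofNat 0, Int.ofNat 2, Int.ofNat 0, Int.ofNat 214, Int.ofNat 1, Int.negSucc 31, Int.ofNat 0, Int.negSucc 180]) (ZT.leaf [Int.negSucc 1019, Int.negSucc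 360, Int.ofNat 235, Int.negSucc 52, Int.ofNat 0, Int.negSucc 128, Int.negSucc 14, Int.ofNat 27, Int.negSucc 0, Int.ofNat 0, Int.ofNat 0, Int.ofNat 0, Int.negSucc 1, Int.negSucc 0, Int.ofNat 117, Int.negSucc 0, Int.negSucc 12, Int.ofNat 0, Int.negSucc 108]))))) (ZT.node 669 (ZT.node 666 (ZT.node 664 (ZT.leaf [Int.negSucc 0]) (ZT.node 665 (ZT.leaf [Int.ofNat 18453, Int.ofNat 7516, Int.negSucc 4250, Int.ofNat 1176, Int.ofNat 33, Int.ofNat 2326, Int.ofNat 278, Int.negSucc 621, Int.negSucc 56, Int.ofNat 1, Int.negSucc 0, Int.ofNat 0, Int.ofNat 34, Int.ofNat 14, Int.negSucc 2646, Int.negSucc 3, Int.ofNat 449, Int.ofNat 0, Int.ofNat 2083]) (ZT.leaf [Int.ofNat 23240, Int.ofNat 8146, Int.negSucc 5333, Int.ofNat 1238, Int.ofNat 28, Int.ofNat 2744, Int.ofNat 323, Int.negSucc 624, Int.negSucc 27, Int.ofNat 2, Int.negSucc 0, Int.ofNat 0, Int.ofNat 58,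 Int.ofNat 26, Int.negSucc 2943, Int.ofNat 3, Int.ofNat 472, Int.ofNat 0, Int.ofNat 2438]))) (ZT.node 667 (ZT.leaf [Int.ofNat 1090, Int.ofNat 486, Int.negSucc 245, Int.ofNat 72, Int.ofNat 1, Int.ofNat 149, Int.ofNat 22, Int.negSucc 40, Int.negSucc 3, Int.ofNat 0, Int.ofNat 0, Int.ofNat 0, Int.ofNat 1, Int.ofNat 1, Int.negSucc 171, Int.ofNat 0, Int.ofNat 20, Int.ofNat 0, Int.ofNat 130]) (ZT.node 668 (ZT.leaf []) (ZT.leaf [Int.ofNat 1171, Int.ofNat 629, Int.negSucc 306, Int.ofNat 115, Int.negSucc 2, Int.ofNat 194, Int.ofNat 15, Int.negSucc 32, Int.ofNat 5, Int.ofNat 1, Int.ofNat 0, Int.ofNat 0, Int.ofNat 3, Int.ofNat 8, Int.negSucc 176, Int.negSucc 6, Int.ofNat 14, Int.ofNat 0, Int.ofNat 159])))) (ZT.node 672 (ZT.node 670 (ZT.leaf [Int.ofNat 88, Int.ofNat 16, Int.negSucc 27, Int.ofNat 4, Int.ofNat 0, Int.ofNat 11, Int.ofNat 0, Int.ofNat 0,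 Int.ofNat 1, Int.negSucc 0, Int.ofNat 0, Int.ofNat 0, Int.ofNat 0, Int.ofNat 0, Int.negSucc 8, Int.ofNat 0, Int.ofNat 2, Int.ofNat 0, Int.ofNat 10]) (ZT.node 671 (ZT.leaf [Int.negSucc 1, Int.negSucc 0]) (ZT.leaf [Int.negSucc 0]))) (ZT.node 673 (ZT.leaf [Int.ofNat 83, Int.ofNat 28, Int.negSucc 21, Int.ofNat 4, Int.ofNat 0, Int.ofNat 10, Int.ofNat 0, Int.negSucc 0, Int.ofNat 0, Int.negSucc 0, Int.ofNat 0, Int.ofNat 0, Int.ofNat 0, Int.ofNat 0, Int.negSucc 10, Int.ofNat 0, Int.ofNat 2, Int.ofNat 0, Int.ofNat 9]) (ZT.node 674 (ZT.leaf [Int.negSucc 82, Int.negSucc 26, Int.ofNat 22, Int.negSucc 3, Int.ofNat 0, Int.negSucc 9, Int.ofNat 0, Int.ofNat 1, Int.ofNat 0, Int.ofNat 1, Int.ofNat 0, Int.ofNat 0, Int.ofNat 0, Int.ofNat 0, Int.ofNat 11, Int.ofNat 0, Int.negSucc 1, Int.ofNat 0, Int.negSucc 8]) (ZT.leaf [Int.negSucc 48, Int.negSucc 1, Int.ofNat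 14, Int.negSucc 0, Int.ofNat 0, Int.negSucc 5, Int.ofNat 0, Int.ofNat 0, Int.negSucc 0, Int.negSucc 0, Int.ofNat 0, Int.ofNat 0, Int.ofNat 0, Int.ofNat 0, Int.negSucc 1, Int.ofNat 0, Int.negSucc 0, Int.ofNat 0, Int.negSucc 3]))))))) (ZT.node 697 (ZT.node 686 (ZT.node 680 (ZT.node 677 (ZT.node 676 (ZT.leaf []) (ZT.leaf [])) (ZT.node 678 (ZT.leaf [Int.negSucc 0]) (ZT.node 679 (ZT.leaf [Int.ofNat 69, Int.ofNat 38, Int.negSucc 13, Int.ofNat 4, Int.ofNat 0, Int.ofNat 9, Int.ofNat 0, Int.negSucc 0, Int.negSucc 0, Int.ofNat 0, Int.ofNat 0, Int.ofNat 0, Int.ofNat 0, Int.ofNat 0, Int.negSucc 17, Int.ofNat 0, Int.ofNat 4, Int.ofNat 0, Int.ofNat 10]) (ZT.leaf [])))) (ZT.node 683 (ZT.node 681 (ZT.leaf [Int.negSucc 5, Int.negSucc 0, Int.ofNat 3, Int.ofNat 0, Int.ofNat 0, Int.negSucc 0, Int.ofNat 0, Int.ofNat 1, Int.ofNat 0, Int.ofNat 1, Int.ofNat 0,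 Int.ofNat 0, Int.ofNat 0, Int.ofNat 0, Int.ofNat 0, Int.ofNat 0, Int.ofNat 0, Int.ofNat 0, Int.negSucc 0]) (ZT.node 682 (ZT.leaf [Int.ofNat 28, Int.ofNat 0, Int.negSucc 8, Int.ofNat 1, Int.ofNat 0, Int.ofNat 2, Int.ofNat 0, Int.ofNat 0, Int.ofNat 1, Int.ofNat 0, Int.ofNat 0, Int.ofNat 0, Int.ofNat 0, Int.ofNat 0, Int.ofNat 4, Int.ofNat 0, Int.ofNat 0, Int.ofNat 0, Int.ofNat 2]) (ZT.leaf [Int.ofNat 217, Int.ofNat 83, Int.negSucc 43, Int.ofNat 10, Int.ofNat 0, Int.ofNat 22, Int.ofNat 2, Int.negSucc 4, Int.negSucc 0, Int.ofNat 0, Int.ofNat 0, Int.ofNat 0, Int.ofNat 1, Int.ofNat 0, Int.negSucc 27, Int.ofNat 0, Int.ofNat 5, Int.ofNat 0, Int.ofNat 21]))) (ZT.node 684 (ZT.leaf []) (ZT.node 685 (ZT.leaf [Int.negSucc 0]) (ZT.leaf [Int.ofNat 1, Int.ofNat 0, Int.negSucc 0, Int.ofNat 0, Int.ofNat 0, Int.ofNat 0, Int.ofNat 0, Int.ofNat 0, Int.ofNat 0,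 Int.ofNat 0, Int.ofNat 0, Int.ofNat 0, Int.ofNat 0, Int.ofNat 0, Int.ofNat 0, Int.ofNat 0, Int.ofNat 1, Int.ofNat 0, Int.ofNat 0]))))) (ZT.node 691 (ZT.node 688 (ZT.node 687 (ZT.leaf []) (ZT.leaf [Int.ofNat 19, Int.negSucc 9, Int.negSucc 8, Int.ofNat 1, Int.ofNat 0, Int.ofNat 3, Int.ofNat 0, Int.negSucc 0, Int.ofNat 1, Int.ofNat 0, Int.ofNat 0, Int.ofNat 0, Int.negSucc 0, Int.ofNat 0, Int.ofNat 4, Int.ofNat 0, Int.ofNat 1, Int.ofNat 0, Int.ofNat 2])) (ZT.node 689 (ZT.leaf []) (ZT.node 690 (ZT.leaf [Int.negSucc 0]) (ZT.leaf [])))) (ZT.node 694 (ZT.node 692 (ZT.leaf [Int.negSucc 0]) (ZT.node 693 (ZT.leaf [Int.negSucc 17, Int.ofNat 11, Int.ofNat 9, Int.negSucc 0, Int.ofNat 0, Int.negSucc 2, Int.ofNat 0, Int.ofNat 1, Int.negSucc 0, Int.ofNat 0, Int.ofNat 0, Int.ofNat 0, Int.ofNat 1, Int.ofNat 0, Int.negSucc 3, Int.ofNat 0, Int.negSucc 0, Int.ofNat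 0, Int.negSucc 1]) (ZT.leaf []))) (ZT.node 695 (ZT.leaf [Int.ofNat 584, Int.ofNat 1278, Int.negSucc 219, Int.ofNat 251, Int.ofNat 4, Int.ofNat 282, Int.ofNat 24, Int.negSucc 92, Int.negSucc 12, Int.ofNat 0, Int.ofNat 0, Int.ofNat 0, Int.negSucc 4, Int.ofNat 11, Int.negSucc 370, Int.negSucc 13, Int.ofNat 50, Int.ofNat 0, Int.ofNat 234]) (ZT.node 696 (ZT.leaf [Int.ofNat 252, Int.negSucc 99, Int.negSucc 45, Int.negSucc 17, Int.ofNat 1, Int.negSucc 2, Int.negSucc 6, Int.ofNat 15, Int.ofNat 6, Int.ofNat 0, Int.ofNat 0, Int.ofNat 0, Int.ofNat 1, Int.negSucc 1, Int.ofNat 32, Int.ofNat 2, Int.negSucc 0, Int.ofNat 0, Int.negSucc 7]) (ZT.leaf [Int.ofNat 783, Int.ofNat 1086, Int.negSucc 237, Int.ofNat 203, Int.ofNat 8, Int.ofNat 247, Int.ofNat 24, Int.negSucc 79, Int.negSucc 11, Int.ofNat 0, Int.ofNat 0, Int.ofNat 0, Int.negSucc 4, Int.ofNat 12, Int.negSucc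 362, Int.negSucc 9, Int.ofNat 46, Int.ofNat 0, Int.ofNat 210])))))) (ZT.node 708 (ZT.node 702 (ZT.node 699 (ZT.node 698 (ZT.leaf []) (ZT.leaf [Int.negSucc 424, Int.negSucc 170, Int.ofNat 153, Int.negSucc 55, Int.negSucc 2, Int.negSucc 90, Int.ofNat 3, Int.ofNat 19, Int.negSucc 2, Int.ofNat 0, Int.ofNat 0, Int.ofNat 0, Int.ofNat 5, Int.negSucc 0, Int.ofNat 60, Int.ofNat 1, Int.negSucc 15, Int.ofNat 0, Int.negSucc 64])) (ZT.node 700 (ZT.leaf [Int.negSucc 1755, Int.negSucc 934, Int.ofNat 410, Int.negSucc 149, Int.negSucc 4, Int.negSucc 246, Int.negSucc 46, Int.ofNat 100, Int.ofNat 22, Int.ofNat 0, Int.ofNat 0, Int.ofNat 0, Int.ofNat 0, Int.negSucc 0, Int.ofNat 353, Int.ofNat 0, Int.negSucc 56, Int.ofNat 0, Int.negSucc 232]) (ZT.node 701 (ZT.leaf [Int.ofNat 2848, Int.ofNat 7, Int.negSucc 630, Int.negSucc 30, Int.negSucc 2, Int.ofNat 169, Int.negSucc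 28, Int.ofNat 57, Int.ofNat 35, Int.ofNat 0, Int.ofNat 0, Int.ofNat 0, Int.ofNat 18, Int.ofNat 1, Int.ofNat 3, Int.ofNat 11, Int.ofNat 21, Int.ofNat 0, Int.ofNat 140]) (ZT.leaf [Int.ofNat 0, Int.ofNat 0, Int.ofNat 1, Int.ofNat 0, Int.ofNat 0, Int.ofNat 0, Int.ofNat 0, Int.ofNat 0, Int.ofNat 0, Int.ofNat 1, Int.ofNat 0, Int.ofNat 0, Int.ofNat 0, Int.ofNat 0, Int.ofNat 0, Int.ofNat 0, Int.ofNat 2, Int.ofNat 0, Int.ofNat 0])))) (ZT.node 705 (ZT.node 703 (ZT.leaf [Int.ofNat 1, Int.ofNat 1, Int.ofNat 0, Int.ofNat 0, Int.ofNat 0, Int.negSucc 0]) (ZT.node 704 (ZT.leaf []) (ZT.leaf [Int.ofNat 145, Int.ofNat 109, Int.negSucc 32, Int.ofNat 17, Int.ofNat 0, Int.ofNat 22, Int.ofNat 5, Int.negSucc 6, Int.negSucc 1, Int.ofNat 0, Int.ofNat 0, Int.ofNat 0, Int.ofNat 1, Int.ofNat 1, Int.negSucc 32, Int.negSucc 0, Int.ofNat 4, Int.ofNat 0, Int.ofNat 23])))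 (ZT.node 706 (ZT.leaf [Int.negSucc 0]) (ZT.node 707 (ZT.leaf [Int.negSucc 0]) (ZT.leaf [Int.negSucc 25, Int.negSucc 11, Int.ofNat 5, Int.ofNat 0, Int.ofNat 0, Int.negSucc 2, Int.ofNat 0, Int.ofNat 0, Int.ofNat 0, Int.ofNat 0, Int.ofNat 0, Int.ofNat 0, Int.ofNat 0, Int.ofNat 0, Int.ofNat 2, Int.ofNat 0, Int.ofNat 1, Int.ofNat 0, Int.negSucc 1]))))) (ZT.node 714 (ZT.node 711 (ZT.node 709 (ZT.leaf [Int.ofNat 1, Int.ofNat 1]) (ZT.node 710 (ZT.leaf [Int.negSucc 69, Int.negSucc 6, Int.ofNat 16, Int.ofNat 0, Int.ofNat 0, Int.negSucc 4, Int.ofNat 0, Int.negSucc 0, Int.negSucc 0, Int.ofNat 0, Int.ofNat 0, Int.ofNat 0, Int.ofNat 0, Int.negSucc 0, Int.negSucc 0, Int.ofNat 0, Int.ofNat 1, Int.ofNat 0, Int.negSucc 3]) (ZT.leaf [Int.ofNat 73, Int.ofNat 7, Int.negSucc 18, Int.ofNat 1, Int.ofNat 0, Int.ofNat 7, Int.ofNat 0, Int.ofNat 0, Int.ofNat 1, Int.ofNat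 0, Int.ofNat 0, Int.ofNat 0, Int.ofNat 0, Int.ofNat 0, Int.ofNat 1, Int.ofNat 0, Int.ofNat 0, Int.ofNat 0, Int.ofNat 5]))) (ZT.node 712 (ZT.leaf [Int.ofNat 1091, Int.ofNat 594, Int.negSucc 262, Int.ofNat 103, Int.ofNat 3, Int.ofNat 163, Int.ofNat 23, Int.negSucc 37, Int.negSucc 5, Int.ofNat 0, Int.ofNat 0, Int.ofNat 0, Int.ofNat 5, Int.ofNat 2, Int.negSucc 191, Int.negSucc 0, Int.ofNat 18, Int.ofNat 0, Int.ofNat 145]) (ZT.node 713 (ZT.leaf [Int.negSucc 0]) (ZT.leaf [Int.ofNat 2488, Int.ofNat 1184, Int.negSucc 538, Int.ofNat 173, Int.ofNat 7, Int.ofNat 322, Int.ofNat 72, Int.negSucc 125, Int.negSucc 25, Int.ofNat 0, Int.ofNat 0, Int.ofNat 0, Int.ofNat 3, Int.ofNat 0, Int.negSucc 538, Int.ofNat 2, Int.ofNat 68, Int.ofNat 0, Int.ofNat 308])))) (ZT.node 717 (ZT.node 715 (ZT.leaf [Int.negSucc 0]) (ZT.node 716 (ZT.leaf []) (ZT.leaf []))) (ZT.node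 718 (ZT.leaf [Int.ofNat 1758, Int.ofNat 178, Int.negSucc 356, Int.ofNat 0, Int.negSucc 2, Int.ofNat 136, Int.ofNat 36, Int.negSucc 33, Int.ofNat 1, Int.ofNat 0, Int.ofNat 0, Int.ofNat 0, Int.ofNat 5, Int.negSucc 5, Int.negSucc 150, Int.ofNat 9, Int.ofNat 16, Int.ofNat 0, Int.ofNat 124]) (ZT.node 719 (ZT.leaf [Int.negSucc 3, Int.negSucc 2, Int.ofNat 0, Int.ofNat 0, Int.ofNat 0, Int.ofNat 0, Int.ofNat 0, Int.ofNat 1, Int.ofNat 0, Int.ofNat 0, Int.ofNat 0, Int.ofNat 0, Int.ofNat 0, Int.ofNat 0, Int.ofNat 0, Int.ofNat 0, Int.ofNat 0, Int.ofNat 0, Int.ofNat 0]) (ZT.leaf [Int.negSucc 387, Int.negSucc 174, Int.ofNat 84, Int.negSucc 26, Int.ofNat 0, Int.negSucc 46, Int.negSucc 9, Int.ofNat 5, Int.ofNat 0, Int.ofNat 0, Int.ofNat 0, Int.ofNat 0, Int.negSucc 3, Int.negSucc 1, Int.ofNat 44, Int.ofNat 1, Int.ofNat 5, Int.ofNat 0, Int.negSucc 42]))))))))))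

noncomputable def labT_2 : ZT := (ZT.node 900 (ZT.node 810 (ZT.node 765 (ZT.node 742 (ZT.node 731 (ZT.node 725 (ZT.node 722 (ZT.node 721 (ZT.leaf [Int.negSucc 977, Int.negSucc 599, Int.ofNat 229, Int.negSucc 99, Int.negSucc 1, Int.negSucc 151, Int.negSucc 22, Int.ofNat 45, Int.ofNat 8, Int.ofNat 0, Int.ofNat 0, Int.ofNat 0, Int.negSucc 1, Int.negSucc 2, Int.ofNat 195, Int.ofNat 3, Int.negSucc 19, Int.ofNat 0, Int.negSucc 136]) (ZT.leaf [])) (ZT.node 723 (ZT.leaf [Int.negSucc 1018, Int.ofNat 1222, Int.ofNat 187, Int.ofNat 241, Int.ofNat 8, Int.ofNat 135, Int.ofNat 67, Int.negSucc 126, Int.negSucc 46, Int.negSucc 0, Int.ofNat 0, Int.negSucc 0, Int.negSucc 9, Int.ofNat 6, Int.negSucc 425, Int.negSucc 15, Int.ofNat 14, Int.negSucc 0, Int.ofNat 136]) (ZT.node 724 (ZT.leaf [Int.negSucc 0]) (ZT.leaf [Int.ofNat 424, Int.ofNat 171, Int.negSucc 152,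 Int.ofNat 56, Int.ofNat 3, Int.ofNat 91, Int.negSucc 2, Int.negSucc 18, Int.ofNat 3, Int.ofNat 0, Int.ofNat 0, Int.ofNat 0, Int.negSucc 4, Int.ofNat 1, Int.negSucc 59, Int.negSucc 0, Int.ofNat 16, Int.ofNat 0, Int.ofNat 65])))) (ZT.node 728 (ZT.node 726 (ZT.leaf []) (ZT.node 727 (ZT.leaf [Int.ofNat 2801, Int.ofNat 1012, Int.negSucc 660, Int.ofNat 169, Int.ofNat 4, Int.ofNat 333, Int.ofNat 38, Int.negSucc 73, Int.negSucc 2, Int.ofNat 0, Int.ofNat 0, Int.ofNat 0, Int.ofNat 6, Int.ofNat 2, Int.negSucc 404, Int.ofNat 2, Int.ofNat 62, Int.ofNat 0, Int.ofNat 300]) (ZT.leaf [Int.negSucc 542, Int.negSucc 302, Int.ofNat 141, Int.negSucc 55, Int.negSucc 1, Int.negSucc 87, Int.negSucc 5, Int.ofNat 27, Int.ofNat 3, Int.ofNat 0, Int.ofNat 0, Int.ofNat 0, Int.ofNat 1, Int.negSucc 0, Int.ofNat 101, Int.ofNat 1, Int.negSucc 18, Int.ofNat 0, Int.negSucc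 75]))) (ZT.node 729 (ZT.leaf [Int.negSucc 0]) (ZT.node 730 (ZT.leaf [Int.negSucc 79, Int.negSucc 20, Int.ofNat 17, Int.negSucc 2, Int.ofNat 0, Int.negSucc 6, Int.negSucc 0, Int.negSucc 0, Int.ofNat 0, Int.ofNat 0, Int.ofNat 0, Int.ofNat 0, Int.negSucc 0, Int.ofNat 0, Int.ofNat 4, Int.negSucc 0, Int.negSucc 0, Int.ofNat 0, Int.negSucc 6]) (ZT.leaf [Int.negSucc 1010, Int.negSucc 534, Int.ofNat 223, Int.negSucc 81, Int.negSucc 2, Int.negSucc 140, Int.negSucc 27, Int.ofNat 49, Int.ofNat 11, Int.ofNat 0, Int.ofNat 0, Int.ofNat 0, Int.negSucc 1, Int.ofNat 0, Int.ofNat 206, Int.ofNat 1, Int.negSucc 20, Int.ofNat 0, Int.negSucc 129]))))) (ZT.node 736 (ZT.node 733 (ZT.node 732 (ZT.leaf [Int.negSucc 19, Int.ofNat 10, Int.ofNat 9, Int.negSucc 0, Int.ofNat 0, Int.negSucc 2, Int.ofNat 0, Int.ofNat 1, Int.negSucc 0, Int.ofNat 0, Int.ofNat 0, Int.ofNat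 0, Int.ofNat 1, Int.ofNat 0, Int.negSucc 3, Int.ofNat 0, Int.negSucc 0, Int.ofNat 0, Int.negSucc 1]) (ZT.leaf [Int.negSucc 1192, Int.negSucc 523, Int.ofNat 278, Int.negSucc 83, Int.negSucc 0, Int.negSucc 162, Int.negSucc 19, Int.ofNat 39, Int.ofNat 2, Int.ofNat 0, Int.ofNat 0, Int.ofNat 0, Int.negSucc 2, Int.negSucc 2, Int.ofNat 200, Int.ofNat 2, Int.negSucc 24, Int.ofNat 0, Int.negSucc 142])) (ZT.node 734 (ZT.leaf [Int.negSucc 489, Int.negSucc 281, Int.ofNat 104, Int.negSucc 39, Int.ofNat 0, Int.negSucc 68, Int.negSucc 13, Int.ofNat 26, Int.ofNat 4, Int.ofNat 0, Int.ofNat 0, Int.ofNat 0, Int.negSucc 0, Int.negSucc 1, Int.ofNat 105, Int.ofNat 1, Int.negSucc 11, Int.ofNat 0, Int.negSucc 65]) (ZT.node 735 (ZT.leaf [Int.ofNat 90, Int.negSucc 420, Int.ofNat 28, Int.negSucc 94, Int.negSucc 4, Int.negSucc 77, Int.negSucc 0, Int.ofNat 30, Int.ofNat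 5, Int.ofNat 0, Int.ofNat 0, Int.ofNat 0, Int.ofNat 6, Int.negSucc 5, Int.ofNat 129, Int.ofNat 7, Int.negSucc 20, Int.negSucc 0, Int.negSucc 62]) (ZT.leaf [Int.negSucc 321, Int.negSucc 187, Int.ofNat 72, Int.negSucc 29, Int.negSucc 0, Int.negSucc 46, Int.negSucc 5, Int.ofNat 12, Int.ofNat 2, Int.ofNat 0, Int.ofNat 0, Int.ofNat 0, Int.negSucc 1, Int.negSucc 0, Int.ofNat 65, Int.ofNat 1, Int.negSucc 6, Int.ofNat 0, Int.negSucc 42])))) (ZT.node 739 (ZT.node 737 (ZT.leaf [Int.negSucc 119, Int.negSucc 132, Int.negSucc 11, Int.ofNat 0, Int.ofNat 1, Int.ofNat 3, Int.negSucc 8, Int.ofNat 8, Int.ofNat 6, Int.ofNat 0, Int.ofNat 0, Int.ofNat 0, Int.negSucc 3, Int.ofNat 0, Int.ofNat 41, Int.ofNat 0, Int.negSucc 2, Int.ofNat 0, Int.negSucc 10]) (ZT.node 738 (ZT.leaf [Int.ofNat 364, Int.ofNat 254, Int.negSucc 89, Int.ofNat 45, Int.ofNat 1, Int.ofNat 65,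 Int.ofNat 11, Int.negSucc 20, Int.negSucc 3, Int.ofNat 1, Int.ofNat 0, Int.ofNat 0, Int.ofNat 0, Int.ofNat 1, Int.negSucc 84, Int.negSucc 0, Int.ofNat 5, Int.ofNat 0, Int.ofNat 58]) (ZT.leaf []))) (ZT.node 740 (ZT.leaf [Int.negSucc 0, Int.negSucc 0]) (ZT.node 741 (ZT.leaf [Int.negSucc 0]) (ZT.leaf [Int.negSucc 1, Int.negSucc 13, Int.negSucc 5, Int.ofNat 1, Int.ofNat 0, Int.ofNat 3, Int.negSucc 0, Int.negSucc 0, Int.ofNat 1, Int.ofNat 0, Int.ofNat 0, Int.ofNat 0, Int.negSucc 0, Int.ofNat 0, Int.ofNat 4, Int.ofNat 0, Int.ofNat 1, Int.ofNat 0, Int.ofNat 1])))))) (ZT.node 753 (ZT.node 747 (ZT.node 744 (ZT.node 743 (ZT.leaf [Int.negSucc 44, Int.negSucc 36, Int.ofNat 11, Int.negSucc 7, Int.ofNat 0, Int.negSucc 7, Int.negSucc 0, Int.ofNat 3, Int.ofNat 1, Int.ofNat 0, Int.ofNat 0, Int.ofNat 0, Int.ofNat 0, Int.ofNat 0, Int.ofNat 14, Int.ofNat 0,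 Int.negSucc 1, Int.ofNat 0, Int.negSucc 6]) (ZT.leaf [])) (ZT.node 745 (ZT.leaf []) (ZT.node 746 (ZT.leaf [Int.ofNat 45, Int.ofNat 38, Int.negSucc 10, Int.ofNat 8, Int.ofNat 0, Int.ofNat 8, Int.ofNat 1, Int.negSucc 2, Int.negSucc 0, Int.ofNat 0, Int.ofNat 0, Int.ofNat 0, Int.ofNat 0, Int.ofNat 0, Int.negSucc 13, Int.ofNat 0, Int.ofNat 2, Int.ofNat 0, Int.ofNat 7]) (ZT.leaf [])))) (ZT.node 750 (ZT.node 748 (ZT.leaf [Int.negSucc 1, Int.ofNat 10, Int.ofNat 6, Int.negSucc 0, Int.ofNat 0, Int.negSucc 2, Int.ofNat 1, Int.ofNat 1, Int.negSucc 0, Int.ofNat 0, Int.ofNat 0, Int.ofNat 0, Int.ofNat 1, Int.ofNat 0, Int.negSucc 3, Int.ofNat 0, Int.negSucc 0, Int.ofNat 0, Int.negSucc 0]) (ZT.node 749 (ZT.leaf []) (ZT.leaf [Int.negSucc 322, Int.negSucc 187, Int.ofNat 72, Int.negSucc 29, Int.negSucc 0, Int.negSucc 46, Int.negSucc 5, Int.ofNat 12, Int.ofNat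 2, Int.ofNat 0, Int.ofNat 0, Int.ofNat 0, Int.negSucc 1, Int.negSucc 0, Int.ofNat 65, Int.ofNat 1, Int.negSucc 6, Int.ofNat 0, Int.negSucc 42]))) (ZT.node 751 (ZT.leaf [Int.negSucc 0]) (ZT.node 752 (ZT.leaf [Int.negSucc 479, Int.negSucc 367, Int.ofNat 110, Int.negSucc 60, Int.negSucc 0, Int.negSucc 82, Int.negSucc 15, Int.ofNat 29, Int.ofNat 7, Int.ofNat 0, Int.ofNat 0, Int.ofNat 0, Int.negSucc 0, Int.negSucc 1, Int.ofNat 121, Int.ofNat 2, Int.negSucc 11, Int.ofNat 0, Int.negSucc 77]) (ZT.leaf []))))) (ZT.node 759 (ZT.node 756 (ZT.node 754 (ZT.leaf []) (ZT.node 755 (ZT.leaf [Int.ofNat 2208, Int.ofNat 4333, Int.negSucc 655, Int.ofNat 830, Int.ofNat 32, Int.ofNat 814, Int.ofNat 104, Int.negSucc 369, Int.negSucc 80, Int.ofNat 0, Int.ofNat 0, Int.ofNat 0, Int.negSucc 20, Int.ofNat 11, Int.negSucc 1331, Int.negSucc 45, Int.ofNat 155, Int.ofNat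 0, Int.ofNat 728]) (ZT.leaf [Int.ofNat 1692, Int.ofNat 527, Int.negSucc 390, Int.ofNat 72, Int.negSucc 0, Int.ofNat 194, Int.ofNat 14, Int.negSucc 31, Int.ofNat 2, Int.ofNat 0, Int.ofNat 0, Int.ofNat 0, Int.ofNat 5, Int.ofNat 1, Int.negSucc 180, Int.ofNat 2, Int.ofNat 38, Int.ofNat 0, Int.ofNat 173]))) (ZT.node 757 (ZT.leaf [Int.ofNat 4179, Int.ofNat 229, Int.negSucc 932, Int.ofNat 13, Int.negSucc 2, Int.ofNat 313, Int.ofNat 26, Int.negSucc 4, Int.ofNat 27, Int.ofNat 0, Int.ofNat 0, Int.ofNat 0, Int.ofNat 17, Int.negSucc 7, Int.negSucc 126, Int.ofNat 16, Int.ofNat 22, Int.ofNat 0, Int.ofNat 255]) (ZT.node 758 (ZT.leaf [Int.negSucc 398, Int.negSucc 113, Int.ofNat 94, Int.negSucc 17, Int.ofNat 0, Int.negSucc 43, Int.negSucc 1, Int.ofNat 7, Int.negSucc 0, Int.ofNat 0, Int.ofNat 0, Int.ofNat 0, Int.negSucc 0, Int.negSucc 1, Int.ofNat 31, Int.ofNat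 0, Int.negSucc 6, Int.ofNat 0, Int.negSucc 37]) (ZT.leaf [Int.ofNat 2827, Int.ofNat 885, Int.negSucc 687, Int.ofNat 156, Int.ofNat 4, Int.ofNat 363, Int.ofNat 41, Int.negSucc 70, Int.ofNat 5, Int.ofNat 0, Int.ofNat 0, Int.ofNat 0, Int.ofNat 2, Int.ofNat 2, Int.negSucc 331, Int.ofNat 2, Int.ofNat 44, Int.ofNat 0, Int.ofNat 300])))) (ZT.node 762 (ZT.node 760 (ZT.leaf [Int.ofNat 1907, Int.ofNat 945, Int.negSucc 456, Int.ofNat 161, Int.ofNat 4, Int.ofNat 281, Int.ofNat 40, Int.negSucc 85, Int.negSucc 9, Int.ofNat 0, Int.ofNat 0, Int.ofNat 0, Int.ofNat 3, Int.ofNat 2, Int.negSucc 391, Int.negSucc 0, Int.ofNat 53, Int.ofNat 0, Int.ofNat 254]) (ZT.node 761 (ZT.leaf [Int.ofNat 19439, Int.ofNat 6380, Int.negSucc 4401, Int.ofNat 943, Int.ofNat 9, Int.ofNat 2181, Int.ofNat 254, Int.negSucc 442, Int.negSucc 3, Int.negSucc 0, Int.ofNat 1, Int.ofNat 0,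 Int.ofNat 67, Int.ofNat 21, Int.negSucc 2374, Int.ofNat 3, Int.ofNat 346, Int.ofNat 0, Int.ofNat 1953]) (ZT.leaf []))) (ZT.node 763 (ZT.leaf [Int.ofNat 6420, Int.ofNat 3356, Int.negSucc 1495, Int.ofNat 540, Int.ofNat 12, Int.ofNat 923, Int.ofNat 123, Int.negSucc 251, Int.negSucc 28, Int.ofNat 0, Int.ofNat 0, Int.ofNat 0, Int.ofNat 16, Int.ofNat 16, Int.negSucc 1156, Int.negSucc 16, Int.ofNat 140, Int.ofNat 0, Int.ofNat 833]) (ZT.node 764 (ZT.leaf [Int.ofNat 2, Int.ofNat 12, Int.ofNat 5, Int.negSucc 0, Int.ofNat 0, Int.negSucc 2, Int.ofNat 1, Int.ofNat 1, Int.negSucc 0, Int.ofNat 0, Int.ofNat 0, Int.ofNat 0, Int.ofNat 1, Int.ofNat 0, Int.negSucc 3, Int.ofNat 0, Int.negSucc 0, Int.ofNat 0, Int.negSucc 0]) (ZT.leaf []))))))) (ZT.node 787 (ZT.node 776 (ZT.node 770 (ZT.node 767 (ZT.node 766 (ZT.leaf []) (ZT.leaf [Int.ofNat 165, Int.ofNat 155,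 Int.negSucc 24, Int.ofNat 20, Int.ofNat 1, Int.ofNat 20, Int.ofNat 6, Int.negSucc 8, Int.negSucc 4, Int.ofNat 0, Int.ofNat 0, Int.ofNat 0, Int.ofNat 3, Int.ofNat 0, Int.negSucc 61, Int.negSucc 0, Int.ofNat 8, Int.ofNat 0, Int.ofNat 25])) (ZT.node 768 (ZT.leaf []) (ZT.node 769 (ZT.leaf [Int.negSucc 18, Int.negSucc 6, Int.ofNat 6, Int.negSucc 2, Int.ofNat 0, Int.negSucc 2, Int.ofNat 0, Int.ofNat 1, Int.ofNat 0, Int.ofNat 0, Int.ofNat 0, Int.ofNat 0, Int.ofNat 0, Int.ofNat 0, Int.ofNat 7, Int.ofNat 0, Int.negSucc 0, Int.ofNat 0, Int.negSucc 1]) (ZT.leaf [Int.ofNat 418, Int.ofNat 239, Int.negSucc 107, Int.ofNat 43, Int.ofNat 3, Int.ofNat 78, Int.ofNat 9, Int.negSucc 23, Int.negSucc 0, Int.ofNat 0, Int.ofNat 0, Int.ofNat 0, Int.negSucc 2, Int.ofNat 2, Int.negSucc 70, Int.negSucc 2, Int.ofNat 6, Int.ofNat 0, Int.ofNat 60])))) (ZT.node 773 (ZT.node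 771 (ZT.leaf []) (ZT.node 772 (ZT.leaf []) (ZT.leaf [Int.negSucc 2385, Int.negSucc 959, Int.ofNat 551, Int.negSucc 151, Int.negSucc 3, Int.negSucc 292, Int.negSucc 39, Int.ofNat 78, Int.ofNat 8, Int.ofNat 0, Int.ofNat 0, Int.ofNat 0, Int.negSucc 3, Int.negSucc 0, Int.ofNat 398, Int.negSucc 1, Int.negSucc 61, Int.ofNat 0, Int.negSucc 264]))) (ZT.node 774 (ZT.leaf [Int.negSucc 5497, Int.negSucc 3233, Int.ofNat 1257, Int.negSucc 511, Int.negSucc 12, Int.negSucc 819, Int.negSucc 138, Int.ofNat 274, Int.ofNat 48, Int.ofNat 0, Int.ofNat 0, Int.ofNat 0, Int.negSucc 10, Int.negSucc 11, Int.ofNat 1163, Int.ofNat 17, Int.negSucc 140, Int.ofNat 0, Int.negSucc 758]) (ZT.node 775 (ZT.leaf []) (ZT.leaf [Int.negSucc 0]))))) (ZT.node 781 (ZT.node 778 (ZT.node 777 (ZT.leaf []) (ZT.leaf [Int.negSucc 0])) (ZT.node 779 (ZT.leaf []) (ZT.node 780 (ZT.leaf [Int.ofNat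 132, Int.ofNat 27, Int.negSucc 35, Int.ofNat 6, Int.ofNat 0, Int.ofNat 17, Int.ofNat 1, Int.negSucc 1, Int.ofNat 1, Int.ofNat 0, Int.ofNat 0, Int.ofNat 0, Int.ofNat 0, Int.ofNat 0, Int.negSucc 10, Int.ofNat 0, Int.ofNat 1, Int.ofNat 0, Int.ofNat 14]) (ZT.leaf [])))) (ZT.node 784 (ZT.node 782 (ZT.leaf [Int.ofNat 584, Int.ofNat 186, Int.negSucc 147, Int.ofNat 34, Int.ofNat 1, Int.ofNat 70, Int.ofNat 4, Int.negSucc 14, Int.ofNat 1, Int.ofNat 0, Int.ofNat 0, Int.ofNat 0, Int.ofNat 0, Int.ofNat 1, Int.negSucc 55, Int.negSucc 0, Int.ofNat 15, Int.ofNat 0, Int.ofNat 60]) (ZT.node 783 (ZT.leaf [Int.negSucc 5148, Int.negSucc 1540, Int.ofNat 1200, Int.negSucc 251, Int.negSucc 13, Int.negSucc 579, Int.negSucc 68, Int.ofNat 147, Int.ofNat 7, Int.ofNat 1, Int.ofNat 0, Int.ofNat 0, Int.negSucc 2, Int.ofNat 2, Int.ofNat 637, Int.negSucc 6, Int.negSucc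 134, Int.ofNat 0, Int.negSucc 517]) (ZT.leaf [Int.ofNat 2493, Int.ofNat 892, Int.negSucc 586, Int.ofNat 146, Int.ofNat 4, Int.ofNat 300, Int.ofNat 34, Int.negSucc 65, Int.negSucc 1, Int.ofNat 0, Int.ofNat 0, Int.ofNat 0, Int.ofNat 4, Int.ofNat 1, Int.negSucc 339, Int.ofNat 1, Int.ofNat 52, Int.ofNat 0, Int.ofNat 265]))) (ZT.node 785 (ZT.leaf [Int.negSucc 3186, Int.negSucc 1077, Int.ofNat 753, Int.negSucc 173, Int.negSucc 3, Int.negSucc 377, Int.negSucc 34, Int.ofNat 74, Int.negSucc 1, Int.ofNat 0, Int.ofNat 0, Int.ofNat 0, Int.negSucc 5, Int.negSucc 2, Int.ofNat 391, Int.negSucc 0, Int.negSucc 66, Int.ofNat 0, Int.negSucc 331]) (ZT.node 786 (ZT.leaf []) (ZT.leaf [Int.negSucc 0])))))) (ZT.node 798 (ZT.node 792 (ZT.node 789 (ZT.node 788 (ZT.leaf [Int.negSucc 44, Int.negSucc 0, Int.ofNat 3, Int.ofNat 4, Int.ofNat 1, Int.ofNat 0, Int.ofNat 1,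 Int.negSucc 3, Int.negSucc 0, Int.ofNat 0, Int.ofNat 0, Int.ofNat 0, Int.negSucc 0, Int.ofNat 0, Int.ofNat 2, Int.negSucc 0, Int.ofNat 0, Int.ofNat 0, Int.ofNat 0]) (ZT.leaf [])) (ZT.node 790 (ZT.leaf [Int.ofNat 184, Int.ofNat 74, Int.negSucc 52, Int.ofNat 16, Int.ofNat 1, Int.ofNat 29, Int.ofNat 0, Int.negSucc 6, Int.ofNat 0, Int.ofNat 0, Int.ofNat 0, Int.ofNat 0, Int.ofNat 0, Int.ofNat 1, Int.negSucc 23, Int.negSucc 0, Int.ofNat 9, Int.ofNat 0, Int.ofNat 24]) (ZT.node 791 (ZT.leaf [Int.negSucc 13, Int.ofNat 8, Int.ofNat 6, Int.ofNat 0, Int.ofNat 0, Int.negSucc 0, Int.ofNat 0, Int.negSucc 0, Int.negSucc 0, Int.ofNat 0, Int.ofNat 0, Int.ofNat 0, Int.ofNat 0, Int.ofNat 0, Int.negSucc 1, Int.ofNat 0, Int.ofNat 0, Int.ofNat 0, Int.negSucc 0]) (ZT.leaf [Int.negSucc 0])))) (ZT.node 795 (ZT.node 793 (ZT.leaf [Int.negSucc 4, Int.negSucc 4, Int.ofNat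 0, Int.ofNat 0, Int.ofNat 0, Int.ofNat 0, Int.ofNat 0, Int.ofNat 0, Int.ofNat 0, Int.ofNat 0, Int.ofNat 0, Int.ofNat 0, Int.ofNat 0, Int.ofNat 0, Int.ofNat 0]) (ZT.node 794 (ZT.leaf [Int.negSucc 0]) (ZT.leaf [Int.ofNat 3, Int.ofNat 0, Int.negSucc 0, Int.ofNat 0, Int.ofNat 0, Int.ofNat 0, Int.ofNat 0, Int.ofNat 0, Int.ofNat 0, Int.ofNat 0, Int.ofNat 0, Int.ofNat 0, Int.ofNat 0, Int.ofNat 0, Int.ofNat 2, Int.ofNat 0, Int.ofNat 0, Int.ofNat 0, Int.negSucc 0]))) (ZT.node 796 (ZT.leaf [Int.negSucc 533, Int.ofNat 536, Int.ofNat 84, Int.ofNat 117, Int.ofNat 5, Int.ofNat 39, Int.negSucc 1, Int.negSucc 27, Int.negSucc 12, Int.negSucc 0, Int.ofNat 0, Int.ofNat 0, Int.ofNat 2, Int.ofNat 3, Int.negSucc 95, Int.negSucc 13, Int.ofNat 3, Int.ofNat 0, Int.ofNat 35]) (ZT.node 797 (ZT.leaf [Int.negSucc 9, Int.ofNat 6, Int.ofNat 3, Int.ofNat 0, Int.ofNat 0,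 Int.ofNat 0, Int.ofNat 0, Int.negSucc 0, Int.negSucc 0, Int.negSucc 0, Int.ofNat 0, Int.ofNat 0, Int.ofNat 0, Int.ofNat 0, Int.negSucc 1, Int.ofNat 0, Int.ofNat 0, Int.ofNat 0, Int.ofNat 0]) (ZT.leaf [Int.negSucc 151, Int.ofNat 60, Int.ofNat 35, Int.ofNat 11, Int.ofNat 1, Int.ofNat 4, Int.ofNat 6, Int.negSucc 10, Int.negSucc 3, Int.ofNat 1, Int.ofNat 0, Int.ofNat 0, Int.negSucc 1, Int.ofNat 0, Int.negSucc 19, Int.negSucc 0, Int.negSucc 0, Int.ofNat 0, Int.ofNat 3]))))) (ZT.node 804 (ZT.node 801 (ZT.node 799 (ZT.leaf [Int.ofNat 5528, Int.ofNat 3123, Int.negSucc 1314, Int.ofNat 513, Int.ofNat 9, Int.ofNat 847, Int.ofNat 95, Int.negSucc 227, Int.negSucc 23, Int.ofNat 0, Int.ofNat 0, Int.ofNat 0, Int.ofNat 11, Int.ofNat 19, Int.negSucc 998, Int.negSucc 16, Int.ofNat 147, Int.ofNat 0, Int.ofNat 748]) (ZT.node 800 (ZT.leaf [Int.negSucc 316, Int.negSucc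 163, Int.ofNat 34, Int.negSucc 8, Int.negSucc 0, Int.negSucc 14, Int.negSucc 13, Int.ofNat 15, Int.ofNat 8, Int.ofNat 0, Int.ofNat 0, Int.ofNat 0, Int.negSucc 3, Int.ofNat 1, Int.ofNat 65, Int.ofNat 0, Int.negSucc 5, Int.ofNat 0, Int.negSucc 26]) (ZT.leaf [Int.negSucc 6992, Int.negSucc 3610, Int.ofNat 1612, Int.negSucc 573, Int.negSucc 13, Int.negSucc 990, Int.negSucc 138, Int.ofNat 280, Int.ofNat 35, Int.ofNat 0, Int.ofNat 0, Int.ofNat 0, Int.negSucc 16, Int.negSucc 14, Int.ofNat 1274, Int.ofNat 18, Int.negSucc 154, Int.ofNat 0, Int.negSucc 897]))) (ZT.node 802 (ZT.leaf [Int.negSucc 1202, Int.negSucc 406, Int.ofNat 291, Int.negSucc 70, Int.negSucc 2, Int.negSucc 139, Int.negSucc 6, Int.ofNat 26, Int.negSucc 1, Int.ofNat 0, Int.ofNat 0, Int.ofNat 0, Int.negSucc 2, Int.negSucc 0, Int.ofNat 143, Int.ofNat 1, Int.negSucc 24, Int.ofNat 0, Int.negSucc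 120]) (ZT.node 803 (ZT.leaf []) (ZT.leaf [Int.ofNat 316, Int.ofNat 164, Int.negSucc 33, Int.ofNat 9, Int.ofNat 1, Int.ofNat 15, Int.ofNat 14, Int.negSucc 14, Int.negSucc 7, Int.ofNat 0, Int.ofNat 0, Int.ofNat 0, Int.ofNat 4, Int.negSucc 0, Int.negSucc 64, Int.ofNat 0, Int.ofNat 6, Int.ofNat 0, Int.ofNat 27])))) (ZT.node 807 (ZT.node 805 (ZT.leaf [Int.ofNat 7288, Int.ofNat 3939, Int.negSucc 1706, Int.ofNat 637, Int.ofNat 15, Int.ofNat 1082, Int.ofNat 146, Int.negSucc 304, Int.negSucc 35, Int.ofNat 0, Int.ofNat 0, Int.ofNat 0, Int.ofNat 14, Int.ofNat 18, Int.negSucc 1372, Int.negSucc 20, Int.ofNat 167, Int.ofNat 0, Int.ofNat 966]) (ZT.node 806 (ZT.leaf [Int.ofNat 1969, Int.ofNat 721, Int.negSucc 442, Int.ofNat 109, Int.ofNat 1, Int.ofNat 215, Int.ofNat 31, Int.negSucc 53, Int.negSucc 6, Int.ofNat 0, Int.ofNat 0, Int.ofNat 0, Int.ofNat 7, Int.negSucc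 0, Int.negSucc 326, Int.ofNat 5, Int.ofNat 56, Int.ofNat 0, Int.ofNat 205]) (ZT.leaf [Int.negSucc 0, Int.negSucc 0, Int.ofNat 0, Int.ofNat 0, Int.ofNat 0, Int.ofNat 0, Int.ofNat 0, Int.ofNat 0, Int.ofNat 0, Int.ofNat 0, Int.ofNat 0, Int.ofNat 0, Int.ofNat 0, Int.ofNat 0, Int.ofNat 0, Int.ofNat 0, Int.ofNat 0, Int.ofNat 0, Int.ofNat 0]))) (ZT.node 808 (ZT.leaf [Int.negSucc 0]) (ZT.node 809 (ZT.leaf []) (ZT.leaf [])))))))) (ZT.node 855 (ZT.node 832 (ZT.node 821 (ZT.node 815 (ZT.node 812 (ZT.node 811 (ZT.leaf [Int.ofNat 316, Int.ofNat 165, Int.negSucc 33, Int.ofNat 9, Int.ofNat 1, Int.ofNat 15, Int.ofNat 14, Int.negSucc 14, Int.negSucc 7, Int.ofNat 0, Int.ofNat 0, Int.ofNat 0, Int.ofNat 4, Int.negSucc 0, Int.negSucc 64, Int.ofNat 0, Int.ofNat 6, Int.ofNat 0, Int.ofNat 27]) (ZT.leaf [])) (ZT.node 813 (ZT.leaf [Int.ofNat 905, Int.ofNat 580, Int.negSucc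 208, Int.ofNat 95, Int.ofNat 2, Int.ofNat 143, Int.ofNat 23, Int.negSucc 42, Int.negSucc 7, Int.ofNat 0, Int.ofNat 0, Int.ofNat 0, Int.ofNat 2, Int.ofNat 3, Int.negSucc 187, Int.negSucc 2, Int.ofNat 18, Int.ofNat 0, Int.ofNat 130]) (ZT.node 814 (ZT.leaf [Int.negSucc 0]) (ZT.leaf [Int.ofNat 91, Int.ofNat 16, Int.negSucc 28, Int.ofNat 7, Int.ofNat 0, Int.ofNat 14, Int.ofNat 1, Int.negSucc 2, Int.ofNat 1, Int.ofNat 0, Int.ofNat 0, Int.ofNat 0, Int.negSucc 0, Int.ofNat 0, Int.negSucc 6, Int.ofNat 0, Int.ofNat 2, Int.ofNat 0, Int.ofNat 11])))) (ZT.node 818 (ZT.node 816 (ZT.leaf [Int.negSucc 10, Int.negSucc 5, Int.ofNat 2, Int.ofNat 0, Int.ofNat 0, Int.negSucc 0, Int.ofNat 0, Int.ofNat 1, Int.ofNat 1, Int.ofNat 0, Int.ofNat 0, Int.ofNat 0, Int.ofNat 0, Int.ofNat 0, Int.ofNat 0, Int.ofNat 0, Int.ofNat 0, Int.ofNat 0, Int.negSucc 0]) (ZT.node 817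 (ZT.leaf [Int.negSucc 2209, Int.negSucc 965, Int.ofNat 557, Int.negSucc 182, Int.negSucc 6, Int.negSucc 319, Int.negSucc 32, Int.ofNat 75, Int.ofNat 4, Int.ofNat 0, Int.ofNat 0, Int.ofNat 0, Int.negSucc 0, Int.negSucc 1, Int.ofNat 359, Int.ofNat 2, Int.negSucc 37, Int.ofNat 0, Int.negSucc 271]) (ZT.leaf [Int.negSucc 102, Int.negSucc 18, Int.ofNat 28, Int.negSucc 4, Int.ofNat 0, Int.negSucc 12, Int.ofNat 0, Int.ofNat 1, Int.negSucc 0, Int.ofNat 0, Int.ofNat 0, Int.ofNat 0, Int.ofNat 0, Int.ofNat 0, Int.ofNat 7, Int.ofNat 0, Int.negSucc 2, Int.ofNat 0, Int.negSucc 10]))) (ZT.node 819 (ZT.leaf [Int.ofNat 503, Int.ofNat 132, Int.negSucc 122, Int.ofNat 23, Int.ofNat 0, Int.ofNat 57, Int.ofNat 2, Int.negSucc 7, Int.ofNat 2, Int.ofNat 0, Int.ofNat 0, Int.ofNat 0, Int.ofNat 1, Int.ofNat 1, Int.negSucc 37, Int.ofNat 0, Int.ofNat 10, Int.ofNat 0,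 Int.ofNat 49]) (ZT.node 820 (ZT.leaf [Int.negSucc 361, Int.ofNat 97, Int.ofNat 79, Int.ofNat 27, Int.ofNat 1, Int.negSucc 8, Int.ofNat 10, Int.negSucc 16, Int.negSucc 8, Int.ofNat 0, Int.ofNat 0, Int.ofNat 0, Int.negSucc 1, Int.negSucc 0, Int.negSucc 61, Int.ofNat 0, Int.negSucc 5, Int.ofNat 0, Int.ofNat 0]) (ZT.leaf [Int.negSucc 15618, Int.negSucc 4367, Int.ofNat 3501, Int.negSucc 604, Int.negSucc 17, Int.negSucc 1630, Int.negSucc 200, Int.ofNat 359, Int.ofNat 16, Int.negSucc 0, Int.ofNat 1, Int.ofNat 0, Int.negSucc 40, Int.negSucc 2, Int.ofNat 1720, Int.negSucc 21, Int.negSucc 305, Int.ofNat 0, Int.negSucc 1470]))))) (ZT.node 826 (ZT.node 823 (ZT.node 822 (ZT.leaf []) (ZT.leaf [Int.negSucc 0])) (ZT.node 824 (ZT.leaf [Int.ofNat 584, Int.negSucc 913, Int.negSucc 103, Int.negSucc 173, Int.negSucc 7, Int.negSucc 118, Int.negSucc 32, Int.ofNat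 88, Int.ofNat 29, Int.ofNat 0, Int.ofNat 0, Int.ofNat 0, Int.ofNat 11, Int.negSucc 8, Int.ofNat 307, Int.ofNat 11, Int.negSucc 25, Int.ofNat 0, Int.negSucc 106]) (ZT.node 825 (ZT.leaf [Int.ofNat 13468, Int.ofNat 3403, Int.negSucc 2959, Int.ofNat 423, Int.ofNat 11, Int.ofNat 1316, Int.ofNat 168, Int.negSucc 284, Int.negSucc 11, Int.ofNat 1, Int.negSucc 0, Int.ofNat 0, Int.ofNat 40, Int.ofNat 1, Int.negSucc 1357, Int.ofNat 24, Int.ofNat 269, Int.ofNat 0, Int.ofNat 1203]) (ZT.leaf [Int.negSucc 1926, Int.negSucc 1693, Int.ofNat 456, Int.negSucc 272, Int.negSucc 7, Int.negSucc 345, Int.negSucc 22, Int.ofNat 95, Int.ofNat 15, Int.ofNat 0, Int.ofNat 0, Int.negSucc 0, Int.negSucc 6, Int.negSucc 16, Int.ofNat 434, Int.ofNat 19, Int.negSucc 71, Int.negSucc 0, Int.negSucc 325])))) (ZT.node 829 (ZT.node 827 (ZT.leaf []) (ZT.node 828 (ZT.leaf [Int.negSucc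 47, Int.ofNat 24, Int.ofNat 14, Int.ofNat 1, Int.ofNat 0, Int.negSucc 0, Int.ofNat 2, Int.negSucc 4, Int.negSucc 1, Int.ofNat 0, Int.ofNat 0, Int.ofNat 0, Int.negSucc 0, Int.ofNat 0, Int.negSucc 16, Int.ofNat 0, Int.ofNat 3, Int.ofNat 0, Int.ofNat 0]) (ZT.leaf [Int.ofNat 128, Int.negSucc 8, Int.negSucc 29, Int.negSucc 0, Int.ofNat 0, Int.ofNat 5, Int.negSucc 1, Int.ofNat 5, Int.ofNat 2, Int.ofNat 0, Int.ofNat 0, Int.ofNat 0, Int.ofNat 1, Int.ofNat 0, Int.ofNat 17, Int.ofNat 0, Int.negSucc 1, Int.ofNat 0, Int.ofNat 4]))) (ZT.node 830 (ZT.leaf []) (ZT.node 831 (ZT.leaf []) (ZT.leaf [Int.negSucc 544, Int.negSucc 306, Int.ofNat 147, Int.negSucc 59, Int.negSucc 1, Int.negSucc 93, Int.negSucc 5, Int.ofNat 28, Int.ofNat 2, Int.ofNat 0, Int.ofNat 0, Int.ofNat 0, Int.ofNat 1, Int.negSucc 0, Int.ofNat 104, Int.ofNat 1, Int.negSucc 18, Int.ofNat 0,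 Int.negSucc 79])))))) (ZT.node 843 (ZT.node 837 (ZT.node 834 (ZT.node 833 (ZT.leaf [Int.ofNat 23, Int.ofNat 5, Int.negSucc 2, Int.negSucc 0, Int.ofNat 0, Int.ofNat 0, Int.ofNat 0, Int.ofNat 1, Int.ofNat 0, Int.ofNat 0, Int.ofNat 0, Int.ofNat 0, Int.ofNat 0, Int.ofNat 0, Int.negSucc 0, Int.ofNat 0, Int.ofNat 0, Int.ofNat 0, Int.ofNat 0]) (ZT.leaf [Int.negSucc 37, Int.negSucc 10, Int.ofNat 9, Int.negSucc 1, Int.ofNat 0, Int.negSucc 3, Int.ofNat 0, Int.ofNat 1, Int.ofNat 0, Int.ofNat 0, Int.ofNat 0, Int.ofNat 0, Int.ofNat 0, Int.ofNat 0, Int.ofNat 4, Int.ofNat 0, Int.negSucc 0, Int.ofNat 0, Int.negSucc 2])) (ZT.node 835 (ZT.leaf [Int.ofNat 272, Int.ofNat 151, Int.negSucc 46, Int.ofNat 14, Int.ofNat 1, Int.ofNat 24, Int.ofNat 4, Int.negSucc 9, Int.negSucc 3, Int.ofNat 0, Int.ofNat 0, Int.ofNat 0, Int.ofNat 2, Int.ofNat 1, Int.negSucc 52, Int.negSucc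 0, Int.ofNat 10, Int.ofNat 0, Int.ofNat 28]) (ZT.node 836 (ZT.leaf [Int.ofNat 142, Int.ofNat 8, Int.negSucc 35, Int.ofNat 2, Int.ofNat 0, Int.ofNat 11, Int.negSucc 1, Int.ofNat 3, Int.ofNat 2, Int.ofNat 0, Int.ofNat 0, Int.ofNat 0, Int.ofNat 1, Int.ofNat 0, Int.ofNat 6, Int.ofNat 0, Int.ofNat 1, Int.ofNat 0, Int.ofNat 8]) (ZT.leaf [])))) (ZT.node 840 (ZT.node 838 (ZT.leaf [Int.negSucc 123, Int.negSucc 46, Int.ofNat 32, Int.negSucc 6, Int.ofNat 0, Int.negSucc 16, Int.ofNat 0, Int.ofNat 4, Int.ofNat 0, Int.ofNat 1, Int.ofNat 0, Int.ofNat 0, Int.ofNat 0, Int.negSucc 0, Int.ofNat 14, Int.ofNat 0, Int.negSucc 2, Int.ofNat 0, Int.negSucc 14]) (ZT.node 839 (ZT.leaf []) (ZT.leaf []))) (ZT.node 841 (ZT.leaf [Int.ofNat 0, Int.ofNat 1]) (ZT.node 842 (ZT.leaf [Int.negSucc 0, Int.negSucc 0]) (ZT.leaf []))))) (ZT.node 849 (ZT.node 846 (ZT.node 844 (ZT.leaf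 [Int.negSucc 390, Int.negSucc 191, Int.ofNat 86, Int.negSucc 29, Int.ofNat 0, Int.negSucc 51, Int.negSucc 7, Int.ofNat 11, Int.ofNat 1, Int.ofNat 0, Int.ofNat 0, Int.ofNat 0, Int.negSucc 0, Int.ofNat 0, Int.ofNat 64, Int.ofNat 0, Int.negSucc 2, Int.ofNat 0, Int.negSucc 45]) (ZT.node 845 (ZT.leaf []) (ZT.leaf [Int.ofNat 1677, Int.ofNat 678, Int.negSucc 389, Int.ofNat 110, Int.ofNat 4, Int.ofNat 219, Int.ofNat 23, Int.negSucc 52, Int.negSucc 1, Int.ofNat 0, Int.ofNat 0, Int.ofNat 0, Int.ofNat 2, Int.ofNat 2, Int.negSucc 242, Int.negSucc 0, Int.ofNat 35, Int.ofNat 0, Int.ofNat 190]))) (ZT.node 847 (ZT.leaf []) (ZT.node 848 (ZT.leaf [Int.negSucc 1152, Int.negSucc 2826, Int.ofNat 360, Int.negSucc 540, Int.negSucc 19, Int.negSucc 516, Int.negSucc 81, Int.ofNat 248, Int.ofNat 57, Int.ofNat 0, Int.ofNat 0, Int.ofNat 0, Int.ofNat 13, Int.negSucc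 8, Int.ofNat 898, Int.ofNat 32, Int.negSucc 84, Int.ofNat 0, Int.negSucc 470]) (ZT.leaf [])))) (ZT.node 852 (ZT.node 850 (ZT.leaf []) (ZT.node 851 (ZT.leaf [Int.ofNat 21717, Int.ofNat 5932, Int.negSucc 4838, Int.ofNat 788, Int.ofNat 12, Int.ofNat 2258, Int.ofNat 252, Int.negSucc 454, Int.ofNat 1, Int.ofNat 0, Int.ofNat 0, Int.ofNat 0, Int.ofNat 64, Int.ofNat 11, Int.negSucc 2234, Int.ofNat 31, Int.ofNat 448, Int.ofNat 0, Int.ofNat 2029]) (ZT.leaf [Int.ofNat 4232, Int.ofNat 1511, Int.negSucc 978, Int.ofNat 233, Int.ofNat 6, Int.ofNat 524, Int.ofNat 71, Int.negSucc 135, Int.negSucc 6, Int.ofNat 0, Int.ofNat 0, Int.ofNat 0, Int.ofNat 3, Int.ofNat 2, Int.negSucc 579, Int.ofNat 0, Int.ofNat 93, Int.ofNat 0, Int.ofNat 457]))) (ZT.node 853 (ZT.leaf [Int.negSucc 10515, Int.negSucc 5507, Int.ofNat 2487, Int.negSucc 924, Int.negSucc 20, Int.negSucc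 1510, Int.negSucc 174, Int.ofNat 422, Int.ofNat 36, Int.ofNat 0, Int.ofNat 0, Int.ofNat 0, Int.negSucc 8, Int.negSucc 19, Int.ofNat 1924, Int.ofNat 26, Int.negSucc 281, Int.ofNat 0, Int.negSucc 1358]) (ZT.node 854 (ZT.leaf [Int.negSucc 33, Int.ofNat 197, Int.ofNat 29, Int.ofNat 23, Int.ofNat 2, Int.ofNat 13, Int.ofNat 20, Int.negSucc 30, Int.negSucc 15, Int.ofNat 0, Int.ofNat 0, Int.ofNat 0, Int.ofNat 2, Int.negSucc 1, Int.negSucc 129, Int.ofNat 1, Int.ofNat 15, Int.ofNat 0, Int.ofNat 29]) (ZT.leaf [Int.ofNat 37, Int.ofNat 729, Int.negSucc 63, Int.ofNat 150, Int.ofNat 5, Int.ofNat 140, Int.ofNat 18, Int.negSucc 63, Int.negSucc 11, Int.ofNat 0, Int.ofNat 0, Int.ofNat 0, Int.negSucc 6, Int.ofNat 5, Int.negSucc 229, Int.negSucc 7, Int.ofNat 28, Int.ofNat 0, Int.ofNat 120]))))))) (ZT.node 877 (ZT.node 866 (ZT.node 860 (ZT.node 857 (ZT.node 856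 (ZT.leaf []) (ZT.leaf [])) (ZT.node 858 (ZT.leaf []) (ZT.node 859 (ZT.leaf []) (ZT.leaf [Int.ofNat 1620, Int.ofNat 847, Int.negSucc 381, Int.ofNat 137, Int.ofNat 2, Int.ofNat 234, Int.ofNat 31, Int.negSucc 71, Int.negSucc 9, Int.ofNat 0, Int.ofNat 0, Int.ofNat 0, Int.ofNat 3, Int.ofNat 3, Int.negSucc 293, Int.negSucc 1, Int.ofNat 42, Int.ofNat 0, Int.ofNat 214])))) (ZT.node 863 (ZT.node 861 (ZT.leaf [Int.ofNat 1514, Int.ofNat 914, Int.negSucc 348, Int.ofNat 147, Int.ofNat 2, Int.ofNat 228, Int.ofNat 38, Int.negSucc 78, Int.negSucc 14, Int.ofNat 0, Int.ofNat 0, Int.ofNat 0, Int.ofNat 2, Int.ofNat 2, Int.negSucc 318, Int.negSucc 2, Int.ofNat 35, Int.ofNat 0, Int.ofNat 211]) (ZT.node 862 (ZT.leaf [Int.negSucc 0]) (ZT.leaf [Int.negSucc 512, Int.negSucc 243, Int.ofNat 117, Int.negSucc 37, Int.ofNat 0, Int.negSucc 69, Int.negSucc 6, Int.ofNat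 15, Int.ofNat 1, Int.ofNat 0, Int.ofNat 0, Int.ofNat 0, Int.negSucc 1, Int.negSucc 0, Int.ofNat 78, Int.ofNat 1, Int.negSucc 7, Int.ofNat 0, Int.negSucc 60]))) (ZT.node 864 (ZT.leaf [Int.ofNat 6764, Int.ofNat 4439, Int.negSucc 1552, Int.ofNat 706, Int.ofNat 16, Int.ofNat 1117, Int.ofNat 252, Int.negSucc 413, Int.negSucc 85, Int.negSucc 0, Int.ofNat 0, Int.negSucc 0, Int.ofNat 10, Int.ofNat 19, Int.negSucc 1679, Int.negSucc 23, Int.ofNat 160, Int.negSucc 0, Int.ofNat 1041]) (ZT.node 865 (ZT.leaf []) (ZT.leaf [Int.ofNat 3184, Int.ofNat 1348, Int.negSucc 739, Int.ofNat 221, Int.ofNat 5, Int.ofNat 394, Int.ofNat 32, Int.negSucc 79, Int.negSucc 3, Int.ofNat 0, Int.ofNat 0, Int.ofNat 0, Int.ofNat 10, Int.ofNat 4, Int.negSucc 442, Int.negSucc 1, Int.ofNat 68, Int.ofNat 0, Int.ofNat 352]))))) (ZT.node 871 (ZT.node 868 (ZT.node 867 (ZT.leaf [Int.ofNat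 310, Int.ofNat 80, Int.negSucc 65, Int.ofNat 10, Int.ofNat 0, Int.ofNat 21, Int.ofNat 0, Int.ofNat 2, Int.ofNat 1, Int.ofNat 1, Int.ofNat 0, Int.ofNat 0, Int.ofNat 3, Int.ofNat 0, Int.negSucc 33, Int.ofNat 1, Int.ofNat 5, Int.ofNat 0, Int.ofNat 23]) (ZT.leaf [Int.negSucc 0])) (ZT.node 869 (ZT.leaf [Int.negSucc 310, Int.negSucc 79, Int.ofNat 66, Int.negSucc 9, Int.ofNat 0, Int.negSucc 20, Int.ofNat 0, Int.negSucc 1, Int.negSucc 0, Int.negSucc 0, Int.ofNat 0, Int.ofNat 0, Int.negSucc 2, Int.ofNat 0, Int.ofNat 34, Int.negSucc 0, Int.negSucc 4, Int.ofNat 0, Int.negSucc 22]) (ZT.node 870 (ZT.leaf [Int.negSucc 0]) (ZT.leaf [Int.ofNat 98, Int.ofNat 34, Int.negSucc 21, Int.ofNat 6, Int.ofNat 0, Int.ofNat 10, Int.ofNat 1, Int.ofNat 0, Int.ofNat 0, Int.ofNat 0, Int.ofNat 0, Int.ofNat 0, Int.ofNat 1, Int.ofNat 0, Int.negSucc 10, Int.ofNat 1, Int.ofNat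 2, Int.ofNat 0, Int.ofNat 9])))) (ZT.node 874 (ZT.node 872 (ZT.leaf [Int.ofNat 1782, Int.ofNat 1413, Int.negSucc 416, Int.ofNat 234, Int.ofNat 9, Int.ofNat 314, Int.ofNat 46, Int.negSucc 121, Int.negSucc 23, Int.ofNat 0, Int.ofNat 0, Int.ofNat 0, Int.negSucc 0, Int.ofNat 4, Int.negSucc 488, Int.negSucc 6, Int.ofNat 71, Int.ofNat 0, Int.ofNat 293]) (ZT.node 873 (ZT.leaf [Int.negSucc 1515, Int.negSucc 913, Int.ofNat 349, Int.negSucc 146, Int.negSucc 1, Int.negSucc 227, Int.negSucc 37, Int.ofNat 79, Int.ofNat 15, Int.ofNat 0, Int.ofNat 0, Int.ofNat 0, Int.negSucc 1, Int.negSucc 1, Int.ofNat 319, Int.ofNat 3, Int.negSucc 34, Int.ofNat 0, Int.negSucc 210]) (ZT.leaf [Int.negSucc 27, Int.ofNat 95, Int.ofNat 12, Int.ofNat 12, Int.ofNat 1, Int.ofNat 15, Int.ofNat 15, Int.negSucc 24, Int.negSucc 9, Int.ofNat 0, Int.ofNat 0, Int.ofNat 0, Int.negSucc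 0, Int.negSucc 1, Int.negSucc 82, Int.ofNat 2, Int.ofNat 9, Int.ofNat 0, Int.ofNat 21]))) (ZT.node 875 (ZT.leaf [Int.ofNat 568, Int.ofNat 163, Int.negSucc 131, Int.ofNat 25, Int.ofNat 0, Int.ofNat 64, Int.ofNat 2, Int.negSucc 6, Int.ofNat 3, Int.ofNat 0, Int.ofNat 0, Int.ofNat 0, Int.ofNat 2, Int.ofNat 1, Int.negSucc 45, Int.ofNat 0, Int.ofNat 10, Int.ofNat 0, Int.ofNat 54]) (ZT.node 876 (ZT.leaf [Int.ofNat 357, Int.ofNat 108, Int.negSucc 86, Int.ofNat 19, Int.ofNat 1, Int.ofNat 34, Int.ofNat 1, Int.negSucc 5, Int.ofNat 0, Int.ofNat 0, Int.ofNat 0, Int.ofNat 0, Int.ofNat 2, Int.ofNat 0, Int.negSucc 40, Int.ofNat 0, Int.ofNat 10, Int.ofNat 0, Int.ofNat 33]) (ZT.leaf [Int.ofNat 100, Int.ofNat 18, Int.negSucc 27, Int.ofNat 5, Int.ofNat 0, Int.ofNat 13, Int.ofNat 0, Int.negSucc 0, Int.ofNat 1, Int.ofNat 0, Int.ofNat 0, Int.ofNat 0, Int.ofNat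 0, Int.ofNat 0, Int.negSucc 6, Int.ofNat 0, Int.ofNat 3, Int.ofNat 0, Int.ofNat 11])))))) (ZT.node 888 (ZT.node 882 (ZT.node 879 (ZT.node 878 (ZT.leaf [Int.negSucc 14585, Int.negSucc 3020, Int.ofNat 3243, Int.negSucc 392, Int.ofNat 6, Int.negSucc 1375, Int.negSucc 146, Int.ofNat 183, Int.negSucc 36, Int.ofNat 1, Int.ofNat 0, Int.ofNat 1, Int.negSucc 61, Int.negSucc 10, Int.ofNat 1221, Int.negSucc 23, Int.negSucc 197, Int.ofNat 2, Int.negSucc 1217]) (ZT.leaf [])) (ZT.node 880 (ZT.leaf [Int.negSucc 0, Int.negSucc 0]) (ZT.node 881 (ZT.leaf []) (ZT.leaf [Int.ofNat 14319, Int.ofNat 1770, Int.negSucc 3010, Int.ofNat 88, Int.negSucc 16, Int.ofNat 977, Int.ofNat 170, Int.negSucc 40, Int.ofNat 21, Int.ofNat 1, Int.negSucc 1, Int.negSucc 1, Int.ofNat 107, Int.ofNat 9, Int.negSucc 1264, Int.ofNat 38, Int.ofNat 137, Int.negSucc 2, Int.ofNat 970]))))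 (ZT.node 885 (ZT.node 883 (ZT.leaf [Int.ofNat 2123, Int.ofNat 2476, Int.negSucc 534, Int.ofNat 431, Int.ofNat 14, Int.ofNat 528, Int.ofNat 90, Int.negSucc 204, Int.negSucc 45, Int.negSucc 0, Int.ofNat 0, Int.ofNat 0, Int.negSucc 2, Int.ofNat 16, Int.negSucc 826, Int.negSucc 17, Int.ofNat 89, Int.ofNat 0, Int.ofNat 476]) (ZT.node 884 (ZT.leaf [Int.negSucc 2121, Int.negSucc 2473, Int.ofNat 535, Int.negSucc 430, Int.negSucc 13, Int.negSucc 527, Int.negSucc 89, Int.ofNat 205, Int.ofNat 46, Int.ofNat 1, Int.ofNat 0, Int.ofNat 0, Int.ofNat 3, Int.negSucc 15, Int.ofNat 827, Int.ofNat 18, Int.negSucc 88, Int.ofNat 0, Int.negSucc 475]) (ZT.leaf [Int.ofNat 2, Int.ofNat 3]))) (ZT.node 886 (ZT.leaf [Int.ofNat 416, Int.ofNat 144, Int.negSucc 91, Int.ofNat 20, Int.ofNat 0, Int.ofNat 48, Int.ofNat 3, Int.negSucc 6, Int.ofNat 1, Int.ofNat 0, Int.ofNat 0,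 Int.ofNat 0, Int.ofNat 2, Int.ofNat 1, Int.negSucc 37, Int.ofNat 0, Int.ofNat 5, Int.ofNat 0, Int.ofNat 41]) (ZT.node 887 (ZT.leaf [Int.negSucc 1464, Int.negSucc 806, Int.ofNat 340, Int.negSucc 126, Int.negSucc 1, Int.negSucc 210, Int.negSucc 30, Int.ofNat 68, Int.ofNat 12, Int.ofNat 0, Int.ofNat 0, Int.ofNat 0, Int.negSucc 3, Int.negSucc 1, Int.ofNat 286, Int.ofNat 2, Int.negSucc 38, Int.ofNat 0, Int.negSucc 195]) (ZT.leaf [Int.negSucc 1, Int.negSucc 1]))))) (ZT.node 894 (ZT.node 891 (ZT.node 889 (ZT.leaf []) (ZT.node 890 (ZT.leaf []) (ZT.leaf []))) (ZT.node 892 (ZT.leaf [Int.negSucc 490, Int.negSucc 161, Int.ofNat 115, Int.negSucc 25, Int.negSucc 0, Int.negSucc 53, Int.negSucc 3, Int.ofNat 8, Int.negSucc 0, Int.ofNat 0, Int.ofNat 0, Int.ofNat 0, Int.negSucc 1, Int.negSucc 0, Int.ofNat 51, Int.ofNat 0, Int.negSucc 7, Int.ofNat 0, Int.negSucc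 47]) (ZT.node 893 (ZT.leaf [Int.ofNat 2, Int.ofNat 1]) (ZT.leaf [Int.negSucc 510, Int.negSucc 160, Int.ofNat 121, Int.negSucc 26, Int.ofNat 0, Int.negSucc 61, Int.negSucc 3, Int.ofNat 10, Int.negSucc 1, Int.ofNat 0, Int.ofNat 0, Int.ofNat 0, Int.negSucc 0, Int.negSucc 0, Int.ofNat 45, Int.ofNat 0, Int.negSucc 6, Int.ofNat 0, Int.negSucc 51])))) (ZT.node 897 (ZT.node 895 (ZT.leaf [Int.ofNat 2316, Int.ofNat 1862, Int.negSucc 602, Int.ofNat 329, Int.ofNat 7, Int.ofNat 477, Int.ofNat 62, Int.negSucc 153, Int.negSucc 21, Int.ofNat 0, Int.ofNat 0, Int.ofNat 0, Int.negSucc 2, Int.ofNat 10, Int.negSucc 617, Int.negSucc 11, Int.ofNat 76, Int.ofNat 0, Int.ofNat 413]) (ZT.node 896 (ZT.leaf [Int.negSucc 0]) (ZT.leaf [Int.ofNat 33, Int.ofNat 5, Int.negSucc 11, Int.ofNat 2, Int.ofNat 0, Int.ofNat 4, Int.ofNat 0, Int.negSucc 0, Int.ofNat 0, Int.ofNat 0,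 Int.ofNat 0, Int.ofNat 0, Int.ofNat 0, Int.ofNat 0, Int.negSucc 3, Int.ofNat 0, Int.ofNat 1, Int.ofNat 0, Int.ofNat 4]))) (ZT.node 898 (ZT.leaf [Int.ofNat 510, Int.ofNat 161, Int.negSucc 120, Int.ofNat 27, Int.ofNat 0, Int.ofNat 62, Int.ofNat 4, Int.negSucc 9, Int.ofNat 2, Int.ofNat 0, Int.ofNat 0, Int.ofNat 0, Int.ofNat 1, Int.ofNat 1, Int.negSucc 44, Int.ofNat 0, Int.ofNat 7, Int.ofNat 0, Int.ofNat 52]) (ZT.node 899 (ZT.leaf [Int.ofNat 22, Int.ofNat 13, Int.negSucc 23, Int.ofNat 12, Int.ofNat 1, Int.ofNat 22, Int.ofNat 2, Int.negSucc 3, Int.ofNat 3, Int.ofNat 0, Int.ofNat 0, Int.ofNat 0, Int.negSucc 3, Int.ofNat 1, Int.ofNat 2, Int.negSucc 0, Int.negSucc 3, Int.ofNat 0, Int.ofNat 11]) (ZT.leaf [Int.negSucc 17, Int.ofNat 9, Int.ofNat 8, Int.negSucc 0, Int.ofNat 0, Int.negSucc 2, Int.ofNat 1, Int.ofNat 1, Int.negSucc 0, Int.ofNat 0, Int.ofNat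 0, Int.ofNat 0, Int.ofNat 1, Int.ofNat 0, Int.negSucc 3, Int.ofNat 0, Int.negSucc 0, Int.ofNat 0, Int.negSucc 1]))))))))) (ZT.node 990 (ZT.node 945 (ZT.node 922 (ZT.node 911 (ZT.node 905 (ZT.node 902 (ZT.node 901 (ZT.leaf [Int.ofNat 1920, Int.ofNat 758, Int.negSucc 449, Int.ofNat 124, Int.ofNat 4, Int.ofNat 241, Int.ofNat 25, Int.negSucc 58, Int.negSucc 2, Int.ofNat 0, Int.ofNat 0, Int.ofNat 0, Int.ofNat 3, Int.ofNat 2, Int.negSucc 269, Int.negSucc 0, Int.ofNat 40, Int.ofNat 0, Int.ofNat 213]) (ZT.leaf [Int.ofNat 406, Int.ofNat 201, Int.negSucc 88, Int.ofNat 32, Int.ofNat 1, Int.ofNat 56, Int.ofNat 6, Int.negSucc 12, Int.negSucc 0, Int.ofNat 0, Int.ofNat 0, Int.ofNat 0, Int.ofNat 1, Int.ofNat 1, Int.negSucc 61, Int.negSucc 0, Int.ofNat 6, Int.ofNat 0, Int.ofNat 48])) (ZT.node 903 (ZT.leaf [Int.ofNat 90, Int.ofNat 32, Int.negSucc 20, Int.ofNat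 4, Int.ofNat 0, Int.ofNat 10, Int.ofNat 0, Int.negSucc 0, Int.ofNat 0, Int.ofNat 0, Int.ofNat 0, Int.ofNat 0, Int.ofNat 1, Int.ofNat 0, Int.negSucc 10, Int.ofNat 0, Int.ofNat 2, Int.ofNat 0, Int.ofNat 9]) (ZT.node 904 (ZT.leaf [Int.ofNat 1, Int.ofNat 2]) (ZT.leaf [Int.negSucc 416, Int.negSucc 143, Int.ofNat 92, Int.negSucc 19, Int.ofNat 0, Int.negSucc 47, Int.negSucc 2, Int.ofNat 7, Int.negSucc 0, Int.ofNat 0, Int.ofNat 0, Int.ofNat 0, Int.negSucc 1, Int.negSucc 0, Int.ofNat 38, Int.ofNat 0, Int.negSucc 4, Int.ofNat 0, Int.negSucc 40])))) (ZT.node 908 (ZT.node 906 (ZT.leaf [Int.ofNat 6, Int.negSucc 9, Int.negSucc 1, Int.negSucc 0, Int.ofNat 0, Int.ofNat 0, Int.negSucc 0, Int.ofNat 1, Int.ofNat 1, Int.ofNat 0, Int.ofNat 0, Int.ofNat 0, Int.ofNat 0, Int.ofNat 0, Int.ofNat 7, Int.ofNat 0, Int.ofNat 0, Int.ofNat 0, Int.negSucc 0]) (ZT.node 907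 (ZT.leaf []) (ZT.leaf [Int.negSucc 0]))) (ZT.node 909 (ZT.leaf []) (ZT.node 910 (ZT.leaf [Int.ofNat 10, Int.ofNat 4, Int.negSucc 0, Int.ofNat 0, Int.negSucc 0, Int.ofNat 0, Int.ofNat 0, Int.negSucc 0, Int.ofNat 0, Int.ofNat 0, Int.ofNat 0, Int.ofNat 0, Int.ofNat 0, Int.ofNat 0, Int.ofNat 0, Int.ofNat 0, Int.ofNat 0, Int.ofNat 0, Int.ofNat 0]) (ZT.leaf []))))) (ZT.node 916 (ZT.node 913 (ZT.node 912 (ZT.leaf []) (ZT.leaf [Int.negSucc 16, Int.ofNat 8, Int.ofNat 6, Int.ofNat 0, Int.ofNat 0, Int.negSucc 0, Int.ofNat 0, Int.negSucc 0, Int.negSucc 0, Int.ofNat 0, Int.ofNat 0, Int.ofNat 0, Int.ofNat 0, Int.ofNat 0, Int.negSucc 1, Int.ofNat 0, Int.ofNat 0, Int.ofNat 0, Int.negSucc 0])) (ZT.node 914 (ZT.leaf [Int.negSucc 0, Int.ofNat 0, Int.ofNat 0, Int.ofNat 0, Int.ofNat 0, Int.ofNat 0]) (ZT.node 915 (ZT.leaf [Int.negSucc 6, Int.negSucc 3, Int.ofNat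 1, Int.ofNat 0, Int.ofNat 0, Int.ofNat 0, Int.ofNat 0, Int.ofNat 1, Int.ofNat 0, Int.ofNat 0, Int.ofNat 0, Int.ofNat 0, Int.ofNat 0, Int.ofNat 0, Int.ofNat 0, Int.ofNat 0, Int.ofNat 0, Int.ofNat 0, Int.ofNat 0]) (ZT.leaf [Int.ofNat 16, Int.negSucc 7, Int.negSucc 5, Int.ofNat 0, Int.ofNat 0, Int.ofNat 1, Int.ofNat 0, Int.ofNat 1, Int.ofNat 1, Int.ofNat 0, Int.ofNat 0, Int.ofNat 0, Int.ofNat 0, Int.ofNat 0, Int.ofNat 2, Int.ofNat 0, Int.ofNat 0, Int.ofNat 0, Int.ofNat 1])))) (ZT.node 919 (ZT.node 917 (ZT.leaf [Int.ofNat 4, Int.ofNat 3, Int.negSucc 0, Int.ofNat 0, Int.ofNat 0, Int.ofNat 1, Int.ofNat 0, Int.negSucc 0, Int.ofNat 0, Int.ofNat 0, Int.ofNat 0, Int.ofNat 0, Int.ofNat 0, Int.ofNat 0, Int.ofNat 0, Int.ofNat 0, Int.ofNat 0, Int.ofNat 0, Int.ofNat 0]) (ZT.node 918 (ZT.leaf []) (ZT.leaf [Int.ofNat 67, Int.ofNat 124, Int.negSucc 10, Int.ofNat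 19, Int.ofNat 1, Int.ofNat 20, Int.ofNat 7, Int.negSucc 13, Int.negSucc 4, Int.ofNat 0, Int.ofNat 0, Int.ofNat 0, Int.negSucc 0, Int.ofNat 0, Int.negSucc 54, Int.negSucc 0, Int.ofNat 7, Int.ofNat 0, Int.ofNat 21]))) (ZT.node 920 (ZT.leaf [Int.negSucc 3, Int.negSucc 2, Int.negSucc 0, Int.negSucc 0, Int.ofNat 0, Int.ofNat 1, Int.negSucc 0, Int.negSucc 0, Int.ofNat 0, Int.ofNat 0, Int.ofNat 0, Int.ofNat 0, Int.ofNat 0, Int.ofNat 0, Int.ofNat 0, Int.ofNat 0, Int.ofNat 0, Int.ofNat 0, Int.ofNat 0]) (ZT.node 921 (ZT.leaf []) (ZT.leaf [Int.negSucc 1, Int.negSucc 1])))))) (ZT.node 933 (ZT.node 927 (ZT.node 924 (ZT.node 923 (ZT.leaf [Int.negSucc 537, Int.negSucc 158, Int.ofNat 127, Int.negSucc 25, Int.ofNat 0, Int.negSucc 59, Int.negSucc 2, Int.ofNat 10, Int.negSucc 1, Int.negSucc 0, Int.ofNat 0, Int.ofNat 0, Int.negSucc 0, Int.negSucc 0, Int.ofNat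 47, Int.ofNat 0, Int.negSucc 11, Int.ofNat 0, Int.negSucc 50]) (ZT.leaf [Int.ofNat 57, Int.negSucc 6, Int.negSucc 9, Int.negSucc 3, Int.negSucc 0, Int.ofNat 0, Int.negSucc 0, Int.ofNat 5, Int.ofNat 2, Int.ofNat 0, Int.ofNat 0, Int.ofNat 0, Int.ofNat 1, Int.ofNat 0, Int.ofNat 0, Int.ofNat 1, Int.negSucc 0, Int.ofNat 0, Int.ofNat 1])) (ZT.node 925 (ZT.leaf []) (ZT.node 926 (ZT.leaf [Int.negSucc 0]) (ZT.leaf [Int.negSucc 0])))) (ZT.node 930 (ZT.node 928 (ZT.leaf [Int.negSucc 2, Int.negSucc 1, Int.ofNat 1, Int.ofNat 0, Int.ofNat 0, Int.ofNat 0, Int.ofNat 0, Int.ofNat 1, Int.ofNat 0, Int.ofNat 0, Int.ofNat 0, Int.ofNat 0, Int.ofNat 0, Int.ofNat 0, Int.ofNat 0, Int.ofNat 0, Int.ofNat 0, Int.ofNat 0, Int.ofNat 0]) (ZT.node 929 (ZT.leaf []) (ZT.leaf [Int.negSucc 397, Int.negSucc 147, Int.ofNat 109, Int.negSucc 30, Int.negSucc 0, Int.negSucc 61,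 Int.negSucc 4, Int.ofNat 13, Int.negSucc 1, Int.ofNat 0, Int.ofNat 0, Int.ofNat 0, Int.ofNat 2, Int.negSucc 0, Int.ofNat 44, Int.ofNat 1, Int.negSucc 3, Int.ofNat 0, Int.negSucc 47]))) (ZT.node 931 (ZT.leaf []) (ZT.node 932 (ZT.leaf []) (ZT.leaf [Int.ofNat 254, Int.ofNat 140, Int.negSucc 58, Int.ofNat 22, Int.ofNat 2, Int.ofNat 38, Int.ofNat 4, Int.negSucc 10, Int.negSucc 1, Int.ofNat 0, Int.ofNat 0, Int.ofNat 0, Int.ofNat 0, Int.ofNat 0, Int.negSucc 46, Int.negSucc 0, Int.ofNat 7, Int.ofNat 0, Int.ofNat 33]))))) (ZT.node 939 (ZT.node 936 (ZT.node 934 (ZT.leaf []) (ZT.node 935 (ZT.leaf [Int.ofNat 242, Int.ofNat 95, Int.negSucc 49, Int.ofNat 13, Int.ofNat 0, Int.ofNat 25, Int.ofNat 3, Int.negSucc 5, Int.negSucc 0, Int.ofNat 0, Int.ofNat 0, Int.ofNat 0, Int.ofNat 1, Int.ofNat 0, Int.negSucc 30, Int.ofNat 0, Int.ofNat 6, Int.ofNat 0, Int.ofNat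 24]) (ZT.leaf []))) (ZT.node 937 (ZT.leaf [Int.negSucc 94, Int.negSucc 33, Int.ofNat 21, Int.negSucc 3, Int.ofNat 0, Int.negSucc 9, Int.ofNat 0, Int.ofNat 1, Int.ofNat 0, Int.ofNat 0, Int.ofNat 0, Int.ofNat 0, Int.negSucc 0, Int.ofNat 0, Int.ofNat 11, Int.ofNat 0, Int.negSucc 1, Int.ofNat 0, Int.negSucc 8]) (ZT.node 938 (ZT.leaf [Int.negSucc 0, Int.negSucc 0, Int.ofNat 0, Int.ofNat 0, Int.ofNat 0, Int.ofNat 0, Int.ofNat 0, Int.ofNat 0]) (ZT.leaf [])))) (ZT.node 942 (ZT.node 940 (ZT.leaf [Int.ofNat 196, Int.ofNat 246, Int.negSucc 82, Int.ofNat 60, Int.ofNat 2, Int.ofNat 76, Int.ofNat 4, Int.negSucc 13, Int.ofNat 2, Int.ofNat 1, Int.ofNat 0, Int.ofNat 0, Int.negSucc 1, Int.ofNat 3, Int.negSucc 63, Int.negSucc 3, Int.ofNat 4, Int.ofNat 0, Int.ofNat 56]) (ZT.node 941 (ZT.leaf [Int.negSucc 0]) (ZT.leaf [Int.negSucc 391, Int.negSucc 235, Int.ofNat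 66, Int.negSucc 26, Int.negSucc 0, Int.negSucc 39, Int.negSucc 17, Int.ofNat 28, Int.ofNat 11, Int.ofNat 0, Int.ofNat 0, Int.ofNat 0, Int.negSucc 1, Int.ofNat 1, Int.ofNat 93, Int.ofNat 0, Int.negSucc 8, Int.ofNat 0, Int.negSucc 47]))) (ZT.node 943 (ZT.leaf [Int.ofNat 1192, Int.ofNat 524, Int.negSucc 277, Int.ofNat 84, Int.ofNat 1, Int.ofNat 163, Int.ofNat 20, Int.negSucc 38, Int.negSucc 1, Int.ofNat 0, Int.ofNat 0, Int.ofNat 0, Int.ofNat 3, Int.ofNat 3, Int.negSucc 199, Int.negSucc 1, Int.ofNat 25, Int.ofNat 0, Int.ofNat 143]) (ZT.node 944 (ZT.leaf [Int.ofNat 48, Int.negSucc 1, Int.negSucc 13, Int.ofNat 1, Int.ofNat 0, Int.ofNat 4, Int.ofNat 0, Int.ofNat 0, Int.ofNat 1, Int.ofNat 0, Int.ofNat 0, Int.ofNat 0, Int.ofNat 0, Int.ofNat 0, Int.ofNat 3, Int.ofNat 0, Int.ofNat 1, Int.ofNat 0, Int.ofNat 3]) (ZT.leaf [Int.negSucc 11, Int.negSucc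 1, Int.ofNat 6, Int.negSucc 1, Int.ofNat 0, Int.negSucc 1, Int.ofNat 0, Int.ofNat 1, Int.ofNat 0, Int.ofNat 0, Int.ofNat 0, Int.ofNat 0, Int.ofNat 0, Int.ofNat 0, Int.ofNat 1, Int.ofNat 0, Int.negSucc 1, Int.ofNat 0, Int.negSucc 1]))))))) (ZT.node 967 (ZT.node 956 (ZT.node 950 (ZT.node 947 (ZT.node 946 (ZT.leaf [Int.ofNat 25, Int.negSucc 5, Int.negSucc 8, Int.ofNat 1, Int.ofNat 0, Int.ofNat 3, Int.ofNat 0, Int.ofNat 0, Int.ofNat 1, Int.ofNat 0, Int.ofNat 0, Int.ofNat 0, Int.ofNat 0, Int.ofNat 0, Int.ofNat 2, Int.ofNat 0, Int.ofNat 1, Int.ofNat 0, Int.ofNat 2]) (ZT.leaf [Int.negSucc 3672, Int.negSucc 1345, Int.ofNat 878, Int.negSucc 225, Int.negSucc 7, Int.negSucc 450, Int.negSucc 50, Int.ofNat 116, Int.ofNat 8, Int.ofNat 0, Int.ofNat 0, Int.ofNat 0, Int.negSucc 1, Int.negSucc 1, Int.ofNat 460, Int.ofNat 2, Int.negSucc 78, Int.ofNat 1, Int.negSucc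 398])) (ZT.node 948 (ZT.leaf [Int.ofNat 68, Int.ofNat 473, Int.negSucc 63, Int.ofNat 100, Int.ofNat 6, Int.ofNat 97, Int.ofNat 4, Int.negSucc 35, Int.negSucc 5, Int.ofNat 0, Int.ofNat 0, Int.ofNat 0, Int.negSucc 5, Int.ofNat 7, Int.negSucc 142, Int.negSucc 6, Int.ofNat 25, Int.ofNat 0, Int.ofNat 82]) (ZT.node 949 (ZT.leaf []) (ZT.leaf [Int.ofNat 837, Int.ofNat 258, Int.negSucc 208, Int.ofNat 46, Int.ofNat 1, Int.ofNat 104, Int.ofNat 6, Int.negSucc 17, Int.ofNat 2, Int.ofNat 0, Int.ofNat 0, Int.ofNat 0, Int.ofNat 1, Int.ofNat 1, Int.negSucc 74, Int.ofNat 0, Int.ofNat 14, Int.ofNat 0, Int.ofNat 87])))) (ZT.node 953 (ZT.node 951 (ZT.leaf []) (ZT.node 952 (ZT.leaf [Int.negSucc 109, Int.negSucc 20, Int.ofNat 28, Int.negSucc 3, Int.ofNat 0, Int.negSucc 10, Int.ofNat 0, Int.ofNat 1, Int.negSucc 0, Int.ofNat 0, Int.ofNat 0, Int.ofNat 0, Int.ofNat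 0, Int.ofNat 0, Int.ofNat 4, Int.ofNat 0, Int.negSucc 0, Int.ofNat 0, Int.negSucc 8]) (ZT.leaf [Int.negSucc 112, Int.negSucc 20, Int.ofNat 28, Int.negSucc 3, Int.ofNat 0, Int.negSucc 10, Int.ofNat 0, Int.ofNat 1, Int.negSucc 0, Int.ofNat 0, Int.ofNat 0, Int.ofNat 0, Int.ofNat 0, Int.ofNat 0, Int.ofNat 4, Int.ofNat 0, Int.negSucc 0, Int.ofNat 0, Int.negSucc 8]))) (ZT.node 954 (ZT.leaf [Int.negSucc 2590, Int.negSucc 1380, Int.ofNat 653, Int.negSucc 240, Int.ofNat 0, Int.negSucc 403, Int.negSucc 42, Int.ofNat 100, Int.ofNat 4, Int.ofNat 0, Int.ofNat 0, Int.ofNat 0, Int.negSucc 2, Int.negSucc 10, Int.ofNat 440, Int.ofNat 9, Int.negSucc 52, Int.ofNat 0, Int.negSucc 351]) (ZT.node 955 (ZT.leaf [Int.negSucc 2386, Int.negSucc 961, Int.ofNat 551, Int.negSucc 151, Int.negSucc 3, Int.negSucc 292, Int.negSucc 39, Int.ofNat 78, Int.ofNat 8, Int.ofNat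 0, Int.ofNat 0, Int.ofNat 0, Int.negSucc 3, Int.negSucc 0, Int.ofNat 398, Int.negSucc 1, Int.negSucc 61, Int.ofNat 0, Int.negSucc 264]) (ZT.leaf [Int.negSucc 0]))))) (ZT.node 961 (ZT.node 958 (ZT.node 957 (ZT.leaf [Int.negSucc 8878, Int.negSucc 4750, Int.ofNat 2103, Int.negSucc 799, Int.negSucc 19, Int.negSucc 1366, Int.negSucc 152, Int.ofNat 415, Int.ofNat 46, Int.ofNat 0, Int.ofNat 0, Int.ofNat 0, Int.ofNat 1, Int.negSucc 4, Int.ofNat 1547, Int.ofNat 15, Int.negSucc 259, Int.ofNat 0, Int.negSucc 1183]) (ZT.leaf [Int.negSucc 99, Int.negSucc 21, Int.ofNat 34, Int.negSucc 6, Int.ofNat 0, Int.negSucc 13, Int.ofNat 0, Int.ofNat 1, Int.negSucc 0, Int.ofNat 1, Int.ofNat 0, Int.ofNat 0, Int.ofNat 0, Int.ofNat 0, Int.ofNat 16, Int.ofNat 0, Int.negSucc 2, Int.ofNat 0, Int.negSucc 11])) (ZT.node 959 (ZT.leaf []) (ZT.node 960 (ZT.leaf []) (ZT.leaf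 [Int.ofNat 8388, Int.ofNat 6335, Int.negSucc 1979, Int.ofNat 1055, Int.ofNat 28, Int.ofNat 1489, Int.ofNat 289, Int.negSucc 563, Int.negSucc 119, Int.negSucc 0, Int.ofNat 0, Int.negSucc 0, Int.ofNat 8, Int.ofNat 22, Int.negSucc 2273, Int.negSucc 37, Int.ofNat 246, Int.negSucc 0, Int.ofNat 1386])))) (ZT.node 964 (ZT.node 962 (ZT.leaf [Int.ofNat 6518, Int.ofNat 2012, Int.negSucc 1443, Int.ofNat 271, Int.ofNat 5, Int.ofNat 685, Int.ofNat 72, Int.negSucc 146, Int.negSucc 0, Int.ofNat 1, Int.ofNat 0, Int.ofNat 1, Int.ofNat 21, Int.ofNat 6, Int.negSucc 736, Int.negSucc 0, Int.ofNat 127, Int.ofNat 1, Int.ofNat 623]) (ZT.node 963 (ZT.leaf [Int.ofNat 4876, Int.ofNat 5, Int.negSucc 1183, Int.negSucc 19, Int.negSucc 3, Int.ofNat 339, Int.negSucc 67, Int.ofNat 35, Int.ofNat 49, Int.ofNat 1, Int.negSucc 0, Int.ofNat 1, Int.ofNat 16, Int.negSucc 1, Int.ofNat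 35, Int.ofNat 28, Int.ofNat 113, Int.ofNat 1, Int.ofNat 271]) (ZT.leaf [Int.negSucc 4289, Int.negSucc 871, Int.ofNat 989, Int.negSucc 113, Int.ofNat 0, Int.negSucc 398, Int.negSucc 14, Int.ofNat 42, Int.negSucc 13, Int.ofNat 0, Int.ofNat 0, Int.ofNat 0, Int.negSucc 18, Int.negSucc 0, Int.ofNat 305, Int.negSucc 5, Int.negSucc 78, Int.ofNat 0, Int.negSucc 355]))) (ZT.node 965 (ZT.leaf []) (ZT.node 966 (ZT.leaf [Int.ofNat 674, Int.ofNat 258, Int.negSucc 168, Int.ofNat 48, Int.ofNat 1, Int.ofNat 103, Int.ofNat 10, Int.negSucc 23, Int.ofNat 2, Int.ofNat 0, Int.ofNat 0, Int.ofNat 0, Int.negSucc 1, Int.ofNat 1, Int.negSucc 63, Int.negSucc 1, Int.ofNat 16, Int.ofNat 0, Int.ofNat 80]) (ZT.leaf [Int.negSucc 5797, Int.negSucc 2481, Int.ofNat 1363, Int.negSucc 396, Int.negSucc 7, Int.negSucc 736, Int.negSucc 63, Int.ofNat 161, Int.ofNat 11, Int.ofNat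 0, Int.ofNat 0, Int.ofNat 0, Int.negSucc 17, Int.negSucc 11, Int.ofNat 844, Int.ofNat 3, Int.negSucc 136, Int.ofNat 0, Int.negSucc 665])))))) (ZT.node 978 (ZT.node 972 (ZT.node 969 (ZT.node 968 (ZT.leaf [Int.negSucc 1, Int.negSucc 0]) (ZT.leaf [])) (ZT.node 970 (ZT.leaf [Int.negSucc 0]) (ZT.node 971 (ZT.leaf [Int.ofNat 6840, Int.ofNat 3151, Int.negSucc 1629, Int.ofNat 521, Int.ofNat 10, Int.ofNat 938, Int.ofNat 100, Int.negSucc 222, Int.negSucc 14, Int.ofNat 0, Int.ofNat 0, Int.ofNat 0, Int.ofNat 14, Int.ofNat 11, Int.negSucc 1074, Int.negSucc 6, Int.ofNat 143, Int.ofNat 0, Int.ofNat 824]) (ZT.leaf [Int.negSucc 688, Int.negSucc 279, Int.ofNat 101, Int.negSucc 23, Int.ofNat 1, Int.negSucc 58, Int.negSucc 21, Int.ofNat 18, Int.ofNat 1, Int.ofNat 1, Int.negSucc 0, Int.ofNat 0, Int.negSucc 3, Int.negSucc 3, Int.ofNat 132, Int.ofNat 1, Int.negSucc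 9, Int.ofNat 0, Int.negSucc 59])))) (ZT.node 975 (ZT.node 973 (ZT.leaf [Int.negSucc 8666, Int.negSucc 2699, Int.ofNat 1990, Int.negSucc 387, Int.negSucc 5, Int.negSucc 935, Int.negSucc 88, Int.ofNat 194, Int.ofNat 7, Int.ofNat 0, Int.ofNat 1, Int.ofNat 0, Int.negSucc 29, Int.negSucc 5, Int.ofNat 963, Int.negSucc 7, Int.negSucc 180, Int.ofNat 0, Int.negSucc 851]) (ZT.node 974 (ZT.leaf [Int.negSucc 79, Int.negSucc 290, Int.ofNat 44, Int.negSucc 60, Int.negSucc 1, Int.negSucc 54, Int.negSucc 5, Int.ofNat 12, Int.ofNat 3, Int.ofNat 0, Int.ofNat 0, Int.ofNat 0, Int.negSucc 0, Int.negSucc 2, Int.ofNat 97, Int.ofNat 4, Int.ofNat 0, Int.ofNat 0, Int.negSucc 48]) (ZT.leaf []))) (ZT.node 976 (ZT.leaf [Int.ofNat 996, Int.ofNat 1412, Int.negSucc 306, Int.ofNat 271, Int.ofNat 5, Int.ofNat 314, Int.ofNat 28, Int.negSucc 96, Int.negSucc 14, Int.ofNat 0,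 Int.ofNat 0, Int.ofNat 0, Int.negSucc 0, Int.ofNat 11, Int.negSucc 423, Int.negSucc 12, Int.ofNat 59, Int.ofNat 0, Int.ofNat 268]) (ZT.node 977 (ZT.leaf [Int.ofNat 2397, Int.ofNat 1464, Int.negSucc 684, Int.ofNat 319, Int.negSucc 1, Int.ofNat 437, Int.ofNat 3, Int.negSucc 52, Int.ofNat 16, Int.negSucc 0, Int.ofNat 1, Int.negSucc 0, Int.ofNat 6, Int.ofNat 10, Int.negSucc 378, Int.negSucc 14, Int.ofNat 22, Int.negSucc 0, Int.ofNat 345]) (ZT.leaf [Int.negSucc 305, Int.negSucc 64, Int.ofNat 81, Int.negSucc 15, Int.ofNat 0, Int.negSucc 36, Int.ofNat 0, Int.ofNat 4, Int.negSucc 2, Int.ofNat 0, Int.ofNat 0, Int.ofNat 0, Int.ofNat 0, Int.negSucc 0, Int.ofNat 19, Int.ofNat 0, Int.negSucc 1, Int.ofNat 0, Int.negSucc 29]))))) (ZT.node 984 (ZT.node 981 (ZT.node 979 (ZT.leaf []) (ZT.node 980 (ZT.leaf [Int.ofNat 232, Int.ofNat 27, Int.negSucc 56, Int.ofNat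 5, Int.ofNat 0, Int.ofNat 21, Int.negSucc 2, Int.ofNat 5, Int.ofNat 3, Int.ofNat 0, Int.ofNat 0, Int.ofNat 0, Int.ofNat 2, Int.ofNat 0, Int.ofNat 2, Int.ofNat 0, Int.ofNat 1, Int.ofNat 0, Int.ofNat 17]) (ZT.leaf []))) (ZT.node 982 (ZT.leaf []) (ZT.node 983 (ZT.leaf []) (ZT.leaf [])))) (ZT.node 987 (ZT.node 985 (ZT.leaf [Int.ofNat 239, Int.negSucc 86, Int.negSucc 62, Int.negSucc 11, Int.negSucc 0, Int.ofNat 12, Int.negSucc 6, Int.ofNat 12, Int.ofNat 8, Int.ofNat 0, Int.ofNat 0, Int.ofNat 0, Int.ofNat 1, Int.ofNat 0, Int.ofNat 31, Int.ofNat 1, Int.ofNat 0, Int.ofNat 0, Int.ofNat 3]) (ZT.node 986 (ZT.leaf []) (ZT.leaf [Int.negSucc 10389, Int.negSucc 2282, Int.ofNat 2299, Int.negSucc 281, Int.negSucc 4, Int.negSucc 972, Int.negSucc 115, Int.ofNat 187, Int.negSucc 9, Int.ofNat 0, Int.ofNat 0, Int.ofNat 0, Int.negSucc 27, Int.ofNat 4, Int.ofNat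 953, Int.negSucc 20, Int.negSucc 180, Int.ofNat 0, Int.negSucc 877]))) (ZT.node 988 (ZT.leaf [Int.ofNat 18, Int.negSucc 7, Int.negSucc 7, Int.ofNat 1, Int.ofNat 0, Int.ofNat 3, Int.negSucc 0, Int.negSucc 0, Int.ofNat 1, Int.ofNat 0, Int.ofNat 0, Int.ofNat 0, Int.negSucc 0, Int.ofNat 0, Int.ofNat 4, Int.ofNat 0, Int.ofNat 1, Int.ofNat 0, Int.ofNat 2]) (ZT.node 989 (ZT.leaf [Int.ofNat 139, Int.ofNat 57, Int.negSucc 20, Int.ofNat 5, Int.ofNat 0, Int.ofNat 8, Int.ofNat 3, Int.ofNat 1, Int.negSucc 1, Int.ofNat 0, Int.ofNat 0, Int.ofNat 0, Int.ofNat 3, Int.ofNat 0, Int.negSucc 22, Int.ofNat 1, Int.ofNat 1, Int.ofNat 0, Int.ofNat 10]) (ZT.leaf [Int.ofNat 115, Int.negSucc 31, Int.negSucc 23, Int.negSucc 7, Int.negSucc 0, Int.negSucc 1, Int.negSucc 4, Int.ofNat 13, Int.ofNat 3, Int.ofNat 0, Int.ofNat 0, Int.ofNat 0, Int.ofNat 4, Int.ofNat 0, Int.ofNat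 23, Int.ofNat 0, Int.ofNat 1, Int.ofNat 0, Int.ofNat 2])))))))) (ZT.node 1035 (ZT.node 1012 (ZT.node 1001 (ZT.node 995 (ZT.node 992 (ZT.node 991 (ZT.leaf [Int.negSucc 997, Int.negSucc 1411, Int.ofNat 307, Int.negSucc 270, Int.negSucc 4, Int.negSucc 313, Int.negSucc 27, Int.ofNat 97, Int.ofNat 15, Int.ofNat 0, Int.ofNat 0, Int.ofNat 0, Int.ofNat 1, Int.negSucc 10, Int.ofNat 424, Int.ofNat 13, Int.negSucc 58, Int.ofNat 0, Int.negSucc 267]) (ZT.leaf [])) (ZT.node 993 (ZT.leaf [Int.ofNat 2888, Int.ofNat 2105, Int.negSucc 715, Int.ofNat 355, Int.ofNat 6, Int.ofNat 532, Int.ofNat 67, Int.negSucc 164, Int.negSucc 24, Int.ofNat 0, Int.ofNat 0, Int.ofNat 0, Int.ofNat 3, Int.ofNat 10, Int.negSucc 696, Int.negSucc 11, Int.ofNat 88, Int.ofNat 0, Int.ofNat 468]) (ZT.node 994 (ZT.leaf [Int.negSucc 0]) (ZT.leaf [Int.negSucc 9, Int.ofNat 9, Int.ofNat 2,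 Int.ofNat 0, Int.ofNat 0, Int.ofNat 0, Int.ofNat 0, Int.negSucc 0, Int.negSucc 0, Int.negSucc 0, Int.ofNat 0, Int.ofNat 0, Int.ofNat 0, Int.ofNat 0, Int.negSucc 3, Int.ofNat 0, Int.ofNat 0, Int.ofNat 0, Int.ofNat 0])))) (ZT.node 998 (ZT.node 996 (ZT.leaf [Int.ofNat 123, Int.ofNat 47, Int.negSucc 31, Int.ofNat 7, Int.ofNat 0, Int.ofNat 17, Int.ofNat 0, Int.negSucc 3, Int.ofNat 0, Int.negSucc 0, Int.ofNat 0, Int.ofNat 0, Int.ofNat 0, Int.ofNat 1, Int.negSucc 13, Int.ofNat 0, Int.ofNat 3, Int.ofNat 0, Int.ofNat 15]) (ZT.node 997 (ZT.leaf []) (ZT.leaf [Int.ofNat 97, Int.ofNat 9, Int.negSucc 24, Int.ofNat 3, Int.ofNat 0, Int.ofNat 10, Int.ofNat 0, Int.ofNat 1, Int.ofNat 2, Int.ofNat 1, Int.ofNat 0, Int.ofNat 0, Int.ofNat 0, Int.ofNat 0, Int.ofNat 0, Int.ofNat 0, Int.ofNat 2, Int.ofNat 0, Int.ofNat 8]))) (ZT.node 999 (ZT.leaf [Int.ofNat 4557,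 Int.ofNat 2704, Int.negSucc 1196, Int.ofNat 524, Int.ofNat 20, Int.ofNat 761, Int.ofNat 55, Int.negSucc 180, Int.ofNat 0, Int.ofNat 0, Int.ofNat 0, Int.ofNat 0, Int.negSucc 8, Int.ofNat 15, Int.negSucc 830, Int.negSucc 18, Int.ofNat 121, Int.ofNat 0, Int.ofNat 647]) (ZT.node 1000 (ZT.leaf [Int.negSucc 4463, Int.negSucc 5522, Int.ofNat 1184, Int.negSucc 984, Int.negSucc 25, Int.negSucc 1182, Int.negSucc 228, Int.ofNat 482, Int.ofNat 113, Int.ofNat 1, Int.ofNat 0, Int.ofNat 1, Int.ofNat 7, Int.negSucc 27, Int.ofNat 1772, Int.ofNat 51, Int.negSucc 134, Int.ofNat 1, Int.negSucc 1059]) (ZT.leaf [Int.negSucc 511, Int.negSucc 211, Int.ofNat 114, Int.negSucc 30, Int.ofNat 0, Int.negSucc 63, Int.negSucc 7, Int.ofNat 10, Int.ofNat 2, Int.negSucc 0, Int.ofNat 0, Int.ofNat 0, Int.negSucc 3, Int.negSucc 0, Int.ofNat 80, Int.negSucc 1, Int.negSucc 9,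 Int.ofNat 0, Int.negSucc 56]))))) (ZT.node 1006 (ZT.node 1003 (ZT.node 1002 (ZT.leaf [Int.ofNat 1551, Int.ofNat 806, Int.negSucc 354, Int.ofNat 125, Int.ofNat 4, Int.ofNat 227, Int.ofNat 53, Int.negSucc 104, Int.negSucc 22, Int.negSucc 0, Int.ofNat 0, Int.ofNat 0, Int.negSucc 2, Int.ofNat 0, Int.negSucc 327, Int.ofNat 1, Int.ofNat 49, Int.ofNat 0, Int.ofNat 212]) (ZT.leaf [])) (ZT.node 1004 (ZT.leaf [Int.ofNat 7527, Int.ofNat 1766, Int.negSucc 1657, Int.ofNat 211, Int.ofNat 0, Int.ofNat 716, Int.ofNat 76, Int.negSucc 125, Int.ofNat 8, Int.ofNat 0, Int.ofNat 0, Int.ofNat 0, Int.ofNat 27, Int.ofNat 4, Int.negSucc 689, Int.ofNat 13, Int.ofNat 145, Int.ofNat 0, Int.ofNat 651]) (ZT.node 1005 (ZT.leaf [Int.ofNat 50, Int.ofNat 3, Int.negSucc 12, Int.ofNat 1, Int.ofNat 0, Int.ofNat 4, Int.ofNat 0, Int.ofNat 0, Int.ofNat 1, Int.ofNat 0, Int.ofNat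 0, Int.ofNat 0, Int.ofNat 0, Int.ofNat 0, Int.ofNat 3, Int.ofNat 0, Int.negSucc 0, Int.ofNat 0, Int.ofNat 3]) (ZT.leaf [Int.negSucc 46, Int.negSucc 0, Int.ofNat 13, Int.negSucc 0, Int.ofNat 0, Int.negSucc 3, Int.ofNat 0, Int.ofNat 0, Int.negSucc 0, Int.ofNat 0, Int.ofNat 0, Int.ofNat 0, Int.ofNat 0, Int.ofNat 0, Int.negSucc 2, Int.ofNat 0, Int.ofNat 1, Int.ofNat 0, Int.negSucc 2])))) (ZT.node 1009 (ZT.node 1007 (ZT.leaf [Int.negSucc 142, Int.negSucc 674, Int.ofNat 51, Int.negSucc 126, Int.negSucc 3, Int.negSucc 130, Int.negSucc 34, Int.ofNat 59, Int.ofNat 17, Int.ofNat 0, Int.ofNat 0, Int.ofNat 0, Int.ofNat 0, Int.negSucc 4, Int.ofNat 255, Int.ofNat 9, Int.ofNat 3, Int.ofNat 0, Int.negSucc 111]) (ZT.node 1008 (ZT.leaf []) (ZT.leaf [Int.ofNat 7486, Int.negSucc 1759, Int.negSucc 1531, Int.negSucc 419, Int.negSucc 28, Int.ofNat 185, Int.ofNat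 2, Int.ofNat 174, Int.ofNat 89, Int.negSucc 0, Int.ofNat 0, Int.negSucc 1, Int.ofNat 53, Int.negSucc 16, Int.ofNat 330, Int.ofNat 51, Int.negSucc 4, Int.negSucc 2, Int.ofNat 154]))) (ZT.node 1010 (ZT.leaf []) (ZT.node 1011 (ZT.leaf [Int.negSucc 647, Int.negSucc 306, Int.ofNat 143, Int.negSucc 45, Int.negSucc 0, Int.negSucc 78, Int.negSucc 9, Int.ofNat 16, Int.ofNat 2, Int.ofNat 1, Int.negSucc 0, Int.ofNat 0, Int.negSucc 2, Int.negSucc 1, Int.ofNat 91, Int.ofNat 2, Int.negSucc 9, Int.ofNat 0, Int.negSucc 74]) (ZT.leaf [Int.ofNat 14783, Int.ofNat 10831, Int.negSucc 3713, Int.ofNat 1914, Int.ofNat 57, Int.ofNat 2810, Int.ofNat 303, Int.negSucc 942, Int.negSucc 115, Int.negSucc 0, Int.ofNat 1, Int.ofNat 2, Int.negSucc 33, Int.ofNat 39, Int.negSucc 3042, Int.negSucc 63, Int.ofNat 513, Int.ofNat 3, Int.ofNat 2408])))))) (ZT.node 1023 (ZT.node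 1017 (ZT.node 1014 (ZT.node 1013 (ZT.leaf [Int.negSucc 69, Int.negSucc 1, Int.ofNat 21, Int.negSucc 0, Int.ofNat 0, Int.negSucc 5, Int.ofNat 0, Int.negSucc 0, Int.negSucc 1, Int.ofNat 0, Int.ofNat 0, Int.ofNat 0, Int.ofNat 1, Int.negSucc 1, Int.negSucc 4, Int.ofNat 0, Int.ofNat 0, Int.ofNat 0, Int.negSucc 3]) (ZT.leaf [Int.ofNat 44, Int.ofNat 37, Int.negSucc 10, Int.ofNat 8, Int.ofNat 0, Int.ofNat 8, Int.ofNat 1, Int.negSucc 2, Int.negSucc 0, Int.ofNat 0, Int.ofNat 0, Int.ofNat 0, Int.ofNat 0, Int.ofNat 0, Int.negSucc 13, Int.ofNat 0, Int.ofNat 2, Int.ofNat 0, Int.ofNat 7])) (ZT.node 1015 (ZT.leaf [Int.ofNat 181, Int.negSucc 385, Int.ofNat 5, Int.negSucc 86, Int.negSucc 4, Int.negSucc 66, Int.ofNat 0, Int.ofNat 28, Int.ofNat 5, Int.ofNat 0, Int.ofNat 0, Int.ofNat 0, Int.ofNat 6, Int.negSucc 5, Int.ofNat 115, Int.ofNat 7, Int.negSucc 19,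 Int.ofNat 0, Int.negSucc 53]) (ZT.node 1016 (ZT.leaf [Int.negSucc 25, Int.negSucc 4, Int.ofNat 4, Int.ofNat 1, Int.ofNat 0, Int.ofNat 0, Int.ofNat 0, Int.negSucc 0, Int.ofNat 0, Int.ofNat 0, Int.ofNat 0, Int.ofNat 0, Int.negSucc 0, Int.ofNat 0, Int.ofNat 2, Int.ofNat 0, Int.ofNat 0, Int.ofNat 0, Int.negSucc 0]) (ZT.leaf [])))) (ZT.node 1020 (ZT.node 1018 (ZT.leaf []) (ZT.node 1019 (ZT.leaf [Int.negSucc 613, Int.negSucc 219, Int.ofNat 147, Int.negSucc 34, Int.negSucc 0, Int.negSucc 76, Int.negSucc 6, Int.ofNat 14, Int.ofNat 0, Int.ofNat 0, Int.ofNat 0, Int.ofNat 0, Int.negSucc 1, Int.ofNat 0, Int.ofNat 72, Int.ofNat 0, Int.negSucc 11, Int.ofNat 0, Int.negSucc 66]) (ZT.leaf [Int.ofNat 815, Int.negSucc 210, Int.negSucc 131, Int.negSucc 63, Int.negSucc 2, Int.negSucc 10, Int.ofNat 5, Int.ofNat 23, Int.ofNat 7, Int.ofNat 0, Int.ofNat 0, Int.ofNat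 0, Int.ofNat 11, Int.negSucc 4, Int.ofNat 48, Int.ofNat 6, Int.negSucc 11, Int.negSucc 0, Int.negSucc 0]))) (ZT.node 1021 (ZT.leaf []) (ZT.node 1022 (ZT.leaf [Int.ofNat 847, Int.ofNat 258, Int.negSucc 210, Int.ofNat 46, Int.ofNat 1, Int.ofNat 104, Int.ofNat 6, Int.negSucc 17, Int.ofNat 2, Int.ofNat 0, Int.ofNat 0, Int.ofNat 0, Int.ofNat 1, Int.ofNat 1, Int.negSucc 74, Int.ofNat 0, Int.ofNat 15, Int.ofNat 0, Int.ofNat 87]) (ZT.leaf []))))) (ZT.node 1029 (ZT.node 1026 (ZT.node 1024 (ZT.leaf [Int.ofNat 3506, Int.ofNat 3658, Int.negSucc 906, Int.ofNat 636, Int.ofNat 13, Int.ofNat 841, Int.ofNat 151, Int.negSucc 329, Int.negSucc 65, Int.negSucc 0, Int.ofNat 0, Int.ofNat 0, Int.negSucc 6, Int.ofNat 16, Int.negSucc 1254, Int.negSucc 27, Int.ofNat 133, Int.ofNat 0, Int.ofNat 759]) (ZT.node 1025 (ZT.leaf [Int.negSucc 269, Int.negSucc 20, Int.ofNat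 52, Int.ofNat 1, Int.ofNat 1, Int.negSucc 14, Int.negSucc 5, Int.ofNat 6, Int.negSucc 0, Int.ofNat 0, Int.ofNat 0, Int.ofNat 0, Int.negSucc 0, Int.ofNat 0, Int.ofNat 32, Int.negSucc 0, Int.negSucc 2, Int.ofNat 0, Int.negSucc 16]) (ZT.leaf [Int.negSucc 1722, Int.negSucc 1358, Int.ofNat 450, Int.negSucc 241, Int.negSucc 3, Int.negSucc 349, Int.negSucc 50, Int.ofNat 124, Int.ofNat 18, Int.ofNat 0, Int.ofNat 0, Int.ofNat 0, Int.ofNat 3, Int.negSucc 6, Int.ofNat 459, Int.ofNat 8, Int.negSucc 53, Int.ofNat 0, Int.negSucc 307]))) (ZT.node 1027 (ZT.leaf []) (ZT.node 1028 (ZT.leaf [Int.negSucc 70, Int.negSucc 9, Int.ofNat 16, Int.ofNat 0, Int.ofNat 0, Int.negSucc 4, Int.ofNat 0, Int.negSucc 0, Int.negSucc 0, Int.ofNat 0, Int.ofNat 0, Int.ofNat 0, Int.ofNat 0, Int.negSucc 0, Int.negSucc 0, Int.ofNat 0, Int.ofNat 1, Int.ofNat 0, Int.negSucc 3]) (ZT.leaf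 [Int.ofNat 1])))) (ZT.node 1032 (ZT.node 1030 (ZT.leaf []) (ZT.node 1031 (ZT.leaf [Int.negSucc 2, Int.negSucc 0]) (ZT.leaf [Int.ofNat 50, Int.ofNat 1, Int.negSucc 12, Int.ofNat 1, Int.ofNat 0, Int.ofNat 5, Int.ofNat 0, Int.ofNat 1, Int.ofNat 1, Int.ofNat 0, Int.ofNat 0, Int.ofNat 0, Int.ofNat 0, Int.ofNat 0, Int.ofNat 1, Int.ofNat 0, Int.ofNat 1, Int.ofNat 0, Int.ofNat 4]))) (ZT.node 1033 (ZT.leaf [Int.negSucc 357, Int.negSucc 107, Int.ofNat 87, Int.negSucc 18, Int.negSucc 0, Int.negSucc 33, Int.negSucc 0, Int.ofNat 6, Int.ofNat 0, Int.ofNat 0, Int.ofNat 0, Int.ofNat 0, Int.negSucc 1, Int.ofNat 0, Int.ofNat 41, Int.ofNat 0, Int.negSucc 9, Int.ofNat 0, Int.negSucc 32]) (ZT.node 1034 (ZT.leaf [Int.negSucc 48, Int.negSucc 0, Int.ofNat 13, Int.negSucc 0, Int.ofNat 0, Int.negSucc 4, Int.ofNat 0, Int.negSucc 0, Int.negSucc 0, Int.ofNat 0, Int.ofNat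 0, Int.ofNat 0, Int.ofNat 0, Int.ofNat 0, Int.negSucc 0, Int.ofNat 0, Int.negSucc 0, Int.ofNat 0, Int.negSucc 3]) (ZT.leaf [Int.negSucc 4381, Int.negSucc 292, Int.ofNat 975, Int.negSucc 18, Int.ofNat 2, Int.negSucc 331, Int.negSucc 23, Int.ofNat 7, Int.negSucc 27, Int.ofNat 0, Int.ofNat 0, Int.ofNat 0, Int.negSucc 16, Int.ofNat 7, Int.ofNat 134, Int.negSucc 15, Int.negSucc 27, Int.ofNat 0, Int.negSucc 271]))))))) (ZT.node 1057 (ZT.node 1046 (ZT.node 1040 (ZT.node 1037 (ZT.node 1036 (ZT.leaf [Int.ofNat 12, Int.negSucc 12, Int.negSucc 8, Int.ofNat 1, Int.ofNat 0, Int.ofNat 3, Int.negSucc 0, Int.negSucc 0, Int.ofNat 1, Int.ofNat 0, Int.ofNat 0, Int.ofNat 0, Int.negSucc 0, Int.ofNat 0, Int.ofNat 4, Int.ofNat 0, Int.ofNat 1, Int.ofNat 0, Int.ofNat 2]) (ZT.leaf [Int.negSucc 302, Int.negSucc 20, Int.ofNat 57, Int.ofNat 3, Int.ofNat 0, Int.negSucc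 15, Int.negSucc 4, Int.ofNat 3, Int.negSucc 1, Int.ofNat 0, Int.ofNat 0, Int.ofNat 0, Int.negSucc 0, Int.negSucc 0, Int.ofNat 27, Int.negSucc 0, Int.negSucc 0, Int.ofNat 0, Int.negSucc 16])) (ZT.node 1038 (ZT.leaf []) (ZT.node 1039 (ZT.leaf []) (ZT.leaf [Int.negSucc 252, Int.negSucc 83, Int.ofNat 58, Int.negSucc 13, Int.negSucc 0, Int.negSucc 20, Int.negSucc 0, Int.ofNat 3, Int.ofNat 1, Int.ofNat 0, Int.ofNat 0, Int.ofNat 0, Int.negSucc 1, Int.ofNat 0, Int.ofNat 34, Int.ofNat 0, Int.negSucc 3, Int.ofNat 0, Int.negSucc 21])))) (ZT.node 1043 (ZT.node 1041 (ZT.leaf [Int.negSucc 539, Int.negSucc 160, Int.ofNat 127, Int.negSucc 25, Int.ofNat 0, Int.negSucc 58, Int.negSucc 2, Int.ofNat 10, Int.negSucc 1, Int.negSucc 0, Int.ofNat 0, Int.ofNat 0, Int.negSucc 0, Int.negSucc 0, Int.ofNat 47, Int.ofNat 0, Int.negSucc 11, Int.ofNat 0, Int.negSucc 50])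 (ZT.node 1042 (ZT.leaf [Int.negSucc 0]) (ZT.leaf []))) (ZT.node 1044 (ZT.leaf [Int.ofNat 250, Int.ofNat 182, Int.negSucc 70, Int.ofNat 35, Int.ofNat 1, Int.ofNat 49, Int.ofNat 0, Int.negSucc 11, Int.negSucc 1, Int.ofNat 0, Int.ofNat 0, Int.ofNat 0, Int.ofNat 0, Int.ofNat 0, Int.negSucc 33, Int.negSucc 1, Int.ofNat 11, Int.ofNat 0, Int.ofNat 41]) (ZT.node 1045 (ZT.leaf []) (ZT.leaf [Int.ofNat 19, Int.negSucc 6, Int.negSucc 5, Int.ofNat 0, Int.ofNat 0, Int.ofNat 1, Int.ofNat 0, Int.ofNat 1, Int.ofNat 1, Int.ofNat 1, Int.ofNat 0, Int.ofNat 0, Int.ofNat 0, Int.ofNat 0, Int.ofNat 2, Int.ofNat 0, Int.ofNat 0, Int.ofNat 0, Int.ofNat 1]))))) (ZT.node 1051 (ZT.node 1048 (ZT.node 1047 (ZT.leaf [Int.ofNat 74, Int.negSucc 6, Int.negSucc 12, Int.negSucc 3, Int.negSucc 0, Int.ofNat 2, Int.negSucc 0, Int.ofNat 4, Int.ofNat 1, Int.ofNat 0, Int.ofNat 0,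 Int.ofNat 0, Int.ofNat 1, Int.ofNat 0, Int.ofNat 1, Int.ofNat 1, Int.ofNat 0, Int.ofNat 0, Int.ofNat 2]) (ZT.leaf [Int.ofNat 1380, Int.ofNat 739, Int.negSucc 331, Int.ofNat 123, Int.ofNat 3, Int.ofNat 205, Int.ofNat 28, Int.negSucc 66, Int.negSucc 8, Int.ofNat 1, Int.ofNat 0, Int.ofNat 0, Int.ofNat 0, Int.ofNat 3, Int.negSucc 251, Int.negSucc 1, Int.ofNat 38, Int.ofNat 0, Int.ofNat 187])) (ZT.node 1049 (ZT.leaf [Int.negSucc 0]) (ZT.node 1050 (ZT.leaf [Int.negSucc 74, Int.ofNat 7, Int.ofNat 13, Int.ofNat 4, Int.ofNat 1, Int.negSucc 1, Int.ofNat 1, Int.negSucc 3, Int.negSucc 0, Int.ofNat 0, Int.ofNat 0, Int.ofNat 0, Int.negSucc 0, Int.ofNat 0, Int.negSucc 0, Int.negSucc 0, Int.ofNat 0, Int.ofNat 0, Int.negSucc 1]) (ZT.leaf [])))) (ZT.node 1054 (ZT.node 1052 (ZT.leaf [Int.negSucc 1]) (ZT.node 1053 (ZT.leaf [Int.negSucc 2134, Int.negSucc 374,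 Int.ofNat 488, Int.negSucc 49, Int.ofNat 3, Int.negSucc 209, Int.negSucc 27, Int.ofNat 25, Int.negSucc 5, Int.ofNat 0, Int.ofNat 0, Int.ofNat 0, Int.negSucc 7, Int.ofNat 1, Int.ofNat 153, Int.negSucc 2, Int.negSucc 6, Int.ofNat 0, Int.negSucc 173]) (ZT.leaf []))) (ZT.node 1055 (ZT.leaf [Int.negSucc 236, Int.negSucc 119, Int.ofNat 49, Int.negSucc 16, Int.negSucc 0, Int.negSucc 26, Int.ofNat 0, Int.ofNat 0, Int.negSucc 1, Int.ofNat 0, Int.ofNat 0, Int.ofNat 0, Int.negSucc 0, Int.negSucc 1, Int.ofNat 16, Int.ofNat 2, Int.ofNat 0, Int.ofNat 0, Int.negSucc 21]) (ZT.node 1056 (ZT.leaf []) (ZT.leaf [Int.negSucc 37, Int.negSucc 78, Int.ofNat 6, Int.negSucc 11, Int.ofNat 0, Int.negSucc 6, Int.negSucc 3, Int.ofNat 7, Int.ofNat 3, Int.ofNat 0, Int.ofNat 0, Int.ofNat 0, Int.negSucc 0, Int.negSucc 0, Int.ofNat 29, Int.ofNat 1, Int.negSucc 3, Int.ofNat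 0, Int.negSucc 11])))))) (ZT.node 1068 (ZT.node 1062 (ZT.node 1059 (ZT.node 1058 (ZT.leaf [Int.ofNat 439, Int.negSucc 6, Int.negSucc 95, Int.negSucc 0, Int.ofNat 1, Int.ofNat 30, Int.ofNat 0, Int.ofNat 1, Int.ofNat 3, Int.ofNat 0, Int.ofNat 0, Int.ofNat 0, Int.ofNat 1, Int.negSucc 2, Int.negSucc 18, Int.ofNat 3, Int.ofNat 6, Int.ofNat 0, Int.ofNat 22]) (ZT.leaf [])) (ZT.node 1060 (ZT.leaf [Int.negSucc 439, Int.ofNat 7, Int.ofNat 96, Int.ofNat 1, Int.negSucc 0, Int.negSucc 29, Int.ofNat 0, Int.negSucc 0, Int.negSucc 2, Int.ofNat 0, Int.ofNat 0, Int.ofNat 0, Int.negSucc 0, Int.ofNat 3, Int.ofNat 19, Int.negSucc 2, Int.negSucc 5, Int.ofNat 0, Int.negSucc 21]) (ZT.node 1061 (ZT.leaf [Int.negSucc 2415, Int.negSucc 2137, Int.ofNat 631, Int.negSucc 383, Int.negSucc 9, Int.negSucc 511, Int.negSucc 61, Int.ofNat 169, Int.ofNat 27, Int.ofNat 0, Int.ofNat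 0, Int.ofNat 0, Int.ofNat 2, Int.negSucc 12, Int.ofNat 693, Int.ofNat 16, Int.negSucc 90, Int.ofNat 0, Int.negSucc 451]) (ZT.leaf [Int.ofNat 760, Int.ofNat 576, Int.negSucc 181, Int.ofNat 96, Int.ofNat 2, Int.ofNat 133, Int.ofNat 28, Int.negSucc 56, Int.negSucc 12, Int.ofNat 0, Int.ofNat 0, Int.ofNat 0, Int.negSucc 0, Int.ofNat 1, Int.negSucc 209, Int.negSucc 1, Int.ofNat 21, Int.ofNat 0, Int.ofNat 126])))) (ZT.node 1065 (ZT.node 1063 (ZT.leaf [Int.negSucc 190, Int.negSucc 91, Int.ofNat 51, Int.negSucc 16, Int.ofNat 0, Int.negSucc 32, Int.negSucc 6, Int.ofNat 14, Int.ofNat 3, Int.ofNat 0, Int.ofNat 0, Int.ofNat 0, Int.ofNat 0, Int.ofNat 1, Int.ofNat 51, Int.negSucc 0, Int.negSucc 6, Int.ofNat 0, Int.negSucc 29]) (ZT.node 1064 (ZT.leaf [Int.ofNat 216, Int.ofNat 74, Int.negSucc 60, Int.ofNat 17, Int.ofNat 0, Int.ofNat 36, Int.ofNat 6, Int.negSucc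 13, Int.negSucc 0, Int.ofNat 1, Int.ofNat 0, Int.ofNat 0, Int.negSucc 0, Int.negSucc 0, Int.negSucc 39, Int.ofNat 1, Int.ofNat 8, Int.ofNat 0, Int.ofNat 31]) (ZT.leaf [Int.negSucc 0]))) (ZT.node 1066 (ZT.leaf [Int.ofNat 1]) (ZT.node 1067 (ZT.leaf [Int.ofNat 1006, Int.ofNat 604, Int.negSucc 238, Int.ofNat 98, Int.ofNat 2, Int.ofNat 153, Int.ofNat 21, Int.negSucc 47, Int.negSucc 7, Int.ofNat 0, Int.ofNat 0, Int.ofNat 0, Int.ofNat 2, Int.ofNat 3, Int.negSucc 204, Int.negSucc 2, Int.ofNat 27, Int.ofNat 0, Int.ofNat 141]) (ZT.leaf [Int.negSucc 902, Int.negSucc 579, Int.ofNat 212, Int.negSucc 94, Int.negSucc 1, Int.negSucc 139, Int.negSucc 21, Int.ofNat 48, Int.ofNat 9, Int.ofNat 0, Int.ofNat 0, Int.ofNat 0, Int.negSucc 1, Int.negSucc 1, Int.ofNat 197, Int.ofNat 3, Int.negSucc 22, Int.ofNat 0, Int.negSucc 129]))))) (ZT.node 1074 (ZT.node 1071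 (ZT.node 1069 (ZT.leaf [Int.negSucc 411, Int.negSucc 147, Int.ofNat 107, Int.negSucc 26, Int.ofNat 0, Int.negSucc 59, Int.negSucc 6, Int.ofNat 17, Int.ofNat 1, Int.ofNat 0, Int.ofNat 0, Int.ofNat 0, Int.ofNat 0, Int.ofNat 0, Int.ofNat 65, Int.negSucc 0, Int.negSucc 11, Int.ofNat 0, Int.negSucc 52]) (ZT.node 1070 (ZT.leaf [Int.negSucc 0]) (ZT.leaf [Int.negSucc 126, Int.negSucc 99, Int.ofNat 52, Int.negSucc 25, Int.negSucc 0, Int.negSucc 28, Int.ofNat 4, Int.ofNat 5, Int.ofNat 1, Int.ofNat 0, Int.ofNat 0, Int.ofNat 0, Int.ofNat 0, Int.ofNat 0, Int.ofNat 18, Int.ofNat 1, Int.negSucc 9, Int.ofNat 0, Int.negSucc 23]))) (ZT.node 1072 (ZT.leaf [Int.ofNat 50, Int.ofNat 4, Int.negSucc 10, Int.ofNat 0, Int.ofNat 0, Int.ofNat 3, Int.negSucc 0, Int.ofNat 1, Int.ofNat 1, Int.ofNat 0, Int.ofNat 0, Int.ofNat 0, Int.ofNat 0, Int.ofNat 0, Int.negSucc 0,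 Int.ofNat 0, Int.ofNat 2, Int.ofNat 0, Int.ofNat 2]) (ZT.node 1073 (ZT.leaf [Int.ofNat 47, Int.negSucc 23, Int.negSucc 13, Int.negSucc 0, Int.ofNat 0, Int.ofNat 1, Int.negSucc 1, Int.ofNat 5, Int.ofNat 2, Int.ofNat 0, Int.ofNat 0, Int.ofNat 0, Int.ofNat 1, Int.ofNat 0, Int.ofNat 17, Int.ofNat 0, Int.negSucc 2, Int.ofNat 0, Int.ofNat 0]) (ZT.leaf [Int.negSucc 82, Int.negSucc 14, Int.ofNat 16, Int.ofNat 0, Int.ofNat 0, Int.negSucc 3, Int.ofNat 0, Int.ofNat 0, Int.ofNat 0, Int.ofNat 0, Int.ofNat 0, Int.ofNat 0, Int.ofNat 0, Int.ofNat 0, Int.ofNat 0, Int.ofNat 0, Int.negSucc 0, Int.ofNat 0, Int.negSucc 3])))) (ZT.node 1077 (ZT.node 1075 (ZT.leaf []) (ZT.node 1076 (ZT.leaf []) (ZT.leaf []))) (ZT.node 1078 (ZT.leaf [Int.negSucc 0, Int.ofNat 1, Int.ofNat 1]) (ZT.node 1079 (ZT.leaf [Int.negSucc 0]) (ZT.leaf [Int.ofNat 324, Int.ofNat 150, Int.negSucc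 83, Int.ofNat 29, Int.ofNat 1, Int.ofNat 32, Int.negSucc 5, Int.ofNat 4, Int.ofNat 2, Int.ofNat 0, Int.ofNat 0, Int.ofNat 0, Int.ofNat 3, Int.ofNat 1, Int.negSucc 31, Int.negSucc 0, Int.ofNat 10, Int.ofNat 0, Int.ofNat 32]))))))))))

noncomputable def labT_3 : ZT := (ZT.node 1260 (ZT.node 1170 (ZT.node 1125 (ZT.node 1102 (ZT.node 1091 (ZT.node 1085 (ZT.node 1082 (ZT.node 1081 (ZT.leaf [Int.negSucc 0]) (ZT.leaf [])) (ZT.node 1083 (ZT.leaf [Int.negSucc 12973, Int.negSucc 2286, Int.ofNat 2883, Int.negSucc 245, Int.ofNat 3, Int.negSucc 1209, Int.negSucc 153, Int.ofNat 189, Int.negSucc 33, Int.ofNat 1, Int.ofNat 0, Int.ofNat 0, Int.negSucc 40, Int.negSucc 10, Int.ofNat 949, Int.negSucc 24, Int.negSucc 194, Int.ofNat 0, Int.negSucc 1061]) (ZT.node 1084 (ZT.leaf [Int.ofNat 0, Int.ofNat 1]) (ZT.leaf [])))) (ZT.node 1088 (ZT.node 1086 (ZT.leaf [Int.negSucc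 0]) (ZT.node 1087 (ZT.leaf [Int.ofNat 9, Int.negSucc 643, Int.ofNat 35, Int.negSucc 124, Int.negSucc 4, Int.negSucc 92, Int.negSucc 6, Int.ofNat 48, Int.ofNat 15, Int.ofNat 0, Int.ofNat 0, Int.ofNat 0, Int.ofNat 3, Int.negSucc 5, Int.ofNat 216, Int.ofNat 8, Int.negSucc 33, Int.ofNat 0, Int.negSucc 93]) (ZT.leaf []))) (ZT.node 1089 (ZT.leaf [Int.ofNat 930, Int.ofNat 285, Int.negSucc 231, Int.ofNat 50, Int.ofNat 1, Int.ofNat 114, Int.ofNat 6, Int.negSucc 18, Int.ofNat 2, Int.negSucc 0, Int.ofNat 0, Int.ofNat 0, Int.ofNat 2, Int.ofNat 1, Int.negSucc 85, Int.ofNat 0, Int.ofNat 15, Int.ofNat 0, Int.ofNat 96]) (ZT.node 1090 (ZT.leaf [Int.ofNat 2019, Int.ofNat 1102, Int.negSucc 432, Int.ofNat 156, Int.ofNat 2, Int.ofNat 258, Int.ofNat 37, Int.negSucc 71, Int.negSucc 10, Int.ofNat 0, Int.ofNat 0, Int.ofNat 0, Int.ofNat 11, Int.ofNat 7, Int.negSucc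 340, Int.negSucc 5, Int.ofNat 39, Int.ofNat 0, Int.ofNat 245]) (ZT.leaf [Int.negSucc 7, Int.negSucc 2, Int.ofNat 2, Int.ofNat 0, Int.ofNat 0, Int.negSucc 0, Int.ofNat 0, Int.ofNat 1, Int.ofNat 0, Int.ofNat 0, Int.ofNat 0, Int.ofNat 0, Int.ofNat 0, Int.ofNat 0, Int.ofNat 0, Int.ofNat 0, Int.ofNat 0, Int.ofNat 0, Int.ofNat 0]))))) (ZT.node 1096 (ZT.node 1093 (ZT.node 1092 (ZT.leaf []) (ZT.leaf [])) (ZT.node 1094 (ZT.leaf [Int.negSucc 0]) (ZT.node 1095 (ZT.leaf [Int.negSucc 91, Int.negSucc 26, Int.ofNat 23, Int.negSucc 3, Int.ofNat 0, Int.negSucc 9, Int.ofNat 0, Int.ofNat 1, Int.ofNat 0, Int.ofNat 1, Int.ofNat 0, Int.ofNat 0, Int.negSucc 0, Int.ofNat 0, Int.ofNat 11, Int.ofNat 0, Int.negSucc 0, Int.ofNat 0, Int.negSucc 8]) (ZT.leaf [Int.negSucc 0])))) (ZT.node 1099 (ZT.node 1097 (ZT.leaf []) (ZT.node 1098 (ZT.leaf [Int.negSucc 0]) (ZT.leaf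 [Int.negSucc 33, Int.negSucc 0, Int.ofNat 6, Int.ofNat 0, Int.ofNat 0, Int.negSucc 0, Int.ofNat 0, Int.negSucc 0, Int.negSucc 0, Int.negSucc 0, Int.ofNat 0, Int.ofNat 0, Int.ofNat 0, Int.negSucc 0, Int.negSucc 1, Int.ofNat 0, Int.ofNat 0, Int.ofNat 0, Int.negSucc 0]))) (ZT.node 1100 (ZT.leaf [Int.negSucc 8900, Int.negSucc 1572, Int.ofNat 1761, Int.negSucc 86, Int.negSucc 3, Int.negSucc 535, Int.negSucc 157, Int.ofNat 94, Int.ofNat 42, Int.negSucc 1, Int.ofNat 2, Int.ofNat 1, Int.negSucc 73, Int.ofNat 2, Int.ofNat 1259, Int.negSucc 29, Int.negSucc 129, Int.ofNat 2, Int.negSucc 634]) (ZT.node 1101 (ZT.leaf [Int.ofNat 0, Int.ofNat 1]) (ZT.leaf [])))))) (ZT.node 1113 (ZT.node 1107 (ZT.node 1104 (ZT.node 1103 (ZT.leaf []) (ZT.leaf [Int.negSucc 542, Int.negSucc 412, Int.ofNat 122, Int.negSucc 66, Int.ofNat 0, Int.negSucc 83, Int.negSucc 16, Int.ofNat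 29, Int.ofNat 8, Int.ofNat 0, Int.ofNat 0, Int.ofNat 0, Int.negSucc 3, Int.negSucc 1, Int.ofNat 151, Int.ofNat 1, Int.negSucc 8, Int.ofNat 0, Int.negSucc 84])) (ZT.node 1105 (ZT.leaf []) (ZT.node 1106 (ZT.leaf []) (ZT.leaf [Int.negSucc 0])))) (ZT.node 1110 (ZT.node 1108 (ZT.leaf [Int.negSucc 1220, Int.negSucc 1413, Int.ofNat 348, Int.negSucc 271, Int.negSucc 7, Int.negSucc 337, Int.negSucc 40, Int.ofNat 124, Int.ofNat 19, Int.ofNat 0, Int.ofNat 0, Int.ofNat 0, Int.ofNat 9, Int.negSucc 7, Int.ofNat 468, Int.ofNat 10, Int.negSucc 60, Int.ofNat 0, Int.negSucc 288]) (ZT.node 1109 (ZT.leaf [Int.ofNat 1929, Int.ofNat 762, Int.negSucc 460, Int.ofNat 134, Int.ofNat 5, Int.ofNat 261, Int.ofNat 17, Int.negSucc 43, Int.ofNat 8, Int.ofNat 0, Int.ofNat 0, Int.ofNat 0, Int.ofNat 0, Int.ofNat 6, Int.negSucc 233, Int.negSucc 3, Int.ofNat 28, Int.ofNat 0,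 Int.ofNat 213]) (ZT.leaf [Int.negSucc 210, Int.negSucc 76, Int.ofNat 52, Int.negSucc 10, Int.ofNat 0, Int.negSucc 26, Int.negSucc 1, Int.ofNat 5, Int.ofNat 1, Int.ofNat 0, Int.ofNat 0, Int.ofNat 0, Int.negSucc 0, Int.ofNat 0, Int.ofNat 31, Int.negSucc 0, Int.negSucc 5, Int.ofNat 0, Int.negSucc 22]))) (ZT.node 1111 (ZT.leaf [Int.negSucc 0]) (ZT.node 1112 (ZT.leaf []) (ZT.leaf [Int.negSucc 595, Int.negSucc 338, Int.ofNat 136, Int.negSucc 55, Int.negSucc 1, Int.negSucc 69, Int.negSucc 3, Int.ofNat 14, Int.ofNat 2, Int.negSucc 0, Int.ofNat 0, Int.ofNat 0, Int.negSucc 2, Int.negSucc 1, Int.ofNat 96, Int.ofNat 2, Int.negSucc 14, Int.ofNat 0, Int.negSucc 67]))))) (ZT.node 1119 (ZT.node 1116 (ZT.node 1114 (ZT.leaf [Int.negSucc 1792, Int.negSucc 339, Int.ofNat 373, Int.negSucc 31, Int.ofNat 0, Int.negSucc 161, Int.negSucc 32, Int.ofNat 46, Int.ofNat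 2, Int.ofNat 0, Int.ofNat 0, Int.ofNat 0, Int.negSucc 2, Int.ofNat 2, Int.ofNat 192, Int.negSucc 5, Int.negSucc 37, Int.ofNat 0, Int.negSucc 147]) (ZT.node 1115 (ZT.leaf [Int.negSucc 0]) (ZT.leaf [Int.ofNat 599, Int.ofNat 156, Int.negSucc 143, Int.ofNat 23, Int.ofNat 0, Int.ofNat 65, Int.ofNat 1, Int.negSucc 5, Int.ofNat 3, Int.ofNat 0, Int.ofNat 0, Int.ofNat 0, Int.ofNat 2, Int.ofNat 1, Int.negSucc 45, Int.ofNat 0, Int.ofNat 13, Int.ofNat 0, Int.ofNat 56]))) (ZT.node 1117 (ZT.leaf [Int.negSucc 19, Int.negSucc 4, Int.ofNat 3, Int.ofNat 1, Int.ofNat 0, Int.ofNat 0, Int.ofNat 0, Int.negSucc 0, Int.ofNat 0, Int.ofNat 0, Int.ofNat 0, Int.ofNat 0, Int.ofNat 0, Int.ofNat 0, Int.negSucc 0, Int.ofNat 0, Int.ofNat 0, Int.ofNat 0, Int.negSucc 0]) (ZT.node 1118 (ZT.leaf [Int.negSucc 15, Int.negSucc 10, Int.negSucc 0, Int.ofNat 1, Int.ofNat 0, Int.ofNat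 1, Int.ofNat 0, Int.negSucc 0, Int.ofNat 0, Int.ofNat 0, Int.ofNat 0, Int.ofNat 0, Int.ofNat 0, Int.ofNat 0, Int.ofNat 3, Int.ofNat 1, Int.ofNat 0, Int.ofNat 0, Int.ofNat 0]) (ZT.leaf [Int.negSucc 596, Int.negSucc 154, Int.ofNat 144, Int.negSucc 22, Int.ofNat 0, Int.negSucc 64, Int.negSucc 0, Int.ofNat 6, Int.negSucc 2, Int.ofNat 0, Int.ofNat 0, Int.ofNat 0, Int.negSucc 1, Int.negSucc 0, Int.ofNat 46, Int.ofNat 0, Int.negSucc 12, Int.ofNat 0, Int.negSucc 55])))) (ZT.node 1122 (ZT.node 1120 (ZT.leaf []) (ZT.node 1121 (ZT.leaf [Int.ofNat 1361, Int.ofNat 1040, Int.negSucc 314, Int.ofNat 167, Int.ofNat 1, Int.ofNat 244, Int.ofNat 41, Int.negSucc 80, Int.negSucc 13, Int.ofNat 0, Int.ofNat 0, Int.ofNat 0, Int.ofNat 4, Int.ofNat 5, Int.negSucc 339, Int.negSucc 5, Int.ofNat 35, Int.ofNat 0, Int.ofNat 222]) (ZT.leaf [Int.ofNat 1024, Int.ofNat 687,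 Int.negSucc 263, Int.ofNat 124, Int.ofNat 4, Int.ofNat 185, Int.ofNat 21, Int.negSucc 61, Int.negSucc 7, Int.ofNat 0, Int.ofNat 0, Int.ofNat 0, Int.negSucc 1, Int.ofNat 3, Int.negSucc 231, Int.negSucc 3, Int.ofNat 31, Int.ofNat 0, Int.ofNat 161]))) (ZT.node 1123 (ZT.leaf [Int.negSucc 1917, Int.negSucc 757, Int.ofNat 450, Int.negSucc 123, Int.negSucc 3, Int.negSucc 240, Int.negSucc 24, Int.ofNat 59, Int.ofNat 3, Int.ofNat 0, Int.ofNat 0, Int.ofNat 0, Int.negSucc 2, Int.negSucc 1, Int.ofNat 270, Int.ofNat 1, Int.negSucc 39, Int.ofNat 0, Int.negSucc 212]) (ZT.node 1124 (ZT.leaf []) (ZT.leaf [Int.ofNat 3672, Int.ofNat 1346, Int.negSucc 877, Int.ofNat 226, Int.ofNat 8, Int.ofNat 451, Int.ofNat 51, Int.negSucc 115, Int.negSucc 7, Int.ofNat 0, Int.ofNat 0, Int.ofNat 0, Int.ofNat 2, Int.ofNat 2, Int.negSucc 459, Int.negSucc 1, Int.ofNat 79, Int.negSucc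 0, Int.ofNat 399]))))))) (ZT.node 1147 (ZT.node 1136 (ZT.node 1130 (ZT.node 1127 (ZT.node 1126 (ZT.leaf [Int.negSucc 8, Int.negSucc 2, Int.ofNat 1, Int.ofNat 0, Int.ofNat 1, Int.ofNat 0, Int.ofNat 0, Int.ofNat 1, Int.ofNat 0, Int.ofNat 0, Int.ofNat 0, Int.ofNat 0, Int.ofNat 0, Int.ofNat 0, Int.ofNat 0, Int.ofNat 0, Int.ofNat 0, Int.ofNat 0, Int.ofNat 0]) (ZT.leaf [])) (ZT.node 1128 (ZT.leaf [Int.ofNat 2384, Int.ofNat 1726, Int.negSucc 578, Int.ofNat 291, Int.ofNat 5, Int.ofNat 429, Int.ofNat 62, Int.negSucc 142, Int.negSucc 21, Int.ofNat 0, Int.ofNat 0, Int.ofNat 0, Int.ofNat 2, Int.ofNat 8, Int.negSucc 571, Int.negSucc 9, Int.ofNat 66, Int.ofNat 0, Int.ofNat 383]) (ZT.node 1129 (ZT.leaf [Int.negSucc 1354, Int.ofNat 247, Int.ofNat 275, Int.ofNat 58, Int.ofNat 3, Int.negSucc 40, Int.ofNat 5, Int.negSucc 30, Int.negSucc 18, Int.ofNat 0, Int.ofNat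 0, Int.ofNat 0, Int.negSucc 5, Int.ofNat 6, Int.negSucc 97, Int.negSucc 6, Int.ofNat 12, Int.ofNat 0, Int.negSucc 25]) (ZT.leaf [])))) (ZT.node 1133 (ZT.node 1131 (ZT.leaf [Int.negSucc 832, Int.negSucc 501, Int.ofNat 160, Int.negSucc 69, Int.ofNat 2, Int.negSucc 102, Int.negSucc 19, Int.ofNat 40, Int.ofNat 9, Int.ofNat 0, Int.ofNat 0, Int.ofNat 0, Int.negSucc 6, Int.ofNat 1, Int.ofNat 163, Int.ofNat 0, Int.negSucc 23, Int.ofNat 0, Int.negSucc 105]) (ZT.node 1132 (ZT.leaf []) (ZT.leaf [Int.ofNat 1767, Int.ofNat 1996, Int.negSucc 470, Int.ofNat 359, Int.ofNat 10, Int.ofNat 444, Int.ofNat 61, Int.negSucc 162, Int.negSucc 30, Int.ofNat 0, Int.ofNat 0, Int.ofNat 0, Int.negSucc 3, Int.ofNat 12, Int.negSucc 659, Int.negSucc 15, Int.ofNat 81, Int.ofNat 0, Int.ofNat 395]))) (ZT.node 1134 (ZT.leaf [Int.ofNat 3321, Int.ofNat 1387, Int.negSucc 761,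 Int.ofNat 219, Int.ofNat 4, Int.ofNat 415, Int.ofNat 43, Int.negSucc 95, Int.negSucc 6, Int.ofNat 0, Int.ofNat 0, Int.ofNat 0, Int.ofNat 12, Int.ofNat 3, Int.negSucc 472, Int.negSucc 1, Int.ofNat 70, Int.ofNat 0, Int.ofNat 371]) (ZT.node 1135 (ZT.leaf [Int.negSucc 0]) (ZT.leaf [Int.negSucc 1091, Int.negSucc 1967, Int.ofNat 266, Int.negSucc 329, Int.negSucc 8, Int.negSucc 359, Int.negSucc 72, Int.ofNat 169, Int.ofNat 44, Int.ofNat 1, Int.ofNat 0, Int.ofNat 0, Int.ofNat 2, Int.negSucc 11, Int.ofNat 668, Int.ofNat 18, Int.negSucc 67, Int.ofNat 0, Int.negSucc 340]))))) (ZT.node 1141 (ZT.node 1138 (ZT.node 1137 (ZT.leaf [Int.negSucc 0]) (ZT.leaf [Int.negSucc 2316, Int.negSucc 1861, Int.ofNat 603, Int.negSucc 328, Int.negSucc 6, Int.negSucc 476, Int.negSucc 61, Int.ofNat 154, Int.ofNat 22, Int.ofNat 0, Int.ofNat 0, Int.ofNat 0, Int.ofNat 3, Int.negSucc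 9, Int.ofNat 618, Int.ofNat 12, Int.negSucc 75, Int.ofNat 0, Int.negSucc 412])) (ZT.node 1139 (ZT.leaf [Int.negSucc 1593, Int.negSucc 699, Int.ofNat 370, Int.negSucc 112, Int.negSucc 2, Int.negSucc 203, Int.negSucc 24, Int.ofNat 56, Int.ofNat 6, Int.ofNat 0, Int.ofNat 0, Int.ofNat 0, Int.negSucc 2, Int.negSucc 1, Int.ofNat 253, Int.ofNat 1, Int.negSucc 38, Int.ofNat 0, Int.negSucc 185]) (ZT.node 1140 (ZT.leaf [Int.ofNat 357, Int.ofNat 137, Int.negSucc 85, Int.ofNat 23, Int.ofNat 1, Int.ofNat 44, Int.ofNat 4, Int.negSucc 9, Int.ofNat 0, Int.ofNat 0, Int.ofNat 0, Int.ofNat 0, Int.ofNat 1, Int.ofNat 1, Int.negSucc 45, Int.negSucc 0, Int.ofNat 5, Int.ofNat 0, Int.ofNat 39]) (ZT.leaf [Int.negSucc 0])))) (ZT.node 1144 (ZT.node 1142 (ZT.leaf [Int.ofNat 29, Int.negSucc 104, Int.negSucc 17, Int.negSucc 11, Int.negSucc 0, Int.negSucc 5, Int.negSucc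 5, Int.ofNat 11, Int.ofNat 6, Int.ofNat 0, Int.ofNat 0, Int.ofNat 0, Int.ofNat 0, Int.ofNat 0, Int.ofNat 48, Int.ofNat 1, Int.negSucc 4, Int.ofNat 0, Int.negSucc 9]) (ZT.node 1143 (ZT.leaf []) (ZT.leaf [Int.negSucc 438, Int.negSucc 205, Int.ofNat 101, Int.negSucc 33, Int.negSucc 0, Int.negSucc 59, Int.negSucc 5, Int.ofNat 14, Int.ofNat 1, Int.ofNat 0, Int.ofNat 0, Int.ofNat 0, Int.negSucc 0, Int.negSucc 0, Int.ofNat 66, Int.ofNat 1, Int.negSucc 6, Int.ofNat 0, Int.negSucc 51]))) (ZT.node 1145 (ZT.leaf []) (ZT.node 1146 (ZT.leaf []) (ZT.leaf [Int.negSucc 427, Int.negSucc 209, Int.ofNat 100, Int.negSucc 33, Int.negSucc 0, Int.negSucc 59, Int.negSucc 6, Int.ofNat 14, Int.ofNat 1, Int.ofNat 0, Int.ofNat 0, Int.ofNat 0, Int.negSucc 0, Int.negSucc 0, Int.ofNat 67, Int.ofNat 1, Int.negSucc 6, Int.ofNat 0, Int.negSucc 51])))))) (ZT.node 1158 (ZT.node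 1152 (ZT.node 1149 (ZT.node 1148 (ZT.leaf [Int.negSucc 2604, Int.negSucc 1756, Int.ofNat 628, Int.negSucc 296, Int.negSucc 4, Int.negSucc 445, Int.negSucc 61, Int.ofNat 140, Int.ofNat 21, Int.ofNat 0, Int.ofNat 0, Int.ofNat 0, Int.negSucc 3, Int.negSucc 7, Int.ofNat 580, Int.ofNat 9, Int.negSucc 69, Int.ofNat 0, Int.negSucc 398]) (ZT.leaf [])) (ZT.node 1150 (ZT.leaf [Int.negSucc 2, Int.negSucc 0]) (ZT.node 1151 (ZT.leaf [Int.ofNat 2519, Int.ofNat 882, Int.negSucc 615, Int.ofNat 154, Int.ofNat 6, Int.ofNat 322, Int.ofNat 24, Int.negSucc 55, Int.ofNat 4, Int.ofNat 0, Int.ofNat 0, Int.ofNat 0, Int.ofNat 4, Int.ofNat 3, Int.negSucc 300, Int.negSucc 1, Int.ofNat 42, Int.ofNat 0, Int.ofNat 268]) (ZT.leaf [Int.ofNat 11, Int.negSucc 7, Int.negSucc 3, Int.negSucc 0, Int.ofNat 0, Int.ofNat 0, Int.ofNat 0, Int.ofNat 1, Int.ofNat 1, Int.ofNat 0, Int.ofNat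 0, Int.ofNat 0, Int.ofNat 0, Int.ofNat 0, Int.ofNat 5, Int.ofNat 0, Int.ofNat 0, Int.ofNat 0, Int.ofNat 0])))) (ZT.node 1155 (ZT.node 1153 (ZT.leaf [Int.negSucc 0]) (ZT.node 1154 (ZT.leaf []) (ZT.leaf [Int.ofNat 3202, Int.ofNat 1503, Int.negSucc 760, Int.ofNat 249, Int.ofNat 6, Int.ofNat 470, Int.ofNat 57, Int.negSucc 125, Int.negSucc 7, Int.ofNat 1, Int.ofNat 0, Int.ofNat 0, Int.negSucc 2, Int.ofNat 8, Int.negSucc 564, Int.ofNat 0, Int.ofNat 87, Int.ofNat 0, Int.ofNat 409]))) (ZT.node 1156 (ZT.leaf [Int.negSucc 0]) (ZT.node 1157 (ZT.leaf [Int.ofNat 26243, Int.ofNat 12465, Int.negSucc 6173, Int.ofNat 2042, Int.ofNat 58, Int.ofNat 3636, Int.ofNat 423, Int.negSucc 989, Int.negSucc 98, Int.ofNat 0, Int.negSucc 0, Int.ofNat 1, Int.ofNat 38, Int.ofNat 43, Int.negSucc 4244, Int.negSucc 32, Int.ofNat 657, Int.ofNat 1, Int.ofNat 3227]) (ZT.leaf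 []))))) (ZT.node 1164 (ZT.node 1161 (ZT.node 1159 (ZT.leaf [Int.ofNat 659, Int.ofNat 333, Int.negSucc 183, Int.ofNat 69, Int.ofNat 0, Int.ofNat 116, Int.ofNat 2, Int.negSucc 11, Int.ofNat 7, Int.ofNat 0, Int.ofNat 0, Int.ofNat 0, Int.ofNat 0, Int.ofNat 4, Int.negSucc 92, Int.negSucc 1, Int.ofNat 10, Int.ofNat 0, Int.ofNat 91]) (ZT.node 1160 (ZT.leaf [Int.ofNat 5152, Int.negSucc 345, Int.negSucc 1037, Int.negSucc 182, Int.negSucc 11, Int.ofNat 219, Int.ofNat 29, Int.ofNat 37, Int.ofNat 32, Int.ofNat 0, Int.ofNat 0, Int.ofNat 0, Int.ofNat 31, Int.negSucc 1, Int.negSucc 30, Int.ofNat 29, Int.ofNat 50, Int.ofNat 0, Int.ofNat 217]) (ZT.leaf []))) (ZT.node 1162 (ZT.leaf [Int.ofNat 8390, Int.ofNat 6335, Int.negSucc 1979, Int.ofNat 1055, Int.ofNat 28, Int.ofNat 1489, Int.ofNat 289, Int.negSucc 563, Int.negSucc 119, Int.negSucc 0, Int.ofNat 0, Int.negSucc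 0, Int.ofNat 8, Int.ofNat 22, Int.negSucc 2273, Int.negSucc 37, Int.ofNat 246, Int.negSucc 0, Int.ofNat 1386]) (ZT.node 1163 (ZT.leaf [Int.ofNat 746, Int.ofNat 393, Int.negSucc 185, Int.ofNat 69, Int.ofNat 1, Int.ofNat 110, Int.ofNat 9, Int.negSucc 27, Int.negSucc 1, Int.ofNat 0, Int.ofNat 0, Int.ofNat 0, Int.ofNat 1, Int.ofNat 2, Int.negSucc 126, Int.negSucc 0, Int.ofNat 21, Int.ofNat 0, Int.ofNat 99]) (ZT.leaf [Int.ofNat 1321, Int.ofNat 606, Int.negSucc 314, Int.ofNat 99, Int.ofNat 1, Int.ofNat 180, Int.ofNat 20, Int.negSucc 47, Int.negSucc 2, Int.ofNat 0, Int.ofNat 0, Int.ofNat 0, Int.ofNat 2, Int.ofNat 3, Int.negSucc 198, Int.ofNat 0, Int.ofNat 30, Int.ofNat 0, Int.ofNat 163])))) (ZT.node 1167 (ZT.node 1165 (ZT.leaf []) (ZT.node 1166 (ZT.leaf [Int.ofNat 68, Int.ofNat 125, Int.negSucc 10, Int.ofNat 19, Int.ofNat 1, Int.ofNat 20, Int.ofNat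 7, Int.negSucc 13, Int.negSucc 4, Int.ofNat 0, Int.ofNat 0, Int.ofNat 0, Int.negSucc 0, Int.ofNat 0, Int.negSucc 54, Int.negSucc 0, Int.ofNat 7, Int.ofNat 0, Int.ofNat 21]) (ZT.leaf [Int.ofNat 2541, Int.ofNat 891, Int.negSucc 627, Int.ofNat 162, Int.ofNat 5, Int.ofNat 345, Int.ofNat 42, Int.negSucc 81, Int.ofNat 0, Int.ofNat 1, Int.ofNat 0, Int.ofNat 0, Int.ofNat 0, Int.ofNat 1, Int.negSucc 330, Int.ofNat 0, Int.ofNat 45, Int.ofNat 0, Int.ofNat 290]))) (ZT.node 1168 (ZT.leaf [Int.negSucc 0]) (ZT.node 1169 (ZT.leaf [Int.negSucc 23240, Int.negSucc 8145, Int.ofNat 5334, Int.negSucc 1237, Int.negSucc 27, Int.negSucc 2743, Int.negSucc 322, Int.ofNat 625, Int.ofNat 28, Int.negSucc 1, Int.ofNat 1, Int.ofNat 0, Int.negSucc 57, Int.negSucc 25, Int.ofNat 2944, Int.negSucc 2, Int.negSucc 471, Int.ofNat 0, Int.negSucc 2437]) (ZT.leaf [Int.negSucc 68,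 Int.negSucc 124, Int.ofNat 11, Int.negSucc 18, Int.negSucc 0, Int.negSucc 19, Int.negSucc 6, Int.ofNat 14, Int.ofNat 5, Int.ofNat 0, Int.ofNat 0, Int.ofNat 0, Int.ofNat 1, Int.ofNat 0, Int.ofNat 55, Int.ofNat 1, Int.negSucc 6, Int.ofNat 0, Int.negSucc 20])))))))) (ZT.node 1215 (ZT.node 1192 (ZT.node 1181 (ZT.node 1175 (ZT.node 1172 (ZT.node 1171 (ZT.leaf [Int.negSucc 103, Int.negSucc 35, Int.ofNat 26, Int.negSucc 1, Int.ofNat 0, Int.negSucc 11, Int.ofNat 0, Int.ofNat 1, Int.ofNat 0, Int.ofNat 1, Int.ofNat 0, Int.ofNat 0, Int.negSucc 0, Int.ofNat 0, Int.ofNat 10, Int.ofNat 0, Int.negSucc 2, Int.ofNat 0, Int.negSucc 9]) (ZT.leaf [])) (ZT.node 1173 (ZT.leaf [Int.ofNat 20700, Int.ofNat 7256, Int.negSucc 4705, Int.ofNat 1076, Int.ofNat 23, Int.ofNat 2399, Int.ofNat 281, Int.negSucc 542, Int.negSucc 27, Int.ofNat 1, Int.negSucc 0, Int.ofNat 0,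 Int.ofNat 58, Int.ofNat 25, Int.negSucc 2612, Int.ofNat 3, Int.ofNat 427, Int.ofNat 0, Int.ofNat 2148]) (ZT.node 1174 (ZT.leaf [Int.ofNat 3997, Int.ofNat 385, Int.negSucc 897, Int.ofNat 22, Int.negSucc 5, Int.ofNat 338, Int.ofNat 41, Int.ofNat 10, Int.ofNat 28, Int.ofNat 0, Int.ofNat 0, Int.ofNat 0, Int.ofNat 21, Int.ofNat 11, Int.negSucc 215, Int.ofNat 7, Int.ofNat 7, Int.ofNat 0, Int.ofNat 282]) (ZT.leaf [Int.ofNat 626, Int.ofNat 313, Int.negSucc 137, Int.ofNat 49, Int.ofNat 1, Int.ofNat 79, Int.ofNat 11, Int.negSucc 17, Int.negSucc 2, Int.negSucc 0, Int.ofNat 1, Int.ofNat 0, Int.ofNat 3, Int.ofNat 2, Int.negSucc 96, Int.negSucc 1, Int.ofNat 9, Int.ofNat 0, Int.ofNat 75])))) (ZT.node 1178 (ZT.node 1176 (ZT.leaf [Int.negSucc 7313, Int.negSucc 5132, Int.ofNat 1843, Int.negSucc 919, Int.negSucc 20, Int.negSucc 1299, Int.negSucc 138, Int.ofNat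 387, Int.ofNat 43, Int.ofNat 0, Int.ofNat 0, Int.ofNat 0, Int.ofNat 1, Int.negSucc 24, Int.ofNat 1645, Int.ofNat 37, Int.negSucc 204, Int.ofNat 0, Int.negSucc 1138]) (ZT.node 1177 (ZT.leaf [Int.negSucc 0]) (ZT.leaf []))) (ZT.node 1179 (ZT.leaf [Int.negSucc 89, Int.negSucc 17, Int.ofNat 28, Int.negSucc 3, Int.ofNat 0, Int.negSucc 10, Int.ofNat 0, Int.ofNat 0, Int.negSucc 0, Int.ofNat 1, Int.ofNat 0, Int.ofNat 0, Int.ofNat 0, Int.ofNat 0, Int.ofNat 9, Int.ofNat 0, Int.negSucc 1, Int.ofNat 0, Int.negSucc 9]) (ZT.node 1180 (ZT.leaf [Int.ofNat 125, Int.ofNat 27, Int.negSucc 33, Int.ofNat 7, Int.ofNat 0, Int.ofNat 14, Int.ofNat 0, Int.negSucc 1, Int.ofNat 1, Int.ofNat 0, Int.ofNat 0, Int.ofNat 0, Int.ofNat 0, Int.ofNat 0, Int.negSucc 10, Int.ofNat 0, Int.ofNat 2, Int.ofNat 0, Int.ofNat 11]) (ZT.leaf []))))) (ZT.node 1186 (ZT.node 1183 (ZT.node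 1182 (ZT.leaf [Int.negSucc 2503, Int.negSucc 1365, Int.ofNat 625, Int.negSucc 236, Int.ofNat 0, Int.negSucc 392, Int.negSucc 42, Int.ofNat 100, Int.ofNat 5, Int.negSucc 0, Int.ofNat 0, Int.ofNat 0, Int.negSucc 2, Int.negSucc 10, Int.ofNat 431, Int.ofNat 9, Int.negSucc 50, Int.ofNat 0, Int.negSucc 341]) (ZT.leaf [Int.negSucc 0])) (ZT.node 1184 (ZT.leaf [Int.ofNat 82, Int.ofNat 15, Int.negSucc 15, Int.ofNat 0, Int.ofNat 0, Int.ofNat 4, Int.ofNat 0, Int.ofNat 0, Int.ofNat 0, Int.ofNat 0, Int.ofNat 0, Int.ofNat 0, Int.ofNat 0, Int.ofNat 0, Int.ofNat 0, Int.ofNat 0, Int.ofNat 1, Int.ofNat 0, Int.ofNat 4]) (ZT.node 1185 (ZT.leaf [Int.negSucc 0]) (ZT.leaf [Int.negSucc 6, Int.negSucc 1, Int.ofNat 2, Int.ofNat 0, Int.ofNat 0, Int.negSucc 0, Int.ofNat 0, Int.ofNat 0, Int.ofNat 0, Int.ofNat 0, Int.ofNat 0, Int.ofNat 0, Int.ofNat 0, Int.ofNat 0, Int.ofNat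 0, Int.ofNat 0, Int.ofNat 0, Int.ofNat 0, Int.ofNat 0])))) (ZT.node 1189 (ZT.node 1187 (ZT.leaf []) (ZT.node 1188 (ZT.leaf [Int.negSucc 0]) (ZT.leaf []))) (ZT.node 1190 (ZT.leaf [Int.ofNat 27, Int.negSucc 7, Int.ofNat 1, Int.negSucc 4, Int.negSucc 0, Int.negSucc 3, Int.negSucc 0, Int.ofNat 4, Int.ofNat 0, Int.negSucc 0, Int.ofNat 0, Int.ofNat 0, Int.ofNat 1, Int.ofNat 0, Int.negSucc 0, Int.ofNat 1, Int.negSucc 0, Int.ofNat 0, Int.negSucc 1]) (ZT.node 1191 (ZT.leaf [Int.ofNat 1123, Int.ofNat 628, Int.negSucc 292, Int.ofNat 114, Int.negSucc 2, Int.ofNat 188, Int.ofNat 15, Int.negSucc 32, Int.ofNat 4, Int.ofNat 0, Int.ofNat 0, Int.ofNat 0, Int.ofNat 3, Int.ofNat 8, Int.negSucc 178, Int.negSucc 6, Int.ofNat 13, Int.ofNat 0, Int.ofNat 155]) (ZT.leaf [Int.ofNat 105, Int.ofNat 36, Int.negSucc 25, Int.ofNat 2, Int.ofNat 0, Int.ofNat 12, Int.ofNat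 0, Int.negSucc 0, Int.ofNat 0, Int.negSucc 0, Int.ofNat 0, Int.ofNat 0, Int.ofNat 1, Int.ofNat 0, Int.negSucc 9, Int.ofNat 0, Int.ofNat 3, Int.ofNat 0, Int.ofNat 10])))))) (ZT.node 1203 (ZT.node 1197 (ZT.node 1194 (ZT.node 1193 (ZT.leaf [Int.negSucc 0]) (ZT.leaf [])) (ZT.node 1195 (ZT.leaf []) (ZT.node 1196 (ZT.leaf [Int.negSucc 0]) (ZT.leaf [Int.negSucc 308, Int.negSucc 147, Int.ofNat 79, Int.negSucc 28, Int.negSucc 0, Int.negSucc 29, Int.ofNat 6, Int.negSucc 4, Int.negSucc 1, Int.negSucc 0, Int.ofNat 0, Int.ofNat 0, Int.negSucc 2, Int.negSucc 0, Int.ofNat 32, Int.ofNat 1, Int.negSucc 9, Int.ofNat 0, Int.negSucc 29])))) (ZT.node 1200 (ZT.node 1198 (ZT.leaf [Int.ofNat 218, Int.ofNat 84, Int.negSucc 44, Int.ofNat 10, Int.ofNat 0, Int.ofNat 22, Int.ofNat 3, Int.negSucc 4, Int.negSucc 0, Int.ofNat 0, Int.ofNat 0, Int.ofNat 0, Int.ofNat 1, Int.ofNat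 0, Int.negSucc 27, Int.ofNat 0, Int.ofNat 6, Int.ofNat 0, Int.ofNat 21]) (ZT.node 1199 (ZT.leaf []) (ZT.leaf []))) (ZT.node 1201 (ZT.leaf [Int.negSucc 218, Int.negSucc 83, Int.ofNat 45, Int.negSucc 9, Int.ofNat 0, Int.negSucc 21, Int.negSucc 2, Int.ofNat 5, Int.ofNat 1, Int.ofNat 0, Int.ofNat 0, Int.ofNat 0, Int.negSucc 0, Int.ofNat 0, Int.ofNat 28, Int.ofNat 0, Int.negSucc 5, Int.ofNat 0, Int.negSucc 20]) (ZT.node 1202 (ZT.leaf [Int.negSucc 28, Int.ofNat 0, Int.ofNat 9, Int.negSucc 0, Int.ofNat 0, Int.negSucc 1, Int.ofNat 0, Int.ofNat 0, Int.negSucc 0, Int.ofNat 0, Int.ofNat 0, Int.ofNat 0, Int.ofNat 0, Int.ofNat 0, Int.negSucc 3, Int.ofNat 0, Int.ofNat 0, Int.ofNat 0, Int.negSucc 1]) (ZT.leaf []))))) (ZT.node 1209 (ZT.node 1206 (ZT.node 1204 (ZT.leaf [Int.ofNat 0, Int.ofNat 0, Int.ofNat 0, Int.ofNat 0, Int.ofNat 0, Int.ofNat 0, Int.negSucc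 0]) (ZT.node 1205 (ZT.leaf []) (ZT.leaf [Int.ofNat 94, Int.ofNat 34, Int.negSucc 20, Int.ofNat 4, Int.ofNat 0, Int.ofNat 10, Int.ofNat 0, Int.negSucc 0, Int.ofNat 0, Int.ofNat 0, Int.ofNat 0, Int.ofNat 0, Int.ofNat 1, Int.ofNat 0, Int.negSucc 10, Int.ofNat 0, Int.ofNat 2, Int.ofNat 0, Int.ofNat 9]))) (ZT.node 1207 (ZT.leaf [Int.ofNat 1540, Int.ofNat 695, Int.negSucc 358, Int.ofNat 113, Int.ofNat 3, Int.ofNat 201, Int.ofNat 26, Int.negSucc 56, Int.negSucc 6, Int.ofNat 0, Int.ofNat 0, Int.ofNat 0, Int.ofNat 3, Int.ofNat 2, Int.negSucc 251, Int.negSucc 0, Int.ofNat 37, Int.ofNat 0, Int.ofNat 184]) (ZT.node 1208 (ZT.leaf [Int.ofNat 1, Int.negSucc 9, Int.negSucc 5, Int.ofNat 1, Int.ofNat 0, Int.ofNat 3, Int.negSucc 0, Int.negSucc 0, Int.ofNat 1, Int.ofNat 0, Int.ofNat 0, Int.ofNat 0, Int.negSucc 0, Int.ofNat 0, Int.ofNat 4, Int.ofNat 0, Int.ofNat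 1, Int.ofNat 0, Int.ofNat 1]) (ZT.leaf [Int.ofNat 17, Int.negSucc 10, Int.negSucc 8, Int.ofNat 1, Int.ofNat 0, Int.ofNat 3, Int.ofNat 0, Int.negSucc 0, Int.ofNat 1, Int.ofNat 0, Int.ofNat 0, Int.ofNat 0, Int.negSucc 0, Int.ofNat 0, Int.ofNat 4, Int.ofNat 0, Int.ofNat 1, Int.ofNat 0, Int.ofNat 2])))) (ZT.node 1212 (ZT.node 1210 (ZT.leaf [Int.ofNat 23, Int.negSucc 18, Int.negSucc 9, Int.ofNat 0, Int.ofNat 0, Int.ofNat 3, Int.negSucc 0, Int.ofNat 0, Int.ofNat 2, Int.ofNat 1, Int.ofNat 0, Int.ofNat 0, Int.negSucc 0, Int.ofNat 0, Int.ofNat 11, Int.ofNat 0, Int.ofNat 1, Int.ofNat 0, Int.ofNat 1]) (ZT.node 1211 (ZT.leaf []) (ZT.leaf [Int.ofNat 2, Int.ofNat 1]))) (ZT.node 1213 (ZT.leaf [Int.negSucc 600, Int.negSucc 322, Int.ofNat 132, Int.negSucc 47, Int.negSucc 0, Int.negSucc 85, Int.negSucc 16, Int.ofNat 33, Int.ofNat 6, Int.ofNat 0, Int.ofNat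 0, Int.ofNat 0, Int.ofNat 0, Int.negSucc 0, Int.ofNat 123, Int.ofNat 0, Int.negSucc 14, Int.ofNat 0, Int.negSucc 80]) (ZT.node 1214 (ZT.leaf [Int.negSucc 0]) (ZT.leaf []))))))) (ZT.node 1237 (ZT.node 1226 (ZT.node 1220 (ZT.node 1217 (ZT.node 1216 (ZT.leaf [Int.ofNat 10, Int.negSucc 4, Int.negSucc 0, Int.negSucc 0, Int.ofNat 0, Int.ofNat 0, Int.negSucc 0, Int.ofNat 1, Int.ofNat 1, Int.ofNat 1, Int.ofNat 0, Int.ofNat 0, Int.ofNat 0, Int.ofNat 0, Int.ofNat 7, Int.ofNat 0, Int.ofNat 0, Int.ofNat 0, Int.negSucc 0]) (ZT.leaf [Int.negSucc 96, Int.negSucc 34, Int.ofNat 21, Int.negSucc 3, Int.ofNat 0, Int.negSucc 9, Int.ofNat 0, Int.ofNat 1, Int.ofNat 0, Int.ofNat 0, Int.ofNat 0, Int.ofNat 0, Int.negSucc 0, Int.ofNat 0, Int.ofNat 11, Int.ofNat 0, Int.negSucc 1, Int.ofNat 0, Int.negSucc 8])) (ZT.node 1218 (ZT.leaf []) (ZT.node 1219 (ZT.leaf [Int.negSucc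 8, Int.ofNat 6, Int.ofNat 1, Int.ofNat 1, Int.ofNat 0, Int.ofNat 0, Int.ofNat 0, Int.negSucc 0, Int.negSucc 0, Int.negSucc 0, Int.ofNat 0, Int.ofNat 0, Int.ofNat 0, Int.ofNat 0, Int.negSucc 6, Int.ofNat 0, Int.ofNat 0, Int.ofNat 0, Int.ofNat 1]) (ZT.leaf [Int.negSucc 0, Int.ofNat 0, Int.ofNat 0, Int.ofNat 0, Int.ofNat 0, Int.ofNat 0, Int.ofNat 1])))) (ZT.node 1223 (ZT.node 1221 (ZT.leaf []) (ZT.node 1222 (ZT.leaf [Int.negSucc 3, Int.negSucc 1, Int.negSucc 0]) (ZT.leaf [Int.ofNat 650, Int.ofNat 245, Int.negSucc 208, Int.ofNat 67, Int.ofNat 3, Int.ofNat 119, Int.negSucc 0, Int.negSucc 23, Int.ofNat 2, Int.ofNat 0, Int.ofNat 0, Int.ofNat 0, Int.negSucc 3, Int.ofNat 1, Int.negSucc 88, Int.ofNat 0, Int.ofNat 22, Int.ofNat 0, Int.ofNat 89]))) (ZT.node 1224 (ZT.leaf [Int.ofNat 1311, Int.ofNat 2284, Int.negSucc 401, Int.ofNat 424, Int.ofNat 14,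 Int.ofNat 468, Int.ofNat 60, Int.negSucc 184, Int.negSucc 39, Int.ofNat 0, Int.ofNat 0, Int.ofNat 0, Int.negSucc 6, Int.ofNat 17, Int.negSucc 758, Int.negSucc 20, Int.ofNat 102, Int.ofNat 0, Int.ofNat 418]) (ZT.node 1225 (ZT.leaf [Int.negSucc 783, Int.negSucc 1085, Int.ofNat 238, Int.negSucc 202, Int.negSucc 7, Int.negSucc 246, Int.negSucc 23, Int.ofNat 80, Int.ofNat 12, Int.ofNat 0, Int.ofNat 0, Int.ofNat 0, Int.ofNat 5, Int.negSucc 11, Int.ofNat 363, Int.ofNat 10, Int.negSucc 45, Int.ofNat 0, Int.negSucc 209]) (ZT.leaf [Int.negSucc 0]))))) (ZT.node 1231 (ZT.node 1228 (ZT.node 1227 (ZT.leaf []) (ZT.leaf [Int.ofNat 2, Int.ofNat 1, Int.negSucc 0, Int.ofNat 0, Int.ofNat 0, Int.ofNat 0, Int.ofNat 0, Int.ofNat 0, Int.ofNat 0, Int.negSucc 0, Int.ofNat 0, Int.ofNat 0, Int.ofNat 0, Int.ofNat 0, Int.ofNat 0, Int.ofNat 0, Int.negSucc 1, Int.ofNat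 0, Int.ofNat 0])) (ZT.node 1229 (ZT.leaf [Int.ofNat 5, Int.ofNat 2, Int.ofNat 1, Int.ofNat 0, Int.ofNat 0, Int.ofNat 0, Int.ofNat 0, Int.ofNat 0, Int.ofNat 0, Int.ofNat 1, Int.ofNat 0, Int.ofNat 0, Int.ofNat 0, Int.ofNat 0, Int.ofNat 0, Int.ofNat 0, Int.ofNat 1, Int.ofNat 0, Int.ofNat 0]) (ZT.node 1230 (ZT.leaf [Int.negSucc 5, Int.negSucc 1, Int.negSucc 0, Int.ofNat 0, Int.ofNat 0, Int.ofNat 0, Int.ofNat 0, Int.ofNat 0, Int.ofNat 0, Int.negSucc 0, Int.ofNat 0, Int.ofNat 0, Int.ofNat 0, Int.ofNat 0, Int.ofNat 0, Int.ofNat 0, Int.negSucc 0, Int.ofNat 0, Int.ofNat 0]) (ZT.leaf [])))) (ZT.node 1234 (ZT.node 1232 (ZT.leaf [Int.ofNat 540, Int.ofNat 302, Int.negSucc 140, Int.ofNat 56, Int.ofNat 2, Int.ofNat 88, Int.ofNat 6, Int.negSucc 26, Int.negSucc 2, Int.ofNat 0, Int.ofNat 0, Int.ofNat 0, Int.negSucc 0, Int.ofNat 1, Int.negSucc 100, Int.negSucc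 0, Int.ofNat 19, Int.ofNat 0, Int.ofNat 76]) (ZT.node 1233 (ZT.leaf [Int.negSucc 1819, Int.negSucc 952, Int.ofNat 434, Int.negSucc 159, Int.negSucc 2, Int.negSucc 272, Int.negSucc 36, Int.ofNat 74, Int.ofNat 9, Int.ofNat 0, Int.ofNat 0, Int.ofNat 0, Int.negSucc 3, Int.negSucc 3, Int.ofNat 341, Int.ofNat 4, Int.negSucc 40, Int.ofNat 0, Int.negSucc 240]) (ZT.leaf []))) (ZT.node 1235 (ZT.leaf [Int.ofNat 305, Int.ofNat 113, Int.negSucc 88, Int.ofNat 27, Int.ofNat 1, Int.ofNat 52, Int.ofNat 5, Int.negSucc 11, Int.ofNat 2, Int.ofNat 0, Int.ofNat 0, Int.ofNat 0, Int.negSucc 2, Int.ofNat 1, Int.negSucc 32, Int.negSucc 0, Int.ofNat 3, Int.ofNat 0, Int.ofNat 39]) (ZT.node 1236 (ZT.leaf [Int.ofNat 397, Int.ofNat 148, Int.negSucc 108, Int.ofNat 31, Int.ofNat 1, Int.ofNat 62, Int.ofNat 5, Int.negSucc 12, Int.ofNat 2, Int.ofNat 0, Int.ofNat 0, Int.ofNat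 0, Int.negSucc 1, Int.ofNat 1, Int.negSucc 43, Int.negSucc 0, Int.ofNat 4, Int.ofNat 0, Int.ofNat 48]) (ZT.leaf [Int.ofNat 1, Int.ofNat 0, Int.ofNat 1, Int.ofNat 0, Int.ofNat 0, Int.ofNat 0, Int.ofNat 0, Int.ofNat 0, Int.ofNat 0, Int.ofNat 0, Int.ofNat 0, Int.ofNat 0, Int.ofNat 0, Int.ofNat 0, Int.ofNat 0, Int.ofNat 0, Int.negSucc 0, Int.ofNat 0, Int.ofNat 0])))))) (ZT.node 1248 (ZT.node 1242 (ZT.node 1239 (ZT.node 1238 (ZT.leaf []) (ZT.leaf [Int.negSucc 24, Int.negSucc 10, Int.ofNat 5, Int.ofNat 0, Int.ofNat 0, Int.negSucc 2, Int.ofNat 0, Int.ofNat 0, Int.ofNat 0, Int.ofNat 0, Int.ofNat 0, Int.ofNat 0, Int.ofNat 0, Int.ofNat 0, Int.ofNat 2, Int.ofNat 0, Int.ofNat 1, Int.ofNat 0, Int.negSucc 1])) (ZT.node 1240 (ZT.leaf []) (ZT.node 1241 (ZT.leaf [Int.ofNat 2164, Int.ofNat 1122, Int.negSucc 506, Int.ofNat 184, Int.ofNat 4, Int.ofNat 315,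 Int.ofNat 43, Int.negSucc 83, Int.negSucc 9, Int.ofNat 0, Int.ofNat 0, Int.ofNat 0, Int.ofNat 5, Int.ofNat 6, Int.negSucc 394, Int.negSucc 4, Int.ofNat 45, Int.ofNat 0, Int.ofNat 280]) (ZT.leaf [Int.negSucc 0])))) (ZT.node 1245 (ZT.node 1243 (ZT.leaf []) (ZT.node 1244 (ZT.leaf [Int.ofNat 439, Int.ofNat 146, Int.negSucc 84, Int.ofNat 22, Int.ofNat 2, Int.ofNat 35, Int.ofNat 0, Int.ofNat 5, Int.ofNat 3, Int.ofNat 0, Int.ofNat 0, Int.ofNat 0, Int.ofNat 5, Int.ofNat 3, Int.negSucc 24, Int.negSucc 0, Int.negSucc 0, Int.ofNat 0, Int.ofNat 31]) (ZT.leaf [Int.negSucc 71, Int.negSucc 124, Int.ofNat 12, Int.negSucc 18, Int.ofNat 0, Int.negSucc 19, Int.negSucc 6, Int.ofNat 14, Int.ofNat 5, Int.ofNat 0, Int.ofNat 0, Int.ofNat 0, Int.ofNat 1, Int.ofNat 0, Int.ofNat 55, Int.ofNat 1, Int.negSucc 6, Int.ofNat 0, Int.negSucc 20]))) (ZT.node 1246 (ZT.leaf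 [Int.ofNat 121, Int.ofNat 65, Int.negSucc 12, Int.ofNat 4, Int.ofNat 0, Int.ofNat 5, Int.ofNat 4, Int.ofNat 2, Int.negSucc 2, Int.ofNat 0, Int.ofNat 0, Int.ofNat 0, Int.ofNat 4, Int.ofNat 0, Int.negSucc 26, Int.ofNat 1, Int.ofNat 0, Int.ofNat 0, Int.ofNat 8]) (ZT.node 1247 (ZT.leaf []) (ZT.leaf [Int.negSucc 2208, Int.negSucc 779, Int.ofNat 518, Int.negSucc 123, Int.negSucc 2, Int.negSucc 282, Int.negSucc 42, Int.ofNat 78, Int.ofNat 4, Int.ofNat 0, Int.ofNat 0, Int.ofNat 0, Int.ofNat 0, Int.negSucc 0, Int.ofNat 331, Int.negSucc 1, Int.negSucc 46, Int.ofNat 0, Int.negSucc 246]))))) (ZT.node 1254 (ZT.node 1251 (ZT.node 1249 (ZT.leaf []) (ZT.node 1250 (ZT.leaf []) (ZT.leaf [Int.ofNat 193, Int.negSucc 372, Int.ofNat 6, Int.negSucc 87, Int.negSucc 4, Int.negSucc 67, Int.ofNat 0, Int.ofNat 29, Int.ofNat 5, Int.ofNat 0, Int.ofNat 0, Int.ofNat 1,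 Int.ofNat 7, Int.negSucc 5, Int.ofNat 109, Int.ofNat 7, Int.negSucc 19, Int.ofNat 0, Int.negSucc 53]))) (ZT.node 1252 (ZT.leaf [Int.ofNat 3381, Int.ofNat 1441, Int.negSucc 786, Int.ofNat 229, Int.ofNat 5, Int.ofNat 444, Int.ofNat 63, Int.negSucc 123, Int.negSucc 11, Int.ofNat 0, Int.ofNat 0, Int.ofNat 0, Int.ofNat 4, Int.ofNat 4, Int.negSucc 561, Int.ofNat 0, Int.ofNat 77, Int.ofNat 0, Int.ofNat 400]) (ZT.node 1253 (ZT.leaf [Int.ofNat 434, Int.ofNat 597, Int.negSucc 157, Int.ofNat 125, Int.ofNat 6, Int.ofNat 147, Int.ofNat 7, Int.negSucc 44, Int.negSucc 4, Int.ofNat 0, Int.ofNat 0, Int.ofNat 0, Int.negSucc 5, Int.ofNat 7, Int.negSucc 180, Int.negSucc 6, Int.ofNat 31, Int.ofNat 0, Int.ofNat 122]) (ZT.leaf [Int.ofNat 976, Int.ofNat 599, Int.negSucc 228, Int.ofNat 100, Int.ofNat 2, Int.ofNat 152, Int.ofNat 23, Int.negSucc 44, Int.negSucc 7,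 Int.ofNat 0, Int.ofNat 0, Int.ofNat 0, Int.ofNat 2, Int.ofNat 3, Int.negSucc 194, Int.negSucc 2, Int.ofNat 20, Int.ofNat 0, Int.ofNat 137])))) (ZT.node 1257 (ZT.node 1255 (ZT.leaf []) (ZT.node 1256 (ZT.leaf [Int.ofNat 427, Int.ofNat 172, Int.negSucc 152, Int.ofNat 56, Int.ofNat 3, Int.ofNat 91, Int.negSucc 2, Int.negSucc 18, Int.ofNat 3, Int.ofNat 0, Int.ofNat 0, Int.ofNat 0, Int.negSucc 4, Int.ofNat 1, Int.negSucc 59, Int.negSucc 0, Int.ofNat 16, Int.ofNat 0, Int.ofNat 65]) (ZT.leaf []))) (ZT.node 1258 (ZT.leaf [Int.negSucc 975, Int.negSucc 598, Int.ofNat 229, Int.negSucc 99, Int.negSucc 1, Int.negSucc 151, Int.negSucc 22, Int.ofNat 45, Int.ofNat 8, Int.ofNat 0, Int.ofNat 0, Int.ofNat 0, Int.negSucc 1, Int.negSucc 2, Int.ofNat 195, Int.ofNat 3, Int.negSucc 19, Int.ofNat 0, Int.negSucc 136]) (ZT.node 1259 (ZT.leaf [Int.negSucc 542, Int.negSucc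 302, Int.ofNat 141, Int.negSucc 55, Int.negSucc 1, Int.negSucc 87, Int.negSucc 5, Int.ofNat 27, Int.ofNat 3, Int.ofNat 0, Int.ofNat 0, Int.ofNat 0, Int.ofNat 1, Int.negSucc 0, Int.ofNat 101, Int.ofNat 1, Int.negSucc 18, Int.ofNat 0, Int.negSucc 75]) (ZT.leaf [Int.negSucc 0]))))))))) (ZT.node 1350 (ZT.node 1305 (ZT.node 1282 (ZT.node 1271 (ZT.node 1265 (ZT.node 1262 (ZT.node 1261 (ZT.leaf [Int.negSucc 99, Int.negSucc 16, Int.ofNat 27, Int.negSucc 2, Int.ofNat 0, Int.negSucc 10, Int.ofNat 0, Int.ofNat 1, Int.negSucc 0, Int.ofNat 0, Int.ofNat 0, Int.ofNat 0, Int.ofNat 0, Int.negSucc 0, Int.ofNat 6, Int.ofNat 0, Int.negSucc 0, Int.ofNat 0, Int.negSucc 8]) (ZT.leaf [Int.negSucc 815, Int.ofNat 211, Int.ofNat 132, Int.ofNat 64, Int.ofNat 3, Int.ofNat 11, Int.negSucc 4, Int.negSucc 22, Int.negSucc 6, Int.ofNat 0, Int.ofNat 0, Int.ofNat 0, Int.negSucc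 10, Int.ofNat 5, Int.negSucc 47, Int.negSucc 5, Int.ofNat 12, Int.ofNat 1, Int.ofNat 1])) (ZT.node 1263 (ZT.leaf [Int.negSucc 1266, Int.negSucc 510, Int.ofNat 301, Int.negSucc 86, Int.negSucc 3, Int.negSucc 154, Int.negSucc 11, Int.ofNat 34, Int.ofNat 1, Int.ofNat 0, Int.ofNat 0, Int.ofNat 0, Int.negSucc 3, Int.negSucc 1, Int.ofNat 182, Int.ofNat 2, Int.negSucc 27, Int.ofNat 0, Int.negSucc 137]) (ZT.node 1264 (ZT.leaf []) (ZT.leaf [Int.negSucc 0])))) (ZT.node 1268 (ZT.node 1266 (ZT.leaf [Int.negSucc 541, Int.negSucc 306, Int.ofNat 147, Int.negSucc 59, Int.negSucc 1, Int.negSucc 93, Int.negSucc 5, Int.ofNat 28, Int.ofNat 2, Int.ofNat 0, Int.ofNat 0, Int.ofNat 0, Int.ofNat 1, Int.negSucc 0, Int.ofNat 104, Int.ofNat 1, Int.negSucc 18, Int.ofNat 0, Int.negSucc 79]) (ZT.node 1267 (ZT.leaf []) (ZT.leaf [Int.ofNat 321, Int.ofNat 188, Int.negSucc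 71, Int.ofNat 30, Int.ofNat 1, Int.ofNat 47, Int.ofNat 6, Int.negSucc 11, Int.negSucc 1, Int.ofNat 0, Int.ofNat 0, Int.ofNat 0, Int.ofNat 2, Int.ofNat 1, Int.negSucc 64, Int.negSucc 0, Int.ofNat 7, Int.ofNat 0, Int.ofNat 43]))) (ZT.node 1269 (ZT.leaf []) (ZT.node 1270 (ZT.leaf [Int.negSucc 0, Int.negSucc 0]) (ZT.leaf [Int.ofNat 0, Int.ofNat 1]))))) (ZT.node 1276 (ZT.node 1273 (ZT.node 1272 (ZT.leaf [Int.ofNat 2217, Int.ofNat 1152, Int.negSucc 605, Int.ofNat 231, Int.ofNat 9, Int.ofNat 386, Int.ofNat 37, Int.negSucc 101, Int.negSucc 2, Int.ofNat 0, Int.ofNat 0, Int.ofNat 0, Int.negSucc 7, Int.ofNat 6, Int.negSucc 405, Int.negSucc 5, Int.ofNat 61, Int.ofNat 1, Int.ofNat 319]) (ZT.leaf [Int.ofNat 1309, Int.ofNat 755, Int.negSucc 278, Int.ofNat 108, Int.ofNat 2, Int.ofNat 182, Int.ofNat 30, Int.negSucc 54, Int.negSucc 9, Int.ofNat 0, Int.ofNat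 0, Int.ofNat 0, Int.ofNat 5, Int.ofNat 3, Int.negSucc 263, Int.negSucc 3, Int.ofNat 28, Int.ofNat 0, Int.ofNat 169])) (ZT.node 1274 (ZT.leaf [Int.ofNat 2, Int.ofNat 3, Int.negSucc 0, Int.ofNat 0, Int.ofNat 0, Int.ofNat 1, Int.ofNat 0, Int.negSucc 0, Int.ofNat 0, Int.negSucc 0, Int.ofNat 0, Int.ofNat 0, Int.ofNat 0, Int.ofNat 0, Int.ofNat 0, Int.ofNat 0, Int.ofNat 0, Int.ofNat 0, Int.ofNat 0]) (ZT.node 1275 (ZT.leaf [Int.ofNat 55, Int.ofNat 184, Int.negSucc 8, Int.ofNat 29, Int.ofNat 1, Int.ofNat 28, Int.ofNat 11, Int.negSucc 16, Int.negSucc 6, Int.ofNat 0, Int.ofNat 0, Int.ofNat 0, Int.ofNat 0, Int.ofNat 0, Int.negSucc 65, Int.negSucc 0, Int.ofNat 3, Int.ofNat 0, Int.ofNat 28]) (ZT.leaf [Int.negSucc 55, Int.negSucc 183, Int.ofNat 9, Int.negSucc 28, Int.negSucc 0, Int.negSucc 27, Int.negSucc 10, Int.ofNat 17, Int.ofNat 7, Int.ofNat 0, Int.ofNat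 0, Int.ofNat 0, Int.ofNat 0, Int.ofNat 0, Int.ofNat 66, Int.ofNat 1, Int.negSucc 2, Int.ofNat 0, Int.negSucc 27])))) (ZT.node 1279 (ZT.node 1277 (ZT.leaf [Int.ofNat 363, Int.ofNat 250, Int.negSucc 89, Int.ofNat 45, Int.ofNat 1, Int.ofNat 65, Int.ofNat 11, Int.negSucc 20, Int.negSucc 3, Int.ofNat 0, Int.ofNat 0, Int.ofNat 0, Int.ofNat 0, Int.ofNat 1, Int.negSucc 84, Int.negSucc 0, Int.ofNat 5, Int.ofNat 0, Int.ofNat 58]) (ZT.node 1278 (ZT.leaf [Int.negSucc 321, Int.negSucc 74, Int.ofNat 82, Int.negSucc 15, Int.ofNat 0, Int.negSucc 37, Int.ofNat 0, Int.ofNat 5, Int.negSucc 2, Int.negSucc 0, Int.ofNat 0, Int.ofNat 0, Int.ofNat 0, Int.negSucc 0, Int.ofNat 19, Int.ofNat 0, Int.negSucc 5, Int.ofNat 0, Int.negSucc 29]) (ZT.leaf []))) (ZT.node 1280 (ZT.leaf [Int.ofNat 77, Int.ofNat 8, Int.negSucc 22, Int.ofNat 4, Int.ofNat 0, Int.ofNat 10, Int.ofNat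 0, Int.ofNat 0, Int.ofNat 1, Int.ofNat 0, Int.ofNat 0, Int.ofNat 0, Int.ofNat 0, Int.ofNat 0, Int.ofNat 0, Int.ofNat 1, Int.ofNat 2, Int.ofNat 0, Int.ofNat 8]) (ZT.node 1281 (ZT.leaf [Int.ofNat 47, Int.ofNat 37, Int.negSucc 10, Int.ofNat 8, Int.ofNat 0, Int.ofNat 8, Int.ofNat 1, Int.negSucc 2, Int.negSucc 0, Int.ofNat 0, Int.ofNat 0, Int.ofNat 0, Int.ofNat 0, Int.ofNat 0, Int.negSucc 13, Int.ofNat 0, Int.ofNat 2, Int.ofNat 0, Int.ofNat 7]) (ZT.leaf [Int.ofNat 487, Int.ofNat 162, Int.negSucc 114, Int.ofNat 26, Int.ofNat 0, Int.ofNat 54, Int.ofNat 4, Int.negSucc 7, Int.ofNat 1, Int.ofNat 0, Int.ofNat 0, Int.ofNat 0, Int.ofNat 2, Int.ofNat 1, Int.negSucc 50, Int.ofNat 0, Int.ofNat 8, Int.ofNat 0, Int.ofNat 48])))))) (ZT.node 1293 (ZT.node 1287 (ZT.node 1284 (ZT.node 1283 (ZT.leaf []) (ZT.leaf [Int.ofNat 1, Int.ofNat 14, Int.ofNat 6, Int.negSucc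 0, Int.ofNat 0, Int.negSucc 2, Int.ofNat 1, Int.ofNat 1, Int.negSucc 0, Int.ofNat 0, Int.ofNat 0, Int.ofNat 0, Int.ofNat 1, Int.ofNat 0, Int.negSucc 3, Int.ofNat 0, Int.negSucc 0, Int.ofNat 0, Int.negSucc 0])) (ZT.node 1285 (ZT.leaf []) (ZT.node 1286 (ZT.leaf [Int.ofNat 114, Int.ofNat 34, Int.negSucc 23, Int.ofNat 4, Int.ofNat 0, Int.ofNat 10, Int.ofNat 1, Int.negSucc 0, Int.ofNat 0, Int.ofNat 0, Int.ofNat 0, Int.ofNat 0, Int.ofNat 1, Int.ofNat 0, Int.negSucc 10, Int.ofNat 0, Int.ofNat 2, Int.ofNat 0, Int.ofNat 10]) (ZT.leaf [Int.ofNat 4836, Int.ofNat 4999, Int.negSucc 1144, Int.ofNat 835, Int.ofNat 22, Int.ofNat 1034, Int.ofNat 222, Int.negSucc 446, Int.negSucc 109, Int.negSucc 0, Int.ofNat 0, Int.negSucc 0, Int.ofNat 0, Int.ofNat 21, Int.negSucc 1714, Int.negSucc 41, Int.ofNat 169, Int.negSucc 0, Int.ofNat 981])))) (ZT.node 1290 (ZT.node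 1288 (ZT.leaf [Int.ofNat 0, Int.ofNat 1]) (ZT.node 1289 (ZT.leaf []) (ZT.leaf []))) (ZT.node 1291 (ZT.leaf [Int.negSucc 429, Int.negSucc 210, Int.ofNat 100, Int.negSucc 33, Int.negSucc 0, Int.negSucc 59, Int.negSucc 6, Int.ofNat 14, Int.ofNat 1, Int.ofNat 0, Int.ofNat 0, Int.ofNat 0, Int.negSucc 0, Int.negSucc 0, Int.ofNat 67, Int.ofNat 1, Int.negSucc 6, Int.ofNat 0, Int.negSucc 51]) (ZT.node 1292 (ZT.leaf []) (ZT.leaf [Int.negSucc 165, Int.negSucc 154, Int.ofNat 25, Int.negSucc 19, Int.negSucc 0, Int.negSucc 19, Int.negSucc 5, Int.ofNat 9, Int.ofNat 5, Int.ofNat 0, Int.ofNat 0, Int.ofNat 0, Int.negSucc 2, Int.ofNat 0, Int.ofNat 62, Int.ofNat 1, Int.negSucc 7, Int.ofNat 0, Int.negSucc 24]))))) (ZT.node 1299 (ZT.node 1296 (ZT.node 1294 (ZT.leaf []) (ZT.node 1295 (ZT.leaf [Int.negSucc 0]) (ZT.leaf [Int.negSucc 87, Int.negSucc 29, Int.ofNat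 13, Int.negSucc 1, Int.ofNat 0, Int.negSucc 3, Int.negSucc 1, Int.negSucc 1, Int.ofNat 1, Int.ofNat 0, Int.ofNat 0, Int.ofNat 0, Int.negSucc 1, Int.ofNat 0, Int.ofNat 8, Int.ofNat 0, Int.ofNat 0, Int.ofNat 0, Int.negSucc 5]))) (ZT.node 1297 (ZT.leaf [Int.ofNat 103, Int.ofNat 13, Int.negSucc 22, Int.ofNat 2, Int.ofNat 0, Int.ofNat 3, Int.negSucc 0, Int.ofNat 0, Int.ofNat 0, Int.ofNat 0, Int.ofNat 1, Int.ofNat 0, Int.ofNat 1, Int.negSucc 0, Int.ofNat 0, Int.ofNat 0, Int.ofNat 3, Int.ofNat 0, Int.ofNat 6]) (ZT.node 1298 (ZT.leaf []) (ZT.leaf [Int.ofNat 2387, Int.ofNat 962, Int.negSucc 550, Int.ofNat 152, Int.ofNat 4, Int.ofNat 293, Int.ofNat 40, Int.negSucc 77, Int.negSucc 7, Int.ofNat 0, Int.ofNat 0, Int.ofNat 0, Int.ofNat 4, Int.ofNat 1, Int.negSucc 397, Int.ofNat 2, Int.ofNat 62, Int.ofNat 0, Int.ofNat 265])))) (ZT.node 1302 (ZT.node 1300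 (ZT.leaf [Int.negSucc 2297, Int.negSucc 756, Int.ofNat 523, Int.negSucc 104, Int.ofNat 0, Int.negSucc 259, Int.negSucc 19, Int.ofNat 44, Int.negSucc 0, Int.ofNat 0, Int.ofNat 0, Int.ofNat 0, Int.negSucc 7, Int.negSucc 1, Int.ofNat 256, Int.negSucc 1, Int.negSucc 48, Int.ofNat 0, Int.negSucc 232]) (ZT.node 1301 (ZT.leaf []) (ZT.leaf [Int.negSucc 2076, Int.negSucc 672, Int.ofNat 479, Int.negSucc 94, Int.ofNat 0, Int.negSucc 237, Int.negSucc 17, Int.ofNat 39, Int.negSucc 1, Int.ofNat 0, Int.ofNat 0, Int.ofNat 0, Int.negSucc 6, Int.negSucc 1, Int.ofNat 228, Int.negSucc 1, Int.negSucc 43, Int.ofNat 0, Int.negSucc 211]))) (ZT.node 1303 (ZT.leaf [Int.negSucc 99, Int.negSucc 24, Int.ofNat 28, Int.negSucc 6, Int.ofNat 0, Int.negSucc 13, Int.ofNat 0, Int.ofNat 3, Int.negSucc 0, Int.ofNat 0, Int.ofNat 0, Int.ofNat 0, Int.ofNat 0, Int.ofNat 0, Int.ofNat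 5, Int.ofNat 0, Int.negSucc 1, Int.ofNat 0, Int.negSucc 9]) (ZT.node 1304 (ZT.leaf [Int.ofNat 293, Int.negSucc 35, Int.negSucc 82, Int.ofNat 2, Int.negSucc 0, Int.ofNat 24, Int.negSucc 13, Int.ofNat 20, Int.ofNat 14, Int.ofNat 0, Int.ofNat 0, Int.ofNat 0, Int.negSucc 0, Int.ofNat 3, Int.ofNat 75, Int.negSucc 1, Int.negSucc 9, Int.ofNat 0, Int.ofNat 5]) (ZT.leaf [Int.negSucc 7663, Int.negSucc 5895, Int.ofNat 1828, Int.negSucc 989, Int.negSucc 25, Int.negSucc 1393, Int.negSucc 263, Int.ofNat 517, Int.ofNat 106, Int.ofNat 1, Int.ofNat 0, Int.ofNat 1, Int.negSucc 2, Int.negSucc 22, Int.ofNat 2051, Int.ofNat 40, Int.negSucc 211, Int.ofNat 1, Int.negSucc 1279]))))))) (ZT.node 1327 (ZT.node 1316 (ZT.node 1310 (ZT.node 1307 (ZT.node 1306 (ZT.leaf []) (ZT.leaf [Int.ofNat 12768, Int.ofNat 5569, Int.negSucc 2859, Int.ofNat 829, Int.ofNat 8, Int.ofNat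 1621, Int.ofNat 238, Int.negSucc 417, Int.negSucc 56, Int.ofNat 0, Int.ofNat 0, Int.ofNat 0, Int.ofNat 53, Int.ofNat 16, Int.negSucc 2146, Int.negSucc 1, Int.ofNat 256, Int.ofNat 1, Int.ofNat 1485])) (ZT.node 1308 (ZT.leaf []) (ZT.node 1309 (ZT.leaf []) (ZT.leaf [Int.negSucc 6306, Int.negSucc 3371, Int.ofNat 1471, Int.negSucc 542, Int.negSucc 11, Int.negSucc 920, Int.negSucc 124, Int.ofNat 258, Int.ofNat 31, Int.ofNat 0, Int.ofNat 0, Int.ofNat 0, Int.negSucc 15, Int.negSucc 15, Int.ofNat 1177, Int.ofNat 17, Int.negSucc 142, Int.ofNat 0, Int.negSucc 830])))) (ZT.node 1313 (ZT.node 1311 (ZT.leaf [Int.ofNat 3327, Int.ofNat 1024, Int.negSucc 809, Int.ofNat 181, Int.ofNat 4, Int.ofNat 421, Int.ofNat 43, Int.negSucc 80, Int.ofNat 7, Int.ofNat 0, Int.ofNat 0, Int.ofNat 0, Int.ofNat 3, Int.ofNat 4, Int.negSucc 367, Int.ofNat 2, Int.ofNat 53, Int.ofNat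 0, Int.ofNat 348]) (ZT.node 1312 (ZT.leaf [Int.ofNat 2360, Int.ofNat 861, Int.negSucc 570, Int.ofNat 147, Int.ofNat 6, Int.ofNat 299, Int.ofNat 24, Int.negSucc 56, Int.ofNat 1, Int.ofNat 0, Int.ofNat 0, Int.ofNat 0, Int.ofNat 4, Int.ofNat 3, Int.negSucc 299, Int.negSucc 1, Int.ofNat 42, Int.ofNat 0, Int.ofNat 253]) (ZT.leaf []))) (ZT.node 1314 (ZT.leaf [Int.negSucc 0]) (ZT.node 1315 (ZT.leaf [Int.ofNat 322, Int.ofNat 188, Int.negSucc 71, Int.ofNat 30, Int.ofNat 1, Int.ofNat 47, Int.ofNat 6, Int.negSucc 11, Int.negSucc 1, Int.ofNat 0, Int.ofNat 0, Int.ofNat 0, Int.ofNat 2, Int.ofNat 1, Int.negSucc 64, Int.negSucc 0, Int.ofNat 7, Int.ofNat 0, Int.ofNat 43]) (ZT.leaf []))))) (ZT.node 1321 (ZT.node 1318 (ZT.node 1317 (ZT.leaf [Int.ofNat 4, Int.ofNat 3]) (ZT.leaf [Int.negSucc 0])) (ZT.node 1319 (ZT.leaf [Int.negSucc 0]) (ZT.node 1320 (ZT.leaf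 [Int.negSucc 4779, Int.negSucc 1698, Int.ofNat 1105, Int.negSucc 257, Int.negSucc 4, Int.negSucc 576, Int.negSucc 66, Int.ofNat 129, Int.ofNat 4, Int.ofNat 0, Int.ofNat 0, Int.ofNat 0, Int.negSucc 10, Int.negSucc 5, Int.ofNat 634, Int.negSucc 2, Int.negSucc 100, Int.ofNat 0, Int.negSucc 511]) (ZT.leaf [Int.negSucc 0])))) (ZT.node 1324 (ZT.node 1322 (ZT.leaf []) (ZT.node 1323 (ZT.leaf [Int.negSucc 22, Int.negSucc 9, Int.ofNat 4, Int.ofNat 0, Int.ofNat 0, Int.negSucc 2, Int.ofNat 0, Int.ofNat 0, Int.ofNat 0, Int.ofNat 0, Int.ofNat 0, Int.ofNat 0, Int.ofNat 0, Int.ofNat 0, Int.ofNat 2, Int.ofNat 0, Int.ofNat 1, Int.ofNat 0, Int.negSucc 1]) (ZT.leaf [Int.ofNat 2758, Int.ofNat 1006, Int.negSucc 646, Int.ofNat 164, Int.ofNat 4, Int.ofNat 329, Int.ofNat 37, Int.negSucc 73, Int.negSucc 2, Int.ofNat 0, Int.ofNat 0, Int.ofNat 0, Int.ofNat 6, Int.ofNat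 2, Int.negSucc 399, Int.ofNat 2, Int.ofNat 63, Int.ofNat 0, Int.ofNat 295]))) (ZT.node 1325 (ZT.leaf [Int.negSucc 125, Int.ofNat 1471, Int.ofNat 47, Int.ofNat 239, Int.ofNat 12, Int.ofNat 124, Int.ofNat 20, Int.negSucc 100, Int.negSucc 42, Int.ofNat 0, Int.ofNat 0, Int.ofNat 0, Int.ofNat 1, Int.ofNat 9, Int.negSucc 491, Int.negSucc 15, Int.ofNat 57, Int.ofNat 0, Int.ofNat 161]) (ZT.node 1326 (ZT.leaf [Int.negSucc 3552, Int.negSucc 3554, Int.ofNat 914, Int.negSucc 652, Int.negSucc 16, Int.negSucc 809, Int.negSucc 152, Int.ofNat 300, Int.ofNat 65, Int.ofNat 2, Int.ofNat 0, Int.ofNat 1, Int.negSucc 1, Int.negSucc 11, Int.ofNat 1186, Int.ofNat 25, Int.negSucc 92, Int.ofNat 1, Int.negSucc 717]) (ZT.leaf [Int.negSucc 449, Int.negSucc 863, Int.ofNat 149, Int.negSucc 163, Int.negSucc 6, Int.negSucc 167, Int.negSucc 14, Int.ofNat 67, Int.ofNat 14,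 Int.ofNat 0, Int.ofNat 0, Int.ofNat 0, Int.ofNat 5, Int.negSucc 7, Int.ofNat 285, Int.ofNat 10, Int.negSucc 40, Int.ofNat 0, Int.negSucc 152])))))) (ZT.node 1338 (ZT.node 1332 (ZT.node 1329 (ZT.node 1328 (ZT.leaf []) (ZT.leaf [Int.ofNat 89, Int.ofNat 21, Int.negSucc 21, Int.ofNat 1, Int.ofNat 0, Int.ofNat 13, Int.ofNat 0, Int.negSucc 1, Int.ofNat 1, Int.ofNat 0, Int.ofNat 0, Int.ofNat 0, Int.ofNat 0, Int.ofNat 0, Int.negSucc 5, Int.ofNat 0, Int.ofNat 2, Int.ofNat 0, Int.ofNat 9])) (ZT.node 1330 (ZT.leaf [Int.ofNat 451, Int.ofNat 866, Int.negSucc 148, Int.ofNat 164, Int.ofNat 7, Int.ofNat 168, Int.ofNat 15, Int.negSucc 66, Int.negSucc 13, Int.ofNat 0, Int.ofNat 0, Int.ofNat 0, Int.negSucc 4, Int.ofNat 8, Int.negSucc 284, Int.negSucc 9, Int.ofNat 41, Int.ofNat 0, Int.ofNat 153]) (ZT.node 1331 (ZT.leaf []) (ZT.leaf [])))) (ZT.node 1335 (ZT.node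 1333 (ZT.leaf [Int.negSucc 0]) (ZT.node 1334 (ZT.leaf [Int.ofNat 4938, Int.ofNat 1475, Int.negSucc 1147, Int.ofNat 241, Int.ofNat 14, Int.ofNat 555, Int.ofNat 70, Int.negSucc 143, Int.negSucc 6, Int.ofNat 0, Int.ofNat 0, Int.ofNat 0, Int.ofNat 2, Int.negSucc 2, Int.negSucc 611, Int.ofNat 7, Int.ofNat 127, Int.ofNat 0, Int.ofNat 496]) (ZT.leaf [Int.ofNat 2546, Int.ofNat 348, Int.negSucc 531, Int.ofNat 5, Int.negSucc 3, Int.ofNat 176, Int.ofNat 8, Int.negSucc 5, Int.ofNat 8, Int.ofNat 0, Int.ofNat 0, Int.ofNat 0, Int.ofNat 18, Int.ofNat 3, Int.negSucc 106, Int.ofNat 6, Int.ofNat 40, Int.ofNat 0, Int.ofNat 171]))) (ZT.node 1336 (ZT.leaf []) (ZT.node 1337 (ZT.leaf [Int.ofNat 574, Int.ofNat 345, Int.negSucc 123, Int.ofNat 52, Int.ofNat 2, Int.ofNat 60, Int.ofNat 3, Int.negSucc 13, Int.negSucc 3, Int.ofNat 1, Int.ofNat 0, Int.ofNat 0, Int.ofNat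 4, Int.ofNat 2, Int.negSucc 102, Int.negSucc 1, Int.ofNat 19, Int.ofNat 0, Int.ofNat 65]) (ZT.leaf [Int.negSucc 2546, Int.negSucc 347, Int.ofNat 532, Int.negSucc 4, Int.ofNat 4, Int.negSucc 175, Int.negSucc 7, Int.ofNat 6, Int.negSucc 7, Int.ofNat 0, Int.ofNat 0, Int.ofNat 0, Int.negSucc 17, Int.negSucc 2, Int.ofNat 107, Int.negSucc 5, Int.negSucc 39, Int.ofNat 0, Int.negSucc 170]))))) (ZT.node 1344 (ZT.node 1341 (ZT.node 1339 (ZT.leaf [Int.negSucc 2493, Int.negSucc 891, Int.ofNat 587, Int.negSucc 145, Int.negSucc 3, Int.negSucc 299, Int.negSucc 33, Int.ofNat 66, Int.ofNat 2, Int.ofNat 0, Int.ofNat 0, Int.ofNat 0, Int.negSucc 3, Int.negSucc 0, Int.ofNat 340, Int.negSucc 0, Int.negSucc 51, Int.ofNat 0, Int.negSucc 264]) (ZT.node 1340 (ZT.leaf []) (ZT.leaf [Int.ofNat 4, Int.ofNat 5, Int.ofNat 0, Int.ofNat 0, Int.ofNat 0, Int.ofNat 0, Int.ofNat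 0, Int.ofNat 0, Int.ofNat 0, Int.ofNat 0, Int.ofNat 0, Int.ofNat 0, Int.ofNat 0, Int.ofNat 0, Int.ofNat 0]))) (ZT.node 1342 (ZT.leaf [Int.ofNat 23, Int.negSucc 15, Int.negSucc 12, Int.ofNat 2, Int.ofNat 0, Int.ofNat 5, Int.negSucc 0, Int.negSucc 1, Int.ofNat 1, Int.ofNat 0, Int.ofNat 0, Int.ofNat 0, Int.negSucc 0, Int.ofNat 0, Int.ofNat 2, Int.ofNat 0, Int.ofNat 2, Int.ofNat 0, Int.ofNat 2]) (ZT.node 1343 (ZT.leaf []) (ZT.leaf [])))) (ZT.node 1347 (ZT.node 1345 (ZT.leaf [Int.ofNat 1, Int.ofNat 1]) (ZT.node 1346 (ZT.leaf []) (ZT.leaf []))) (ZT.node 1348 (ZT.leaf [Int.negSucc 9, Int.negSucc 2, Int.ofNat 1, Int.negSucc 0, Int.ofNat 0, Int.ofNat 0, Int.ofNat 0, Int.ofNat 0, Int.ofNat 0, Int.ofNat 0, Int.ofNat 0, Int.ofNat 0, Int.ofNat 0, Int.ofNat 1, Int.negSucc 1, Int.ofNat 0, Int.ofNat 0, Int.ofNat 0, Int.ofNat 0]) (ZT.node 1349 (ZT.leaf [Int.ofNat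 25, Int.ofNat 5, Int.negSucc 3, Int.negSucc 0, Int.ofNat 0, Int.ofNat 0, Int.ofNat 0, Int.ofNat 1, Int.ofNat 0, Int.ofNat 0, Int.ofNat 0, Int.ofNat 0, Int.ofNat 1, Int.ofNat 0, Int.negSucc 1, Int.ofNat 0, Int.ofNat 0, Int.ofNat 0, Int.ofNat 1]) (ZT.leaf [])))))))) (ZT.node 1395 (ZT.node 1372 (ZT.node 1361 (ZT.node 1355 (ZT.node 1352 (ZT.node 1351 (ZT.leaf [Int.ofNat 1, Int.ofNat 1]) (ZT.leaf [Int.ofNat 137, Int.ofNat 28, Int.negSucc 31, Int.ofNat 3, Int.ofNat 0, Int.ofNat 13, Int.negSucc 0, Int.ofNat 1, Int.ofNat 1, Int.ofNat 0, Int.ofNat 0, Int.ofNat 0, Int.ofNat 1, Int.ofNat 0, Int.negSucc 7, Int.ofNat 0, Int.ofNat 4, Int.ofNat 0, Int.ofNat 12])) (ZT.node 1353 (ZT.leaf [Int.negSucc 1006, Int.negSucc 603, Int.ofNat 239, Int.negSucc 97, Int.negSucc 1, Int.negSucc 152, Int.negSucc 20, Int.ofNat 48, Int.ofNat 8, Int.ofNat 0, Int.ofNat 0, Int.ofNat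 0, Int.negSucc 1, Int.negSucc 2, Int.ofNat 205, Int.ofNat 3, Int.negSucc 26, Int.ofNat 0, Int.negSucc 140]) (ZT.node 1354 (ZT.leaf [Int.negSucc 126, Int.negSucc 23, Int.ofNat 31, Int.negSucc 1, Int.ofNat 0, Int.negSucc 12, Int.ofNat 1, Int.negSucc 0, Int.negSucc 0, Int.ofNat 0, Int.ofNat 0, Int.ofNat 0, Int.negSucc 0, Int.negSucc 0, Int.ofNat 10, Int.ofNat 0, Int.negSucc 3, Int.ofNat 0, Int.negSucc 11]) (ZT.leaf [])))) (ZT.node 1358 (ZT.node 1356 (ZT.leaf [Int.ofNat 25381, Int.ofNat 12294, Int.negSucc 5979, Int.ofNat 2020, Int.ofNat 56, Int.ofNat 3533, Int.ofNat 411, Int.negSucc 967, Int.negSucc 103, Int.ofNat 1, Int.negSucc 0, Int.ofNat 1, Int.ofNat 44, Int.ofNat 42, Int.negSucc 4129, Int.negSucc 39, Int.ofNat 633, Int.ofNat 1, Int.ofNat 3145]) (ZT.node 1357 (ZT.leaf [Int.negSucc 0, Int.negSucc 0]) (ZT.leaf [Int.negSucc 6870, Int.negSucc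 4985, Int.ofNat 1758, Int.negSucc 897, Int.negSucc 18, Int.negSucc 1264, Int.negSucc 138, Int.ofNat 392, Int.ofNat 46, Int.ofNat 0, Int.ofNat 0, Int.ofNat 0, Int.ofNat 6, Int.negSucc 21, Int.ofNat 1620, Int.ofNat 36, Int.negSucc 205, Int.ofNat 0, Int.negSucc 1107]))) (ZT.node 1359 (ZT.leaf []) (ZT.node 1360 (ZT.leaf [Int.negSucc 19408, Int.negSucc 5274, Int.ofNat 4362, Int.negSucc 727, Int.ofNat 1, Int.negSucc 2034, Int.negSucc 247, Int.ofNat 363, Int.negSucc 19, Int.ofNat 1, Int.negSucc 0, Int.ofNat 0, Int.negSucc 69, Int.negSucc 20, Int.ofNat 2055, Int.negSucc 14, Int.negSucc 297, Int.ofNat 0, Int.negSucc 1815]) (ZT.leaf [Int.ofNat 1048, Int.ofNat 954, Int.negSucc 242, Int.ofNat 157, Int.ofNat 4, Int.ofNat 215, Int.ofNat 44, Int.negSucc 82, Int.negSucc 16, Int.negSucc 0, Int.ofNat 0, Int.ofNat 0, Int.ofNat 0, Int.ofNat 5, Int.negSucc 317,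 Int.negSucc 5, Int.ofNat 26, Int.ofNat 0, Int.ofNat 196]))))) (ZT.node 1366 (ZT.node 1363 (ZT.node 1362 (ZT.leaf []) (ZT.leaf [Int.ofNat 9331, Int.ofNat 3335, Int.negSucc 2189, Int.ofNat 541, Int.ofNat 10, Int.ofNat 1149, Int.ofNat 135, Int.negSucc 265, Int.negSucc 6, Int.ofNat 0, Int.ofNat 0, Int.ofNat 0, Int.ofNat 17, Int.ofNat 5, Int.negSucc 1270, Int.ofNat 6, Int.ofNat 185, Int.ofNat 0, Int.ofNat 1007])) (ZT.node 1364 (ZT.leaf [Int.negSucc 505, Int.negSucc 71, Int.ofNat 132, Int.negSucc 17, Int.ofNat 0, Int.negSucc 52, Int.ofNat 2, Int.negSucc 1, Int.negSucc 5, Int.ofNat 0, Int.ofNat 0, Int.ofNat 0, Int.negSucc 1, Int.negSucc 0, Int.ofNat 13, Int.ofNat 0, Int.negSucc 1, Int.ofNat 0, Int.negSucc 43]) (ZT.node 1365 (ZT.leaf [Int.ofNat 846, Int.ofNat 269, Int.negSucc 204, Int.ofNat 48, Int.ofNat 2, Int.ofNat 96, Int.ofNat 3, Int.negSucc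 15, Int.ofNat 2, Int.ofNat 0, Int.ofNat 0, Int.ofNat 0, Int.ofNat 2, Int.ofNat 0, Int.negSucc 96, Int.ofNat 0, Int.ofNat 20, Int.ofNat 0, Int.ofNat 82]) (ZT.leaf [Int.negSucc 2872, Int.negSucc 1591, Int.ofNat 712, Int.negSucc 289, Int.negSucc 3, Int.negSucc 480, Int.negSucc 68, Int.ofNat 119, Int.ofNat 8, Int.ofNat 1, Int.ofNat 0, Int.ofNat 0, Int.negSucc 5, Int.negSucc 7, Int.ofNat 501, Int.ofNat 10, Int.negSucc 29, Int.ofNat 0, Int.negSucc 394])))) (ZT.node 1369 (ZT.node 1367 (ZT.leaf [Int.negSucc 9863, Int.negSucc 5937, Int.ofNat 2379, Int.negSucc 1003, Int.negSucc 26, Int.negSucc 1595, Int.negSucc 207, Int.ofNat 467, Int.ofNat 60, Int.ofNat 0, Int.ofNat 0, Int.ofNat 0, Int.negSucc 9, Int.negSucc 27, Int.ofNat 2026, Int.ofNat 35, Int.negSucc 253, Int.ofNat 0, Int.negSucc 1410]) (ZT.node 1368 (ZT.leaf [Int.negSucc 88, Int.negSucc 20, Int.ofNat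 22, Int.negSucc 0, Int.ofNat 0, Int.negSucc 12, Int.ofNat 0, Int.ofNat 2, Int.negSucc 0, Int.ofNat 0, Int.ofNat 0, Int.ofNat 0, Int.ofNat 0, Int.ofNat 0, Int.ofNat 6, Int.ofNat 0, Int.negSucc 1, Int.ofNat 0, Int.negSucc 8]) (ZT.leaf []))) (ZT.node 1370 (ZT.leaf [Int.ofNat 6471, Int.ofNat 2880, Int.negSucc 1541, Int.ofNat 481, Int.ofNat 11, Int.ofNat 892, Int.ofNat 107, Int.negSucc 230, Int.negSucc 15, Int.ofNat 0, Int.ofNat 0, Int.ofNat 0, Int.ofNat 7, Int.ofNat 10, Int.negSucc 1049, Int.negSucc 4, Int.ofNat 145, Int.ofNat 0, Int.ofNat 784]) (ZT.node 1371 (ZT.leaf [Int.negSucc 25671, Int.negSucc 10141, Int.ofNat 5909, Int.negSucc 1566, Int.negSucc 15, Int.negSucc 3222, Int.negSucc 386, Int.ofNat 701, Int.ofNat 30, Int.ofNat 1, Int.negSucc 0, Int.ofNat 0, Int.negSucc 78, Int.negSucc 55, Int.ofNat 3587, Int.ofNat 17, Int.negSucc 474, Int.negSucc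 0, Int.negSucc 2853]) (ZT.leaf [Int.ofNat 8524, Int.ofNat 1212, Int.negSucc 1813, Int.ofNat 75, Int.ofNat 0, Int.ofNat 645, Int.ofNat 81, Int.negSucc 81, Int.ofNat 14, Int.ofNat 0, Int.ofNat 0, Int.ofNat 0, Int.ofNat 36, Int.ofNat 1, Int.negSucc 643, Int.ofNat 32, Int.ofNat 168, Int.ofNat 0, Int.ofNat 617])))))) (ZT.node 1383 (ZT.node 1377 (ZT.node 1374 (ZT.node 1373 (ZT.leaf [Int.ofNat 632, Int.ofNat 102, Int.negSucc 163, Int.ofNat 24, Int.ofNat 0, Int.ofNat 67, Int.negSucc 1, Int.ofNat 0, Int.ofNat 7, Int.ofNat 0, Int.ofNat 0, Int.ofNat 0, Int.ofNat 2, Int.ofNat 1, Int.negSucc 18, Int.ofNat 0, Int.ofNat 4, Int.ofNat 0, Int.ofNat 55]) (ZT.leaf [Int.negSucc 6994, Int.negSucc 3612, Int.ofNat 1612, Int.negSucc 573, Int.negSucc 13, Int.negSucc 990, Int.negSucc 138, Int.ofNat 280, Int.ofNat 35, Int.ofNat 0, Int.ofNat 0, Int.ofNat 0, Int.negSucc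 16, Int.negSucc 14, Int.ofNat 1274, Int.ofNat 18, Int.negSucc 154, Int.ofNat 0, Int.negSucc 897])) (ZT.node 1375 (ZT.leaf []) (ZT.node 1376 (ZT.leaf [Int.negSucc 0, Int.ofNat 0, Int.ofNat 0, Int.ofNat 0, Int.ofNat 0, Int.ofNat 0, Int.ofNat 0, Int.ofNat 0, Int.ofNat 0, Int.ofNat 0, Int.ofNat 0, Int.ofNat 0, Int.ofNat 0, Int.ofNat 0, Int.ofNat 0, Int.ofNat 0, Int.ofNat 0, Int.ofNat 0, Int.ofNat 0]) (ZT.leaf [Int.negSucc 48, Int.ofNat 1, Int.ofNat 13, Int.negSucc 0, Int.ofNat 0, Int.negSucc 3, Int.ofNat 0, Int.ofNat 0, Int.ofNat 0, Int.ofNat 0, Int.ofNat 0, Int.ofNat 0, Int.ofNat 0, Int.ofNat 0, Int.negSucc 2, Int.ofNat 0, Int.ofNat 1, Int.ofNat 0, Int.negSucc 2])))) (ZT.node 1380 (ZT.node 1378 (ZT.leaf [Int.negSucc 689, Int.negSucc 482, Int.ofNat 187, Int.negSucc 91, Int.negSucc 1, Int.negSucc 136, Int.negSucc 10, Int.ofNat 32, Int.ofNat 2,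 Int.ofNat 0, Int.ofNat 0, Int.ofNat 0, Int.ofNat 1, Int.negSucc 3, Int.ofNat 154, Int.ofNat 4, Int.negSucc 16, Int.ofNat 0, Int.negSucc 112]) (ZT.node 1379 (ZT.leaf [Int.ofNat 357, Int.ofNat 138, Int.negSucc 85, Int.ofNat 23, Int.ofNat 1, Int.ofNat 44, Int.ofNat 4, Int.negSucc 9, Int.ofNat 0, Int.ofNat 0, Int.ofNat 0, Int.ofNat 0, Int.ofNat 1, Int.ofNat 1, Int.negSucc 45, Int.negSucc 0, Int.ofNat 5, Int.ofNat 0, Int.ofNat 39]) (ZT.leaf [Int.negSucc 337, Int.negSucc 56, Int.ofNat 52, Int.ofNat 3, Int.ofNat 0, Int.negSucc 8, Int.negSucc 7, Int.ofNat 4, Int.ofNat 2, Int.ofNat 0, Int.ofNat 0, Int.ofNat 0, Int.negSucc 3, Int.ofNat 1, Int.ofNat 17, Int.negSucc 0, Int.negSucc 0, Int.ofNat 0, Int.negSucc 16]))) (ZT.node 1381 (ZT.leaf [Int.negSucc 356, Int.negSucc 136, Int.ofNat 86, Int.negSucc 22, Int.negSucc 0, Int.negSucc 43, Int.negSucc 3, Int.ofNat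 10, Int.ofNat 0, Int.ofNat 0, Int.ofNat 0, Int.ofNat 0, Int.negSucc 0, Int.negSucc 0, Int.ofNat 46, Int.ofNat 1, Int.negSucc 4, Int.ofNat 0, Int.negSucc 38]) (ZT.node 1382 (ZT.leaf [Int.negSucc 0]) (ZT.leaf [Int.negSucc 0]))))) (ZT.node 1389 (ZT.node 1386 (ZT.node 1384 (ZT.leaf [Int.negSucc 67, Int.negSucc 123, Int.ofNat 11, Int.negSucc 18, Int.negSucc 0, Int.negSucc 19, Int.negSucc 6, Int.ofNat 14, Int.ofNat 5, Int.ofNat 0, Int.ofNat 0, Int.ofNat 0, Int.ofNat 1, Int.ofNat 0, Int.ofNat 55, Int.ofNat 1, Int.negSucc 6, Int.ofNat 0, Int.negSucc 20]) (ZT.node 1385 (ZT.leaf [Int.ofNat 56, Int.ofNat 10, Int.negSucc 17, Int.ofNat 5, Int.ofNat 0, Int.ofNat 10, Int.ofNat 0, Int.negSucc 1, Int.ofNat 1, Int.ofNat 0, Int.ofNat 0, Int.ofNat 0, Int.negSucc 0, Int.ofNat 0, Int.negSucc 1, Int.ofNat 0, Int.ofNat 1, Int.ofNat 0, Int.ofNat 7]) (ZT.leaf [Int.negSucc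 0]))) (ZT.node 1387 (ZT.leaf [Int.negSucc 0]) (ZT.node 1388 (ZT.leaf [Int.negSucc 43, Int.negSucc 38, Int.ofNat 3, Int.negSucc 3, Int.ofNat 0, Int.negSucc 2, Int.negSucc 1, Int.negSucc 1, Int.ofNat 1, Int.ofNat 0, Int.ofNat 0, Int.ofNat 0, Int.negSucc 1, Int.ofNat 0, Int.ofNat 15, Int.negSucc 0, Int.ofNat 0, Int.ofNat 0, Int.negSucc 4]) (ZT.leaf [])))) (ZT.node 1392 (ZT.node 1390 (ZT.leaf [Int.negSucc 0]) (ZT.node 1391 (ZT.leaf [Int.ofNat 50, Int.negSucc 2, Int.negSucc 13, Int.ofNat 1, Int.ofNat 0, Int.ofNat 4, Int.ofNat 0, Int.ofNat 0, Int.ofNat 1, Int.ofNat 0, Int.ofNat 0, Int.ofNat 0, Int.ofNat 0, Int.ofNat 0, Int.ofNat 3, Int.ofNat 0, Int.ofNat 1, Int.ofNat 0, Int.ofNat 3]) (ZT.leaf [Int.negSucc 100, Int.negSucc 17, Int.ofNat 28, Int.negSucc 4, Int.ofNat 0, Int.negSucc 12, Int.ofNat 0, Int.ofNat 1, Int.negSucc 0, Int.ofNat 0, Int.ofNat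 0, Int.ofNat 0, Int.ofNat 0, Int.ofNat 0, Int.ofNat 7, Int.ofNat 0, Int.negSucc 2, Int.ofNat 0, Int.negSucc 10]))) (ZT.node 1393 (ZT.leaf [Int.ofNat 102, Int.ofNat 19, Int.negSucc 27, Int.ofNat 5, Int.ofNat 0, Int.ofNat 13, Int.ofNat 0, Int.negSucc 0, Int.ofNat 1, Int.ofNat 0, Int.ofNat 0, Int.ofNat 0, Int.ofNat 0, Int.ofNat 0, Int.negSucc 6, Int.ofNat 0, Int.ofNat 3, Int.ofNat 0, Int.ofNat 11]) (ZT.node 1394 (ZT.leaf [Int.ofNat 94, Int.ofNat 25, Int.negSucc 22, Int.ofNat 6, Int.ofNat 0, Int.ofNat 10, Int.ofNat 1, Int.ofNat 0, Int.ofNat 0, Int.ofNat 0, Int.ofNat 0, Int.ofNat 0, Int.ofNat 1, Int.ofNat 0, Int.negSucc 10, Int.ofNat 1, Int.ofNat 2, Int.ofNat 0, Int.ofNat 9]) (ZT.leaf [Int.ofNat 2604, Int.ofNat 1757, Int.negSucc 627, Int.ofNat 297, Int.ofNat 5, Int.ofNat 446, Int.ofNat 62, Int.negSucc 139, Int.negSucc 20, Int.ofNat 0, Int.ofNat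 0, Int.ofNat 0, Int.ofNat 4, Int.ofNat 8, Int.negSucc 579, Int.negSucc 8, Int.ofNat 70, Int.ofNat 0, Int.ofNat 399]))))))) (ZT.node 1417 (ZT.node 1406 (ZT.node 1400 (ZT.node 1397 (ZT.node 1396 (ZT.leaf [Int.ofNat 13422, Int.ofNat 3408, Int.negSucc 2945, Int.ofNat 422, Int.ofNat 11, Int.ofNat 1312, Int.ofNat 168, Int.negSucc 284, Int.negSucc 12, Int.ofNat 1, Int.negSucc 0, Int.ofNat 0, Int.ofNat 40, Int.ofNat 1, Int.negSucc 1360, Int.ofNat 24, Int.ofNat 268, Int.ofNat 0, Int.ofNat 1200]) (ZT.leaf [Int.negSucc 10778, Int.negSucc 3004, Int.ofNat 2358, Int.negSucc 364, Int.ofNat 0, Int.negSucc 1085, Int.negSucc 149, Int.ofNat 223, Int.ofNat 7, Int.ofNat 1, Int.ofNat 0, Int.ofNat 0, Int.negSucc 42, Int.negSucc 14, Int.ofNat 1182, Int.negSucc 11, Int.negSucc 194, Int.ofNat 0, Int.negSucc 1001])) (ZT.node 1398 (ZT.leaf [Int.negSucc 7598, Int.negSucc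 3248, Int.ofNat 1762, Int.negSucc 522, Int.negSucc 11, Int.negSucc 991, Int.negSucc 121, Int.ofNat 270, Int.ofNat 28, Int.negSucc 1, Int.ofNat 1, Int.ofNat 0, Int.negSucc 10, Int.negSucc 2, Int.ofNat 1124, Int.ofNat 4, Int.negSucc 168, Int.ofNat 0, Int.negSucc 875]) (ZT.node 1399 (ZT.leaf []) (ZT.leaf [Int.ofNat 47, Int.negSucc 3, Int.negSucc 13, Int.ofNat 1, Int.ofNat 0, Int.ofNat 4, Int.ofNat 0, Int.ofNat 0, Int.ofNat 1, Int.ofNat 0, Int.ofNat 0, Int.ofNat 0, Int.ofNat 0, Int.ofNat 0, Int.ofNat 3, Int.ofNat 0, Int.ofNat 1, Int.ofNat 0, Int.ofNat 3])))) (ZT.node 1403 (ZT.node 1401 (ZT.leaf []) (ZT.node 1402 (ZT.leaf [Int.negSucc 4810, Int.negSucc 2906, Int.ofNat 1157, Int.negSucc 486, Int.negSucc 14, Int.negSucc 789, Int.negSucc 111, Int.ofNat 241, Int.ofNat 34, Int.ofNat 0, Int.ofNat 0, Int.ofNat 0, Int.ofNat 1, Int.negSucc 16, Int.ofNat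 1029, Int.ofNat 10, Int.negSucc 135, Int.ofNat 0, Int.negSucc 697]) (ZT.leaf [Int.ofNat 864, Int.ofNat 3157, Int.negSucc 311, Int.ofNat 595, Int.ofNat 6, Int.ofNat 580, Int.ofNat 135, Int.negSucc 237, Int.negSucc 59, Int.negSucc 3, Int.ofNat 1, Int.negSucc 0, Int.ofNat 5, Int.ofNat 26, Int.negSucc 1009, Int.negSucc 36, Int.ofNat 19, Int.negSucc 0, Int.ofNat 517]))) (ZT.node 1404 (ZT.leaf [Int.ofNat 6659, Int.ofNat 659, Int.negSucc 1248, Int.negSucc 52, Int.ofNat 0, Int.ofNat 254, Int.ofNat 117, Int.negSucc 13, Int.negSucc 32, Int.ofNat 3, Int.negSucc 1, Int.negSucc 0, Int.ofNat 70, Int.negSucc 4, Int.negSucc 922, Int.ofNat 31, Int.ofNat 82, Int.negSucc 1, Int.ofNat 380]) (ZT.node 1405 (ZT.leaf [Int.negSucc 184, Int.negSucc 52, Int.ofNat 43, Int.negSucc 5, Int.ofNat 0, Int.negSucc 19, Int.ofNat 1, Int.ofNat 0, Int.negSucc 0, Int.ofNat 0,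 Int.ofNat 0, Int.ofNat 0, Int.negSucc 1, Int.ofNat 0, Int.ofNat 15, Int.ofNat 0, Int.negSucc 3, Int.ofNat 0, Int.negSucc 16]) (ZT.leaf [Int.negSucc 183, Int.negSucc 50, Int.ofNat 43, Int.negSucc 5, Int.ofNat 0, Int.negSucc 19, Int.ofNat 1, Int.ofNat 0, Int.negSucc 0, Int.ofNat 0, Int.ofNat 0, Int.ofNat 0, Int.negSucc 0, Int.ofNat 0, Int.ofNat 15, Int.ofNat 0, Int.negSucc 3, Int.ofNat 0, Int.negSucc 16]))))) (ZT.node 1411 (ZT.node 1408 (ZT.node 1407 (ZT.leaf [Int.negSucc 130, Int.ofNat 7, Int.ofNat 30, Int.ofNat 1, Int.ofNat 0, Int.negSucc 4, Int.ofNat 2, Int.negSucc 4, Int.negSucc 1, Int.ofNat 0, Int.ofNat 0, Int.ofNat 0, Int.negSucc 0, Int.ofNat 0, Int.negSucc 16, Int.ofNat 0, Int.ofNat 2, Int.ofNat 0, Int.negSucc 3]) (ZT.leaf [Int.negSucc 2, Int.negSucc 0])) (ZT.node 1409 (ZT.leaf [Int.negSucc 23, Int.negSucc 4, Int.ofNat 3, Int.ofNat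 1, Int.ofNat 0, Int.ofNat 0, Int.ofNat 0, Int.negSucc 0, Int.ofNat 0, Int.ofNat 0, Int.ofNat 0, Int.ofNat 0, Int.ofNat 0, Int.ofNat 0, Int.ofNat 1, Int.ofNat 0, Int.ofNat 0, Int.ofNat 0, Int.ofNat 0]) (ZT.node 1410 (ZT.leaf [Int.ofNat 130, Int.negSucc 6, Int.negSucc 29, Int.negSucc 0, Int.ofNat 0, Int.ofNat 5, Int.negSucc 1, Int.ofNat 5, Int.ofNat 2, Int.ofNat 0, Int.ofNat 0, Int.ofNat 0, Int.ofNat 1, Int.ofNat 0, Int.ofNat 17, Int.ofNat 0, Int.negSucc 1, Int.ofNat 0, Int.ofNat 4]) (ZT.leaf [Int.negSucc 128, Int.ofNat 9, Int.ofNat 30, Int.ofNat 1, Int.ofNat 0, Int.negSucc 4, Int.ofNat 2, Int.negSucc 4, Int.negSucc 1, Int.ofNat 0, Int.ofNat 0, Int.ofNat 0, Int.negSucc 0, Int.ofNat 0, Int.negSucc 16, Int.ofNat 0, Int.ofNat 2, Int.ofNat 0, Int.negSucc 3])))) (ZT.node 1414 (ZT.node 1412 (ZT.leaf []) (ZT.node 1413 (ZT.leaf [Int.negSucc 4, Int.ofNat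 16, Int.ofNat 5, Int.ofNat 3, Int.ofNat 0, Int.ofNat 0, Int.ofNat 2, Int.negSucc 0, Int.ofNat 0, Int.ofNat 1, Int.ofNat 0, Int.ofNat 0, Int.ofNat 0, Int.ofNat 0, Int.negSucc 7, Int.ofNat 0, Int.negSucc 0, Int.ofNat 0, Int.ofNat 0]) (ZT.leaf [Int.negSucc 542, Int.negSucc 305, Int.ofNat 147, Int.negSucc 59, Int.negSucc 1, Int.negSucc 93, Int.negSucc 5, Int.ofNat 28, Int.ofNat 2, Int.ofNat 0, Int.ofNat 0, Int.ofNat 0, Int.ofNat 1, Int.negSucc 0, Int.ofNat 104, Int.ofNat 1, Int.negSucc 18, Int.ofNat 0, Int.negSucc 79]))) (ZT.node 1415 (ZT.leaf [Int.ofNat 483, Int.ofNat 281, Int.negSucc 100, Int.ofNat 39, Int.ofNat 1, Int.ofNat 68, Int.ofNat 14, Int.negSucc 25, Int.negSucc 3, Int.ofNat 0, Int.ofNat 0, Int.ofNat 0, Int.ofNat 0, Int.ofNat 2, Int.negSucc 104, Int.negSucc 0, Int.ofNat 12, Int.ofNat 0, Int.ofNat 65]) (ZT.node 1416 (ZT.leaf [Int.negSucc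 0]) (ZT.leaf [Int.ofNat 1, Int.ofNat 2])))))) (ZT.node 1428 (ZT.node 1422 (ZT.node 1419 (ZT.node 1418 (ZT.leaf []) (ZT.leaf [Int.ofNat 0, Int.negSucc 0, Int.negSucc 0])) (ZT.node 1420 (ZT.leaf [Int.negSucc 133, Int.negSucc 40, Int.ofNat 35, Int.negSucc 6, Int.ofNat 0, Int.negSucc 16, Int.ofNat 0, Int.ofNat 3, Int.negSucc 0, Int.ofNat 0, Int.ofNat 0, Int.ofNat 0, Int.ofNat 0, Int.negSucc 0, Int.ofNat 12, Int.ofNat 0, Int.negSucc 2, Int.ofNat 0, Int.negSucc 14]) (ZT.node 1421 (ZT.leaf [Int.ofNat 276, Int.ofNat 255, Int.negSucc 68, Int.ofNat 46, Int.ofNat 2, Int.ofNat 50, Int.ofNat 4, Int.negSucc 15, Int.negSucc 2, Int.ofNat 0, Int.ofNat 0, Int.ofNat 0, Int.ofNat 0, Int.ofNat 2, Int.negSucc 61, Int.negSucc 2, Int.ofNat 10, Int.ofNat 0, Int.ofNat 45]) (ZT.leaf [Int.negSucc 0])))) (ZT.node 1425 (ZT.node 1423 (ZT.leaf []) (ZT.node 1424 (ZT.leaf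 [Int.ofNat 2, Int.ofNat 1]) (ZT.leaf []))) (ZT.node 1426 (ZT.leaf [Int.ofNat 532, Int.ofNat 228, Int.negSucc 127, Int.ofNat 38, Int.ofNat 1, Int.ofNat 73, Int.ofNat 7, Int.negSucc 14, Int.ofNat 0, Int.ofNat 0, Int.ofNat 0, Int.ofNat 0, Int.ofNat 1, Int.ofNat 1, Int.negSucc 73, Int.negSucc 0, Int.ofNat 10, Int.ofNat 0, Int.ofNat 63]) (ZT.node 1427 (ZT.leaf []) (ZT.leaf []))))) (ZT.node 1434 (ZT.node 1431 (ZT.node 1429 (ZT.leaf []) (ZT.node 1430 (ZT.leaf [Int.negSucc 0]) (ZT.leaf [Int.negSucc 121, Int.negSucc 13, Int.ofNat 35, Int.negSucc 4, Int.ofNat 0, Int.negSucc 13, Int.ofNat 0, Int.ofNat 1, Int.negSucc 1, Int.ofNat 0, Int.ofNat 0, Int.ofNat 0, Int.ofNat 0, Int.ofNat 0, Int.ofNat 0, Int.ofNat 0, Int.negSucc 0, Int.ofNat 0, Int.negSucc 9]))) (ZT.node 1432 (ZT.leaf [Int.negSucc 1775, Int.negSucc 695, Int.ofNat 418, Int.negSucc 114, Int.negSucc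 3, Int.negSucc 231, Int.negSucc 22, Int.ofNat 54, Int.ofNat 1, Int.ofNat 0, Int.ofNat 0, Int.ofNat 0, Int.negSucc 1, Int.negSucc 1, Int.ofNat 250, Int.ofNat 1, Int.negSucc 37, Int.ofNat 0, Int.negSucc 200]) (ZT.node 1433 (ZT.leaf [Int.ofNat 2242, Int.negSucc 790, Int.negSucc 477, Int.negSucc 180, Int.negSucc 10, Int.ofNat 38, Int.negSucc 10, Int.ofNat 103, Int.ofNat 46, Int.ofNat 0, Int.ofNat 0, Int.ofNat 0, Int.ofNat 17, Int.ofNat 7, Int.ofNat 223, Int.ofNat 13, Int.negSucc 18, Int.ofNat 0, Int.ofNat 14]) (ZT.leaf [])))) (ZT.node 1437 (ZT.node 1435 (ZT.leaf []) (ZT.node 1436 (ZT.leaf [Int.ofNat 1118, Int.ofNat 4170, Int.negSucc 485, Int.ofNat 838, Int.ofNat 30, Int.ofNat 765, Int.ofNat 104, Int.negSucc 332, Int.negSucc 74, Int.ofNat 1, Int.negSucc 0, Int.ofNat 0, Int.negSucc 20, Int.ofNat 20, Int.negSucc 1305, Int.negSucc 53, Int.ofNat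 89, Int.ofNat 0, Int.ofNat 669]) (ZT.leaf [Int.ofNat 19134, Int.ofNat 6436, Int.negSucc 4383, Int.ofNat 966, Int.ofNat 21, Int.ofNat 2225, Int.ofNat 253, Int.negSucc 492, Int.negSucc 16, Int.ofNat 1, Int.negSucc 0, Int.ofNat 0, Int.ofNat 46, Int.ofNat 20, Int.negSucc 2352, Int.ofNat 7, Int.ofNat 399, Int.ofNat 0, Int.ofNat 1972]))) (ZT.node 1438 (ZT.leaf []) (ZT.node 1439 (ZT.leaf []) (ZT.leaf [Int.negSucc 1938, Int.negSucc 96, Int.ofNat 402, Int.ofNat 12, Int.ofNat 3, Int.negSucc 124, Int.negSucc 24, Int.ofNat 11, Int.negSucc 5, Int.ofNat 0, Int.ofNat 0, Int.ofNat 0, Int.negSucc 8, Int.ofNat 7, Int.ofNat 113, Int.negSucc 11, Int.negSucc 20, Int.ofNat 0, Int.negSucc 111]))))))))))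

noncomputable def labT_4 : ZT := (ZT.node 1620 (ZT.node 1530 (ZT.node 1485 (ZT.node 1462 (ZT.node 1451 (ZT.node 1445 (ZT.node 1442 (ZT.node 1441 (ZT.leaf []) (ZT.leaf [Int.ofNat 7663, Int.ofNat 5896, Int.negSucc 1827, Int.ofNat 990, Int.ofNat 26, Int.ofNat 1394, Int.ofNat 264, Int.negSucc 516, Int.negSucc 105, Int.negSucc 0, Int.ofNat 0, Int.negSucc 0, Int.ofNat 3, Int.ofNat 23, Int.negSucc 2050, Int.negSucc 39, Int.ofNat 212, Int.negSucc 0, Int.ofNat 1280])) (ZT.node 1443 (ZT.leaf [Int.negSucc 439, Int.negSucc 145, Int.ofNat 85, Int.negSucc 21, Int.negSucc 1, Int.negSucc 34, Int.ofNat 0, Int.negSucc 4, Int.negSucc 2, Int.ofNat 0, Int.ofNat 0, Int.ofNat 0, Int.negSucc 4, Int.negSucc 2, Int.ofNat 25, Int.ofNat 1, Int.ofNat 1, Int.ofNat 0, Int.negSucc 30]) (ZT.node 1444 (ZT.leaf [Int.negSucc 260, Int.negSucc 145, Int.ofNat 59, Int.negSucc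 21, Int.negSucc 0, Int.negSucc 36, Int.negSucc 3, Int.ofNat 10, Int.ofNat 2, Int.ofNat 1, Int.ofNat 0, Int.ofNat 0, Int.negSucc 0, Int.negSucc 0, Int.ofNat 47, Int.ofNat 1, Int.negSucc 5, Int.ofNat 0, Int.negSucc 33]) (ZT.leaf [Int.ofNat 236, Int.ofNat 120, Int.negSucc 48, Int.ofNat 17, Int.ofNat 1, Int.ofNat 27, Int.ofNat 0, Int.ofNat 0, Int.ofNat 2, Int.ofNat 0, Int.ofNat 0, Int.ofNat 0, Int.ofNat 1, Int.ofNat 2, Int.negSucc 15, Int.negSucc 1, Int.ofNat 0, Int.ofNat 0, Int.ofNat 22])))) (ZT.node 1448 (ZT.node 1446 (ZT.leaf []) (ZT.node 1447 (ZT.leaf []) (ZT.leaf [Int.negSucc 517, Int.negSucc 340, Int.ofNat 149, Int.negSucc 63, Int.ofNat 0, Int.negSucc 105, Int.negSucc 15, Int.ofNat 37, Int.ofNat 5, Int.ofNat 0, Int.ofNat 0, Int.ofNat 0, Int.ofNat 2, Int.ofNat 0, Int.ofNat 124, Int.ofNat 1, Int.negSucc 14, Int.ofNat 0, Int.negSucc 91])))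 (ZT.node 1449 (ZT.leaf []) (ZT.node 1450 (ZT.leaf [Int.negSucc 324, Int.negSucc 188, Int.ofNat 72, Int.negSucc 29, Int.negSucc 0, Int.negSucc 46, Int.negSucc 5, Int.ofNat 12, Int.ofNat 2, Int.ofNat 0, Int.ofNat 0, Int.ofNat 0, Int.negSucc 1, Int.negSucc 0, Int.ofNat 65, Int.ofNat 1, Int.negSucc 6, Int.ofNat 0, Int.negSucc 42]) (ZT.leaf [Int.negSucc 95, Int.negSucc 26, Int.ofNat 24, Int.negSucc 4, Int.ofNat 0, Int.negSucc 12, Int.ofNat 0, Int.ofNat 2, Int.negSucc 0, Int.ofNat 0, Int.ofNat 0, Int.ofNat 0, Int.ofNat 0, Int.negSucc 0, Int.ofNat 5, Int.ofNat 0, Int.negSucc 1, Int.ofNat 0, Int.negSucc 10]))))) (ZT.node 1456 (ZT.node 1453 (ZT.node 1452 (ZT.leaf [Int.negSucc 4952, Int.negSucc 1785, Int.ofNat 1117, Int.negSucc 265, Int.negSucc 7, Int.negSucc 565, Int.negSucc 64, Int.ofNat 138, Int.ofNat 10, Int.ofNat 0, Int.ofNat 0, Int.ofNat 0,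 Int.negSucc 11, Int.negSucc 2, Int.ofNat 679, Int.negSucc 2, Int.negSucc 116, Int.ofNat 0, Int.negSucc 516]) (ZT.leaf [])) (ZT.node 1454 (ZT.leaf [Int.ofNat 752, Int.ofNat 337, Int.negSucc 166, Int.ofNat 51, Int.ofNat 0, Int.ofNat 95, Int.ofNat 10, Int.negSucc 21, Int.negSucc 1, Int.ofNat 0, Int.ofNat 0, Int.ofNat 0, Int.ofNat 3, Int.ofNat 1, Int.negSucc 108, Int.negSucc 0, Int.ofNat 14, Int.ofNat 0, Int.ofNat 85]) (ZT.node 1455 (ZT.leaf [Int.ofNat 77, Int.ofNat 21, Int.negSucc 16, Int.ofNat 3, Int.ofNat 0, Int.ofNat 7, Int.ofNat 1, Int.ofNat 1, Int.ofNat 0, Int.ofNat 0, Int.ofNat 0, Int.ofNat 0, Int.ofNat 1, Int.ofNat 0, Int.negSucc 3, Int.ofNat 1, Int.ofNat 1, Int.ofNat 0, Int.ofNat 7]) (ZT.leaf [Int.ofNat 408, Int.ofNat 146, Int.negSucc 91, Int.ofNat 23, Int.ofNat 1, Int.ofNat 44, Int.ofNat 4, Int.negSucc 6, Int.ofNat 0, Int.ofNat 0,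 Int.ofNat 0, Int.ofNat 0, Int.ofNat 2, Int.ofNat 1, Int.negSucc 46, Int.ofNat 0, Int.ofNat 6, Int.ofNat 0, Int.ofNat 40])))) (ZT.node 1459 (ZT.node 1457 (ZT.leaf [Int.negSucc 7257, Int.negSucc 5657, Int.ofNat 1704, Int.negSucc 938, Int.negSucc 25, Int.negSucc 1308, Int.negSucc 258, Int.ofNat 499, Int.ofNat 109, Int.ofNat 1, Int.ofNat 0, Int.ofNat 1, Int.negSucc 7, Int.negSucc 19, Int.ofNat 2027, Int.ofNat 36, Int.negSucc 214, Int.ofNat 1, Int.negSucc 1219]) (ZT.node 1458 (ZT.leaf [Int.ofNat 3290, Int.ofNat 1111, Int.negSucc 701, Int.ofNat 145, Int.ofNat 0, Int.ofNat 346, Int.ofNat 43, Int.negSucc 65, Int.ofNat 1, Int.negSucc 0, Int.ofNat 1, Int.ofNat 0, Int.ofNat 13, Int.ofNat 6, Int.negSucc 414, Int.ofNat 1, Int.ofNat 64, Int.ofNat 0, Int.ofNat 320]) (ZT.leaf []))) (ZT.node 1460 (ZT.leaf []) (ZT.node 1461 (ZT.leaf [Int.ofNat 5, Int.ofNat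 1, Int.negSucc 2, Int.ofNat 0, Int.ofNat 0, Int.ofNat 1, Int.ofNat 0, Int.negSucc 0, Int.ofNat 0, Int.negSucc 0, Int.ofNat 0, Int.ofNat 0, Int.ofNat 0, Int.ofNat 0, Int.ofNat 0, Int.ofNat 0, Int.ofNat 0, Int.ofNat 0, Int.ofNat 1]) (ZT.leaf [Int.negSucc 2492, Int.negSucc 864, Int.ofNat 577, Int.negSucc 133, Int.negSucc 2, Int.negSucc 302, Int.negSucc 42, Int.ofNat 77, Int.ofNat 4, Int.ofNat 0, Int.ofNat 0, Int.ofNat 0, Int.negSucc 2, Int.negSucc 0, Int.ofNat 368, Int.negSucc 2, Int.negSucc 51, Int.ofNat 0, Int.negSucc 268])))))) (ZT.node 1473 (ZT.node 1467 (ZT.node 1464 (ZT.node 1463 (ZT.leaf [Int.negSucc 3387, Int.negSucc 1144, Int.ofNat 724, Int.negSucc 150, Int.ofNat 0, Int.negSucc 355, Int.negSucc 43, Int.ofNat 66, Int.negSucc 0, Int.ofNat 1, Int.negSucc 0, Int.ofNat 0, Int.negSucc 13, Int.negSucc 5, Int.ofNat 426, Int.negSucc 1, Int.negSucc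 65, Int.ofNat 0, Int.negSucc 328]) (ZT.leaf [Int.ofNat 241, Int.ofNat 235, Int.negSucc 32, Int.ofNat 32, Int.ofNat 2, Int.ofNat 27, Int.ofNat 12, Int.negSucc 19, Int.negSucc 7, Int.ofNat 0, Int.ofNat 0, Int.ofNat 0, Int.ofNat 1, Int.ofNat 1, Int.negSucc 85, Int.negSucc 0, Int.ofNat 6, Int.ofNat 0, Int.ofNat 34])) (ZT.node 1465 (ZT.leaf [Int.negSucc 5489, Int.negSucc 2260, Int.ofNat 1216, Int.negSucc 334, Int.negSucc 3, Int.negSucc 665, Int.negSucc 86, Int.ofNat 151, Int.ofNat 10, Int.ofNat 1, Int.negSucc 0, Int.ofNat 0, Int.negSucc 18, Int.negSucc 10, Int.ofNat 822, Int.ofNat 3, Int.negSucc 111, Int.ofNat 0, Int.negSucc 604]) (ZT.node 1466 (ZT.leaf [Int.ofNat 5393, Int.ofNat 2129, Int.negSucc 1257, Int.ofNat 345, Int.ofNat 8, Int.ofNat 677, Int.ofNat 75, Int.negSucc 157, Int.negSucc 7, Int.ofNat 0, Int.ofNat 0, Int.ofNat 0, Int.ofNat 10,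 Int.ofNat 5, Int.negSucc 773, Int.ofNat 0, Int.ofNat 115, Int.ofNat 0, Int.ofNat 599]) (ZT.leaf [Int.ofNat 368, Int.ofNat 789, Int.negSucc 126, Int.ofNat 159, Int.ofNat 6, Int.ofNat 164, Int.ofNat 25, Int.negSucc 69, Int.negSucc 13, Int.ofNat 0, Int.ofNat 0, Int.ofNat 0, Int.negSucc 6, Int.ofNat 1, Int.negSucc 273, Int.negSucc 5, Int.ofNat 27, Int.ofNat 0, Int.ofNat 139])))) (ZT.node 1470 (ZT.node 1468 (ZT.leaf []) (ZT.node 1469 (ZT.leaf [Int.negSucc 568, Int.negSucc 165, Int.ofNat 132, Int.negSucc 24, Int.ofNat 0, Int.negSucc 63, Int.negSucc 1, Int.ofNat 7, Int.negSucc 2, Int.ofNat 0, Int.ofNat 0, Int.ofNat 0, Int.negSucc 1, Int.negSucc 0, Int.ofNat 46, Int.ofNat 0, Int.negSucc 9, Int.ofNat 0, Int.negSucc 53]) (ZT.leaf [Int.negSucc 0]))) (ZT.node 1471 (ZT.leaf [Int.negSucc 695, Int.negSucc 531, Int.ofNat 140, Int.negSucc 77, Int.negSucc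 2, Int.negSucc 109, Int.negSucc 37, Int.ofNat 65, Int.ofNat 18, Int.ofNat 0, Int.ofNat 0, Int.ofNat 0, Int.ofNat 1, Int.negSucc 0, Int.ofNat 243, Int.ofNat 3, Int.negSucc 26, Int.ofNat 1, Int.negSucc 111]) (ZT.node 1472 (ZT.leaf [Int.ofNat 25322, Int.ofNat 12231, Int.negSucc 5920, Int.ofNat 1985, Int.ofNat 56, Int.ofNat 3503, Int.ofNat 420, Int.negSucc 980, Int.negSucc 107, Int.ofNat 1, Int.negSucc 0, Int.ofNat 1, Int.ofNat 40, Int.ofNat 42, Int.negSucc 4178, Int.negSucc 32, Int.ofNat 650, Int.ofNat 1, Int.ofNat 3131]) (ZT.leaf [Int.negSucc 12450, Int.negSucc 2738, Int.ofNat 2857, Int.negSucc 386, Int.ofNat 10, Int.negSucc 1268, Int.negSucc 112, Int.ofNat 156, Int.negSucc 48, Int.ofNat 1, Int.ofNat 0, Int.ofNat 1, Int.negSucc 45, Int.negSucc 16, Int.ofNat 959, Int.negSucc 10, Int.negSucc 164, Int.ofNat 1, Int.negSucc 1082]))))) (ZT.node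 1479 (ZT.node 1476 (ZT.node 1474 (ZT.leaf [Int.ofNat 7311, Int.ofNat 5132, Int.negSucc 1842, Int.ofNat 920, Int.ofNat 21, Int.ofNat 1300, Int.ofNat 139, Int.negSucc 386, Int.negSucc 42, Int.ofNat 0, Int.ofNat 0, Int.ofNat 0, Int.negSucc 0, Int.ofNat 25, Int.negSucc 1644, Int.negSucc 36, Int.ofNat 205, Int.ofNat 0, Int.ofNat 1139]) (ZT.node 1475 (ZT.leaf [Int.ofNat 1048, Int.ofNat 954, Int.negSucc 242, Int.ofNat 157, Int.ofNat 4, Int.ofNat 215, Int.ofNat 44, Int.negSucc 82, Int.negSucc 16, Int.negSucc 0, Int.ofNat 0, Int.ofNat 0, Int.ofNat 0, Int.ofNat 5, Int.negSucc 317, Int.negSucc 5, Int.ofNat 26, Int.ofNat 0, Int.ofNat 196]) (ZT.leaf []))) (ZT.node 1477 (ZT.leaf [Int.ofNat 17266, Int.ofNat 7820, Int.negSucc 4041, Int.ofNat 1321, Int.ofNat 36, Int.ofNat 2225, Int.ofNat 324, Int.negSucc 563, Int.negSucc 87, Int.ofNat 1, Int.negSucc 1, Int.negSucc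 0, Int.ofNat 68, Int.ofNat 19, Int.negSucc 3309, Int.negSucc 10, Int.ofNat 362, Int.negSucc 1, Int.ofNat 2047]) (ZT.node 1478 (ZT.leaf [Int.negSucc 6829, Int.negSucc 706, Int.ofNat 1290, Int.ofNat 44, Int.ofNat 0, Int.negSucc 275, Int.negSucc 117, Int.ofNat 17, Int.ofNat 32, Int.negSucc 1, Int.ofNat 1, Int.ofNat 1, Int.negSucc 69, Int.ofNat 5, Int.ofNat 938, Int.negSucc 30, Int.negSucc 83, Int.ofNat 2, Int.negSucc 396]) (ZT.leaf [])))) (ZT.node 1482 (ZT.node 1480 (ZT.leaf [Int.negSucc 532, Int.ofNat 536, Int.ofNat 84, Int.ofNat 117, Int.ofNat 5, Int.ofNat 39, Int.negSucc 1, Int.negSucc 27, Int.negSucc 12, Int.negSucc 0, Int.ofNat 0, Int.ofNat 0, Int.ofNat 2, Int.ofNat 3, Int.negSucc 95, Int.negSucc 13, Int.ofNat 3, Int.ofNat 0, Int.ofNat 35]) (ZT.node 1481 (ZT.leaf [Int.negSucc 536, Int.ofNat 968, Int.ofNat 97, Int.ofNat 180, Int.ofNat 8,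 Int.ofNat 124, Int.ofNat 36, Int.negSucc 88, Int.negSucc 30, Int.ofNat 0, Int.ofNat 0, Int.ofNat 0, Int.negSucc 8, Int.ofNat 9, Int.negSucc 325, Int.negSucc 10, Int.ofNat 27, Int.ofNat 0, Int.ofNat 114]) (ZT.leaf []))) (ZT.node 1483 (ZT.leaf []) (ZT.node 1484 (ZT.leaf []) (ZT.leaf [Int.ofNat 324, Int.ofNat 189, Int.negSucc 71, Int.ofNat 30, Int.ofNat 1, Int.ofNat 47, Int.ofNat 6, Int.negSucc 11, Int.negSucc 1, Int.ofNat 0, Int.ofNat 0, Int.ofNat 0, Int.ofNat 2, Int.ofNat 1, Int.negSucc 64, Int.negSucc 0, Int.ofNat 7, Int.ofNat 0, Int.ofNat 43]))))))) (ZT.node 1507 (ZT.node 1496 (ZT.node 1490 (ZT.node 1487 (ZT.node 1486 (ZT.leaf [Int.negSucc 56, Int.negSucc 9, Int.ofNat 18, Int.negSucc 4, Int.ofNat 0, Int.negSucc 9, Int.ofNat 0, Int.ofNat 2, Int.negSucc 0, Int.ofNat 0, Int.ofNat 0, Int.ofNat 0, Int.ofNat 1, Int.ofNat 0, Int.ofNat 2, Int.ofNat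 0, Int.negSucc 0, Int.ofNat 0, Int.negSucc 6]) (ZT.leaf [])) (ZT.node 1488 (ZT.leaf [Int.ofNat 1, Int.ofNat 2]) (ZT.node 1489 (ZT.leaf [Int.ofNat 490, Int.ofNat 162, Int.negSucc 114, Int.ofNat 26, Int.ofNat 0, Int.ofNat 54, Int.ofNat 4, Int.negSucc 7, Int.ofNat 1, Int.ofNat 0, Int.ofNat 0, Int.ofNat 0, Int.ofNat 2, Int.ofNat 1, Int.negSucc 50, Int.ofNat 0, Int.ofNat 8, Int.ofNat 0, Int.ofNat 48]) (ZT.leaf [])))) (ZT.node 1493 (ZT.node 1491 (ZT.leaf [Int.negSucc 0, Int.ofNat 0, Int.ofNat 0, Int.ofNat 0, Int.ofNat 0, Int.ofNat 0, Int.ofNat 0, Int.negSucc 0]) (ZT.node 1492 (ZT.leaf []) (ZT.leaf [Int.ofNat 2]))) (ZT.node 1494 (ZT.leaf []) (ZT.node 1495 (ZT.leaf [Int.ofNat 269, Int.ofNat 66, Int.negSucc 70, Int.ofNat 14, Int.ofNat 0, Int.ofNat 37, Int.ofNat 1, Int.negSucc 3, Int.ofNat 3, Int.ofNat 0, Int.ofNat 0, Int.ofNat 0, Int.ofNat 0, Int.ofNat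 1, Int.negSucc 13, Int.ofNat 0, Int.ofNat 1, Int.ofNat 0, Int.ofNat 28]) (ZT.leaf [Int.negSucc 0]))))) (ZT.node 1501 (ZT.node 1498 (ZT.node 1497 (ZT.leaf [Int.negSucc 1920, Int.negSucc 757, Int.ofNat 450, Int.negSucc 123, Int.negSucc 3, Int.negSucc 240, Int.negSucc 24, Int.ofNat 59, Int.ofNat 3, Int.ofNat 0, Int.ofNat 0, Int.ofNat 0, Int.negSucc 2, Int.negSucc 1, Int.ofNat 270, Int.ofNat 1, Int.negSucc 39, Int.ofNat 0, Int.negSucc 212]) (ZT.leaf [Int.negSucc 2, Int.negSucc 3, Int.negSucc 0, Int.ofNat 0, Int.ofNat 0, Int.ofNat 0, Int.negSucc 0, Int.ofNat 0, Int.ofNat 0, Int.ofNat 0, Int.ofNat 0, Int.ofNat 0, Int.ofNat 0, Int.ofNat 0, Int.ofNat 1])) (ZT.node 1499 (ZT.leaf [Int.ofNat 6, Int.ofNat 7, Int.negSucc 0, Int.ofNat 3, Int.ofNat 0, Int.ofNat 1, Int.ofNat 1, Int.negSucc 0, Int.ofNat 0, Int.ofNat 1, Int.ofNat 0, Int.ofNat 0, Int.ofNat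 0, Int.ofNat 0, Int.negSucc 3, Int.ofNat 0, Int.negSucc 0, Int.ofNat 0, Int.ofNat 1]) (ZT.node 1500 (ZT.leaf [Int.negSucc 0]) (ZT.leaf [Int.ofNat 240, Int.ofNat 94, Int.negSucc 49, Int.ofNat 13, Int.ofNat 0, Int.ofNat 25, Int.ofNat 3, Int.negSucc 6, Int.negSucc 0, Int.ofNat 0, Int.ofNat 0, Int.ofNat 0, Int.ofNat 1, Int.ofNat 0, Int.negSucc 30, Int.ofNat 0, Int.ofNat 6, Int.ofNat 0, Int.ofNat 24])))) (ZT.node 1504 (ZT.node 1502 (ZT.leaf [Int.ofNat 2560, Int.ofNat 828, Int.negSucc 591, Int.ofNat 120, Int.ofNat 0, Int.ofNat 285, Int.ofNat 21, Int.negSucc 50, Int.ofNat 1, Int.ofNat 0, Int.ofNat 0, Int.ofNat 0, Int.ofNat 8, Int.ofNat 2, Int.negSucc 278, Int.ofNat 2, Int.ofNat 53, Int.ofNat 0, Int.ofNat 258]) (ZT.node 1503 (ZT.leaf [Int.negSucc 43, Int.negSucc 31, Int.negSucc 1, Int.ofNat 1, Int.ofNat 0, Int.ofNat 2, Int.negSucc 1, Int.negSucc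 0, Int.ofNat 2, Int.ofNat 0, Int.ofNat 0, Int.ofNat 0, Int.negSucc 1, Int.ofNat 0, Int.ofNat 12, Int.ofNat 0, Int.ofNat 1, Int.ofNat 0, Int.negSucc 0]) (ZT.leaf []))) (ZT.node 1505 (ZT.leaf [Int.ofNat 268, Int.ofNat 75, Int.negSucc 65, Int.ofNat 15, Int.ofNat 1, Int.ofNat 24, Int.ofNat 1, Int.negSucc 4, Int.ofNat 0, Int.ofNat 0, Int.ofNat 0, Int.ofNat 0, Int.ofNat 1, Int.ofNat 0, Int.negSucc 29, Int.ofNat 0, Int.ofNat 8, Int.ofNat 0, Int.ofNat 24]) (ZT.node 1506 (ZT.leaf []) (ZT.leaf [Int.negSucc 185, Int.negSucc 64, Int.ofNat 28, Int.negSucc 2, Int.ofNat 0, Int.negSucc 8, Int.negSucc 2, Int.negSucc 0, Int.ofNat 2, Int.ofNat 0, Int.ofNat 0, Int.ofNat 0, Int.negSucc 2, Int.ofNat 0, Int.ofNat 20, Int.negSucc 1, Int.negSucc 0, Int.ofNat 0, Int.negSucc 11])))))) (ZT.node 1518 (ZT.node 1512 (ZT.node 1509 (ZT.node 1508 (ZT.leaf [Int.negSucc 0])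 (ZT.leaf [Int.ofNat 37, Int.ofNat 7, Int.negSucc 10, Int.ofNat 2, Int.ofNat 0, Int.ofNat 4, Int.ofNat 1, Int.negSucc 0, Int.ofNat 0, Int.ofNat 0, Int.ofNat 0, Int.ofNat 0, Int.ofNat 0, Int.ofNat 0, Int.negSucc 4, Int.ofNat 0, Int.ofNat 1, Int.ofNat 0, Int.ofNat 4])) (ZT.node 1510 (ZT.leaf [Int.negSucc 0]) (ZT.node 1511 (ZT.leaf []) (ZT.leaf [Int.ofNat 22, Int.ofNat 10, Int.negSucc 3, Int.ofNat 0, Int.ofNat 0, Int.ofNat 3, Int.ofNat 0, Int.ofNat 0, Int.ofNat 0, Int.ofNat 0, Int.ofNat 0, Int.ofNat 0, Int.ofNat 0, Int.ofNat 0, Int.negSucc 1, Int.ofNat 0, Int.negSucc 0, Int.ofNat 0, Int.ofNat 2])))) (ZT.node 1515 (ZT.node 1513 (ZT.leaf [Int.ofNat 6, Int.ofNat 4, Int.negSucc 0, Int.ofNat 0, Int.ofNat 0, Int.ofNat 0, Int.ofNat 0, Int.negSucc 0, Int.ofNat 0, Int.ofNat 0, Int.ofNat 0, Int.ofNat 0, Int.ofNat 0, Int.ofNat 0, Int.ofNat 0, Int.ofNat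 0, Int.ofNat 0, Int.ofNat 0, Int.ofNat 0]) (ZT.node 1514 (ZT.leaf [Int.negSucc 103, Int.negSucc 21, Int.ofNat 28, Int.negSucc 4, Int.ofNat 0, Int.negSucc 12, Int.ofNat 0, Int.ofNat 1, Int.negSucc 0, Int.ofNat 0, Int.ofNat 0, Int.ofNat 0, Int.ofNat 0, Int.ofNat 0, Int.ofNat 7, Int.ofNat 0, Int.negSucc 2, Int.ofNat 0, Int.negSucc 10]) (ZT.leaf [Int.negSucc 1102, Int.negSucc 950, Int.ofNat 257, Int.negSucc 157, Int.negSucc 3, Int.negSucc 218, Int.negSucc 43, Int.ofNat 83, Int.ofNat 16, Int.ofNat 1, Int.ofNat 0, Int.ofNat 0, Int.ofNat 0, Int.negSucc 4, Int.ofNat 315, Int.ofNat 6, Int.negSucc 26, Int.ofNat 0, Int.negSucc 198]))) (ZT.node 1516 (ZT.leaf []) (ZT.node 1517 (ZT.leaf [Int.negSucc 0]) (ZT.leaf [Int.negSucc 364, Int.negSucc 253, Int.ofNat 90, Int.negSucc 44, Int.negSucc 0, Int.negSucc 64, Int.negSucc 10, Int.ofNat 21, Int.ofNat 4, Int.negSucc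 0, Int.ofNat 0, Int.ofNat 0, Int.ofNat 0, Int.negSucc 0, Int.ofNat 85, Int.ofNat 1, Int.negSucc 4, Int.ofNat 0, Int.negSucc 57]))))) (ZT.node 1524 (ZT.node 1521 (ZT.node 1519 (ZT.leaf [Int.negSucc 3, Int.negSucc 3, Int.ofNat 0, Int.ofNat 0, Int.ofNat 0, Int.ofNat 0, Int.ofNat 0, Int.ofNat 0, Int.ofNat 0, Int.ofNat 0, Int.ofNat 0]) (ZT.node 1520 (ZT.leaf [Int.negSucc 0]) (ZT.leaf [Int.negSucc 0]))) (ZT.node 1522 (ZT.leaf []) (ZT.node 1523 (ZT.leaf []) (ZT.leaf [])))) (ZT.node 1527 (ZT.node 1525 (ZT.leaf [Int.negSucc 136, Int.negSucc 31, Int.ofNat 34, Int.negSucc 2, Int.ofNat 0, Int.negSucc 14, Int.ofNat 0, Int.ofNat 1, Int.negSucc 0, Int.ofNat 0, Int.ofNat 0, Int.ofNat 0, Int.negSucc 0, Int.ofNat 0, Int.ofNat 8, Int.ofNat 0, Int.negSucc 3, Int.ofNat 0, Int.negSucc 11]) (ZT.node 1526 (ZT.leaf []) (ZT.leaf [Int.ofNat 91, Int.ofNat 33, Int.negSucc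 19, Int.ofNat 4, Int.ofNat 0, Int.ofNat 10, Int.ofNat 0, Int.negSucc 0, Int.ofNat 0, Int.ofNat 0, Int.ofNat 0, Int.ofNat 0, Int.ofNat 1, Int.ofNat 0, Int.negSucc 10, Int.ofNat 0, Int.ofNat 1, Int.ofNat 0, Int.ofNat 9]))) (ZT.node 1528 (ZT.leaf [Int.negSucc 2, Int.negSucc 2, Int.ofNat 0, Int.ofNat 0, Int.ofNat 0, Int.ofNat 0, Int.ofNat 0, Int.ofNat 0, Int.ofNat 0, Int.ofNat 0, Int.ofNat 1]) (ZT.node 1529 (ZT.leaf [Int.negSucc 90, Int.negSucc 31, Int.ofNat 21, Int.negSucc 3, Int.ofNat 0, Int.negSucc 9, Int.ofNat 0, Int.ofNat 1, Int.ofNat 0, Int.ofNat 0, Int.ofNat 0, Int.ofNat 0, Int.negSucc 0, Int.ofNat 0, Int.ofNat 11, Int.ofNat 0, Int.negSucc 1, Int.ofNat 0, Int.negSucc 8]) (ZT.leaf [])))))))) (ZT.node 1575 (ZT.node 1552 (ZT.node 1541 (ZT.node 1535 (ZT.node 1532 (ZT.node 1531 (ZT.leaf [Int.negSucc 3, Int.negSucc 1, Int.negSucc 0, Int.ofNat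 0, Int.ofNat 0, Int.ofNat 0, Int.ofNat 0, Int.ofNat 0, Int.ofNat 0, Int.negSucc 0, Int.ofNat 0, Int.ofNat 0, Int.ofNat 0, Int.ofNat 0, Int.ofNat 0, Int.ofNat 0, Int.ofNat 0, Int.ofNat 0, Int.ofNat 0]) (ZT.leaf [Int.negSucc 6, Int.negSucc 2, Int.negSucc 0, Int.ofNat 0, Int.ofNat 0, Int.ofNat 0, Int.ofNat 0, Int.ofNat 0, Int.ofNat 0, Int.negSucc 0, Int.ofNat 0, Int.ofNat 0, Int.ofNat 0, Int.ofNat 0, Int.ofNat 0, Int.ofNat 0, Int.negSucc 0, Int.ofNat 0, Int.ofNat 0])) (ZT.node 1533 (ZT.leaf []) (ZT.node 1534 (ZT.leaf []) (ZT.leaf [Int.ofNat 5, Int.ofNat 4, Int.ofNat 1, Int.ofNat 0, Int.ofNat 0, Int.ofNat 0, Int.ofNat 0, Int.ofNat 0, Int.ofNat 0, Int.ofNat 1, Int.ofNat 0, Int.ofNat 0, Int.ofNat 0, Int.ofNat 0, Int.ofNat 0, Int.ofNat 0, Int.ofNat 0, Int.ofNat 0, Int.ofNat 0])))) (ZT.node 1538 (ZT.node 1536 (ZT.leaf [Int.ofNat 2, Int.ofNat 4,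 Int.ofNat 1, Int.ofNat 0, Int.ofNat 0, Int.ofNat 0, Int.ofNat 0, Int.ofNat 0, Int.ofNat 0, Int.ofNat 1, Int.ofNat 0, Int.ofNat 0, Int.ofNat 0, Int.ofNat 0, Int.ofNat 0, Int.ofNat 0, Int.ofNat 2, Int.ofNat 0, Int.ofNat 0]) (ZT.node 1537 (ZT.leaf [Int.negSucc 4, Int.negSucc 2, Int.negSucc 0, Int.ofNat 0, Int.ofNat 0, Int.ofNat 0, Int.ofNat 0, Int.ofNat 0, Int.ofNat 0, Int.negSucc 0, Int.ofNat 0, Int.ofNat 0, Int.ofNat 0, Int.ofNat 0, Int.ofNat 0, Int.ofNat 0, Int.ofNat 0, Int.ofNat 0, Int.ofNat 0]) (ZT.leaf [Int.ofNat 56, Int.negSucc 8, Int.negSucc 9, Int.negSucc 3, Int.negSucc 0, Int.ofNat 0, Int.negSucc 1, Int.ofNat 5, Int.ofNat 2, Int.ofNat 0, Int.ofNat 0, Int.ofNat 0, Int.ofNat 1, Int.ofNat 0, Int.ofNat 0, Int.ofNat 1, Int.negSucc 0, Int.ofNat 0, Int.ofNat 1]))) (ZT.node 1539 (ZT.leaf [Int.negSucc 2564, Int.negSucc 1636, Int.ofNat 622,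 Int.negSucc 284, Int.negSucc 4, Int.negSucc 425, Int.negSucc 61, Int.ofNat 112, Int.ofNat 16, Int.ofNat 0, Int.ofNat 0, Int.ofNat 0, Int.negSucc 5, Int.negSucc 8, Int.ofNat 568, Int.ofNat 9, Int.negSucc 40, Int.ofNat 0, Int.negSucc 375]) (ZT.node 1540 (ZT.leaf [Int.ofNat 3601, Int.ofNat 237, Int.negSucc 788, Int.negSucc 8, Int.negSucc 6, Int.ofNat 276, Int.ofNat 36, Int.ofNat 23, Int.ofNat 26, Int.ofNat 0, Int.ofNat 0, Int.ofNat 0, Int.ofNat 23, Int.ofNat 10, Int.negSucc 171, Int.ofNat 8, Int.ofNat 3, Int.ofNat 0, Int.ofNat 234]) (ZT.leaf []))))) (ZT.node 1546 (ZT.node 1543 (ZT.node 1542 (ZT.leaf [Int.ofNat 96, Int.ofNat 35, Int.negSucc 20, Int.ofNat 4, Int.ofNat 0, Int.ofNat 10, Int.ofNat 0, Int.negSucc 0, Int.ofNat 0, Int.ofNat 0, Int.ofNat 0, Int.ofNat 0, Int.ofNat 1, Int.ofNat 0, Int.negSucc 10, Int.ofNat 0, Int.ofNat 2, Int.ofNat 0,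 Int.ofNat 9]) (ZT.leaf [Int.ofNat 1, Int.ofNat 0, Int.negSucc 0, Int.ofNat 0, Int.ofNat 0, Int.ofNat 0, Int.ofNat 0, Int.ofNat 0, Int.ofNat 0, Int.ofNat 0, Int.ofNat 0, Int.ofNat 0, Int.ofNat 0, Int.ofNat 0, Int.ofNat 0, Int.ofNat 0, Int.ofNat 1, Int.ofNat 0, Int.ofNat 0])) (ZT.node 1544 (ZT.leaf [Int.negSucc 0]) (ZT.node 1545 (ZT.leaf [Int.ofNat 185, Int.ofNat 97, Int.negSucc 61, Int.ofNat 24, Int.ofNat 1, Int.ofNat 36, Int.negSucc 1, Int.negSucc 11, Int.negSucc 0, Int.ofNat 0, Int.ofNat 0, Int.ofNat 0, Int.negSucc 0, Int.ofNat 0, Int.negSucc 32, Int.ofNat 0, Int.ofNat 14, Int.ofNat 0, Int.ofNat 31]) (ZT.leaf [Int.ofNat 0, Int.ofNat 1, Int.ofNat 0, Int.ofNat 0, Int.ofNat 0, Int.ofNat 0, Int.ofNat 0, Int.negSucc 0])))) (ZT.node 1549 (ZT.node 1547 (ZT.leaf []) (ZT.node 1548 (ZT.leaf [Int.negSucc 510, Int.negSucc 289, Int.ofNat 130, Int.negSucc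 50, Int.ofNat 0, Int.negSucc 74, Int.negSucc 0, Int.ofNat 4, Int.negSucc 3, Int.ofNat 0, Int.ofNat 0, Int.ofNat 0, Int.negSucc 1, Int.negSucc 3, Int.ofNat 85, Int.ofNat 1, Int.negSucc 4, Int.ofNat 0, Int.negSucc 64]) (ZT.leaf [Int.ofNat 71, Int.ofNat 43, Int.ofNat 3, Int.negSucc 1, Int.ofNat 1, Int.ofNat 2, Int.ofNat 6, Int.ofNat 1, Int.negSucc 0, Int.ofNat 0, Int.ofNat 0, Int.ofNat 0, Int.ofNat 1, Int.ofNat 0, Int.negSucc 13, Int.negSucc 0, Int.negSucc 6, Int.ofNat 0, Int.ofNat 2]))) (ZT.node 1550 (ZT.leaf []) (ZT.node 1551 (ZT.leaf [Int.ofNat 11, Int.ofNat 2, Int.negSucc 5, Int.ofNat 2, Int.ofNat 0, Int.ofNat 2, Int.ofNat 0, Int.negSucc 0, Int.ofNat 0, Int.ofNat 0, Int.ofNat 0, Int.ofNat 0, Int.ofNat 0, Int.ofNat 0, Int.negSucc 0, Int.ofNat 0, Int.ofNat 2, Int.ofNat 0, Int.ofNat 2]) (ZT.leaf [Int.negSucc 584, Int.negSucc 364, Int.ofNat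 162, Int.negSucc 72, Int.negSucc 0, Int.negSucc 112, Int.negSucc 4, Int.ofNat 17, Int.negSucc 2, Int.ofNat 0, Int.ofNat 0, Int.ofNat 0, Int.ofNat 0, Int.negSucc 3, Int.ofNat 104, Int.ofNat 3, Int.negSucc 9, Int.ofNat 0, Int.negSucc 88])))))) (ZT.node 1563 (ZT.node 1557 (ZT.node 1554 (ZT.node 1553 (ZT.leaf []) (ZT.leaf [Int.ofNat 2153, Int.ofNat 1009, Int.negSucc 497, Int.ofNat 159, Int.ofNat 5, Int.ofNat 291, Int.ofNat 51, Int.negSucc 96, Int.negSucc 15, Int.ofNat 0, Int.ofNat 0, Int.ofNat 0, Int.ofNat 2, Int.ofNat 2, Int.negSucc 389, Int.negSucc 2, Int.ofNat 54, Int.negSucc 0, Int.ofNat 266])) (ZT.node 1555 (ZT.leaf []) (ZT.node 1556 (ZT.leaf []) (ZT.leaf [Int.negSucc 0])))) (ZT.node 1560 (ZT.node 1558 (ZT.leaf [Int.negSucc 24, Int.ofNat 7, Int.ofNat 10, Int.negSucc 0, Int.ofNat 0, Int.negSucc 1, Int.ofNat 0, Int.ofNat 0, Int.negSucc 0,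 Int.ofNat 0, Int.ofNat 0, Int.ofNat 0, Int.ofNat 0, Int.ofNat 0, Int.negSucc 3, Int.ofNat 0, Int.negSucc 1, Int.ofNat 0, Int.negSucc 1]) (ZT.node 1559 (ZT.leaf [Int.ofNat 23, Int.ofNat 8, Int.negSucc 5, Int.ofNat 2, Int.ofNat 0, Int.ofNat 3, Int.ofNat 0, Int.negSucc 0, Int.ofNat 0, Int.ofNat 0, Int.ofNat 0, Int.ofNat 0, Int.ofNat 0, Int.ofNat 0, Int.negSucc 4, Int.ofNat 0, Int.ofNat 1, Int.ofNat 0, Int.ofNat 3]) (ZT.leaf [Int.negSucc 0]))) (ZT.node 1561 (ZT.leaf [Int.negSucc 837, Int.negSucc 257, Int.ofNat 209, Int.negSucc 45, Int.negSucc 0, Int.negSucc 103, Int.negSucc 5, Int.ofNat 18, Int.negSucc 1, Int.ofNat 0, Int.ofNat 0, Int.ofNat 0, Int.negSucc 0, Int.negSucc 0, Int.ofNat 75, Int.ofNat 0, Int.negSucc 13, Int.ofNat 0, Int.negSucc 86]) (ZT.node 1562 (ZT.leaf [Int.ofNat 61, Int.ofNat 56, Int.negSucc 6, Int.ofNat 10, Int.ofNat 1, Int.negSucc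 5, Int.ofNat 8, Int.negSucc 7, Int.negSucc 2, Int.ofNat 0, Int.ofNat 0, Int.negSucc 0, Int.ofNat 0, Int.ofNat 0, Int.negSucc 46, Int.negSucc 2, Int.ofNat 0, Int.ofNat 0, Int.ofNat 4]) (ZT.leaf []))))) (ZT.node 1569 (ZT.node 1566 (ZT.node 1564 (ZT.leaf [Int.negSucc 626, Int.negSucc 222, Int.ofNat 152, Int.negSucc 36, Int.negSucc 0, Int.negSucc 78, Int.negSucc 6, Int.ofNat 16, Int.ofNat 0, Int.ofNat 0, Int.ofNat 0, Int.negSucc 0, Int.negSucc 0, Int.negSucc 0, Int.ofNat 72, Int.ofNat 0, Int.negSucc 10, Int.ofNat 0, Int.negSucc 67]) (ZT.node 1565 (ZT.leaf [Int.negSucc 128, Int.negSucc 528, Int.ofNat 71, Int.negSucc 109, Int.negSucc 6, Int.negSucc 90, Int.negSucc 11, Int.ofNat 44, Int.ofNat 9, Int.ofNat 0, Int.ofNat 0, Int.ofNat 1, Int.ofNat 6, Int.negSucc 6, Int.ofNat 190, Int.ofNat 10, Int.negSucc 24, Int.ofNat 0, Int.negSucc 85]) (ZT.leaf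 [Int.negSucc 0]))) (ZT.node 1567 (ZT.leaf [Int.negSucc 0]) (ZT.node 1568 (ZT.leaf [Int.negSucc 107, Int.negSucc 19, Int.ofNat 28, Int.negSucc 3, Int.ofNat 0, Int.negSucc 10, Int.ofNat 0, Int.ofNat 1, Int.negSucc 0, Int.ofNat 0, Int.ofNat 0, Int.ofNat 0, Int.ofNat 0, Int.ofNat 0, Int.ofNat 4, Int.ofNat 0, Int.negSucc 0, Int.ofNat 0, Int.negSucc 8]) (ZT.leaf [])))) (ZT.node 1572 (ZT.node 1570 (ZT.leaf [Int.negSucc 1698, Int.negSucc 967, Int.ofNat 427, Int.negSucc 171, Int.negSucc 5, Int.negSucc 267, Int.negSucc 40, Int.ofNat 107, Int.ofNat 22, Int.ofNat 0, Int.ofNat 0, Int.ofNat 0, Int.ofNat 2, Int.ofNat 0, Int.ofNat 369, Int.ofNat 0, Int.negSucc 65, Int.ofNat 0, Int.negSucc 243]) (ZT.node 1571 (ZT.leaf [Int.negSucc 0]) (ZT.leaf []))) (ZT.node 1573 (ZT.leaf [Int.ofNat 5509, Int.ofNat 966, Int.negSucc 1250, Int.ofNat 135, Int.ofNat 0, Int.ofNat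 512, Int.ofNat 54, Int.negSucc 71, Int.ofNat 17, Int.ofNat 0, Int.ofNat 0, Int.ofNat 0, Int.ofNat 17, Int.negSucc 4, Int.negSucc 380, Int.ofNat 14, Int.ofNat 59, Int.ofNat 0, Int.ofNat 438]) (ZT.node 1574 (ZT.leaf [Int.ofNat 7257, Int.ofNat 5658, Int.negSucc 1703, Int.ofNat 939, Int.ofNat 26, Int.ofNat 1309, Int.ofNat 259, Int.negSucc 498, Int.negSucc 108, Int.negSucc 0, Int.ofNat 0, Int.negSucc 0, Int.ofNat 8, Int.ofNat 20, Int.negSucc 2026, Int.negSucc 35, Int.ofNat 215, Int.negSucc 0, Int.ofNat 1220]) (ZT.leaf [Int.negSucc 8388, Int.negSucc 6334, Int.ofNat 1980, Int.negSucc 1054, Int.negSucc 27, Int.negSucc 1488, Int.negSucc 288, Int.ofNat 564, Int.ofNat 120, Int.ofNat 1, Int.ofNat 0, Int.ofNat 1, Int.negSucc 7, Int.negSucc 21, Int.ofNat 2274, Int.ofNat 38, Int.negSucc 245, Int.ofNat 1, Int.negSucc 1385]))))))) (ZT.node 1597 (ZT.node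 1586 (ZT.node 1580 (ZT.node 1577 (ZT.node 1576 (ZT.leaf [Int.negSucc 387, Int.ofNat 1, Int.ofNat 99, Int.negSucc 1, Int.ofNat 1, Int.negSucc 53, Int.negSucc 5, Int.ofNat 8, Int.negSucc 4, Int.ofNat 0, Int.ofNat 0, Int.ofNat 0, Int.ofNat 2, Int.ofNat 1, Int.ofNat 2, Int.negSucc 0, Int.negSucc 5, Int.ofNat 0, Int.negSucc 34]) (ZT.leaf [Int.negSucc 12787, Int.negSucc 1173, Int.ofNat 2900, Int.negSucc 100, Int.ofNat 10, Int.negSucc 995, Int.negSucc 8, Int.ofNat 15, Int.negSucc 80, Int.negSucc 0, Int.ofNat 0, Int.negSucc 0, Int.negSucc 57, Int.ofNat 6, Int.ofNat 561, Int.negSucc 43, Int.negSucc 189, Int.negSucc 0, Int.negSucc 856])) (ZT.node 1578 (ZT.leaf [Int.negSucc 19438, Int.negSucc 6379, Int.ofNat 4402, Int.negSucc 942, Int.negSucc 8, Int.negSucc 2180, Int.negSucc 253, Int.ofNat 443, Int.ofNat 4, Int.ofNat 1, Int.negSucc 0, Int.ofNat 0,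 Int.negSucc 66, Int.negSucc 20, Int.ofNat 2375, Int.negSucc 2, Int.negSucc 345, Int.ofNat 0, Int.negSucc 1952]) (ZT.node 1579 (ZT.leaf [Int.negSucc 1816, Int.negSucc 1989, Int.ofNat 486, Int.negSucc 359, Int.negSucc 9, Int.negSucc 447, Int.negSucc 60, Int.ofNat 163, Int.ofNat 30, Int.ofNat 0, Int.ofNat 0, Int.ofNat 0, Int.ofNat 4, Int.negSucc 11, Int.ofNat 657, Int.ofNat 16, Int.negSucc 81, Int.ofNat 0, Int.negSucc 397]) (ZT.leaf [Int.negSucc 1766, Int.negSucc 1994, Int.ofNat 471, Int.negSucc 358, Int.negSucc 9, Int.negSucc 443, Int.negSucc 60, Int.ofNat 163, Int.ofNat 31, Int.ofNat 0, Int.ofNat 0, Int.ofNat 0, Int.ofNat 4, Int.negSucc 11, Int.ofNat 660, Int.ofNat 16, Int.negSucc 80, Int.ofNat 0, Int.negSucc 394])))) (ZT.node 1583 (ZT.node 1581 (ZT.leaf []) (ZT.node 1582 (ZT.leaf [Int.negSucc 4068, Int.negSucc 3150, Int.ofNat 1171, Int.negSucc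 646, Int.negSucc 30, Int.negSucc 843, Int.negSucc 59, Int.ofNat 246, Int.ofNat 20, Int.negSucc 0, Int.ofNat 1, Int.negSucc 0, Int.ofNat 21, Int.negSucc 11, Int.ofNat 936, Int.ofNat 25, Int.negSucc 142, Int.negSucc 0, Int.negSucc 706]) (ZT.leaf [Int.negSucc 539, Int.negSucc 116, Int.ofNat 29, Int.ofNat 23, Int.ofNat 3, Int.negSucc 17, Int.negSucc 33, Int.ofNat 16, Int.ofNat 2, Int.ofNat 2, Int.negSucc 0, Int.ofNat 0, Int.negSucc 2, Int.negSucc 3, Int.ofNat 91, Int.ofNat 0, Int.ofNat 7, Int.ofNat 0, Int.negSucc 27]))) (ZT.node 1584 (ZT.leaf [Int.negSucc 5462, Int.ofNat 332, Int.ofNat 1160, Int.ofNat 141, Int.ofNat 18, Int.negSucc 245, Int.ofNat 10, Int.negSucc 84, Int.negSucc 56, Int.ofNat 1, Int.negSucc 0, Int.ofNat 1, Int.negSucc 36, Int.negSucc 1, Int.negSucc 33, Int.negSucc 21, Int.negSucc 32, Int.ofNat 1, Int.negSucc 224]) (ZT.node 1585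 (ZT.leaf [Int.ofNat 273, Int.ofNat 255, Int.negSucc 68, Int.ofNat 46, Int.ofNat 2, Int.ofNat 50, Int.ofNat 4, Int.negSucc 15, Int.negSucc 2, Int.ofNat 0, Int.ofNat 0, Int.ofNat 0, Int.ofNat 0, Int.ofNat 2, Int.negSucc 61, Int.negSucc 2, Int.ofNat 10, Int.ofNat 0, Int.ofNat 45]) (ZT.leaf []))))) (ZT.node 1591 (ZT.node 1588 (ZT.node 1587 (ZT.leaf []) (ZT.leaf [Int.negSucc 10757, Int.negSucc 3970, Int.ofNat 2413, Int.negSucc 588, Int.negSucc 12, Int.negSucc 1229, Int.negSucc 153, Int.ofNat 293, Int.ofNat 19, Int.ofNat 0, Int.ofNat 0, Int.ofNat 0, Int.negSucc 27, Int.negSucc 7, Int.ofNat 1488, Int.negSucc 0, Int.negSucc 239, Int.ofNat 0, Int.negSucc 1129])) (ZT.node 1589 (ZT.leaf [Int.negSucc 20949, Int.negSucc 10768, Int.ofNat 5091, Int.negSucc 1836, Int.negSucc 43, Int.negSucc 3099, Int.negSucc 334, Int.ofNat 801, Int.ofNat 70, Int.ofNat 0,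 Int.ofNat 0, Int.ofNat 0, Int.negSucc 31, Int.negSucc 45, Int.ofNat 3608, Int.ofNat 43, Int.negSucc 475, Int.ofNat 0, Int.negSucc 2707]) (ZT.node 1590 (ZT.leaf []) (ZT.leaf [Int.ofNat 2416, Int.ofNat 965, Int.negSucc 553, Int.ofNat 149, Int.ofNat 4, Int.ofNat 304, Int.ofNat 42, Int.negSucc 82, Int.negSucc 7, Int.ofNat 0, Int.ofNat 0, Int.ofNat 0, Int.ofNat 4, Int.ofNat 3, Int.negSucc 350, Int.negSucc 0, Int.ofNat 50, Int.ofNat 0, Int.ofNat 272])))) (ZT.node 1594 (ZT.node 1592 (ZT.leaf []) (ZT.node 1593 (ZT.leaf []) (ZT.leaf [Int.ofNat 184, Int.ofNat 53, Int.negSucc 42, Int.ofNat 6, Int.ofNat 0, Int.ofNat 20, Int.negSucc 0, Int.ofNat 0, Int.ofNat 1, Int.ofNat 0, Int.ofNat 0, Int.ofNat 0, Int.ofNat 2, Int.ofNat 0, Int.negSucc 14, Int.ofNat 0, Int.ofNat 4, Int.ofNat 0, Int.ofNat 17]))) (ZT.node 1595 (ZT.leaf []) (ZT.node 1596 (ZT.leaf [Int.ofNat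 120, Int.ofNat 59, Int.negSucc 32, Int.ofNat 13, Int.ofNat 1, Int.ofNat 23, Int.ofNat 2, Int.negSucc 7, Int.ofNat 0, Int.ofNat 0, Int.ofNat 0, Int.ofNat 0, Int.negSucc 1, Int.ofNat 0, Int.negSucc 20, Int.ofNat 0, Int.ofNat 0, Int.ofNat 0, Int.ofNat 15]) (ZT.leaf [Int.negSucc 2433, Int.negSucc 1304, Int.ofNat 568, Int.negSucc 195, Int.ofNat 0, Int.negSucc 360, Int.negSucc 41, Int.ofNat 95, Int.ofNat 12, Int.ofNat 0, Int.ofNat 0, Int.ofNat 0, Int.negSucc 9, Int.negSucc 8, Int.ofNat 424, Int.ofNat 6, Int.negSucc 60, Int.ofNat 0, Int.negSucc 323])))))) (ZT.node 1608 (ZT.node 1602 (ZT.node 1599 (ZT.node 1598 (ZT.leaf [Int.ofNat 1154, Int.ofNat 536, Int.negSucc 270, Int.ofNat 89, Int.ofNat 3, Int.ofNat 157, Int.ofNat 19, Int.negSucc 39, Int.negSucc 3, Int.ofNat 0, Int.ofNat 0, Int.ofNat 0, Int.ofNat 2, Int.ofNat 3, Int.negSucc 185, Int.negSucc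 1, Int.ofNat 27, Int.ofNat 0, Int.ofNat 141]) (ZT.leaf [Int.ofNat 7528, Int.ofNat 1766, Int.negSucc 1657, Int.ofNat 211, Int.ofNat 0, Int.ofNat 716, Int.ofNat 76, Int.negSucc 125, Int.ofNat 8, Int.ofNat 0, Int.ofNat 0, Int.ofNat 0, Int.ofNat 27, Int.ofNat 4, Int.negSucc 689, Int.ofNat 13, Int.ofNat 145, Int.ofNat 0, Int.ofNat 651])) (ZT.node 1600 (ZT.leaf [Int.negSucc 1]) (ZT.node 1601 (ZT.leaf [Int.negSucc 330, Int.negSucc 123, Int.ofNat 80, Int.negSucc 20, Int.negSucc 0, Int.negSucc 41, Int.negSucc 2, Int.ofNat 10, Int.ofNat 0, Int.ofNat 0, Int.ofNat 0, Int.ofNat 0, Int.ofNat 0, Int.negSucc 1, Int.ofNat 34, Int.ofNat 1, Int.negSucc 6, Int.ofNat 0, Int.negSucc 36]) (ZT.leaf [Int.negSucc 0])))) (ZT.node 1605 (ZT.node 1603 (ZT.leaf [Int.ofNat 33, Int.ofNat 1, Int.negSucc 5, Int.ofNat 0, Int.ofNat 0, Int.ofNat 1, Int.ofNat 0, Int.ofNat 1,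 Int.ofNat 1, Int.ofNat 1, Int.ofNat 0, Int.ofNat 0, Int.ofNat 0, Int.ofNat 1, Int.ofNat 2, Int.ofNat 0, Int.ofNat 0, Int.ofNat 0, Int.ofNat 1]) (ZT.node 1604 (ZT.leaf [Int.negSucc 566, Int.negSucc 213, Int.ofNat 143, Int.negSucc 39, Int.negSucc 0, Int.negSucc 77, Int.negSucc 6, Int.ofNat 17, Int.ofNat 0, Int.ofNat 0, Int.ofNat 0, Int.ofNat 0, Int.ofNat 0, Int.negSucc 0, Int.ofNat 74, Int.ofNat 0, Int.negSucc 10, Int.ofNat 0, Int.negSucc 65]) (ZT.leaf [Int.ofNat 13206, Int.ofNat 3690, Int.negSucc 2983, Int.ofNat 515, Int.ofNat 6, Int.ofNat 1402, Int.ofNat 157, Int.negSucc 279, Int.ofNat 6, Int.ofNat 0, Int.ofNat 0, Int.ofNat 0, Int.ofNat 38, Int.ofNat 7, Int.negSucc 1402, Int.ofNat 15, Int.ofNat 252, Int.ofNat 0, Int.ofNat 1247]))) (ZT.node 1606 (ZT.leaf []) (ZT.node 1607 (ZT.leaf [Int.negSucc 2259, Int.ofNat 799, Int.ofNat 486, Int.ofNat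 180, Int.ofNat 11, Int.negSucc 40, Int.ofNat 12, Int.negSucc 101, Int.negSucc 46, Int.ofNat 0, Int.ofNat 0, Int.ofNat 0, Int.negSucc 15, Int.negSucc 6, Int.negSucc 226, Int.negSucc 12, Int.ofNat 18, Int.ofNat 0, Int.negSucc 15]) (ZT.leaf [Int.ofNat 2368, Int.ofNat 1120, Int.negSucc 525, Int.ofNat 169, Int.ofNat 7, Int.ofNat 317, Int.ofNat 68, Int.negSucc 127, Int.negSucc 22, Int.ofNat 0, Int.ofNat 0, Int.ofNat 0, Int.negSucc 0, Int.ofNat 0, Int.negSucc 511, Int.ofNat 1, Int.ofNat 68, Int.ofNat 0, Int.ofNat 300]))))) (ZT.node 1614 (ZT.node 1611 (ZT.node 1609 (ZT.leaf [Int.negSucc 692, Int.negSucc 335, Int.ofNat 180, Int.negSucc 64, Int.ofNat 0, Int.negSucc 106, Int.negSucc 3, Int.ofNat 12, Int.negSucc 5, Int.negSucc 0, Int.ofNat 0, Int.ofNat 0, Int.ofNat 0, Int.negSucc 3, Int.ofNat 85, Int.ofNat 2, Int.negSucc 11, Int.ofNat 0, Int.negSucc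 85]) (ZT.node 1610 (ZT.leaf [Int.ofNat 11395, Int.ofNat 6416, Int.negSucc 2898, Int.ofNat 1152, Int.ofNat 28, Int.ofNat 1875, Int.ofNat 190, Int.negSucc 483, Int.negSucc 38, Int.ofNat 0, Int.ofNat 0, Int.ofNat 0, Int.ofNat 10, Int.ofNat 32, Int.negSucc 2060, Int.negSucc 32, Int.ofNat 244, Int.ofNat 0, Int.ofNat 1587]) (ZT.leaf [Int.ofNat 5819, Int.negSucc 23, Int.negSucc 1223, Int.negSucc 114, Int.negSucc 11, Int.ofNat 335, Int.ofNat 30, Int.ofNat 26, Int.ofNat 40, Int.ofNat 0, Int.ofNat 0, Int.ofNat 0, Int.ofNat 31, Int.ofNat 2, Int.negSucc 116, Int.ofNat 27, Int.ofNat 60, Int.ofNat 0, Int.ofNat 307]))) (ZT.node 1612 (ZT.leaf [Int.ofNat 15670, Int.ofNat 6567, Int.negSucc 3610, Int.ofNat 1033, Int.ofNat 24, Int.ofNat 1976, Int.ofNat 238, Int.negSucc 492, Int.negSucc 37, Int.ofNat 0, Int.ofNat 0, Int.ofNat 0, Int.ofNat 34, Int.ofNat 19, Int.negSucc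 2363, Int.negSucc 9, Int.ofNat 353, Int.ofNat 0, Int.ofNat 1780]) (ZT.node 1613 (ZT.leaf [Int.negSucc 7527, Int.negSucc 1765, Int.ofNat 1658, Int.negSucc 210, Int.ofNat 0, Int.negSucc 715, Int.negSucc 75, Int.ofNat 126, Int.negSucc 7, Int.ofNat 0, Int.ofNat 0, Int.ofNat 0, Int.negSucc 26, Int.negSucc 3, Int.ofNat 690, Int.negSucc 12, Int.negSucc 144, Int.ofNat 0, Int.negSucc 650]) (ZT.leaf [Int.negSucc 85, Int.negSucc 15, Int.ofNat 23, Int.negSucc 2, Int.ofNat 0, Int.negSucc 9, Int.ofNat 0, Int.ofNat 0, Int.negSucc 0, Int.ofNat 0, Int.ofNat 0, Int.ofNat 0, Int.ofNat 0, Int.ofNat 0, Int.ofNat 4, Int.ofNat 0, Int.negSucc 1, Int.ofNat 0, Int.negSucc 7])))) (ZT.node 1617 (ZT.node 1615 (ZT.leaf [Int.ofNat 7, Int.ofNat 12, Int.negSucc 2, Int.ofNat 2, Int.ofNat 0, Int.ofNat 3, Int.ofNat 0, Int.negSucc 1, Int.negSucc 0, Int.negSucc 0, Int.ofNat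 0, Int.ofNat 0, Int.ofNat 0, Int.ofNat 0, Int.negSucc 6, Int.ofNat 0, Int.ofNat 1, Int.ofNat 0, Int.ofNat 3]) (ZT.node 1616 (ZT.leaf [Int.ofNat 13, Int.negSucc 3, Int.negSucc 2, Int.ofNat 0, Int.ofNat 0, Int.ofNat 0, Int.ofNat 0, Int.ofNat 1, Int.ofNat 1, Int.ofNat 1, Int.ofNat 0, Int.ofNat 0, Int.ofNat 0, Int.ofNat 0, Int.ofNat 2, Int.ofNat 0, Int.ofNat 0, Int.ofNat 0, Int.ofNat 0]) (ZT.leaf []))) (ZT.node 1618 (ZT.leaf []) (ZT.node 1619 (ZT.leaf [Int.ofNat 86, Int.ofNat 17, Int.negSucc 22, Int.ofNat 3, Int.ofNat 0, Int.ofNat 10, Int.ofNat 0, Int.ofNat 0, Int.ofNat 1, Int.ofNat 0, Int.ofNat 0, Int.ofNat 0, Int.ofNat 0, Int.ofNat 0, Int.negSucc 3, Int.ofNat 0, Int.ofNat 2, Int.ofNat 0, Int.ofNat 8]) (ZT.leaf []))))))))) (ZT.node 1710 (ZT.node 1665 (ZT.node 1642 (ZT.node 1631 (ZT.node 1625 (ZT.node 1622 (ZT.node 1621 (ZT.leaf []) (ZT.leaf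 [Int.ofNat 11237, Int.ofNat 368, Int.negSucc 2544, Int.negSucc 23, Int.negSucc 13, Int.ofNat 769, Int.negSucc 43, Int.ofNat 90, Int.ofNat 104, Int.ofNat 2, Int.ofNat 0, Int.ofNat 1, Int.ofNat 61, Int.negSucc 5, Int.negSucc 232, Int.ofNat 43, Int.ofNat 141, Int.ofNat 1, Int.ofNat 645])) (ZT.node 1623 (ZT.leaf [Int.negSucc 5592, Int.ofNat 302, Int.ofNat 1192, Int.ofNat 135, Int.ofNat 18, Int.negSucc 259, Int.ofNat 10, Int.negSucc 82, Int.negSucc 57, Int.ofNat 1, Int.negSucc 0, Int.ofNat 1, Int.negSucc 36, Int.negSucc 1, Int.negSucc 27, Int.negSucc 21, Int.negSucc 34, Int.ofNat 1, Int.negSucc 235]) (ZT.node 1624 (ZT.leaf [Int.negSucc 48, Int.negSucc 0, Int.ofNat 26, Int.negSucc 2, Int.ofNat 2, Int.negSucc 17, Int.negSucc 8, Int.ofNat 6, Int.ofNat 6, Int.negSucc 0, Int.ofNat 1, Int.ofNat 0, Int.negSucc 1, Int.ofNat 3, Int.negSucc 22, Int.ofNat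 1, Int.ofNat 27, Int.ofNat 0, Int.negSucc 9]) (ZT.leaf [])))) (ZT.node 1628 (ZT.node 1626 (ZT.leaf [Int.negSucc 0]) (ZT.node 1627 (ZT.leaf [Int.negSucc 50, Int.negSucc 2, Int.ofNat 13, Int.negSucc 0, Int.ofNat 0, Int.negSucc 3, Int.ofNat 0, Int.ofNat 0, Int.negSucc 0, Int.ofNat 0, Int.ofNat 0, Int.ofNat 0, Int.ofNat 0, Int.ofNat 0, Int.negSucc 2, Int.ofNat 0, Int.ofNat 1, Int.ofNat 0, Int.negSucc 2]) (ZT.leaf []))) (ZT.node 1629 (ZT.leaf [Int.ofNat 11947, Int.ofNat 5713, Int.negSucc 2852, Int.ofNat 950, Int.ofNat 21, Int.ofNat 1679, Int.ofNat 182, Int.negSucc 426, Int.negSucc 33, Int.ofNat 0, Int.ofNat 0, Int.ofNat 0, Int.ofNat 19, Int.ofNat 21, Int.negSucc 1915, Int.negSucc 16, Int.ofNat 266, Int.ofNat 0, Int.ofNat 1470]) (ZT.node 1630 (ZT.leaf [Int.negSucc 4917, Int.negSucc 2597, Int.ofNat 1198, Int.negSucc 443, Int.negSucc 10, Int.negSucc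 745, Int.negSucc 83, Int.ofNat 200, Int.ofNat 19, Int.ofNat 0, Int.ofNat 0, Int.ofNat 0, Int.negSucc 5, Int.negSucc 10, Int.ofNat 876, Int.ofNat 11, Int.negSucc 112, Int.ofNat 0, Int.negSucc 649]) (ZT.leaf [Int.ofNat 10758, Int.ofNat 3971, Int.negSucc 2412, Int.ofNat 589, Int.ofNat 13, Int.ofNat 1230, Int.ofNat 154, Int.negSucc 292, Int.negSucc 18, Int.ofNat 0, Int.ofNat 0, Int.ofNat 0, Int.ofNat 28, Int.ofNat 8, Int.negSucc 1487, Int.ofNat 1, Int.ofNat 240, Int.ofNat 0, Int.ofNat 1130]))))) (ZT.node 1636 (ZT.node 1633 (ZT.node 1632 (ZT.leaf [Int.negSucc 2117, Int.negSucc 517, Int.ofNat 457, Int.negSucc 61, Int.ofNat 1, Int.negSucc 186, Int.negSucc 13, Int.ofNat 27, Int.negSucc 3, Int.ofNat 0, Int.ofNat 0, Int.ofNat 0, Int.negSucc 6, Int.ofNat 1, Int.ofNat 164, Int.negSucc 4, Int.negSucc 39, Int.ofNat 0, Int.negSucc 169]) (ZT.leaf [Int.negSucc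 18220, Int.negSucc 7449, Int.ofNat 4210, Int.negSucc 1171, Int.negSucc 32, Int.negSucc 2311, Int.negSucc 274, Int.ofNat 624, Int.ofNat 56, Int.negSucc 0, Int.ofNat 1, Int.ofNat 0, Int.negSucc 30, Int.negSucc 13, Int.ofNat 2628, Int.ofNat 6, Int.negSucc 446, Int.ofNat 0, Int.negSucc 2066])) (ZT.node 1634 (ZT.leaf [Int.ofNat 25801, Int.ofNat 12516, Int.negSucc 6021, Int.ofNat 2025, Int.ofNat 57, Int.ofNat 3569, Int.ofNat 433, Int.negSucc 999, Int.negSucc 113, Int.ofNat 1, Int.negSucc 0, Int.ofNat 1, Int.ofNat 43, Int.ofNat 42, Int.negSucc 4271, Int.negSucc 31, Int.ofNat 658, Int.ofNat 1, Int.ofNat 3193]) (ZT.node 1635 (ZT.leaf [Int.ofNat 24454, Int.ofNat 11026, Int.negSucc 5633, Int.ofNat 1747, Int.ofNat 46, Int.ofNat 3227, Int.ofNat 402, Int.negSucc 885, Int.negSucc 94, Int.ofNat 1, Int.negSucc 0, Int.ofNat 1, Int.ofNat 47, Int.ofNat 31,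 Int.negSucc 3793, Int.negSucc 16, Int.ofNat 589, Int.ofNat 1, Int.ofNat 2898]) (ZT.leaf [Int.negSucc 0])))) (ZT.node 1639 (ZT.node 1637 (ZT.leaf [Int.negSucc 0]) (ZT.node 1638 (ZT.leaf [Int.negSucc 11, Int.ofNat 6, Int.ofNat 5, Int.ofNat 0, Int.ofNat 0, Int.negSucc 0, Int.ofNat 0, Int.ofNat 0, Int.ofNat 0, Int.ofNat 0, Int.ofNat 0, Int.ofNat 0, Int.ofNat 0, Int.ofNat 0, Int.negSucc 3, Int.ofNat 0, Int.ofNat 0, Int.ofNat 0, Int.negSucc 0]) (ZT.leaf []))) (ZT.node 1640 (ZT.leaf [Int.ofNat 12, Int.negSucc 4, Int.negSucc 4, Int.ofNat 0, Int.ofNat 0, Int.ofNat 1, Int.ofNat 0, Int.ofNat 0, Int.ofNat 0, Int.ofNat 0, Int.ofNat 0, Int.ofNat 0, Int.ofNat 0, Int.ofNat 0, Int.ofNat 4, Int.ofNat 0, Int.ofNat 0, Int.ofNat 0, Int.ofNat 1]) (ZT.node 1641 (ZT.leaf [Int.negSucc 197, Int.ofNat 373, Int.negSucc 5, Int.ofNat 88, Int.ofNat 5, Int.ofNat 68, Int.ofNat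 0, Int.negSucc 28, Int.negSucc 4, Int.ofNat 0, Int.ofNat 0, Int.ofNat 0, Int.negSucc 6, Int.ofNat 6, Int.negSucc 108, Int.negSucc 6, Int.ofNat 20, Int.ofNat 0, Int.ofNat 54]) (ZT.leaf [Int.negSucc 0])))))) (ZT.node 1653 (ZT.node 1647 (ZT.node 1644 (ZT.node 1643 (ZT.leaf [Int.negSucc 0]) (ZT.leaf [Int.negSucc 0])) (ZT.node 1645 (ZT.leaf []) (ZT.node 1646 (ZT.leaf [Int.negSucc 0]) (ZT.leaf [Int.negSucc 898, Int.ofNat 178, Int.ofNat 200, Int.ofNat 46, Int.ofNat 6, Int.negSucc 47, Int.negSucc 1, Int.negSucc 4, Int.negSucc 9, Int.ofNat 0, Int.ofNat 0, Int.ofNat 0, Int.negSucc 2, Int.ofNat 4, Int.negSucc 63, Int.negSucc 7, Int.ofNat 0, Int.ofNat 1, Int.negSucc 36])))) (ZT.node 1650 (ZT.node 1648 (ZT.leaf []) (ZT.node 1649 (ZT.leaf []) (ZT.leaf []))) (ZT.node 1651 (ZT.leaf [Int.ofNat 196, Int.negSucc 372, Int.ofNat 6, Int.negSucc 87, Int.negSucc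 4, Int.negSucc 67, Int.ofNat 0, Int.ofNat 29, Int.ofNat 5, Int.ofNat 0, Int.ofNat 0, Int.ofNat 1, Int.ofNat 7, Int.negSucc 5, Int.ofNat 109, Int.ofNat 7, Int.negSucc 19, Int.ofNat 0, Int.negSucc 53]) (ZT.node 1652 (ZT.leaf [Int.ofNat 302, Int.ofNat 21, Int.negSucc 56, Int.negSucc 2, Int.ofNat 0, Int.ofNat 16, Int.ofNat 5, Int.negSucc 2, Int.ofNat 2, Int.ofNat 0, Int.ofNat 0, Int.ofNat 0, Int.ofNat 1, Int.ofNat 1, Int.negSucc 26, Int.ofNat 1, Int.ofNat 1, Int.ofNat 0, Int.ofNat 17]) (ZT.leaf [Int.negSucc 488, Int.negSucc 161, Int.ofNat 115, Int.negSucc 25, Int.ofNat 0, Int.negSucc 53, Int.negSucc 3, Int.ofNat 8, Int.negSucc 0, Int.ofNat 0, Int.ofNat 0, Int.ofNat 0, Int.negSucc 1, Int.negSucc 0, Int.ofNat 51, Int.ofNat 0, Int.negSucc 7, Int.ofNat 0, Int.negSucc 47]))))) (ZT.node 1659 (ZT.node 1656 (ZT.node 1654 (ZT.leaf []) (ZT.node 1655 (ZT.leaf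 [Int.negSucc 0]) (ZT.leaf [Int.negSucc 0, Int.negSucc 0]))) (ZT.node 1657 (ZT.leaf []) (ZT.node 1658 (ZT.leaf [Int.ofNat 1, Int.ofNat 1]) (ZT.leaf [])))) (ZT.node 1662 (ZT.node 1660 (ZT.leaf [Int.negSucc 0]) (ZT.node 1661 (ZT.leaf [Int.ofNat 1, Int.ofNat 2]) (ZT.leaf [Int.negSucc 0]))) (ZT.node 1663 (ZT.leaf [Int.negSucc 0]) (ZT.node 1664 (ZT.leaf [Int.ofNat 2667, Int.ofNat 2038, Int.negSucc 676, Int.ofNat 366, Int.ofNat 11, Int.ofNat 509, Int.ofNat 55, Int.negSucc 153, Int.negSucc 20, Int.ofNat 0, Int.ofNat 0, Int.ofNat 0, Int.negSucc 0, Int.ofNat 11, Int.negSucc 660, Int.negSucc 13, Int.ofNat 90, Int.ofNat 0, Int.ofNat 444]) (ZT.leaf [Int.ofNat 2419, Int.ofNat 2137, Int.negSucc 631, Int.ofNat 384, Int.ofNat 10, Int.ofNat 512, Int.ofNat 62, Int.negSucc 168, Int.negSucc 26, Int.ofNat 0, Int.ofNat 0, Int.ofNat 0, Int.negSucc 1, Int.ofNat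 13, Int.negSucc 692, Int.negSucc 15, Int.ofNat 91, Int.ofNat 0, Int.ofNat 452]))))))) (ZT.node 1687 (ZT.node 1676 (ZT.node 1670 (ZT.node 1667 (ZT.node 1666 (ZT.leaf [Int.ofNat 9172, Int.ofNat 2762, Int.negSucc 2008, Int.ofNat 374, Int.ofNat 14, Int.ofNat 953, Int.ofNat 134, Int.negSucc 257, Int.negSucc 26, Int.ofNat 1, Int.negSucc 0, Int.ofNat 0, Int.ofNat 19, Int.negSucc 5, Int.negSucc 1076, Int.ofNat 12, Int.ofNat 206, Int.ofNat 0, Int.ofNat 871]) (ZT.leaf [Int.negSucc 3060, Int.negSucc 2170, Int.ofNat 774, Int.negSucc 389, Int.negSucc 11, Int.negSucc 555, Int.negSucc 57, Int.ofNat 162, Int.ofNat 20, Int.ofNat 0, Int.ofNat 0, Int.ofNat 0, Int.ofNat 0, Int.negSucc 11, Int.ofNat 704, Int.ofNat 14, Int.negSucc 96, Int.ofNat 0, Int.negSucc 484])) (ZT.node 1668 (ZT.leaf [Int.ofNat 4936, Int.ofNat 1743, Int.negSucc 1157, Int.ofNat 271, Int.ofNat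 5, Int.ofNat 607, Int.ofNat 67, Int.negSucc 135, Int.negSucc 3, Int.ofNat 0, Int.ofNat 0, Int.ofNat 0, Int.ofNat 10, Int.ofNat 6, Int.negSucc 645, Int.ofNat 3, Int.ofNat 110, Int.ofNat 0, Int.ofNat 536]) (ZT.node 1669 (ZT.leaf [Int.negSucc 15434, Int.negSucc 1285, Int.ofNat 3444, Int.negSucc 43, Int.ofNat 18, Int.negSucc 1210, Int.negSucc 115, Int.ofNat 39, Int.negSucc 93, Int.ofNat 0, Int.ofNat 0, Int.ofNat 0, Int.negSucc 60, Int.negSucc 8, Int.ofNat 675, Int.negSucc 43, Int.negSucc 130, Int.ofNat 0, Int.negSucc 1042]) (ZT.leaf [Int.ofNat 1281, Int.ofNat 731, Int.negSucc 253, Int.ofNat 92, Int.ofNat 1, Int.ofNat 149, Int.ofNat 26, Int.negSucc 44, Int.negSucc 9, Int.ofNat 0, Int.ofNat 0, Int.ofNat 0, Int.ofNat 10, Int.ofNat 5, Int.negSucc 222, Int.negSucc 3, Int.ofNat 24, Int.ofNat 0, Int.ofNat 151])))) (ZT.node 1673 (ZT.node 1671 (ZT.leaf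 [Int.negSucc 2625, Int.negSucc 918, Int.ofNat 650, Int.negSucc 165, Int.negSucc 4, Int.negSucc 354, Int.negSucc 41, Int.ofNat 83, Int.ofNat 0, Int.ofNat 0, Int.ofNat 0, Int.ofNat 0, Int.ofNat 0, Int.negSucc 0, Int.ofNat 342, Int.ofNat 0, Int.negSucc 46, Int.ofNat 0, Int.negSucc 298]) (ZT.node 1672 (ZT.leaf []) (ZT.leaf [Int.ofNat 539, Int.ofNat 161, Int.negSucc 126, Int.ofNat 26, Int.ofNat 0, Int.ofNat 59, Int.ofNat 3, Int.negSucc 9, Int.ofNat 2, Int.ofNat 1, Int.ofNat 0, Int.ofNat 0, Int.ofNat 1, Int.ofNat 1, Int.negSucc 46, Int.ofNat 0, Int.ofNat 12, Int.ofNat 0, Int.ofNat 51]))) (ZT.node 1674 (ZT.leaf [Int.ofNat 2077, Int.ofNat 673, Int.negSucc 478, Int.ofNat 95, Int.ofNat 0, Int.ofNat 238, Int.ofNat 18, Int.negSucc 38, Int.ofNat 2, Int.ofNat 0, Int.ofNat 0, Int.ofNat 0, Int.ofNat 7, Int.ofNat 2, Int.negSucc 227, Int.ofNat 2, Int.ofNat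 44, Int.ofNat 0, Int.ofNat 212]) (ZT.node 1675 (ZT.leaf [Int.ofNat 15659, Int.ofNat 1271, Int.negSucc 3474, Int.ofNat 33, Int.negSucc 17, Int.ofNat 1205, Int.ofNat 119, Int.negSucc 34, Int.ofNat 94, Int.ofNat 0, Int.ofNat 0, Int.ofNat 0, Int.ofNat 64, Int.ofNat 9, Int.negSucc 702, Int.ofNat 46, Int.ofNat 129, Int.ofNat 0, Int.ofNat 1045]) (ZT.leaf [Int.negSucc 57, Int.ofNat 7, Int.ofNat 10, Int.ofNat 4, Int.ofNat 1, Int.ofNat 0, Int.ofNat 1, Int.negSucc 4, Int.negSucc 1, Int.ofNat 0, Int.ofNat 0, Int.ofNat 0, Int.negSucc 0, Int.ofNat 0, Int.ofNat 0, Int.negSucc 0, Int.ofNat 1, Int.ofNat 0, Int.negSucc 0]))))) (ZT.node 1681 (ZT.node 1678 (ZT.node 1677 (ZT.leaf [Int.ofNat 235, Int.ofNat 208, Int.negSucc 38, Int.ofNat 30, Int.negSucc 0, Int.ofNat 33, Int.ofNat 11, Int.negSucc 11, Int.negSucc 5, Int.negSucc 0, Int.ofNat 0, Int.ofNat 0, Int.ofNat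 3, Int.negSucc 0, Int.negSucc 77, Int.ofNat 0, Int.negSucc 0, Int.ofNat 0, Int.ofNat 33]) (ZT.leaf [Int.negSucc 27, Int.ofNat 8, Int.negSucc 0, Int.ofNat 5, Int.ofNat 1, Int.ofNat 4, Int.ofNat 1, Int.negSucc 3, Int.ofNat 0, Int.ofNat 1, Int.ofNat 0, Int.ofNat 0, Int.negSucc 0, Int.ofNat 0, Int.ofNat 1, Int.negSucc 0, Int.ofNat 1, Int.ofNat 0, Int.ofNat 2])) (ZT.node 1679 (ZT.leaf [Int.negSucc 1612, Int.negSucc 946, Int.ofNat 371, Int.negSucc 152, Int.negSucc 1, Int.negSucc 237, Int.negSucc 38, Int.ofNat 79, Int.ofNat 15, Int.ofNat 0, Int.ofNat 0, Int.ofNat 0, Int.negSucc 2, Int.negSucc 1, Int.ofNat 330, Int.ofNat 2, Int.negSucc 36, Int.ofNat 0, Int.negSucc 219]) (ZT.node 1680 (ZT.leaf []) (ZT.leaf [])))) (ZT.node 1684 (ZT.node 1682 (ZT.leaf [Int.ofNat 907, Int.negSucc 109, Int.negSucc 188, Int.negSucc 43, Int.negSucc 5, Int.ofNat 37, Int.ofNat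 1, Int.ofNat 11, Int.ofNat 7, Int.ofNat 0, Int.ofNat 0, Int.ofNat 0, Int.ofNat 8, Int.ofNat 0, Int.ofNat 41, Int.ofNat 4, Int.ofNat 2, Int.ofNat 0, Int.ofNat 38]) (ZT.node 1683 (ZT.leaf [Int.ofNat 929, Int.ofNat 327, Int.negSucc 224, Int.ofNat 51, Int.ofNat 0, Int.ofNat 121, Int.ofNat 9, Int.negSucc 20, Int.ofNat 1, Int.ofNat 0, Int.ofNat 0, Int.ofNat 0, Int.ofNat 3, Int.ofNat 1, Int.negSucc 123, Int.ofNat 1, Int.ofNat 21, Int.ofNat 0, Int.ofNat 105]) (ZT.leaf [Int.ofNat 429, Int.ofNat 211, Int.negSucc 99, Int.ofNat 34, Int.ofNat 1, Int.ofNat 60, Int.ofNat 7, Int.negSucc 13, Int.negSucc 0, Int.ofNat 0, Int.ofNat 0, Int.ofNat 0, Int.ofNat 1, Int.ofNat 1, Int.negSucc 66, Int.negSucc 0, Int.ofNat 7, Int.ofNat 0, Int.ofNat 52]))) (ZT.node 1685 (ZT.leaf []) (ZT.node 1686 (ZT.leaf [Int.ofNat 616, Int.ofNat 380, Int.negSucc 154, Int.ofNat 66, Int.ofNat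 1, Int.ofNat 98, Int.ofNat 10, Int.negSucc 30, Int.negSucc 4, Int.ofNat 0, Int.ofNat 0, Int.ofNat 0, Int.ofNat 1, Int.ofNat 2, Int.negSucc 122, Int.negSucc 1, Int.ofNat 22, Int.ofNat 0, Int.ofNat 90]) (ZT.leaf [Int.ofNat 3, Int.ofNat 1])))))) (ZT.node 1698 (ZT.node 1692 (ZT.node 1689 (ZT.node 1688 (ZT.leaf []) (ZT.leaf [Int.ofNat 0, Int.ofNat 1])) (ZT.node 1690 (ZT.leaf []) (ZT.node 1691 (ZT.leaf []) (ZT.leaf [Int.negSucc 214, Int.negSucc 73, Int.ofNat 61, Int.negSucc 16, Int.ofNat 0, Int.negSucc 35, Int.negSucc 5, Int.ofNat 14, Int.ofNat 1, Int.negSucc 0, Int.ofNat 0, Int.ofNat 0, Int.ofNat 1, Int.ofNat 1, Int.ofNat 40, Int.negSucc 0, Int.negSucc 7, Int.ofNat 0, Int.negSucc 30])))) (ZT.node 1695 (ZT.node 1693 (ZT.leaf [Int.ofNat 600, Int.ofNat 323, Int.negSucc 131, Int.ofNat 48, Int.ofNat 1, Int.ofNat 86, Int.ofNat 17, Int.negSucc 32, Int.negSucc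 5, Int.ofNat 0, Int.ofNat 0, Int.ofNat 0, Int.ofNat 0, Int.ofNat 1, Int.negSucc 122, Int.ofNat 0, Int.ofNat 15, Int.ofNat 0, Int.ofNat 81]) (ZT.node 1694 (ZT.leaf [Int.ofNat 2171, Int.ofNat 999, Int.negSucc 525, Int.ofNat 172, Int.ofNat 5, Int.ofNat 299, Int.ofNat 30, Int.negSucc 82, Int.negSucc 7, Int.ofNat 0, Int.ofNat 0, Int.ofNat 0, Int.ofNat 2, Int.ofNat 3, Int.negSucc 353, Int.negSucc 1, Int.ofNat 58, Int.ofNat 0, Int.ofNat 267]) (ZT.leaf [Int.negSucc 0]))) (ZT.node 1696 (ZT.leaf []) (ZT.node 1697 (ZT.leaf [Int.ofNat 902, Int.ofNat 580, Int.negSucc 211, Int.ofNat 95, Int.ofNat 2, Int.ofNat 140, Int.ofNat 22, Int.negSucc 47, Int.negSucc 8, Int.ofNat 0, Int.ofNat 0, Int.ofNat 0, Int.ofNat 2, Int.ofNat 2, Int.negSucc 196, Int.negSucc 2, Int.ofNat 23, Int.ofNat 0, Int.ofNat 130]) (ZT.leaf [Int.negSucc 492, Int.negSucc 280, Int.ofNat 104,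 Int.negSucc 39, Int.ofNat 0, Int.negSucc 68, Int.negSucc 13, Int.ofNat 26, Int.ofNat 4, Int.ofNat 0, Int.ofNat 0, Int.ofNat 0, Int.negSucc 0, Int.negSucc 1, Int.ofNat 105, Int.ofNat 1, Int.negSucc 11, Int.ofNat 0, Int.negSucc 65]))))) (ZT.node 1704 (ZT.node 1701 (ZT.node 1699 (ZT.leaf [Int.negSucc 3429, Int.negSucc 1446, Int.ofNat 797, Int.negSucc 228, Int.negSucc 4, Int.negSucc 446, Int.negSucc 61, Int.ofNat 123, Int.ofNat 11, Int.ofNat 0, Int.ofNat 0, Int.ofNat 0, Int.negSucc 3, Int.negSucc 3, Int.ofNat 563, Int.ofNat 0, Int.negSucc 78, Int.ofNat 0, Int.negSucc 401]) (ZT.node 1700 (ZT.leaf [Int.negSucc 0]) (ZT.leaf [Int.ofNat 0, Int.ofNat 0, Int.ofNat 0, Int.ofNat 0, Int.ofNat 0, Int.ofNat 0, Int.ofNat 0, Int.ofNat 0, Int.ofNat 0, Int.ofNat 0, Int.ofNat 0, Int.ofNat 0, Int.ofNat 1]))) (ZT.node 1702 (ZT.leaf [Int.ofNat 5917, Int.ofNat 3510,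 Int.negSucc 1357, Int.ofNat 563, Int.ofNat 15, Int.ofNat 876, Int.ofNat 125, Int.negSucc 270, Int.negSucc 43, Int.ofNat 0, Int.ofNat 0, Int.ofNat 1, Int.ofNat 14, Int.ofNat 16, Int.negSucc 1163, Int.negSucc 16, Int.ofNat 153, Int.ofNat 1, Int.ofNat 806]) (ZT.node 1703 (ZT.leaf []) (ZT.leaf [Int.ofNat 99, Int.ofNat 25, Int.negSucc 27, Int.ofNat 7, Int.ofNat 0, Int.ofNat 14, Int.ofNat 0, Int.negSucc 2, Int.ofNat 1, Int.ofNat 0, Int.ofNat 0, Int.ofNat 0, Int.ofNat 0, Int.ofNat 0, Int.negSucc 4, Int.ofNat 0, Int.ofNat 2, Int.ofNat 0, Int.ofNat 10])))) (ZT.node 1707 (ZT.node 1705 (ZT.leaf []) (ZT.node 1706 (ZT.leaf [Int.negSucc 7012, Int.negSucc 3184, Int.ofNat 1690, Int.negSucc 540, Int.negSucc 12, Int.negSucc 985, Int.negSucc 112, Int.ofNat 259, Int.ofNat 18, Int.ofNat 0, Int.ofNat 0, Int.ofNat 0, Int.negSucc 5, Int.negSucc 10, Int.ofNat 1154,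 Int.ofNat 6, Int.negSucc 163, Int.ofNat 0, Int.negSucc 863]) (ZT.leaf [Int.negSucc 7, Int.negSucc 0, Int.ofNat 2, Int.ofNat 0, Int.ofNat 0, Int.negSucc 0, Int.ofNat 0, Int.ofNat 0, Int.ofNat 0, Int.ofNat 0, Int.ofNat 0, Int.ofNat 0, Int.ofNat 0, Int.ofNat 0, Int.ofNat 0, Int.ofNat 0, Int.ofNat 0, Int.ofNat 0, Int.negSucc 0]))) (ZT.node 1708 (ZT.leaf [Int.negSucc 0, Int.ofNat 0, Int.ofNat 0, Int.ofNat 0, Int.ofNat 0, Int.ofNat 0, Int.ofNat 0, Int.ofNat 0, Int.ofNat 0, Int.ofNat 0, Int.ofNat 0, Int.ofNat 0, Int.ofNat 0, Int.ofNat 0, Int.ofNat 0, Int.ofNat 0, Int.ofNat 0, Int.ofNat 0, Int.ofNat 1]) (ZT.node 1709 (ZT.leaf [Int.ofNat 39, Int.ofNat 12, Int.negSucc 8, Int.ofNat 2, Int.ofNat 0, Int.ofNat 4, Int.ofNat 0, Int.negSucc 0, Int.ofNat 0, Int.ofNat 0, Int.ofNat 0, Int.ofNat 0, Int.ofNat 0, Int.ofNat 0, Int.negSucc 3, Int.ofNat 0, Int.ofNat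 1, Int.ofNat 0, Int.ofNat 3]) (ZT.leaf [Int.ofNat 6945, Int.ofNat 4513, Int.negSucc 1644, Int.ofNat 760, Int.ofNat 21, Int.ofNat 1124, Int.ofNat 172, Int.negSucc 374, Int.negSucc 64, Int.ofNat 0, Int.ofNat 0, Int.ofNat 1, Int.ofNat 10, Int.ofNat 17, Int.negSucc 1549, Int.negSucc 23, Int.ofNat 178, Int.ofNat 1, Int.ofNat 1024])))))))) (ZT.node 1755 (ZT.node 1732 (ZT.node 1721 (ZT.node 1715 (ZT.node 1712 (ZT.node 1711 (ZT.leaf []) (ZT.leaf [Int.ofNat 1462, Int.ofNat 945, Int.negSucc 282, Int.ofNat 130, Int.ofNat 6, Int.ofNat 209, Int.ofNat 76, Int.negSucc 123, Int.negSucc 34, Int.ofNat 0, Int.ofNat 0, Int.ofNat 0, Int.negSucc 0, Int.negSucc 0, Int.negSucc 484, Int.ofNat 3, Int.ofNat 54, Int.ofNat 0, Int.ofNat 220])) (ZT.node 1713 (ZT.leaf [Int.ofNat 5424, Int.ofNat 2964, Int.negSucc 1229, Int.ofNat 465, Int.ofNat 10, Int.ofNat 772, Int.ofNat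 114, Int.negSucc 235, Int.negSucc 35, Int.ofNat 0, Int.ofNat 0, Int.ofNat 1, Int.ofNat 14, Int.ofNat 11, Int.negSucc 1002, Int.negSucc 10, Int.ofNat 129, Int.ofNat 0, Int.ofNat 709]) (ZT.node 1714 (ZT.leaf [Int.ofNat 2548, Int.ofNat 741, Int.negSucc 635, Int.ofNat 141, Int.ofNat 4, Int.ofNat 325, Int.ofNat 33, Int.negSucc 68, Int.ofNat 6, Int.ofNat 0, Int.ofNat 1, Int.ofNat 0, Int.negSucc 0, Int.ofNat 1, Int.negSucc 278, Int.ofNat 1, Int.ofNat 45, Int.ofNat 0, Int.ofNat 270]) (ZT.leaf [Int.ofNat 1926, Int.ofNat 1694, Int.negSucc 455, Int.ofNat 273, Int.ofNat 8, Int.ofNat 346, Int.ofNat 23, Int.negSucc 94, Int.negSucc 14, Int.ofNat 0, Int.ofNat 0, Int.ofNat 1, Int.ofNat 7, Int.ofNat 17, Int.negSucc 433, Int.negSucc 18, Int.ofNat 72, Int.ofNat 1, Int.ofNat 326])))) (ZT.node 1718 (ZT.node 1716 (ZT.leaf [Int.ofNat 3431, Int.ofNat 1353, Int.negSucc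 820, Int.ofNat 238, Int.ofNat 4, Int.ofNat 450, Int.ofNat 44, Int.negSucc 88, Int.ofNat 0, Int.ofNat 0, Int.ofNat 0, Int.ofNat 0, Int.ofNat 10, Int.ofNat 3, Int.negSucc 415, Int.negSucc 2, Int.ofNat 50, Int.ofNat 0, Int.ofNat 378]) (ZT.node 1717 (ZT.leaf [Int.ofNat 7024, Int.ofNat 3193, Int.negSucc 1691, Int.ofNat 541, Int.ofNat 13, Int.ofNat 988, Int.ofNat 113, Int.negSucc 258, Int.negSucc 17, Int.ofNat 0, Int.ofNat 0, Int.ofNat 0, Int.ofNat 6, Int.ofNat 11, Int.negSucc 1155, Int.negSucc 5, Int.ofNat 163, Int.ofNat 0, Int.ofNat 865]) (ZT.leaf []))) (ZT.node 1719 (ZT.leaf [Int.ofNat 1]) (ZT.node 1720 (ZT.leaf [Int.negSucc 1566, Int.negSucc 910, Int.ofNat 323, Int.negSucc 121, Int.negSucc 0, Int.negSucc 194, Int.negSucc 30, Int.ofNat 58, Int.ofNat 12, Int.ofNat 1, Int.ofNat 0, Int.ofNat 0, Int.negSucc 10, Int.negSucc 5, Int.ofNat 285, Int.ofNat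 5, Int.negSucc 30, Int.ofNat 0, Int.negSucc 191]) (ZT.leaf [Int.ofNat 668, Int.ofNat 226, Int.negSucc 150, Int.ofNat 31, Int.ofNat 1, Int.ofNat 70, Int.ofNat 0, Int.negSucc 5, Int.ofNat 2, Int.negSucc 0, Int.ofNat 0, Int.ofNat 0, Int.ofNat 4, Int.ofNat 2, Int.negSucc 46, Int.negSucc 0, Int.ofNat 9, Int.ofNat 0, Int.ofNat 60]))))) (ZT.node 1726 (ZT.node 1723 (ZT.node 1722 (ZT.leaf []) (ZT.leaf [Int.ofNat 7, Int.ofNat 3, Int.negSucc 1, Int.ofNat 0, Int.ofNat 0, Int.ofNat 1, Int.ofNat 0, Int.ofNat 0, Int.ofNat 0, Int.ofNat 0, Int.ofNat 0, Int.ofNat 0, Int.ofNat 0, Int.ofNat 0, Int.ofNat 0, Int.ofNat 0, Int.ofNat 0, Int.ofNat 0, Int.ofNat 0])) (ZT.node 1724 (ZT.leaf []) (ZT.node 1725 (ZT.leaf []) (ZT.leaf [])))) (ZT.node 1729 (ZT.node 1727 (ZT.leaf [Int.ofNat 569, Int.ofNat 214, Int.negSucc 142, Int.ofNat 40, Int.ofNat 1, Int.ofNat 78, Int.ofNat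 7, Int.negSucc 16, Int.ofNat 0, Int.ofNat 0, Int.ofNat 0, Int.ofNat 0, Int.ofNat 0, Int.ofNat 1, Int.negSucc 73, Int.ofNat 0, Int.ofNat 11, Int.ofNat 0, Int.ofNat 66]) (ZT.node 1728 (ZT.leaf []) (ZT.leaf [Int.ofNat 8, Int.negSucc 5, Int.negSucc 0, Int.negSucc 0, Int.ofNat 0, Int.ofNat 0, Int.ofNat 0, Int.ofNat 1, Int.ofNat 1, Int.ofNat 1, Int.ofNat 0, Int.ofNat 0, Int.ofNat 0, Int.ofNat 0, Int.ofNat 7, Int.ofNat 0, Int.ofNat 0, Int.ofNat 0, Int.negSucc 0]))) (ZT.node 1730 (ZT.leaf [Int.ofNat 91, Int.ofNat 27, Int.negSucc 22, Int.ofNat 4, Int.ofNat 0, Int.ofNat 10, Int.ofNat 0, Int.negSucc 0, Int.ofNat 0, Int.negSucc 0, Int.ofNat 0, Int.ofNat 0, Int.ofNat 1, Int.ofNat 0, Int.negSucc 10, Int.ofNat 0, Int.ofNat 1, Int.ofNat 0, Int.ofNat 9]) (ZT.node 1731 (ZT.leaf [Int.ofNat 479, Int.ofNat 368, Int.negSucc 109, Int.ofNat 61, Int.ofNat 1, Int.ofNat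 83, Int.ofNat 16, Int.negSucc 28, Int.negSucc 6, Int.ofNat 0, Int.ofNat 0, Int.ofNat 0, Int.ofNat 1, Int.ofNat 2, Int.negSucc 120, Int.negSucc 1, Int.ofNat 12, Int.ofNat 0, Int.ofNat 78]) (ZT.leaf [])))))) (ZT.node 1743 (ZT.node 1737 (ZT.node 1734 (ZT.node 1733 (ZT.leaf [Int.ofNat 930, Int.ofNat 528, Int.negSucc 211, Int.ofNat 85, Int.ofNat 0, Int.ofNat 127, Int.ofNat 19, Int.negSucc 35, Int.negSucc 6, Int.ofNat 0, Int.ofNat 0, Int.ofNat 0, Int.ofNat 5, Int.ofNat 2, Int.negSucc 184, Int.negSucc 0, Int.ofNat 16, Int.ofNat 0, Int.ofNat 122]) (ZT.leaf [Int.negSucc 10, Int.negSucc 3, Int.ofNat 1, Int.ofNat 0, Int.ofNat 1, Int.ofNat 0, Int.ofNat 0, Int.ofNat 1, Int.ofNat 0, Int.ofNat 0, Int.ofNat 0, Int.ofNat 0, Int.ofNat 0, Int.ofNat 0, Int.ofNat 0, Int.ofNat 0, Int.ofNat 0, Int.ofNat 0, Int.ofNat 0])) (ZT.node 1735 (ZT.leaf [Int.ofNat 0, Int.ofNat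 0, Int.ofNat 0, Int.ofNat 0, Int.ofNat 0, Int.ofNat 0, Int.ofNat 0, Int.ofNat 0, Int.ofNat 0, Int.ofNat 0, Int.ofNat 0, Int.ofNat 0, Int.ofNat 0, Int.ofNat 1]) (ZT.node 1736 (ZT.leaf []) (ZT.leaf [Int.ofNat 533, Int.negSucc 535, Int.negSucc 83, Int.negSucc 116, Int.negSucc 4, Int.negSucc 38, Int.ofNat 2, Int.ofNat 28, Int.ofNat 13, Int.ofNat 1, Int.ofNat 0, Int.ofNat 0, Int.negSucc 1, Int.negSucc 2, Int.ofNat 96, Int.ofNat 14, Int.negSucc 2, Int.ofNat 0, Int.negSucc 34])))) (ZT.node 1740 (ZT.node 1738 (ZT.leaf [Int.negSucc 4782, Int.negSucc 1699, Int.ofNat 1105, Int.negSucc 257, Int.negSucc 4, Int.negSucc 576, Int.negSucc 66, Int.ofNat 129, Int.ofNat 4, Int.ofNat 0, Int.ofNat 0, Int.ofNat 0, Int.negSucc 10, Int.negSucc 5, Int.ofNat 634, Int.negSucc 2, Int.negSucc 100, Int.ofNat 0, Int.negSucc 511]) (ZT.node 1739 (ZT.leaf [Int.ofNat 222,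 Int.ofNat 74, Int.negSucc 55, Int.ofNat 11, Int.ofNat 0, Int.ofNat 28, Int.ofNat 2, Int.negSucc 4, Int.negSucc 0, Int.ofNat 0, Int.ofNat 0, Int.ofNat 0, Int.ofNat 1, Int.ofNat 0, Int.negSucc 28, Int.ofNat 1, Int.ofNat 6, Int.ofNat 0, Int.ofNat 24]) (ZT.leaf [Int.ofNat 210, Int.ofNat 77, Int.negSucc 51, Int.ofNat 11, Int.ofNat 0, Int.ofNat 27, Int.ofNat 2, Int.negSucc 4, Int.negSucc 0, Int.ofNat 0, Int.ofNat 0, Int.ofNat 0, Int.ofNat 1, Int.ofNat 0, Int.negSucc 30, Int.ofNat 1, Int.ofNat 6, Int.ofNat 0, Int.ofNat 23]))) (ZT.node 1741 (ZT.leaf []) (ZT.node 1742 (ZT.leaf []) (ZT.leaf [Int.ofNat 22, Int.ofNat 6, Int.negSucc 2, Int.negSucc 0, Int.ofNat 0, Int.ofNat 0, Int.ofNat 0, Int.ofNat 1, Int.ofNat 0, Int.ofNat 0, Int.ofNat 0, Int.ofNat 0, Int.ofNat 0, Int.ofNat 0, Int.negSucc 0, Int.ofNat 0, Int.ofNat 0, Int.ofNat 0, Int.ofNat 1]))))) (ZT.node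 1749 (ZT.node 1746 (ZT.node 1744 (ZT.leaf [Int.ofNat 25044, Int.ofNat 12107, Int.negSucc 5869, Int.ofNat 1970, Int.ofNat 55, Int.ofNat 3500, Int.ofNat 427, Int.negSucc 986, Int.negSucc 107, Int.ofNat 0, Int.negSucc 0, Int.ofNat 1, Int.ofNat 36, Int.ofNat 40, Int.negSucc 4148, Int.negSucc 31, Int.ofNat 638, Int.ofNat 1, Int.ofNat 3116]) (ZT.node 1745 (ZT.leaf [Int.negSucc 0]) (ZT.leaf [Int.ofNat 41, Int.ofNat 33, Int.ofNat 2, Int.negSucc 0, Int.ofNat 0, Int.negSucc 1, Int.ofNat 2, Int.ofNat 1, Int.negSucc 1, Int.ofNat 0, Int.ofNat 0, Int.ofNat 0, Int.ofNat 2, Int.ofNat 0, Int.negSucc 11, Int.ofNat 0, Int.negSucc 0, Int.ofNat 0, Int.ofNat 1]))) (ZT.node 1747 (ZT.leaf [Int.ofNat 15, Int.ofNat 11, Int.ofNat 1, Int.negSucc 0, Int.ofNat 0, Int.negSucc 0, Int.ofNat 0, Int.ofNat 1, Int.ofNat 0, Int.ofNat 0, Int.ofNat 0, Int.ofNat 0, Int.ofNat 0,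 Int.ofNat 0, Int.negSucc 2, Int.negSucc 0, Int.ofNat 0, Int.ofNat 0, Int.ofNat 0]) (ZT.node 1748 (ZT.leaf [Int.negSucc 0, Int.negSucc 0]) (ZT.leaf [])))) (ZT.node 1752 (ZT.node 1750 (ZT.leaf [Int.negSucc 3, Int.negSucc 2, Int.ofNat 0, Int.ofNat 0, Int.ofNat 0, Int.ofNat 0, Int.ofNat 0, Int.ofNat 0, Int.ofNat 0, Int.ofNat 0, Int.ofNat 0, Int.ofNat 0, Int.ofNat 0, Int.ofNat 0, Int.ofNat 1]) (ZT.node 1751 (ZT.leaf [Int.ofNat 76, Int.ofNat 20, Int.negSucc 23, Int.ofNat 7, Int.ofNat 0, Int.ofNat 12, Int.ofNat 0, Int.negSucc 3, Int.ofNat 0, Int.ofNat 0, Int.ofNat 0, Int.ofNat 0, Int.ofNat 0, Int.ofNat 0, Int.negSucc 2, Int.ofNat 0, Int.ofNat 3, Int.ofNat 0, Int.ofNat 9]) (ZT.leaf [Int.negSucc 97, Int.negSucc 23, Int.ofNat 28, Int.negSucc 6, Int.ofNat 0, Int.negSucc 13, Int.ofNat 0, Int.ofNat 3, Int.negSucc 0, Int.ofNat 0, Int.ofNat 0, Int.ofNat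 0, Int.ofNat 0, Int.ofNat 0, Int.ofNat 5, Int.ofNat 0, Int.negSucc 1, Int.ofNat 0, Int.negSucc 9]))) (ZT.node 1753 (ZT.leaf []) (ZT.node 1754 (ZT.leaf [Int.ofNat 544, Int.ofNat 307, Int.negSucc 146, Int.ofNat 60, Int.ofNat 2, Int.ofNat 94, Int.ofNat 6, Int.negSucc 27, Int.negSucc 1, Int.ofNat 0, Int.ofNat 0, Int.ofNat 0, Int.negSucc 0, Int.ofNat 1, Int.negSucc 103, Int.negSucc 0, Int.ofNat 19, Int.ofNat 0, Int.ofNat 80]) (ZT.leaf [Int.negSucc 3025, Int.negSucc 154, Int.ofNat 632, Int.ofNat 17, Int.negSucc 0, Int.negSucc 181, Int.negSucc 30, Int.ofNat 19, Int.negSucc 6, Int.ofNat 0, Int.ofNat 0, Int.ofNat 0, Int.negSucc 10, Int.ofNat 6, Int.ofNat 165, Int.negSucc 11, Int.negSucc 39, Int.ofNat 1, Int.negSucc 177]))))))) (ZT.node 1777 (ZT.node 1766 (ZT.node 1760 (ZT.node 1757 (ZT.node 1756 (ZT.leaf [Int.ofNat 1819, Int.ofNat 953, Int.negSucc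 433, Int.ofNat 160, Int.ofNat 3, Int.ofNat 273, Int.ofNat 37, Int.negSucc 73, Int.negSucc 8, Int.ofNat 0, Int.ofNat 0, Int.ofNat 0, Int.ofNat 4, Int.ofNat 4, Int.negSucc 340, Int.negSucc 3, Int.ofNat 41, Int.ofNat 0, Int.ofNat 241]) (ZT.leaf [Int.negSucc 1361, Int.negSucc 1039, Int.ofNat 315, Int.negSucc 166, Int.negSucc 0, Int.negSucc 243, Int.negSucc 40, Int.ofNat 81, Int.ofNat 14, Int.ofNat 0, Int.ofNat 0, Int.ofNat 0, Int.negSucc 3, Int.negSucc 4, Int.ofNat 340, Int.ofNat 6, Int.negSucc 34, Int.ofNat 0, Int.negSucc 221])) (ZT.node 1758 (ZT.leaf [Int.ofNat 872, Int.negSucc 854, Int.negSucc 133, Int.negSucc 175, Int.negSucc 3, Int.negSucc 108, Int.negSucc 19, Int.ofNat 78, Int.ofNat 23, Int.ofNat 0, Int.ofNat 0, Int.ofNat 0, Int.ofNat 9, Int.negSucc 7, Int.ofNat 225, Int.ofNat 15, Int.negSucc 13, Int.ofNat 0, Int.negSucc 87]) (ZT.node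 1759 (ZT.leaf [Int.negSucc 2153, Int.negSucc 1008, Int.ofNat 498, Int.negSucc 158, Int.negSucc 4, Int.negSucc 290, Int.negSucc 50, Int.ofNat 97, Int.ofNat 16, Int.ofNat 0, Int.ofNat 0, Int.ofNat 0, Int.negSucc 1, Int.negSucc 1, Int.ofNat 390, Int.ofNat 3, Int.negSucc 53, Int.ofNat 1, Int.negSucc 265]) (ZT.leaf [])))) (ZT.node 1763 (ZT.node 1761 (ZT.leaf []) (ZT.node 1762 (ZT.leaf [Int.negSucc 2571, Int.negSucc 954, Int.ofNat 598, Int.negSucc 159, Int.negSucc 1, Int.negSucc 309, Int.negSucc 27, Int.ofNat 70, Int.ofNat 2, Int.ofNat 0, Int.ofNat 0, Int.ofNat 0, Int.negSucc 7, Int.ofNat 0, Int.ofNat 328, Int.negSucc 0, Int.negSucc 55, Int.ofNat 0, Int.negSucc 274]) (ZT.leaf [Int.negSucc 4231, Int.negSucc 1478, Int.ofNat 1068, Int.negSucc 279, Int.negSucc 12, Int.negSucc 544, Int.negSucc 37, Int.ofNat 119, Int.ofNat 7, Int.negSucc 0, Int.ofNat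 1, Int.ofNat 0, Int.negSucc 6, Int.ofNat 8, Int.ofNat 519, Int.negSucc 6, Int.negSucc 95, Int.ofNat 0, Int.negSucc 462]))) (ZT.node 1764 (ZT.leaf []) (ZT.node 1765 (ZT.leaf [Int.ofNat 606, Int.ofNat 147, Int.negSucc 145, Int.ofNat 24, Int.ofNat 0, Int.ofNat 64, Int.ofNat 1, Int.negSucc 5, Int.ofNat 3, Int.ofNat 0, Int.ofNat 0, Int.ofNat 0, Int.ofNat 2, Int.ofNat 1, Int.negSucc 35, Int.ofNat 0, Int.ofNat 9, Int.ofNat 0, Int.ofNat 54]) (ZT.leaf [Int.negSucc 1092, Int.negSucc 939, Int.ofNat 202, Int.negSucc 129, Int.ofNat 2, Int.negSucc 189, Int.negSucc 37, Int.ofNat 46, Int.ofNat 11, Int.ofNat 1, Int.negSucc 0, Int.ofNat 0, Int.negSucc 11, Int.negSucc 10, Int.ofNat 289, Int.ofNat 6, Int.negSucc 19, Int.ofNat 0, Int.negSucc 174]))))) (ZT.node 1771 (ZT.node 1768 (ZT.node 1767 (ZT.leaf [Int.ofNat 237, Int.ofNat 50, Int.negSucc 54, Int.ofNat 9,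 Int.ofNat 0, Int.ofNat 26, Int.ofNat 2, Int.ofNat 3, Int.ofNat 2, Int.ofNat 0, Int.ofNat 0, Int.ofNat 0, Int.ofNat 2, Int.ofNat 0, Int.negSucc 8, Int.ofNat 0, Int.ofNat 0, Int.ofNat 0, Int.ofNat 20]) (ZT.leaf [Int.ofNat 1741, Int.ofNat 453, Int.negSucc 437, Int.ofNat 90, Int.ofNat 4, Int.ofNat 207, Int.ofNat 8, Int.negSucc 29, Int.ofNat 7, Int.ofNat 0, Int.ofNat 0, Int.ofNat 0, Int.ofNat 1, Int.ofNat 1, Int.negSucc 164, Int.ofNat 1, Int.ofNat 32, Int.ofNat 0, Int.ofNat 169])) (ZT.node 1769 (ZT.leaf [Int.ofNat 6819, Int.ofNat 4556, Int.negSucc 1663, Int.ofNat 787, Int.ofNat 23, Int.ofNat 1152, Int.ofNat 134, Int.negSucc 336, Int.negSucc 48, Int.ofNat 0, Int.ofNat 0, Int.ofNat 1, Int.ofNat 9, Int.ofNat 26, Int.negSucc 1481, Int.negSucc 24, Int.ofNat 199, Int.ofNat 1, Int.ofNat 1023]) (ZT.node 1770 (ZT.leaf []) (ZT.leaf [Int.ofNat 438, Int.ofNat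 206, Int.negSucc 100, Int.ofNat 34, Int.ofNat 1, Int.ofNat 60, Int.ofNat 6, Int.negSucc 13, Int.negSucc 0, Int.ofNat 0, Int.ofNat 0, Int.ofNat 0, Int.ofNat 1, Int.ofNat 1, Int.negSucc 65, Int.negSucc 0, Int.ofNat 7, Int.ofNat 0, Int.ofNat 52])))) (ZT.node 1774 (ZT.node 1772 (ZT.leaf [Int.ofNat 37, Int.ofNat 79, Int.negSucc 5, Int.ofNat 12, Int.ofNat 0, Int.ofNat 7, Int.ofNat 4, Int.negSucc 6, Int.negSucc 2, Int.ofNat 0, Int.ofNat 0, Int.ofNat 0, Int.ofNat 1, Int.ofNat 1, Int.negSucc 28, Int.negSucc 0, Int.ofNat 4, Int.ofNat 0, Int.ofNat 12]) (ZT.node 1773 (ZT.leaf [Int.negSucc 50, Int.negSucc 3, Int.ofNat 11, Int.ofNat 0, Int.ofNat 0, Int.negSucc 2, Int.ofNat 1, Int.negSucc 0, Int.negSucc 0, Int.ofNat 0, Int.ofNat 0, Int.ofNat 0, Int.ofNat 0, Int.ofNat 0, Int.ofNat 1, Int.ofNat 0, Int.negSucc 1, Int.ofNat 0, Int.negSucc 1]) (ZT.leaf [Int.negSucc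 1027, Int.negSucc 539, Int.ofNat 239, Int.negSucc 88, Int.negSucc 1, Int.negSucc 145, Int.negSucc 18, Int.ofNat 36, Int.ofNat 3, Int.ofNat 0, Int.ofNat 0, Int.ofNat 0, Int.negSucc 2, Int.negSucc 2, Int.ofNat 171, Int.ofNat 3, Int.negSucc 17, Int.ofNat 0, Int.negSucc 129]))) (ZT.node 1775 (ZT.leaf [Int.negSucc 429, Int.negSucc 198, Int.ofNat 100, Int.negSucc 30, Int.negSucc 0, Int.negSucc 58, Int.negSucc 4, Int.ofNat 13, Int.ofNat 1, Int.ofNat 1, Int.ofNat 0, Int.ofNat 0, Int.negSucc 0, Int.negSucc 0, Int.ofNat 62, Int.ofNat 1, Int.negSucc 7, Int.ofNat 0, Int.negSucc 50]) (ZT.node 1776 (ZT.leaf []) (ZT.leaf [Int.negSucc 0])))))) (ZT.node 1788 (ZT.node 1782 (ZT.node 1779 (ZT.node 1778 (ZT.leaf [Int.negSucc 709, Int.negSucc 359, Int.ofNat 168, Int.negSucc 60, Int.negSucc 1, Int.negSucc 101, Int.negSucc 11, Int.ofNat 26, Int.ofNat 2, Int.ofNat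 0, Int.ofNat 0, Int.ofNat 0, Int.negSucc 0, Int.negSucc 1, Int.ofNat 115, Int.ofNat 2, Int.negSucc 12, Int.ofNat 0, Int.negSucc 88]) (ZT.leaf [Int.ofNat 1544, Int.ofNat 1181, Int.negSucc 428, Int.ofNat 226, Int.ofNat 8, Int.ofNat 314, Int.ofNat 24, Int.negSucc 91, Int.negSucc 9, Int.ofNat 0, Int.ofNat 0, Int.ofNat 0, Int.negSucc 2, Int.ofNat 10, Int.negSucc 404, Int.negSucc 9, Int.ofNat 65, Int.ofNat 0, Int.ofNat 271])) (ZT.node 1780 (ZT.leaf [Int.ofNat 361, Int.negSucc 96, Int.negSucc 78, Int.negSucc 26, Int.negSucc 0, Int.ofNat 9, Int.negSucc 9, Int.ofNat 17, Int.ofNat 9, Int.ofNat 0, Int.ofNat 0, Int.ofNat 0, Int.ofNat 2, Int.ofNat 1, Int.ofNat 62, Int.ofNat 0, Int.ofNat 6, Int.ofNat 0, Int.ofNat 0]) (ZT.node 1781 (ZT.leaf []) (ZT.leaf [Int.negSucc 0])))) (ZT.node 1785 (ZT.node 1783 (ZT.leaf [Int.ofNat 156, Int.ofNat 40, Int.negSucc 42,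 Int.ofNat 9, Int.ofNat 0, Int.ofNat 19, Int.ofNat 0, Int.negSucc 3, Int.ofNat 1, Int.ofNat 0, Int.ofNat 0, Int.ofNat 0, Int.ofNat 0, Int.ofNat 1, Int.negSucc 10, Int.ofNat 0, Int.ofNat 5, Int.ofNat 0, Int.ofNat 16]) (ZT.node 1784 (ZT.leaf [Int.negSucc 382, Int.negSucc 114, Int.ofNat 90, Int.negSucc 17, Int.ofNat 0, Int.negSucc 42, Int.negSucc 1, Int.ofNat 7, Int.negSucc 0, Int.ofNat 0, Int.ofNat 0, Int.ofNat 0, Int.negSucc 0, Int.negSucc 0, Int.ofNat 34, Int.ofNat 0, Int.negSucc 6, Int.ofNat 0, Int.negSucc 36]) (ZT.leaf [Int.negSucc 0]))) (ZT.node 1786 (ZT.leaf [Int.negSucc 14, Int.negSucc 1, Int.ofNat 6, Int.negSucc 1, Int.ofNat 0, Int.negSucc 1, Int.ofNat 0, Int.ofNat 1, Int.ofNat 0, Int.ofNat 0, Int.ofNat 0, Int.ofNat 0, Int.ofNat 0, Int.ofNat 0, Int.ofNat 1, Int.ofNat 0, Int.negSucc 1, Int.ofNat 0, Int.negSucc 1]) (ZT.node 1787 (ZT.leaf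 [Int.negSucc 0]) (ZT.leaf [Int.negSucc 25322, Int.negSucc 12230, Int.ofNat 5921, Int.negSucc 1984, Int.negSucc 55, Int.negSucc 3502, Int.negSucc 419, Int.ofNat 981, Int.ofNat 108, Int.negSucc 0, Int.ofNat 1, Int.negSucc 0, Int.negSucc 39, Int.negSucc 41, Int.ofNat 4179, Int.ofNat 33, Int.negSucc 649, Int.negSucc 0, Int.negSucc 3130]))))) (ZT.node 1794 (ZT.node 1791 (ZT.node 1789 (ZT.leaf [Int.negSucc 27166, Int.negSucc 12781, Int.ofNat 6347, Int.negSucc 2072, Int.negSucc 57, Int.negSucc 3738, Int.negSucc 460, Int.ofNat 1043, Int.ofNat 109, Int.negSucc 1, Int.ofNat 1, Int.negSucc 0, Int.negSucc 36, Int.negSucc 41, Int.ofNat 4405, Int.ofNat 31, Int.negSucc 678, Int.negSucc 0, Int.negSucc 3322]) (ZT.node 1790 (ZT.leaf [Int.ofNat 12, Int.negSucc 4, Int.negSucc 2, Int.ofNat 0, Int.ofNat 0, Int.ofNat 0, Int.ofNat 0, Int.ofNat 1, Int.ofNat 1, Int.ofNat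 1, Int.ofNat 0, Int.ofNat 0, Int.ofNat 0, Int.ofNat 0, Int.ofNat 2, Int.ofNat 0, Int.ofNat 0, Int.ofNat 0, Int.ofNat 0]) (ZT.leaf []))) (ZT.node 1792 (ZT.leaf [Int.ofNat 0, Int.ofNat 1]) (ZT.node 1793 (ZT.leaf []) (ZT.leaf [Int.ofNat 1932, Int.ofNat 1835, Int.negSucc 524, Int.ofNat 351, Int.ofNat 10, Int.ofNat 432, Int.ofNat 36, Int.negSucc 141, Int.negSucc 19, Int.ofNat 0, Int.ofNat 0, Int.ofNat 0, Int.negSucc 4, Int.ofNat 4, Int.negSucc 561, Int.negSucc 13, Int.ofNat 81, Int.ofNat 0, Int.ofNat 372])))) (ZT.node 1797 (ZT.node 1795 (ZT.leaf [Int.negSucc 7, Int.ofNat 10, Int.ofNat 2, Int.ofNat 1, Int.ofNat 0, Int.ofNat 0, Int.ofNat 1, Int.negSucc 0, Int.negSucc 0, Int.ofNat 0, Int.ofNat 0, Int.ofNat 0, Int.ofNat 0, Int.ofNat 0, Int.negSucc 6, Int.ofNat 0, Int.ofNat 0, Int.ofNat 0, Int.ofNat 1]) (ZT.node 1796 (ZT.leaf [Int.ofNat 5157, Int.negSucc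 359, Int.negSucc 1039, Int.negSucc 183, Int.negSucc 11, Int.ofNat 219, Int.ofNat 28, Int.ofNat 38, Int.ofNat 33, Int.ofNat 0, Int.ofNat 0, Int.ofNat 0, Int.ofNat 31, Int.negSucc 1, Int.negSucc 23, Int.ofNat 29, Int.ofNat 50, Int.ofNat 0, Int.ofNat 216]) (ZT.leaf [Int.negSucc 5152, Int.ofNat 346, Int.ofNat 1038, Int.ofNat 183, Int.ofNat 12, Int.negSucc 218, Int.negSucc 28, Int.negSucc 36, Int.negSucc 31, Int.ofNat 0, Int.ofNat 0, Int.ofNat 0, Int.negSucc 30, Int.ofNat 2, Int.ofNat 31, Int.negSucc 28, Int.negSucc 49, Int.ofNat 0, Int.negSucc 216]))) (ZT.node 1798 (ZT.leaf [Int.ofNat 1315, Int.ofNat 729, Int.negSucc 318, Int.ofNat 122, Int.ofNat 2, Int.ofNat 200, Int.ofNat 29, Int.negSucc 64, Int.negSucc 9, Int.ofNat 0, Int.ofNat 0, Int.ofNat 0, Int.ofNat 2, Int.ofNat 2, Int.negSucc 261, Int.negSucc 1, Int.ofNat 35, Int.ofNat 0, Int.ofNat 183])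 (ZT.node 1799 (ZT.leaf [Int.negSucc 333, Int.negSucc 244, Int.ofNat 79, Int.negSucc 41, Int.negSucc 0, Int.negSucc 49, Int.negSucc 1, Int.ofNat 11, Int.ofNat 1, Int.ofNat 0, Int.ofNat 0, Int.ofNat 0, Int.negSucc 0, Int.negSucc 1, Int.ofNat 62, Int.ofNat 2, Int.negSucc 8, Int.ofNat 0, Int.negSucc 45]) (ZT.leaf []))))))))))

noncomputable def labT_5 : ZT := (ZT.node 1980 (ZT.node 1890 (ZT.node 1845 (ZT.node 1822 (ZT.node 1811 (ZT.node 1805 (ZT.node 1802 (ZT.node 1801 (ZT.leaf [Int.negSucc 1311, Int.negSucc 713, Int.ofNat 319, Int.negSucc 119, Int.negSucc 1, Int.negSucc 197, Int.negSucc 28, Int.ofNat 63, Int.ofNat 9, Int.negSucc 0, Int.ofNat 0, Int.ofNat 0, Int.negSucc 0, Int.negSucc 1, Int.ofNat 257, Int.ofNat 2, Int.negSucc 33, Int.ofNat 0, Int.negSucc 181]) (ZT.leaf [Int.ofNat 527, Int.ofNat 160, Int.negSucc 135, Int.ofNat 31, Int.ofNat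 0, Int.ofNat 60, Int.negSucc 1, Int.negSucc 7, Int.ofNat 4, Int.ofNat 0, Int.ofNat 0, Int.ofNat 0, Int.ofNat 1, Int.ofNat 2, Int.negSucc 45, Int.ofNat 0, Int.ofNat 16, Int.ofNat 0, Int.ofNat 54])) (ZT.node 1803 (ZT.leaf [Int.negSucc 7, Int.ofNat 108, Int.negSucc 3, Int.ofNat 21, Int.ofNat 1, Int.ofNat 18, Int.ofNat 9, Int.negSucc 14, Int.negSucc 5, Int.ofNat 1, Int.ofNat 0, Int.ofNat 0, Int.negSucc 0, Int.negSucc 0, Int.negSucc 57, Int.negSucc 1, Int.ofNat 4, Int.ofNat 0, Int.ofNat 19]) (ZT.node 1804 (ZT.leaf [Int.ofNat 454, Int.ofNat 447, Int.negSucc 124, Int.ofNat 84, Int.ofNat 2, Int.ofNat 112, Int.ofNat 12, Int.negSucc 31, Int.negSucc 3, Int.ofNat 0, Int.ofNat 0, Int.ofNat 0, Int.negSucc 1, Int.ofNat 4, Int.negSucc 148, Int.negSucc 3, Int.ofNat 14, Int.ofNat 0, Int.ofNat 93]) (ZT.leaf [Int.negSucc 94, Int.negSucc 19, Int.ofNat 29, Int.negSucc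 6, Int.ofNat 0, Int.negSucc 13, Int.negSucc 0, Int.ofNat 3, Int.negSucc 0, Int.ofNat 0, Int.ofNat 0, Int.ofNat 0, Int.ofNat 1, Int.ofNat 0, Int.ofNat 7, Int.ofNat 0, Int.negSucc 1, Int.ofNat 0, Int.negSucc 10])))) (ZT.node 1808 (ZT.node 1806 (ZT.leaf []) (ZT.node 1807 (ZT.leaf []) (ZT.leaf [Int.ofNat 7015, Int.ofNat 4163, Int.negSucc 1657, Int.ofNat 697, Int.ofNat 20, Int.ofNat 1111, Int.ofNat 155, Int.negSucc 357, Int.negSucc 56, Int.ofNat 2, Int.negSucc 0, Int.ofNat 0, Int.ofNat 0, Int.ofNat 12, Int.negSucc 1430, Int.negSucc 14, Int.ofNat 195, Int.ofNat 0, Int.ofNat 983]))) (ZT.node 1809 (ZT.leaf [Int.ofNat 95, Int.ofNat 33, Int.negSucc 20, Int.ofNat 4, Int.ofNat 0, Int.ofNat 10, Int.ofNat 0, Int.ofNat 0, Int.ofNat 0, Int.ofNat 0, Int.ofNat 0, Int.ofNat 0, Int.ofNat 1, Int.ofNat 0, Int.negSucc 10, Int.ofNat 0, Int.ofNat 2, Int.ofNat 0,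 Int.ofNat 9]) (ZT.node 1810 (ZT.leaf [Int.negSucc 79, Int.negSucc 27, Int.ofNat 19, Int.negSucc 4, Int.ofNat 0, Int.negSucc 9, Int.ofNat 0, Int.ofNat 1, Int.ofNat 0, Int.ofNat 0, Int.ofNat 0, Int.ofNat 0, Int.negSucc 0, Int.ofNat 0, Int.ofNat 10, Int.ofNat 0, Int.negSucc 1, Int.ofNat 0, Int.negSucc 7]) (ZT.leaf []))))) (ZT.node 1816 (ZT.node 1813 (ZT.node 1812 (ZT.leaf [Int.ofNat 252, Int.ofNat 84, Int.negSucc 57, Int.ofNat 14, Int.ofNat 1, Int.ofNat 21, Int.ofNat 1, Int.negSucc 2, Int.negSucc 0, Int.ofNat 0, Int.ofNat 0, Int.ofNat 0, Int.ofNat 2, Int.ofNat 0, Int.negSucc 33, Int.ofNat 0, Int.ofNat 4, Int.ofNat 0, Int.ofNat 22]) (ZT.leaf [Int.negSucc 363, Int.negSucc 28, Int.ofNat 73, Int.ofNat 2, Int.ofNat 0, Int.negSucc 17, Int.ofNat 1, Int.negSucc 8, Int.negSucc 2, Int.ofNat 0, Int.ofNat 0, Int.ofNat 0, Int.negSucc 3, Int.ofNat 0, Int.ofNat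 2, Int.negSucc 1, Int.negSucc 1, Int.ofNat 0, Int.negSucc 16])) (ZT.node 1814 (ZT.leaf [Int.ofNat 903, Int.ofNat 1468, Int.negSucc 266, Int.ofNat 271, Int.ofNat 10, Int.ofNat 306, Int.ofNat 42, Int.negSucc 121, Int.negSucc 26, Int.ofNat 0, Int.ofNat 0, Int.ofNat 0, Int.negSucc 4, Int.ofNat 11, Int.negSucc 494, Int.negSucc 13, Int.ofNat 63, Int.ofNat 0, Int.ofNat 270]) (ZT.node 1815 (ZT.leaf [Int.negSucc 15924, Int.negSucc 3012, Int.ofNat 3491, Int.negSucc 317, Int.negSucc 6, Int.negSucc 1443, Int.negSucc 183, Int.ofNat 238, Int.negSucc 14, Int.negSucc 1, Int.ofNat 1, Int.ofNat 0, Int.negSucc 58, Int.negSucc 0, Int.ofNat 1299, Int.negSucc 39, Int.negSucc 266, Int.ofNat 0, Int.negSucc 1298]) (ZT.leaf [Int.negSucc 1153, Int.negSucc 534, Int.ofNat 271, Int.negSucc 88, Int.negSucc 2, Int.negSucc 156, Int.negSucc 18, Int.ofNat 40, Int.ofNat 4,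 Int.ofNat 0, Int.ofNat 0, Int.ofNat 0, Int.negSucc 1, Int.negSucc 2, Int.ofNat 186, Int.ofNat 2, Int.negSucc 26, Int.ofNat 0, Int.negSucc 140])))) (ZT.node 1819 (ZT.node 1817 (ZT.leaf [Int.negSucc 1109, Int.negSucc 538, Int.ofNat 257, Int.negSucc 87, Int.negSucc 2, Int.negSucc 152, Int.negSucc 18, Int.ofNat 40, Int.ofNat 5, Int.ofNat 0, Int.ofNat 0, Int.ofNat 0, Int.negSucc 1, Int.negSucc 2, Int.ofNat 189, Int.ofNat 2, Int.negSucc 25, Int.ofNat 0, Int.negSucc 137]) (ZT.node 1818 (ZT.leaf [Int.ofNat 18955, Int.ofNat 4243, Int.negSucc 4218, Int.ofNat 554, Int.ofNat 11, Int.ofNat 1833, Int.ofNat 180, Int.negSucc 304, Int.ofNat 29, Int.ofNat 1, Int.ofNat 0, Int.ofNat 0, Int.ofNat 56, Int.negSucc 0, Int.negSucc 1634, Int.ofNat 37, Int.ofNat 349, Int.ofNat 0, Int.ofNat 1617]) (ZT.leaf [Int.ofNat 46, Int.ofNat 1, Int.negSucc 2, Int.negSucc 3, Int.negSucc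 0, Int.ofNat 0, Int.negSucc 0, Int.ofNat 4, Int.ofNat 1, Int.ofNat 0, Int.ofNat 0, Int.ofNat 0, Int.ofNat 1, Int.ofNat 0, Int.negSucc 1, Int.ofNat 1, Int.ofNat 0, Int.ofNat 0, Int.ofNat 0]))) (ZT.node 1820 (ZT.leaf []) (ZT.node 1821 (ZT.leaf [Int.negSucc 2, Int.negSucc 3, Int.ofNat 0, Int.ofNat 0, Int.ofNat 0, Int.ofNat 0, Int.ofNat 0, Int.ofNat 0, Int.ofNat 0, Int.ofNat 0, Int.ofNat 0, Int.ofNat 0, Int.ofNat 0, Int.ofNat 0, Int.ofNat 1, Int.ofNat 0, Int.ofNat 0, Int.ofNat 0, Int.ofNat 0]) (ZT.leaf [])))))) (ZT.node 1833 (ZT.node 1827 (ZT.node 1824 (ZT.node 1823 (ZT.leaf [Int.ofNat 1, Int.ofNat 1]) (ZT.leaf [])) (ZT.node 1825 (ZT.leaf [Int.ofNat 7, Int.ofNat 1, Int.negSucc 1, Int.ofNat 0, Int.ofNat 0, Int.ofNat 1, Int.ofNat 0, Int.ofNat 0, Int.ofNat 0, Int.ofNat 0, Int.ofNat 0, Int.ofNat 0, Int.ofNat 0, Int.ofNat 0, Int.ofNat 0, Int.ofNat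 0, Int.ofNat 0, Int.ofNat 0, Int.ofNat 1]) (ZT.node 1826 (ZT.leaf [Int.negSucc 1314, Int.negSucc 870, Int.ofNat 377, Int.negSucc 172, Int.ofNat 1, Int.negSucc 264, Int.negSucc 17, Int.ofNat 48, Int.negSucc 5, Int.negSucc 0, Int.ofNat 0, Int.ofNat 0, Int.negSucc 0, Int.negSucc 10, Int.ofNat 243, Int.ofNat 11, Int.negSucc 16, Int.ofNat 0, Int.negSucc 210]) (ZT.leaf [Int.ofNat 3])))) (ZT.node 1830 (ZT.node 1828 (ZT.leaf [Int.negSucc 173, Int.negSucc 54, Int.ofNat 48, Int.negSucc 14, Int.ofNat 0, Int.negSucc 31, Int.negSucc 2, Int.ofNat 9, Int.negSucc 0, Int.ofNat 0, Int.ofNat 0, Int.ofNat 0, Int.ofNat 2, Int.ofNat 0, Int.ofNat 7, Int.ofNat 1, Int.negSucc 6, Int.ofNat 0, Int.negSucc 21]) (ZT.node 1829 (ZT.leaf [Int.negSucc 0]) (ZT.leaf [Int.negSucc 2, Int.negSucc 2, Int.ofNat 1, Int.ofNat 0, Int.ofNat 0, Int.negSucc 0, Int.ofNat 0, Int.ofNat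 1, Int.ofNat 0, Int.ofNat 0, Int.ofNat 0, Int.ofNat 0, Int.ofNat 0, Int.ofNat 0, Int.ofNat 0, Int.ofNat 0, Int.ofNat 0, Int.ofNat 0, Int.ofNat 0]))) (ZT.node 1831 (ZT.leaf [Int.ofNat 321, Int.ofNat 75, Int.negSucc 81, Int.ofNat 16, Int.ofNat 0, Int.ofNat 38, Int.ofNat 0, Int.negSucc 4, Int.ofNat 3, Int.ofNat 1, Int.ofNat 0, Int.ofNat 0, Int.ofNat 0, Int.ofNat 1, Int.negSucc 18, Int.ofNat 0, Int.ofNat 6, Int.ofNat 0, Int.ofNat 30]) (ZT.node 1832 (ZT.leaf [Int.ofNat 2, Int.ofNat 0, Int.ofNat 0, Int.ofNat 0, Int.ofNat 0, Int.ofNat 0, Int.ofNat 1]) (ZT.leaf [Int.negSucc 4, Int.negSucc 1, Int.ofNat 0, Int.ofNat 1, Int.ofNat 0, Int.ofNat 0, Int.ofNat 0, Int.ofNat 0, Int.ofNat 0, Int.ofNat 0, Int.ofNat 0, Int.ofNat 0, Int.ofNat 0, Int.ofNat 0, Int.ofNat 2]))))) (ZT.node 1839 (ZT.node 1836 (ZT.node 1834 (ZT.leaf [Int.ofNat 351, Int.ofNat 88, Int.negSucc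 89, Int.ofNat 18, Int.ofNat 0, Int.ofNat 42, Int.ofNat 0, Int.negSucc 5, Int.ofNat 3, Int.ofNat 1, Int.ofNat 0, Int.ofNat 0, Int.ofNat 0, Int.ofNat 1, Int.negSucc 23, Int.ofNat 0, Int.ofNat 7, Int.ofNat 0, Int.ofNat 34]) (ZT.node 1835 (ZT.leaf [Int.ofNat 166, Int.ofNat 49, Int.negSucc 40, Int.ofNat 9, Int.ofNat 0, Int.ofNat 22, Int.ofNat 0, Int.negSucc 2, Int.ofNat 1, Int.ofNat 0, Int.ofNat 0, Int.ofNat 0, Int.ofNat 0, Int.ofNat 0, Int.negSucc 14, Int.ofNat 0, Int.ofNat 2, Int.ofNat 0, Int.ofNat 17]) (ZT.leaf [Int.negSucc 0]))) (ZT.node 1837 (ZT.leaf [Int.negSucc 0, Int.ofNat 0, Int.ofNat 0, Int.ofNat 0, Int.ofNat 0, Int.ofNat 0, Int.ofNat 0, Int.ofNat 0, Int.ofNat 0, Int.ofNat 1]) (ZT.node 1838 (ZT.leaf [Int.ofNat 167, Int.ofNat 48, Int.negSucc 40, Int.ofNat 9, Int.ofNat 0, Int.ofNat 22, Int.ofNat 1, Int.negSucc 2, Int.ofNat 1, Int.ofNat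 0, Int.ofNat 0, Int.ofNat 0, Int.ofNat 0, Int.ofNat 0, Int.negSucc 14, Int.ofNat 0, Int.ofNat 2, Int.ofNat 0, Int.ofNat 17]) (ZT.leaf [Int.ofNat 1593, Int.ofNat 700, Int.negSucc 369, Int.ofNat 113, Int.ofNat 3, Int.ofNat 204, Int.ofNat 25, Int.negSucc 55, Int.negSucc 5, Int.ofNat 0, Int.ofNat 0, Int.ofNat 0, Int.ofNat 3, Int.ofNat 2, Int.negSucc 252, Int.negSucc 0, Int.ofNat 39, Int.ofNat 0, Int.ofNat 186])))) (ZT.node 1842 (ZT.node 1840 (ZT.leaf []) (ZT.node 1841 (ZT.leaf []) (ZT.leaf [Int.ofNat 0, Int.ofNat 1]))) (ZT.node 1843 (ZT.leaf [Int.ofNat 78, Int.ofNat 7, Int.negSucc 22, Int.ofNat 4, Int.ofNat 0, Int.ofNat 10, Int.ofNat 0, Int.ofNat 0, Int.ofNat 1, Int.ofNat 0, Int.ofNat 0, Int.ofNat 0, Int.ofNat 0, Int.ofNat 0, Int.ofNat 0, Int.ofNat 1, Int.ofNat 2, Int.ofNat 0, Int.ofNat 8]) (ZT.node 1844 (ZT.leaf [Int.negSucc 144, Int.negSucc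 107, Int.ofNat 33, Int.negSucc 16, Int.ofNat 0, Int.negSucc 21, Int.negSucc 4, Int.ofNat 7, Int.ofNat 2, Int.ofNat 0, Int.ofNat 0, Int.ofNat 0, Int.negSucc 0, Int.negSucc 0, Int.ofNat 33, Int.ofNat 1, Int.negSucc 3, Int.ofNat 0, Int.negSucc 22]) (ZT.leaf []))))))) (ZT.node 1867 (ZT.node 1856 (ZT.node 1850 (ZT.node 1847 (ZT.node 1846 (ZT.leaf [Int.ofNat 1, Int.ofNat 1]) (ZT.leaf [Int.negSucc 25, Int.ofNat 16, Int.ofNat 10, Int.ofNat 0, Int.ofNat 0, Int.negSucc 2, Int.ofNat 1, Int.ofNat 0, Int.negSucc 1, Int.negSucc 0, Int.ofNat 0, Int.ofNat 0, Int.ofNat 1, Int.ofNat 0, Int.negSucc 10, Int.ofNat 0, Int.negSucc 0, Int.ofNat 0, Int.negSucc 0])) (ZT.node 1848 (ZT.leaf [Int.negSucc 37, Int.negSucc 6, Int.ofNat 11, Int.negSucc 1, Int.ofNat 0, Int.negSucc 3, Int.negSucc 0, Int.ofNat 1, Int.ofNat 0, Int.ofNat 0, Int.ofNat 0, Int.ofNat 0, Int.ofNat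 0, Int.ofNat 0, Int.ofNat 5, Int.ofNat 0, Int.negSucc 0, Int.ofNat 0, Int.negSucc 3]) (ZT.node 1849 (ZT.leaf [Int.negSucc 269, Int.negSucc 65, Int.ofNat 71, Int.negSucc 13, Int.ofNat 0, Int.negSucc 36, Int.negSucc 0, Int.ofNat 4, Int.negSucc 2, Int.ofNat 0, Int.ofNat 0, Int.ofNat 0, Int.ofNat 0, Int.negSucc 0, Int.ofNat 14, Int.ofNat 0, Int.negSucc 0, Int.ofNat 0, Int.negSucc 27]) (ZT.leaf [Int.ofNat 41, Int.ofNat 6, Int.negSucc 10, Int.ofNat 2, Int.ofNat 0, Int.ofNat 4, Int.ofNat 0, Int.negSucc 0, Int.ofNat 0, Int.ofNat 0, Int.ofNat 0, Int.ofNat 0, Int.ofNat 0, Int.ofNat 0, Int.negSucc 3, Int.ofNat 0, Int.ofNat 1, Int.ofNat 0, Int.ofNat 4])))) (ZT.node 1853 (ZT.node 1851 (ZT.leaf [Int.negSucc 9171, Int.negSucc 2761, Int.ofNat 2009, Int.negSucc 373, Int.negSucc 13, Int.negSucc 952, Int.negSucc 133, Int.ofNat 258, Int.ofNat 27, Int.negSucc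 0, Int.ofNat 1, Int.ofNat 0, Int.negSucc 18, Int.ofNat 6, Int.ofNat 1077, Int.negSucc 11, Int.negSucc 205, Int.ofNat 0, Int.negSucc 870]) (ZT.node 1852 (ZT.leaf [Int.negSucc 222, Int.negSucc 73, Int.ofNat 56, Int.negSucc 10, Int.ofNat 0, Int.negSucc 27, Int.negSucc 1, Int.ofNat 5, Int.ofNat 1, Int.ofNat 0, Int.ofNat 0, Int.ofNat 0, Int.negSucc 0, Int.ofNat 0, Int.ofNat 29, Int.negSucc 0, Int.negSucc 5, Int.ofNat 0, Int.negSucc 23]) (ZT.leaf [Int.negSucc 1091, Int.negSucc 593, Int.ofNat 263, Int.negSucc 102, Int.negSucc 2, Int.negSucc 162, Int.negSucc 22, Int.ofNat 38, Int.ofNat 6, Int.ofNat 0, Int.ofNat 0, Int.ofNat 0, Int.negSucc 4, Int.negSucc 1, Int.ofNat 192, Int.ofNat 1, Int.negSucc 17, Int.ofNat 0, Int.negSucc 144]))) (ZT.node 1854 (ZT.leaf [Int.negSucc 0]) (ZT.node 1855 (ZT.leaf [Int.negSucc 96, Int.negSucc 24, Int.ofNat 20, Int.negSucc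 1, Int.ofNat 0, Int.negSucc 9, Int.ofNat 1, Int.negSucc 0, Int.negSucc 0, Int.negSucc 0, Int.ofNat 0, Int.ofNat 0, Int.negSucc 0, Int.ofNat 0, Int.ofNat 4, Int.ofNat 0, Int.negSucc 2, Int.ofNat 0, Int.negSucc 7]) (ZT.leaf [Int.negSucc 2, Int.negSucc 3, Int.negSucc 0, Int.ofNat 0, Int.ofNat 0, Int.ofNat 0, Int.ofNat 0, Int.ofNat 0, Int.ofNat 0, Int.negSucc 0, Int.ofNat 0, Int.ofNat 0, Int.ofNat 0, Int.ofNat 0, Int.ofNat 0, Int.ofNat 0, Int.negSucc 1, Int.ofNat 0, Int.ofNat 0]))))) (ZT.node 1861 (ZT.node 1858 (ZT.node 1857 (ZT.leaf [Int.negSucc 0]) (ZT.leaf [Int.negSucc 2, Int.negSucc 0, Int.ofNat 0, Int.ofNat 0, Int.ofNat 0, Int.ofNat 0, Int.ofNat 0, Int.ofNat 0, Int.ofNat 0, Int.ofNat 0, Int.ofNat 0, Int.ofNat 0, Int.ofNat 0, Int.ofNat 0, Int.ofNat 0, Int.ofNat 0, Int.ofNat 1])) (ZT.node 1859 (ZT.leaf [Int.negSucc 0, Int.ofNat 0, Int.negSucc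 0, Int.ofNat 0, Int.ofNat 0, Int.ofNat 0, Int.ofNat 0, Int.ofNat 0, Int.ofNat 0, Int.negSucc 0, Int.ofNat 0, Int.ofNat 0, Int.ofNat 0, Int.ofNat 0, Int.ofNat 0, Int.ofNat 0, Int.negSucc 1, Int.ofNat 0, Int.ofNat 0]) (ZT.node 1860 (ZT.leaf []) (ZT.leaf [Int.negSucc 1687, Int.negSucc 1661, Int.ofNat 446, Int.negSucc 299, Int.negSucc 8, Int.negSucc 382, Int.negSucc 35, Int.ofNat 112, Int.ofNat 18, Int.ofNat 0, Int.ofNat 0, Int.ofNat 0, Int.ofNat 0, Int.negSucc 12, Int.ofNat 515, Int.ofNat 12, Int.negSucc 64, Int.ofNat 0, Int.negSucc 330])))) (ZT.node 1864 (ZT.node 1862 (ZT.leaf [Int.negSucc 114, Int.ofNat 9, Int.ofNat 30, Int.ofNat 1, Int.ofNat 1, Int.negSucc 5, Int.ofNat 2, Int.negSucc 3, Int.negSucc 2, Int.ofNat 0, Int.ofNat 0, Int.ofNat 0, Int.negSucc 0, Int.ofNat 0, Int.negSucc 1, Int.negSucc 0, Int.negSucc 1, Int.ofNat 0, Int.negSucc 5])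 (ZT.node 1863 (ZT.leaf []) (ZT.leaf [Int.negSucc 100, Int.negSucc 26, Int.ofNat 21, Int.negSucc 1, Int.ofNat 0, Int.negSucc 9, Int.ofNat 1, Int.negSucc 0, Int.negSucc 0, Int.ofNat 0, Int.ofNat 0, Int.ofNat 0, Int.negSucc 0, Int.ofNat 0, Int.ofNat 4, Int.ofNat 0, Int.negSucc 0, Int.ofNat 0, Int.negSucc 7]))) (ZT.node 1865 (ZT.leaf [Int.negSucc 513, Int.negSucc 289, Int.ofNat 136, Int.negSucc 55, Int.negSucc 1, Int.negSucc 84, Int.negSucc 5, Int.ofNat 27, Int.ofNat 3, Int.ofNat 0, Int.ofNat 0, Int.ofNat 0, Int.ofNat 1, Int.negSucc 0, Int.ofNat 99, Int.ofNat 1, Int.negSucc 19, Int.ofNat 0, Int.negSucc 73]) (ZT.node 1866 (ZT.leaf [Int.negSucc 48, Int.ofNat 2, Int.ofNat 14, Int.negSucc 0, Int.ofNat 0, Int.negSucc 3, Int.ofNat 0, Int.ofNat 0, Int.negSucc 0, Int.ofNat 0, Int.ofNat 0, Int.ofNat 0, Int.ofNat 0, Int.ofNat 0, Int.negSucc 2, Int.ofNat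 0, Int.negSucc 0, Int.ofNat 0, Int.negSucc 2]) (ZT.leaf [Int.negSucc 47, Int.ofNat 4, Int.ofNat 14, Int.negSucc 0, Int.ofNat 0, Int.negSucc 3, Int.ofNat 0, Int.ofNat 0, Int.negSucc 0, Int.ofNat 0, Int.ofNat 0, Int.ofNat 0, Int.ofNat 0, Int.ofNat 0, Int.negSucc 2, Int.ofNat 0, Int.negSucc 0, Int.ofNat 0, Int.negSucc 2])))))) (ZT.node 1878 (ZT.node 1872 (ZT.node 1869 (ZT.node 1868 (ZT.leaf [Int.negSucc 443, Int.negSucc 273, Int.ofNat 84, Int.negSucc 38, Int.negSucc 2, Int.negSucc 47, Int.negSucc 1, Int.ofNat 12, Int.negSucc 2, Int.ofNat 1, Int.negSucc 0, Int.ofNat 0, Int.ofNat 0, Int.negSucc 4, Int.ofNat 110, Int.ofNat 1, Int.negSucc 35, Int.ofNat 0, Int.negSucc 52]) (ZT.leaf [Int.negSucc 2, Int.negSucc 0])) (ZT.node 1870 (ZT.leaf []) (ZT.node 1871 (ZT.leaf [Int.ofNat 0, Int.ofNat 1]) (ZT.leaf [])))) (ZT.node 1875 (ZT.node 1873 (ZT.leaf [Int.ofNat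 492, Int.ofNat 335, Int.negSucc 145, Int.ofNat 65, Int.ofNat 0, Int.ofNat 106, Int.ofNat 16, Int.negSucc 37, Int.negSucc 4, Int.ofNat 0, Int.ofNat 0, Int.ofNat 0, Int.negSucc 1, Int.ofNat 0, Int.negSucc 122, Int.negSucc 0, Int.ofNat 15, Int.ofNat 0, Int.ofNat 92]) (ZT.node 1874 (ZT.leaf [Int.ofNat 538, Int.ofNat 356, Int.negSucc 134, Int.ofNat 65, Int.ofNat 2, Int.ofNat 92, Int.ofNat 14, Int.negSucc 24, Int.negSucc 3, Int.ofNat 0, Int.ofNat 0, Int.ofNat 0, Int.ofNat 2, Int.ofNat 1, Int.negSucc 106, Int.negSucc 1, Int.ofNat 8, Int.ofNat 0, Int.ofNat 81]) (ZT.leaf [Int.negSucc 7064, Int.negSucc 4577, Int.ofNat 1658, Int.negSucc 763, Int.negSucc 20, Int.negSucc 1128, Int.negSucc 175, Int.ofNat 373, Int.ofNat 68, Int.ofNat 0, Int.ofNat 0, Int.negSucc 0, Int.negSucc 13, Int.negSucc 16, Int.ofNat 1577, Int.ofNat 23, Int.negSucc 177, Int.negSucc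 0, Int.negSucc 1031]))) (ZT.node 1876 (ZT.leaf [Int.negSucc 3381, Int.negSucc 1440, Int.ofNat 787, Int.negSucc 228, Int.negSucc 4, Int.negSucc 443, Int.negSucc 62, Int.ofNat 124, Int.ofNat 12, Int.ofNat 0, Int.ofNat 0, Int.ofNat 0, Int.negSucc 3, Int.negSucc 3, Int.ofNat 562, Int.ofNat 0, Int.negSucc 76, Int.ofNat 0, Int.negSucc 399]) (ZT.node 1877 (ZT.leaf [Int.ofNat 19, Int.ofNat 5, Int.negSucc 2, Int.negSucc 0, Int.ofNat 0, Int.ofNat 0, Int.ofNat 0, Int.ofNat 1, Int.ofNat 0, Int.ofNat 0, Int.ofNat 0, Int.ofNat 0, Int.ofNat 0, Int.ofNat 0, Int.ofNat 1, Int.ofNat 0, Int.ofNat 0, Int.ofNat 0, Int.ofNat 1]) (ZT.leaf []))))) (ZT.node 1884 (ZT.node 1881 (ZT.node 1879 (ZT.leaf [Int.negSucc 1833, Int.negSucc 905, Int.ofNat 392, Int.negSucc 129, Int.negSucc 5, Int.negSucc 240, Int.negSucc 61, Int.ofNat 112, Int.ofNat 24, Int.ofNat 0, Int.ofNat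 0, Int.ofNat 0, Int.ofNat 1, Int.ofNat 1, Int.ofNat 442, Int.negSucc 1, Int.negSucc 56, Int.ofNat 0, Int.negSucc 235]) (ZT.node 1880 (ZT.leaf [Int.negSucc 52, Int.negSucc 122, Int.ofNat 1, Int.negSucc 15, Int.negSucc 0, Int.negSucc 9, Int.negSucc 4, Int.ofNat 8, Int.ofNat 5, Int.ofNat 0, Int.ofNat 0, Int.ofNat 0, Int.negSucc 1, Int.ofNat 0, Int.ofNat 51, Int.ofNat 1, Int.negSucc 5, Int.ofNat 0, Int.negSucc 14]) (ZT.leaf []))) (ZT.node 1882 (ZT.leaf []) (ZT.node 1883 (ZT.leaf [Int.ofNat 482, Int.ofNat 128, Int.negSucc 122, Int.ofNat 25, Int.ofNat 0, Int.ofNat 58, Int.ofNat 3, Int.negSucc 9, Int.ofNat 2, Int.ofNat 0, Int.ofNat 0, Int.negSucc 0, Int.ofNat 0, Int.ofNat 1, Int.negSucc 37, Int.ofNat 0, Int.ofNat 9, Int.ofNat 0, Int.ofNat 49]) (ZT.leaf [Int.negSucc 1, Int.ofNat 0, Int.ofNat 0, Int.ofNat 0, Int.ofNat 0, Int.ofNat 0, Int.ofNat 0,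 Int.ofNat 0, Int.ofNat 0, Int.ofNat 0, Int.ofNat 0, Int.ofNat 0, Int.ofNat 1])))) (ZT.node 1887 (ZT.node 1885 (ZT.leaf [Int.ofNat 626, Int.ofNat 223, Int.negSucc 151, Int.ofNat 37, Int.ofNat 1, Int.ofNat 79, Int.ofNat 7, Int.negSucc 15, Int.ofNat 0, Int.ofNat 0, Int.ofNat 0, Int.ofNat 0, Int.ofNat 1, Int.ofNat 1, Int.negSucc 71, Int.ofNat 0, Int.ofNat 11, Int.ofNat 0, Int.ofNat 68]) (ZT.node 1886 (ZT.leaf []) (ZT.leaf [Int.ofNat 1283, Int.ofNat 546, Int.negSucc 278, Int.ofNat 82, Int.ofNat 6, Int.ofNat 150, Int.ofNat 31, Int.negSucc 58, Int.negSucc 11, Int.ofNat 0, Int.ofNat 0, Int.negSucc 0, Int.ofNat 1, Int.negSucc 0, Int.negSucc 254, Int.negSucc 1, Int.ofNat 35, Int.negSucc 0, Int.ofNat 144]))) (ZT.node 1888 (ZT.leaf []) (ZT.node 1889 (ZT.leaf []) (ZT.leaf [])))))))) (ZT.node 1935 (ZT.node 1912 (ZT.node 1901 (ZT.node 1895 (ZT.node 1892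 (ZT.node 1891 (ZT.leaf [Int.ofNat 0, Int.ofNat 1]) (ZT.leaf [])) (ZT.node 1893 (ZT.leaf [Int.negSucc 0]) (ZT.node 1894 (ZT.leaf [Int.ofNat 23, Int.ofNat 4, Int.negSucc 3, Int.negSucc 0, Int.ofNat 0, Int.ofNat 0, Int.ofNat 0, Int.ofNat 1, Int.ofNat 0, Int.ofNat 0, Int.ofNat 0, Int.ofNat 0, Int.ofNat 1, Int.ofNat 0, Int.negSucc 1, Int.ofNat 0, Int.ofNat 0, Int.ofNat 0, Int.ofNat 1]) (ZT.leaf [])))) (ZT.node 1898 (ZT.node 1896 (ZT.leaf [Int.ofNat 1360, Int.ofNat 92, Int.negSucc 272, Int.negSucc 7, Int.negSucc 0, Int.ofNat 77, Int.ofNat 11, Int.negSucc 3, Int.ofNat 4, Int.ofNat 0, Int.ofNat 0, Int.ofNat 0, Int.ofNat 10, Int.negSucc 3, Int.negSucc 52, Int.ofNat 5, Int.ofNat 7, Int.negSucc 0, Int.ofNat 75]) (ZT.node 1897 (ZT.leaf [Int.negSucc 90, Int.ofNat 421, Int.negSucc 27, Int.ofNat 95, Int.ofNat 5, Int.ofNat 78, Int.ofNat 1, Int.negSucc 29,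 Int.negSucc 4, Int.ofNat 0, Int.ofNat 0, Int.ofNat 0, Int.negSucc 5, Int.ofNat 6, Int.negSucc 128, Int.negSucc 6, Int.ofNat 21, Int.ofNat 1, Int.ofNat 63]) (ZT.leaf [Int.ofNat 898, Int.negSucc 177, Int.negSucc 199, Int.negSucc 45, Int.negSucc 5, Int.ofNat 48, Int.ofNat 2, Int.ofNat 5, Int.ofNat 10, Int.ofNat 0, Int.ofNat 0, Int.ofNat 0, Int.ofNat 3, Int.negSucc 3, Int.ofNat 64, Int.ofNat 8, Int.ofNat 0, Int.negSucc 0, Int.ofNat 37]))) (ZT.node 1899 (ZT.leaf []) (ZT.node 1900 (ZT.leaf []) (ZT.leaf [Int.negSucc 1540, Int.negSucc 694, Int.ofNat 359, Int.negSucc 112, Int.negSucc 2, Int.negSucc 200, Int.negSucc 25, Int.ofNat 57, Int.ofNat 7, Int.ofNat 0, Int.ofNat 0, Int.ofNat 0, Int.negSucc 2, Int.negSucc 1, Int.ofNat 252, Int.ofNat 1, Int.negSucc 36, Int.ofNat 0, Int.negSucc 183]))))) (ZT.node 1906 (ZT.node 1903 (ZT.node 1902 (ZT.leaf [Int.negSucc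 2627, Int.negSucc 918, Int.ofNat 650, Int.negSucc 165, Int.negSucc 4, Int.negSucc 354, Int.negSucc 41, Int.ofNat 84, Int.ofNat 0, Int.ofNat 0, Int.ofNat 0, Int.ofNat 0, Int.ofNat 0, Int.negSucc 0, Int.ofNat 342, Int.ofNat 0, Int.negSucc 46, Int.ofNat 0, Int.negSucc 298]) (ZT.leaf [Int.negSucc 343, Int.negSucc 177, Int.ofNat 58, Int.negSucc 18, Int.ofNat 0, Int.negSucc 31, Int.negSucc 4, Int.ofNat 7, Int.ofNat 2, Int.ofNat 0, Int.ofNat 0, Int.ofNat 0, Int.negSucc 2, Int.ofNat 0, Int.ofNat 48, Int.ofNat 1, Int.negSucc 4, Int.ofNat 0, Int.negSucc 31])) (ZT.node 1904 (ZT.leaf [Int.ofNat 129, Int.negSucc 36, Int.negSucc 31, Int.negSucc 5, Int.ofNat 0, Int.ofNat 4, Int.negSucc 3, Int.ofNat 7, Int.ofNat 4, Int.ofNat 0, Int.ofNat 0, Int.ofNat 0, Int.ofNat 1, Int.ofNat 0, Int.ofNat 17, Int.ofNat 0, Int.ofNat 0, Int.ofNat 0, Int.ofNat 1]) (ZT.node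 1905 (ZT.leaf [Int.ofNat 491, Int.ofNat 281, Int.negSucc 103, Int.ofNat 40, Int.ofNat 0, Int.ofNat 69, Int.ofNat 14, Int.negSucc 25, Int.negSucc 3, Int.ofNat 0, Int.ofNat 0, Int.ofNat 0, Int.ofNat 1, Int.ofNat 2, Int.negSucc 104, Int.negSucc 0, Int.ofNat 12, Int.ofNat 0, Int.ofNat 66]) (ZT.leaf [])))) (ZT.node 1909 (ZT.node 1907 (ZT.leaf [Int.ofNat 2154, Int.ofNat 1010, Int.negSucc 497, Int.ofNat 159, Int.ofNat 5, Int.ofNat 291, Int.ofNat 51, Int.negSucc 96, Int.negSucc 15, Int.ofNat 0, Int.ofNat 0, Int.ofNat 0, Int.ofNat 2, Int.ofNat 2, Int.negSucc 389, Int.negSucc 2, Int.ofNat 54, Int.negSucc 0, Int.ofNat 266]) (ZT.node 1908 (ZT.leaf []) (ZT.leaf []))) (ZT.node 1910 (ZT.leaf [Int.ofNat 2553, Int.ofNat 744, Int.negSucc 635, Int.ofNat 141, Int.ofNat 4, Int.ofNat 325, Int.ofNat 33, Int.negSucc 68, Int.ofNat 6, Int.ofNat 0, Int.ofNat 0, Int.ofNat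 0, Int.negSucc 0, Int.ofNat 1, Int.negSucc 278, Int.ofNat 1, Int.ofNat 45, Int.ofNat 0, Int.ofNat 270]) (ZT.node 1911 (ZT.leaf []) (ZT.leaf [Int.negSucc 0])))))) (ZT.node 1923 (ZT.node 1917 (ZT.node 1914 (ZT.node 1913 (ZT.leaf [Int.ofNat 299, Int.ofNat 125, Int.negSucc 73, Int.ofNat 21, Int.ofNat 1, Int.ofNat 41, Int.ofNat 3, Int.negSucc 10, Int.negSucc 0, Int.negSucc 0, Int.ofNat 0, Int.ofNat 0, Int.ofNat 0, Int.ofNat 1, Int.negSucc 35, Int.negSucc 0, Int.ofNat 7, Int.ofNat 0, Int.ofNat 36]) (ZT.leaf [Int.negSucc 30, Int.negSucc 0, Int.ofNat 6, Int.ofNat 0, Int.ofNat 0, Int.negSucc 0, Int.ofNat 0, Int.negSucc 0, Int.negSucc 0, Int.negSucc 0, Int.ofNat 0, Int.ofNat 0, Int.ofNat 0, Int.ofNat 0, Int.negSucc 1, Int.ofNat 0, Int.ofNat 0, Int.ofNat 0, Int.negSucc 0])) (ZT.node 1915 (ZT.leaf [Int.negSucc 74, Int.negSucc 20, Int.ofNat 16, Int.negSucc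 2, Int.ofNat 0, Int.negSucc 6, Int.negSucc 0, Int.negSucc 0, Int.ofNat 0, Int.ofNat 0, Int.ofNat 0, Int.ofNat 0, Int.negSucc 0, Int.ofNat 0, Int.ofNat 4, Int.negSucc 0, Int.negSucc 0, Int.ofNat 0, Int.negSucc 6]) (ZT.node 1916 (ZT.leaf [Int.negSucc 0]) (ZT.leaf [Int.ofNat 79, Int.ofNat 21, Int.negSucc 16, Int.ofNat 3, Int.ofNat 0, Int.ofNat 7, Int.ofNat 1, Int.ofNat 1, Int.ofNat 0, Int.ofNat 0, Int.ofNat 0, Int.ofNat 0, Int.ofNat 1, Int.ofNat 0, Int.negSucc 3, Int.ofNat 1, Int.ofNat 1, Int.ofNat 0, Int.ofNat 7])))) (ZT.node 1920 (ZT.node 1918 (ZT.leaf [Int.negSucc 532, Int.negSucc 227, Int.ofNat 128, Int.negSucc 37, Int.negSucc 0, Int.negSucc 72, Int.negSucc 6, Int.ofNat 15, Int.ofNat 0, Int.ofNat 0, Int.ofNat 0, Int.ofNat 0, Int.negSucc 0, Int.negSucc 0, Int.ofNat 74, Int.ofNat 1, Int.negSucc 9, Int.ofNat 0, Int.negSucc 62]) (ZT.node 1919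 (ZT.leaf [Int.negSucc 0]) (ZT.leaf [Int.ofNat 908, Int.ofNat 391, Int.negSucc 198, Int.ofNat 54, Int.ofNat 1, Int.ofNat 108, Int.ofNat 8, Int.negSucc 15, Int.negSucc 0, Int.ofNat 0, Int.ofNat 0, Int.ofNat 0, Int.ofNat 6, Int.ofNat 2, Int.negSucc 134, Int.negSucc 0, Int.ofNat 22, Int.ofNat 0, Int.ofNat 100]))) (ZT.node 1921 (ZT.leaf [Int.negSucc 476, Int.negSucc 206, Int.ofNat 112, Int.negSucc 34, Int.negSucc 0, Int.negSucc 62, Int.negSucc 4, Int.ofNat 12, Int.ofNat 0, Int.ofNat 0, Int.ofNat 0, Int.ofNat 0, Int.negSucc 1, Int.negSucc 0, Int.ofNat 73, Int.ofNat 1, Int.negSucc 11, Int.ofNat 0, Int.negSucc 55]) (ZT.node 1922 (ZT.leaf [Int.ofNat 0, Int.ofNat 2, Int.ofNat 1]) (ZT.leaf [Int.negSucc 0]))))) (ZT.node 1929 (ZT.node 1926 (ZT.node 1924 (ZT.leaf [Int.negSucc 0, Int.negSucc 0]) (ZT.node 1925 (ZT.leaf [Int.ofNat 1, Int.negSucc 0, Int.negSucc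 0]) (ZT.leaf [Int.negSucc 0, Int.negSucc 1, Int.negSucc 0]))) (ZT.node 1927 (ZT.leaf [Int.negSucc 0]) (ZT.node 1928 (ZT.leaf [Int.ofNat 87, Int.ofNat 30, Int.negSucc 12, Int.ofNat 2, Int.ofNat 0, Int.ofNat 4, Int.ofNat 2, Int.ofNat 2, Int.negSucc 0, Int.ofNat 0, Int.ofNat 0, Int.ofNat 0, Int.ofNat 2, Int.ofNat 0, Int.negSucc 7, Int.ofNat 0, Int.ofNat 0, Int.ofNat 0, Int.ofNat 6]) (ZT.leaf [Int.negSucc 643, Int.negSucc 403, Int.ofNat 153, Int.negSucc 66, Int.negSucc 1, Int.negSucc 103, Int.negSucc 14, Int.ofNat 31, Int.ofNat 6, Int.ofNat 1, Int.ofNat 0, Int.ofNat 0, Int.negSucc 0, Int.negSucc 1, Int.ofNat 131, Int.ofNat 2, Int.negSucc 14, Int.ofNat 0, Int.negSucc 93])))) (ZT.node 1932 (ZT.node 1930 (ZT.leaf [Int.ofNat 196, Int.negSucc 26, Int.negSucc 0, Int.negSucc 22, Int.negSucc 0, Int.negSucc 16, Int.ofNat 7, Int.negSucc 0, Int.negSucc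 4, Int.negSucc 0, Int.ofNat 0, Int.ofNat 0, Int.ofNat 4, Int.negSucc 1, Int.ofNat 2, Int.ofNat 2, Int.ofNat 5, Int.ofNat 0, Int.negSucc 4]) (ZT.node 1931 (ZT.leaf [Int.negSucc 249, Int.negSucc 51, Int.ofNat 58, Int.negSucc 8, Int.ofNat 0, Int.negSucc 26, Int.negSucc 1, Int.negSucc 2, Int.negSucc 1, Int.ofNat 0, Int.ofNat 0, Int.ofNat 0, Int.negSucc 1, Int.ofNat 0, Int.ofNat 9, Int.ofNat 0, Int.ofNat 0, Int.ofNat 0, Int.negSucc 20]) (ZT.leaf [Int.negSucc 11, Int.negSucc 433, Int.ofNat 51, Int.negSucc 96, Int.negSucc 4, Int.negSucc 80, Int.ofNat 0, Int.ofNat 30, Int.ofNat 5, Int.ofNat 0, Int.negSucc 0, Int.ofNat 0, Int.ofNat 5, Int.negSucc 4, Int.ofNat 129, Int.ofNat 7, Int.negSucc 23, Int.negSucc 0, Int.negSucc 68]))) (ZT.node 1933 (ZT.leaf [Int.ofNat 485, Int.ofNat 286, Int.negSucc 97, Int.ofNat 39, Int.ofNat 1, Int.ofNat 56, Int.ofNat 10,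 Int.negSucc 16, Int.negSucc 4, Int.negSucc 0, Int.ofNat 1, Int.ofNat 0, Int.ofNat 3, Int.ofNat 2, Int.negSucc 89, Int.negSucc 1, Int.ofNat 10, Int.ofNat 0, Int.ofNat 60]) (ZT.node 1934 (ZT.leaf [Int.ofNat 126, Int.ofNat 5, Int.negSucc 35, Int.ofNat 6, Int.ofNat 0, Int.ofNat 13, Int.ofNat 0, Int.ofNat 0, Int.ofNat 2, Int.ofNat 0, Int.ofNat 1, Int.ofNat 0, Int.ofNat 0, Int.negSucc 0, Int.ofNat 7, Int.ofNat 0, Int.negSucc 0, Int.ofNat 0, Int.ofNat 9]) (ZT.leaf [Int.ofNat 555, Int.ofNat 238, Int.negSucc 127, Int.ofNat 38, Int.ofNat 1, Int.ofNat 71, Int.ofNat 9, Int.negSucc 12, Int.negSucc 1, Int.ofNat 0, Int.ofNat 0, Int.ofNat 0, Int.ofNat 3, Int.ofNat 1, Int.negSucc 84, Int.ofNat 1, Int.ofNat 10, Int.ofNat 0, Int.ofNat 64]))))))) (ZT.node 1957 (ZT.node 1946 (ZT.node 1940 (ZT.node 1937 (ZT.node 1936 (ZT.leaf [Int.negSucc 290, Int.ofNat 36, Int.ofNat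 83, Int.negSucc 1, Int.ofNat 1, Int.negSucc 23, Int.ofNat 14, Int.negSucc 19, Int.negSucc 13, Int.ofNat 0, Int.ofNat 0, Int.ofNat 0, Int.ofNat 1, Int.negSucc 2, Int.negSucc 74, Int.ofNat 2, Int.ofNat 10, Int.ofNat 0, Int.negSucc 4]) (ZT.leaf [Int.ofNat 19438, Int.ofNat 6380, Int.negSucc 4401, Int.ofNat 943, Int.ofNat 9, Int.ofNat 2181, Int.ofNat 254, Int.negSucc 442, Int.negSucc 3, Int.negSucc 0, Int.ofNat 1, Int.ofNat 0, Int.ofNat 67, Int.ofNat 21, Int.negSucc 2374, Int.ofNat 3, Int.ofNat 346, Int.ofNat 0, Int.ofNat 1953])) (ZT.node 1938 (ZT.leaf [Int.negSucc 11726, Int.negSucc 4842, Int.ofNat 2591, Int.negSucc 693, Int.negSucc 8, Int.negSucc 1432, Int.negSucc 228, Int.ofNat 402, Int.ofNat 60, Int.ofNat 0, Int.ofNat 0, Int.ofNat 0, Int.negSucc 44, Int.negSucc 8, Int.ofNat 1954, Int.negSucc 1, Int.negSucc 256, Int.ofNat 0, Int.negSucc 1328])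 (ZT.node 1939 (ZT.leaf [Int.negSucc 0]) (ZT.leaf [Int.negSucc 0])))) (ZT.node 1943 (ZT.node 1941 (ZT.leaf [Int.negSucc 483, Int.negSucc 280, Int.ofNat 101, Int.negSucc 38, Int.negSucc 0, Int.negSucc 67, Int.negSucc 13, Int.ofNat 26, Int.ofNat 4, Int.ofNat 0, Int.ofNat 0, Int.ofNat 0, Int.ofNat 0, Int.negSucc 1, Int.ofNat 105, Int.ofNat 1, Int.negSucc 11, Int.ofNat 0, Int.negSucc 64]) (ZT.node 1942 (ZT.leaf [Int.negSucc 4996, Int.negSucc 2626, Int.ofNat 1208, Int.negSucc 445, Int.negSucc 10, Int.negSucc 748, Int.negSucc 85, Int.ofNat 198, Int.ofNat 20, Int.ofNat 0, Int.ofNat 0, Int.ofNat 0, Int.negSucc 7, Int.negSucc 10, Int.ofNat 884, Int.ofNat 11, Int.negSucc 112, Int.ofNat 0, Int.negSucc 654]) (ZT.leaf [Int.ofNat 3604, Int.ofNat 1609, Int.negSucc 802, Int.ofNat 239, Int.ofNat 4, Int.ofNat 448, Int.ofNat 56, Int.negSucc 116, Int.negSucc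 14, Int.ofNat 0, Int.ofNat 0, Int.ofNat 0, Int.ofNat 15, Int.ofNat 3, Int.negSucc 565, Int.negSucc 0, Int.ofNat 81, Int.ofNat 0, Int.ofNat 412]))) (ZT.node 1944 (ZT.leaf [Int.negSucc 10381, Int.negSucc 6934, Int.ofNat 2739, Int.negSucc 1321, Int.negSucc 33, Int.negSucc 1926, Int.negSucc 196, Int.ofNat 550, Int.ofNat 51, Int.ofNat 1, Int.ofNat 0, Int.ofNat 0, Int.ofNat 9, Int.negSucc 21, Int.ofNat 2234, Int.ofNat 41, Int.negSucc 282, Int.ofNat 0, Int.negSucc 1623]) (ZT.node 1945 (ZT.leaf [Int.negSucc 1907, Int.negSucc 944, Int.ofNat 457, Int.negSucc 160, Int.negSucc 3, Int.negSucc 280, Int.negSucc 39, Int.ofNat 86, Int.ofNat 10, Int.ofNat 0, Int.ofNat 0, Int.ofNat 0, Int.negSucc 2, Int.negSucc 1, Int.ofNat 392, Int.ofNat 1, Int.negSucc 52, Int.ofNat 0, Int.negSucc 253]) (ZT.leaf []))))) (ZT.node 1951 (ZT.node 1948 (ZT.node 1947 (ZT.leaf [Int.negSucc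 2, Int.negSucc 2]) (ZT.leaf [])) (ZT.node 1949 (ZT.leaf [Int.negSucc 0]) (ZT.node 1950 (ZT.leaf []) (ZT.leaf [Int.negSucc 452, Int.negSucc 865, Int.ofNat 149, Int.negSucc 163, Int.negSucc 6, Int.negSucc 167, Int.negSucc 14, Int.ofNat 67, Int.ofNat 14, Int.ofNat 0, Int.ofNat 0, Int.ofNat 0, Int.ofNat 5, Int.negSucc 7, Int.ofNat 285, Int.ofNat 10, Int.negSucc 40, Int.ofNat 0, Int.negSucc 152])))) (ZT.node 1954 (ZT.node 1952 (ZT.leaf []) (ZT.node 1953 (ZT.leaf [Int.negSucc 2235, Int.negSucc 1021, Int.ofNat 516, Int.negSucc 160, Int.negSucc 4, Int.negSucc 299, Int.negSucc 49, Int.ofNat 95, Int.ofNat 15, Int.ofNat 0, Int.ofNat 0, Int.ofNat 0, Int.negSucc 2, Int.negSucc 1, Int.ofNat 394, Int.ofNat 3, Int.negSucc 51, Int.ofNat 0, Int.negSucc 273]) (ZT.leaf [Int.ofNat 2235, Int.ofNat 1022, Int.negSucc 515, Int.ofNat 161, Int.ofNat 5, Int.ofNat 300,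 Int.ofNat 50, Int.negSucc 94, Int.negSucc 14, Int.ofNat 0, Int.ofNat 0, Int.ofNat 0, Int.ofNat 3, Int.ofNat 2, Int.negSucc 393, Int.negSucc 2, Int.ofNat 52, Int.ofNat 0, Int.ofNat 274]))) (ZT.node 1955 (ZT.leaf [Int.ofNat 5497, Int.ofNat 3234, Int.negSucc 1256, Int.ofNat 512, Int.ofNat 13, Int.ofNat 820, Int.ofNat 139, Int.negSucc 273, Int.negSucc 47, Int.ofNat 0, Int.ofNat 0, Int.ofNat 0, Int.ofNat 11, Int.ofNat 12, Int.negSucc 1162, Int.negSucc 16, Int.ofNat 141, Int.ofNat 0, Int.ofNat 759]) (ZT.node 1956 (ZT.leaf [Int.ofNat 399, Int.ofNat 114, Int.negSucc 94, Int.ofNat 18, Int.ofNat 0, Int.ofNat 44, Int.ofNat 2, Int.negSucc 6, Int.ofNat 1, Int.ofNat 0, Int.ofNat 0, Int.ofNat 0, Int.ofNat 1, Int.ofNat 1, Int.negSucc 30, Int.ofNat 0, Int.ofNat 7, Int.ofNat 0, Int.ofNat 38]) (ZT.leaf [Int.negSucc 12, Int.negSucc 7, Int.ofNat 2, Int.ofNat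 0, Int.ofNat 0, Int.negSucc 1, Int.ofNat 0, Int.ofNat 0, Int.ofNat 0, Int.ofNat 0, Int.ofNat 0, Int.ofNat 0, Int.ofNat 0, Int.ofNat 0, Int.ofNat 2, Int.ofNat 0, Int.ofNat 1, Int.ofNat 0, Int.negSucc 0])))))) (ZT.node 1968 (ZT.node 1962 (ZT.node 1959 (ZT.node 1958 (ZT.leaf [Int.ofNat 128, Int.negSucc 1470, Int.negSucc 46, Int.negSucc 238, Int.negSucc 11, Int.negSucc 123, Int.negSucc 19, Int.ofNat 101, Int.ofNat 43, Int.ofNat 0, Int.ofNat 0, Int.ofNat 0, Int.negSucc 0, Int.negSucc 8, Int.ofNat 492, Int.ofNat 16, Int.negSucc 56, Int.ofNat 0, Int.negSucc 160]) (ZT.leaf [Int.negSucc 9331, Int.negSucc 3334, Int.ofNat 2190, Int.negSucc 540, Int.negSucc 9, Int.negSucc 1148, Int.negSucc 134, Int.ofNat 266, Int.ofNat 7, Int.ofNat 0, Int.ofNat 0, Int.ofNat 0, Int.negSucc 16, Int.negSucc 4, Int.ofNat 1271, Int.negSucc 5, Int.negSucc 184, Int.ofNat 0,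 Int.negSucc 1006])) (ZT.node 1960 (ZT.leaf [Int.negSucc 507, Int.negSucc 130, Int.ofNat 127, Int.negSucc 23, Int.ofNat 0, Int.negSucc 57, Int.negSucc 2, Int.ofNat 9, Int.negSucc 1, Int.ofNat 0, Int.ofNat 0, Int.ofNat 0, Int.negSucc 0, Int.negSucc 0, Int.ofNat 40, Int.ofNat 0, Int.negSucc 8, Int.ofNat 0, Int.negSucc 49]) (ZT.node 1961 (ZT.leaf [Int.negSucc 126, Int.negSucc 29, Int.ofNat 32, Int.negSucc 5, Int.ofNat 0, Int.negSucc 13, Int.ofNat 0, Int.ofNat 2, Int.negSucc 0, Int.ofNat 0, Int.ofNat 0, Int.ofNat 0, Int.ofNat 0, Int.ofNat 0, Int.ofNat 6, Int.ofNat 0, Int.negSucc 1, Int.ofNat 0, Int.negSucc 10]) (ZT.leaf [])))) (ZT.node 1965 (ZT.node 1963 (ZT.leaf [Int.negSucc 80, Int.negSucc 7, Int.ofNat 23, Int.negSucc 3, Int.ofNat 0, Int.negSucc 9, Int.ofNat 0, Int.ofNat 0, Int.negSucc 0, Int.ofNat 0, Int.ofNat 0, Int.ofNat 0, Int.ofNat 0,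 Int.ofNat 0, Int.ofNat 0, Int.negSucc 0, Int.negSucc 1, Int.ofNat 0, Int.negSucc 7]) (ZT.node 1964 (ZT.leaf []) (ZT.leaf [Int.ofNat 4780, Int.ofNat 1699, Int.negSucc 1104, Int.ofNat 258, Int.ofNat 5, Int.ofNat 577, Int.ofNat 67, Int.negSucc 128, Int.negSucc 3, Int.ofNat 0, Int.ofNat 0, Int.ofNat 0, Int.ofNat 11, Int.ofNat 6, Int.negSucc 633, Int.ofNat 3, Int.ofNat 101, Int.ofNat 0, Int.ofNat 512]))) (ZT.node 1966 (ZT.leaf []) (ZT.node 1967 (ZT.leaf []) (ZT.leaf [Int.negSucc 0, Int.ofNat 0, Int.ofNat 0, Int.ofNat 0, Int.ofNat 0, Int.ofNat 0, Int.ofNat 0, Int.ofNat 0, Int.ofNat 0, Int.ofNat 0, Int.ofNat 0, Int.ofNat 0, Int.ofNat 0, Int.ofNat 0, Int.ofNat 0, Int.ofNat 0, Int.ofNat 0, Int.ofNat 0, Int.ofNat 0]))))) (ZT.node 1974 (ZT.node 1971 (ZT.node 1969 (ZT.leaf []) (ZT.node 1970 (ZT.leaf [Int.negSucc 1271, Int.negSucc 1500, Int.ofNat 341,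 Int.negSucc 281, Int.negSucc 9, Int.negSucc 315, Int.negSucc 33, Int.ofNat 130, Int.ofNat 27, Int.ofNat 0, Int.ofNat 0, Int.ofNat 0, Int.ofNat 5, Int.ofNat 0, Int.ofNat 469, Int.ofNat 12, Int.negSucc 70, Int.ofNat 0, Int.negSucc 280]) (ZT.leaf [Int.negSucc 10269, Int.negSucc 3982, Int.ofNat 2343, Int.negSucc 620, Int.negSucc 20, Int.negSucc 1261, Int.negSucc 162, Int.ofNat 356, Int.ofNat 39, Int.negSucc 0, Int.ofNat 1, Int.ofNat 0, Int.negSucc 11, Int.negSucc 0, Int.ofNat 1469, Int.negSucc 2, Int.negSucc 254, Int.ofNat 0, Int.negSucc 1130]))) (ZT.node 1972 (ZT.leaf []) (ZT.node 1973 (ZT.leaf [Int.negSucc 21, Int.ofNat 6, Int.ofNat 12, Int.negSucc 3, Int.ofNat 0, Int.negSucc 9, Int.negSucc 0, Int.ofNat 0, Int.negSucc 1, Int.ofNat 0, Int.ofNat 0, Int.ofNat 0, Int.ofNat 1, Int.ofNat 0, Int.negSucc 6, Int.ofNat 0, Int.ofNat 4, Int.ofNat 0, Int.negSucc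 2]) (ZT.leaf [])))) (ZT.node 1977 (ZT.node 1975 (ZT.leaf [Int.ofNat 5258, Int.ofNat 1642, Int.negSucc 1190, Int.ofNat 246, Int.ofNat 13, Int.ofNat 580, Int.ofNat 74, Int.negSucc 150, Int.negSucc 11, Int.negSucc 0, Int.ofNat 0, Int.ofNat 0, Int.ofNat 6, Int.negSucc 0, Int.negSucc 688, Int.ofNat 8, Int.ofNat 141, Int.ofNat 0, Int.ofNat 528]) (ZT.node 1976 (ZT.leaf [Int.ofNat 3, Int.ofNat 3, Int.ofNat 0, Int.ofNat 0, Int.ofNat 0, Int.ofNat 0, Int.ofNat 0, Int.ofNat 0, Int.ofNat 0, Int.ofNat 0, Int.ofNat 0, Int.ofNat 0, Int.ofNat 0, Int.ofNat 0, Int.ofNat 1]) (ZT.leaf []))) (ZT.node 1978 (ZT.leaf [Int.negSucc 27, Int.ofNat 6, Int.ofNat 5, Int.ofNat 3, Int.ofNat 0, Int.ofNat 0, Int.ofNat 1, Int.negSucc 1, Int.negSucc 0, Int.ofNat 0, Int.ofNat 0, Int.ofNat 0, Int.ofNat 0, Int.ofNat 0, Int.negSucc 5, Int.ofNat 0, Int.negSucc 0, Int.ofNat 0, Int.ofNat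 0]) (ZT.node 1979 (ZT.leaf [Int.negSucc 21, Int.negSucc 7, Int.ofNat 6, Int.negSucc 2, Int.ofNat 0, Int.negSucc 2, Int.ofNat 0, Int.ofNat 1, Int.ofNat 0, Int.ofNat 0, Int.ofNat 0, Int.ofNat 0, Int.ofNat 0, Int.ofNat 0, Int.ofNat 7, Int.ofNat 0, Int.negSucc 0, Int.ofNat 0, Int.negSucc 1]) (ZT.leaf [Int.negSucc 25430, Int.negSucc 12554, Int.ofNat 5913, Int.negSucc 2024, Int.negSucc 56, Int.negSucc 3536, Int.negSucc 446, Int.ofNat 1012, Int.ofNat 125, Int.negSucc 0, Int.ofNat 1, Int.negSucc 0, Int.negSucc 42, Int.negSucc 41, Int.ofNat 4315, Int.ofNat 31, Int.negSucc 654, Int.negSucc 0, Int.negSucc 3176]))))))))) (ZT.node 2070 (ZT.node 2025 (ZT.node 2002 (ZT.node 1991 (ZT.node 1985 (ZT.node 1982 (ZT.node 1981 (ZT.leaf [Int.ofNat 51, Int.ofNat 3, Int.negSucc 10, Int.ofNat 0, Int.ofNat 0, Int.ofNat 3, Int.negSucc 0, Int.ofNat 1, Int.ofNat 1, Int.ofNat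 0, Int.ofNat 0, Int.ofNat 0, Int.ofNat 0, Int.ofNat 0, Int.negSucc 0, Int.ofNat 0, Int.ofNat 2, Int.ofNat 0, Int.ofNat 2]) (ZT.leaf [])) (ZT.node 1983 (ZT.leaf []) (ZT.node 1984 (ZT.leaf [Int.negSucc 19, Int.ofNat 7, Int.ofNat 6, Int.ofNat 0, Int.ofNat 0, Int.negSucc 0, Int.ofNat 0, Int.negSucc 0, Int.negSucc 0, Int.negSucc 0, Int.ofNat 0, Int.ofNat 0, Int.ofNat 0, Int.ofNat 0, Int.negSucc 1, Int.ofNat 0, Int.ofNat 0, Int.ofNat 0, Int.negSucc 0]) (ZT.leaf [Int.negSucc 78, Int.ofNat 3, Int.ofNat 14, Int.ofNat 4, Int.ofNat 1, Int.negSucc 1, Int.ofNat 1, Int.negSucc 2, Int.negSucc 0, Int.ofNat 0, Int.ofNat 0, Int.ofNat 0, Int.negSucc 0, Int.ofNat 0, Int.negSucc 0, Int.negSucc 0, Int.ofNat 0, Int.ofNat 0, Int.negSucc 1])))) (ZT.node 1988 (ZT.node 1986 (ZT.leaf []) (ZT.node 1987 (ZT.leaf [Int.ofNat 35, Int.negSucc 7, Int.negSucc 5, Int.negSucc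 1, Int.ofNat 0, Int.ofNat 0, Int.negSucc 0, Int.ofNat 2, Int.ofNat 1, Int.ofNat 0, Int.ofNat 0, Int.ofNat 0, Int.ofNat 0, Int.negSucc 0, Int.ofNat 8, Int.ofNat 0, Int.ofNat 1, Int.ofNat 0, Int.ofNat 0]) (ZT.leaf [Int.ofNat 126, Int.ofNat 24, Int.negSucc 30, Int.ofNat 2, Int.ofNat 0, Int.ofNat 13, Int.negSucc 0, Int.ofNat 1, Int.ofNat 1, Int.ofNat 0, Int.ofNat 0, Int.ofNat 0, Int.ofNat 1, Int.ofNat 1, Int.negSucc 9, Int.ofNat 0, Int.ofNat 4, Int.ofNat 0, Int.ofNat 12]))) (ZT.node 1989 (ZT.leaf [Int.negSucc 2, Int.negSucc 2]) (ZT.node 1990 (ZT.leaf [Int.negSucc 28, Int.negSucc 4, Int.ofNat 6, Int.ofNat 0, Int.ofNat 0, Int.negSucc 1, Int.ofNat 0, Int.negSucc 0, Int.negSucc 0, Int.ofNat 0, Int.ofNat 0, Int.ofNat 0, Int.ofNat 0, Int.ofNat 0, Int.ofNat 4, Int.ofNat 0, Int.ofNat 1, Int.ofNat 0, Int.negSucc 0]) (ZT.leaf [Int.ofNat 2, Int.ofNat 2,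 Int.ofNat 0, Int.ofNat 0, Int.ofNat 0, Int.ofNat 0, Int.ofNat 0, Int.ofNat 0, Int.ofNat 0, Int.ofNat 0, Int.ofNat 0, Int.ofNat 0, Int.ofNat 0, Int.ofNat 0, Int.negSucc 0]))))) (ZT.node 1996 (ZT.node 1993 (ZT.node 1992 (ZT.leaf []) (ZT.leaf [])) (ZT.node 1994 (ZT.leaf [Int.ofNat 28, Int.ofNat 5, Int.negSucc 5, Int.ofNat 0, Int.ofNat 0, Int.ofNat 2, Int.ofNat 0, Int.ofNat 1, Int.ofNat 1, Int.ofNat 0, Int.ofNat 0, Int.ofNat 0, Int.ofNat 0, Int.ofNat 0, Int.negSucc 3, Int.ofNat 0, Int.negSucc 0, Int.ofNat 0, Int.ofNat 1]) (ZT.node 1995 (ZT.leaf []) (ZT.leaf [Int.negSucc 24, Int.negSucc 1, Int.ofNat 5, Int.ofNat 1, Int.ofNat 0, Int.ofNat 0, Int.ofNat 0, Int.negSucc 0, Int.ofNat 0, Int.ofNat 0, Int.ofNat 0, Int.ofNat 0, Int.negSucc 0, Int.ofNat 0, Int.ofNat 0, Int.ofNat 0, Int.ofNat 0, Int.ofNat 0, Int.ofNat 0])))) (ZT.node 1999 (ZT.node 1997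 (ZT.leaf [Int.negSucc 57, Int.negSucc 62, Int.ofNat 59, Int.negSucc 34, Int.ofNat 0, Int.negSucc 29, Int.ofNat 9, Int.negSucc 12, Int.negSucc 3, Int.ofNat 0, Int.ofNat 0, Int.ofNat 0, Int.negSucc 3, Int.ofNat 0, Int.negSucc 48, Int.ofNat 7, Int.ofNat 17, Int.ofNat 0, Int.negSucc 13]) (ZT.node 1998 (ZT.leaf []) (ZT.leaf [Int.negSucc 14241, Int.negSucc 6795, Int.ofNat 3304, Int.negSucc 1095, Int.negSucc 26, Int.negSucc 1964, Int.negSucc 265, Int.ofNat 533, Int.ofNat 61, Int.ofNat 0, Int.ofNat 0, Int.negSucc 0, Int.negSucc 30, Int.negSucc 20, Int.ofNat 2434, Int.ofNat 19, Int.negSucc 317, Int.negSucc 0, Int.negSucc 1754]))) (ZT.node 2000 (ZT.leaf [Int.negSucc 6153, Int.negSucc 3970, Int.ofNat 1589, Int.negSucc 736, Int.negSucc 16, Int.negSucc 1125, Int.negSucc 135, Int.ofNat 302, Int.ofNat 28, Int.ofNat 1, Int.ofNat 0, Int.ofNat 0, Int.negSucc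 0, Int.negSucc 21, Int.ofNat 1261, Int.ofNat 27, Int.negSucc 128, Int.ofNat 0, Int.negSucc 942]) (ZT.node 2001 (ZT.leaf []) (ZT.leaf [Int.negSucc 1046, Int.negSucc 953, Int.ofNat 243, Int.negSucc 156, Int.negSucc 3, Int.negSucc 214, Int.negSucc 43, Int.ofNat 83, Int.ofNat 17, Int.ofNat 1, Int.ofNat 0, Int.ofNat 0, Int.ofNat 0, Int.negSucc 4, Int.ofNat 318, Int.ofNat 6, Int.negSucc 25, Int.ofNat 0, Int.negSucc 195])))))) (ZT.node 2013 (ZT.node 2007 (ZT.node 2004 (ZT.node 2003 (ZT.leaf [Int.ofNat 17690, Int.ofNat 7038, Int.negSucc 4208, Int.ofNat 1186, Int.ofNat 17, Int.ofNat 2315, Int.ofNat 253, Int.negSucc 515, Int.negSucc 12, Int.negSucc 1, Int.ofNat 1, Int.ofNat 0, Int.ofNat 42, Int.ofNat 25, Int.negSucc 2413, Int.negSucc 20, Int.ofNat 336, Int.ofNat 0, Int.ofNat 2003]) (ZT.leaf [Int.negSucc 14610, Int.negSucc 3019, Int.ofNat 3248, Int.negSucc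 390, Int.ofNat 5, Int.negSucc 1376, Int.negSucc 145, Int.ofNat 180, Int.negSucc 37, Int.ofNat 1, Int.ofNat 0, Int.ofNat 1, Int.negSucc 61, Int.negSucc 11, Int.ofNat 1216, Int.negSucc 23, Int.negSucc 195, Int.ofNat 2, Int.negSucc 1217])) (ZT.node 2005 (ZT.leaf [Int.ofNat 19727, Int.ofNat 5441, Int.negSucc 4395, Int.ofNat 737, Int.ofNat 0, Int.ofNat 2050, Int.ofNat 262, Int.negSucc 377, Int.ofNat 12, Int.negSucc 0, Int.ofNat 1, Int.ofNat 0, Int.ofNat 74, Int.ofNat 20, Int.negSucc 2119, Int.ofNat 15, Int.ofNat 304, Int.ofNat 0, Int.ofNat 1843]) (ZT.node 2006 (ZT.leaf [Int.negSucc 7294, Int.negSucc 4933, Int.ofNat 2003, Int.negSucc 989, Int.negSucc 26, Int.negSucc 1413, Int.negSucc 125, Int.ofNat 404, Int.ofNat 32, Int.ofNat 1, Int.ofNat 0, Int.ofNat 0, Int.ofNat 15, Int.negSucc 9, Int.ofNat 1565, Int.ofNat 30, Int.negSucc 216, Int.ofNat 0,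 Int.negSucc 1166]) (ZT.leaf [Int.ofNat 7191, Int.negSucc 1027, Int.negSucc 1468, Int.negSucc 330, Int.negSucc 20, Int.ofNat 229, Int.ofNat 3, Int.ofNat 110, Int.ofNat 66, Int.ofNat 0, Int.ofNat 0, Int.ofNat 1, Int.ofNat 46, Int.negSucc 9, Int.ofNat 182, Int.ofNat 47, Int.ofNat 47, Int.ofNat 1, Int.ofNat 219])))) (ZT.node 2010 (ZT.node 2008 (ZT.leaf [Int.negSucc 124, Int.negSucc 28, Int.ofNat 32, Int.negSucc 5, Int.ofNat 0, Int.negSucc 13, Int.ofNat 0, Int.ofNat 2, Int.negSucc 0, Int.ofNat 0, Int.ofNat 0, Int.ofNat 0, Int.ofNat 0, Int.ofNat 0, Int.ofNat 6, Int.ofNat 0, Int.negSucc 1, Int.ofNat 0, Int.negSucc 10]) (ZT.node 2009 (ZT.leaf [Int.ofNat 542, Int.ofNat 306, Int.negSucc 146, Int.ofNat 60, Int.ofNat 2, Int.ofNat 94, Int.ofNat 6, Int.negSucc 27, Int.negSucc 1, Int.ofNat 0, Int.ofNat 0, Int.ofNat 0, Int.negSucc 0, Int.ofNat 1, Int.negSucc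 103, Int.negSucc 0, Int.ofNat 19, Int.ofNat 0, Int.ofNat 80]) (ZT.leaf [Int.negSucc 6471, Int.negSucc 2879, Int.ofNat 1542, Int.negSucc 480, Int.negSucc 10, Int.negSucc 891, Int.negSucc 106, Int.ofNat 231, Int.ofNat 16, Int.ofNat 0, Int.ofNat 0, Int.ofNat 0, Int.negSucc 6, Int.negSucc 9, Int.ofNat 1050, Int.ofNat 5, Int.negSucc 144, Int.ofNat 0, Int.negSucc 783]))) (ZT.node 2011 (ZT.leaf [Int.ofNat 272, Int.ofNat 158, Int.negSucc 54, Int.ofNat 21, Int.ofNat 1, Int.ofNat 33, Int.ofNat 10, Int.negSucc 11, Int.negSucc 2, Int.ofNat 0, Int.ofNat 0, Int.ofNat 0, Int.ofNat 1, Int.ofNat 1, Int.negSucc 54, Int.ofNat 0, Int.negSucc 1, Int.ofNat 0, Int.ofNat 31]) (ZT.node 2012 (ZT.leaf [Int.ofNat 8877, Int.ofNat 2075, Int.negSucc 2068, Int.ofNat 312, Int.negSucc 4, Int.ofNat 905, Int.ofNat 57, Int.negSucc 99, Int.ofNat 38, Int.negSucc 0, Int.ofNat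 1, Int.negSucc 0, Int.ofNat 32, Int.ofNat 16, Int.negSucc 730, Int.ofNat 5, Int.ofNat 134, Int.negSucc 0, Int.ofNat 784]) (ZT.leaf [Int.ofNat 5592, Int.negSucc 301, Int.negSucc 1191, Int.negSucc 134, Int.negSucc 17, Int.ofNat 260, Int.negSucc 9, Int.ofNat 83, Int.ofNat 58, Int.negSucc 0, Int.ofNat 1, Int.negSucc 0, Int.ofNat 37, Int.ofNat 2, Int.ofNat 28, Int.ofNat 22, Int.ofNat 35, Int.negSucc 0, Int.ofNat 236]))))) (ZT.node 2019 (ZT.node 2016 (ZT.node 2014 (ZT.leaf [Int.ofNat 126, Int.ofNat 30, Int.negSucc 31, Int.ofNat 6, Int.ofNat 0, Int.ofNat 14, Int.ofNat 0, Int.negSucc 1, Int.ofNat 1, Int.ofNat 0, Int.ofNat 0, Int.ofNat 0, Int.ofNat 0, Int.ofNat 0, Int.negSucc 5, Int.ofNat 0, Int.ofNat 2, Int.ofNat 0, Int.ofNat 11]) (ZT.node 2015 (ZT.leaf [Int.ofNat 3286, Int.ofNat 2378, Int.negSucc 876, Int.ofNat 447, Int.ofNat 13, Int.ofNat 645,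 Int.ofNat 67, Int.negSucc 182, Int.negSucc 19, Int.ofNat 0, Int.ofNat 0, Int.ofNat 0, Int.negSucc 4, Int.ofNat 14, Int.negSucc 758, Int.negSucc 16, Int.ofNat 99, Int.ofNat 0, Int.ofNat 548]) (ZT.leaf [Int.ofNat 7664, Int.ofNat 3467, Int.negSucc 1874, Int.ofNat 604, Int.ofNat 17, Int.ofNat 1078, Int.ofNat 115, Int.negSucc 270, Int.negSucc 13, Int.ofNat 1, Int.negSucc 0, Int.ofNat 0, Int.ofNat 7, Int.ofNat 15, Int.negSucc 1246, Int.negSucc 9, Int.ofNat 172, Int.ofNat 0, Int.ofNat 941]))) (ZT.node 2017 (ZT.leaf [Int.ofNat 20985, Int.ofNat 7637, Int.negSucc 4858, Int.ofNat 1199, Int.ofNat 4, Int.ofNat 2589, Int.ofNat 300, Int.negSucc 502, Int.ofNat 1, Int.negSucc 1, Int.ofNat 1, Int.ofNat 0, Int.ofNat 70, Int.ofNat 45, Int.negSucc 2659, Int.negSucc 5, Int.ofNat 340, Int.ofNat 1, Int.ofNat 2252]) (ZT.node 2018 (ZT.leaf []) (ZT.leaf [Int.negSucc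 165, Int.negSucc 85, Int.ofNat 39, Int.negSucc 13, Int.ofNat 0, Int.negSucc 24, Int.negSucc 5, Int.ofNat 7, Int.ofNat 2, Int.negSucc 0, Int.ofNat 0, Int.ofNat 0, Int.negSucc 0, Int.ofNat 0, Int.ofNat 36, Int.negSucc 0, Int.negSucc 2, Int.ofNat 0, Int.negSucc 21])))) (ZT.node 2022 (ZT.node 2020 (ZT.leaf []) (ZT.node 2021 (ZT.leaf [Int.ofNat 1094, Int.ofNat 1511, Int.negSucc 298, Int.ofNat 274, Int.ofNat 10, Int.ofNat 314, Int.ofNat 46, Int.negSucc 120, Int.negSucc 27, Int.ofNat 0, Int.ofNat 0, Int.ofNat 0, Int.negSucc 2, Int.ofNat 11, Int.negSucc 506, Int.negSucc 11, Int.ofNat 63, Int.ofNat 0, Int.ofNat 281]) (ZT.leaf [Int.negSucc 2471, Int.ofNat 1091, Int.ofNat 391, Int.ofNat 305, Int.ofNat 10, Int.ofNat 114, Int.ofNat 13, Int.negSucc 103, Int.negSucc 23, Int.ofNat 0, Int.ofNat 0, Int.ofNat 0, Int.negSucc 29, Int.ofNat 7, Int.negSucc 222,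 Int.negSucc 30, Int.negSucc 24, Int.ofNat 0, Int.ofNat 53]))) (ZT.node 2023 (ZT.leaf [Int.negSucc 8363, Int.negSucc 2357, Int.ofNat 1762, Int.negSucc 261, Int.negSucc 4, Int.negSucc 761, Int.negSucc 113, Int.ofNat 167, Int.ofNat 19, Int.negSucc 0, Int.ofNat 0, Int.negSucc 0, Int.negSucc 43, Int.negSucc 7, Int.ofNat 923, Int.negSucc 14, Int.negSucc 169, Int.negSucc 0, Int.negSucc 750]) (ZT.node 2024 (ZT.leaf []) (ZT.leaf []))))))) (ZT.node 2047 (ZT.node 2036 (ZT.node 2030 (ZT.node 2027 (ZT.node 2026 (ZT.leaf [Int.ofNat 9516, Int.ofNat 2521, Int.negSucc 2015, Int.ofNat 270, Int.ofNat 4, Int.ofNat 881, Int.ofNat 126, Int.negSucc 175, Int.negSucc 10, Int.ofNat 0, Int.ofNat 0, Int.ofNat 0, Int.ofNat 47, Int.ofNat 8, Int.negSucc 1047, Int.ofNat 13, Int.ofNat 179, Int.ofNat 0, Int.ofNat 848]) (ZT.leaf [Int.ofNat 0, Int.ofNat 1, Int.ofNat 0, Int.ofNat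 0, Int.ofNat 0, Int.ofNat 0, Int.ofNat 0, Int.ofNat 0, Int.negSucc 0])) (ZT.node 2028 (ZT.leaf []) (ZT.node 2029 (ZT.leaf [Int.ofNat 50, Int.ofNat 3, Int.negSucc 11, Int.ofNat 1, Int.ofNat 0, Int.ofNat 4, Int.ofNat 0, Int.ofNat 0, Int.ofNat 1, Int.ofNat 1, Int.ofNat 0, Int.ofNat 0, Int.ofNat 0, Int.ofNat 0, Int.ofNat 2, Int.ofNat 0, Int.ofNat 1, Int.ofNat 0, Int.ofNat 3]) (ZT.leaf [])))) (ZT.node 2033 (ZT.node 2031 (ZT.leaf [Int.negSucc 50, Int.ofNat 3, Int.ofNat 14, Int.negSucc 0, Int.ofNat 0, Int.negSucc 3, Int.ofNat 0, Int.ofNat 0, Int.negSucc 0, Int.ofNat 0, Int.ofNat 0, Int.ofNat 0, Int.ofNat 0, Int.ofNat 0, Int.negSucc 2, Int.ofNat 0, Int.negSucc 0, Int.ofNat 0, Int.negSucc 2]) (ZT.node 2032 (ZT.leaf [Int.negSucc 399, Int.negSucc 113, Int.ofNat 95, Int.negSucc 17, Int.ofNat 0, Int.negSucc 43, Int.negSucc 1, Int.ofNat 7, Int.negSucc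 0, Int.ofNat 0, Int.ofNat 0, Int.ofNat 0, Int.negSucc 0, Int.negSucc 0, Int.ofNat 31, Int.ofNat 0, Int.negSucc 6, Int.ofNat 0, Int.negSucc 37]) (ZT.leaf []))) (ZT.node 2034 (ZT.leaf [Int.negSucc 0]) (ZT.node 2035 (ZT.leaf [Int.negSucc 555, Int.negSucc 237, Int.ofNat 128, Int.negSucc 37, Int.negSucc 0, Int.negSucc 70, Int.negSucc 8, Int.ofNat 13, Int.ofNat 2, Int.ofNat 0, Int.ofNat 0, Int.ofNat 0, Int.negSucc 2, Int.negSucc 0, Int.ofNat 85, Int.negSucc 0, Int.negSucc 9, Int.ofNat 0, Int.negSucc 63]) (ZT.leaf [Int.negSucc 0]))))) (ZT.node 2041 (ZT.node 2038 (ZT.node 2037 (ZT.leaf [Int.ofNat 43, Int.ofNat 39, Int.negSucc 2, Int.ofNat 4, Int.ofNat 0, Int.ofNat 3, Int.ofNat 2, Int.ofNat 2, Int.negSucc 0, Int.ofNat 0, Int.ofNat 0, Int.ofNat 0, Int.ofNat 2, Int.ofNat 0, Int.negSucc 14, Int.ofNat 1, Int.ofNat 0, Int.ofNat 0, Int.ofNat 5]) (ZT.leaf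 [])) (ZT.node 2039 (ZT.leaf []) (ZT.node 2040 (ZT.leaf [Int.negSucc 0]) (ZT.leaf [Int.ofNat 596, Int.ofNat 155, Int.negSucc 143, Int.ofNat 23, Int.ofNat 0, Int.ofNat 65, Int.ofNat 1, Int.negSucc 5, Int.ofNat 3, Int.ofNat 0, Int.ofNat 0, Int.ofNat 0, Int.ofNat 2, Int.ofNat 1, Int.negSucc 45, Int.ofNat 0, Int.ofNat 13, Int.ofNat 0, Int.ofNat 56])))) (ZT.node 2044 (ZT.node 2042 (ZT.leaf [Int.ofNat 33, Int.ofNat 9, Int.negSucc 8, Int.ofNat 2, Int.ofNat 0, Int.ofNat 4, Int.ofNat 0, Int.negSucc 0, Int.ofNat 0, Int.ofNat 0, Int.ofNat 0, Int.ofNat 0, Int.ofNat 0, Int.ofNat 0, Int.negSucc 3, Int.ofNat 0, Int.ofNat 1, Int.ofNat 0, Int.ofNat 3]) (ZT.node 2043 (ZT.leaf []) (ZT.leaf []))) (ZT.node 2045 (ZT.leaf [Int.negSucc 15355, Int.negSucc 5242, Int.ofNat 3471, Int.negSucc 772, Int.negSucc 20, Int.negSucc 1743, Int.negSucc 203, Int.ofNat 427, Int.ofNat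 33, Int.negSucc 0, Int.ofNat 1, Int.ofNat 0, Int.negSucc 34, Int.negSucc 4, Int.ofNat 1923, Int.negSucc 9, Int.negSucc 348, Int.ofNat 0, Int.negSucc 1571]) (ZT.node 2046 (ZT.leaf [Int.ofNat 1, Int.negSucc 0, Int.ofNat 0, Int.ofNat 0, Int.ofNat 0, Int.ofNat 0, Int.ofNat 0, Int.ofNat 0, Int.ofNat 0, Int.ofNat 0, Int.ofNat 0, Int.ofNat 0, Int.ofNat 0, Int.ofNat 0, Int.ofNat 1]) (ZT.leaf [Int.negSucc 0])))))) (ZT.node 2058 (ZT.node 2052 (ZT.node 2049 (ZT.node 2048 (ZT.leaf [Int.ofNat 1968, Int.ofNat 2498, Int.negSucc 501, Int.ofNat 442, Int.ofNat 13, Int.ofNat 523, Int.ofNat 91, Int.negSucc 190, Int.negSucc 44, Int.ofNat 0, Int.ofNat 0, Int.ofNat 0, Int.negSucc 0, Int.ofNat 17, Int.negSucc 857, Int.negSucc 18, Int.ofNat 68, Int.ofNat 0, Int.ofNat 467]) (ZT.leaf [Int.negSucc 1154, Int.negSucc 535, Int.ofNat 271, Int.negSucc 88, Int.negSucc 2,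 Int.negSucc 156, Int.negSucc 18, Int.ofNat 40, Int.ofNat 4, Int.ofNat 0, Int.ofNat 0, Int.ofNat 0, Int.negSucc 1, Int.negSucc 2, Int.ofNat 186, Int.ofNat 2, Int.negSucc 26, Int.ofNat 0, Int.negSucc 140])) (ZT.node 2050 (ZT.leaf [Int.ofNat 2801, Int.ofNat 387, Int.negSucc 646, Int.ofNat 44, Int.ofNat 2, Int.ofNat 261, Int.ofNat 22, Int.negSucc 50, Int.ofNat 11, Int.ofNat 0, Int.ofNat 0, Int.ofNat 0, Int.negSucc 0, Int.ofNat 0, Int.negSucc 163, Int.ofNat 9, Int.ofNat 66, Int.ofNat 0, Int.ofNat 226]) (ZT.node 2051 (ZT.leaf [Int.ofNat 7, Int.negSucc 107, Int.ofNat 4, Int.negSucc 20, Int.negSucc 0, Int.negSucc 17, Int.negSucc 8, Int.ofNat 15, Int.ofNat 6, Int.negSucc 0, Int.ofNat 0, Int.ofNat 0, Int.ofNat 1, Int.ofNat 1, Int.ofNat 58, Int.ofNat 2, Int.negSucc 3, Int.ofNat 0, Int.negSucc 18]) (ZT.leaf [Int.negSucc 0])))) (ZT.node 2055 (ZT.node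 2053 (ZT.leaf [Int.ofNat 112, Int.negSucc 15, Int.negSucc 24, Int.negSucc 2, Int.ofNat 0, Int.ofNat 2, Int.negSucc 1, Int.ofNat 6, Int.ofNat 2, Int.ofNat 0, Int.ofNat 0, Int.ofNat 0, Int.ofNat 0, Int.ofNat 0, Int.ofNat 20, Int.ofNat 0, Int.negSucc 2, Int.ofNat 0, Int.ofNat 2]) (ZT.node 2054 (ZT.leaf []) (ZT.leaf []))) (ZT.node 2056 (ZT.leaf [Int.negSucc 17, Int.negSucc 4, Int.ofNat 2, Int.ofNat 1, Int.ofNat 0, Int.ofNat 0, Int.ofNat 0, Int.negSucc 0, Int.ofNat 0, Int.ofNat 0, Int.ofNat 0, Int.ofNat 0, Int.ofNat 0, Int.ofNat 0, Int.ofNat 1, Int.ofNat 0, Int.ofNat 0, Int.ofNat 0, Int.negSucc 0]) (ZT.node 2057 (ZT.leaf []) (ZT.leaf [Int.negSucc 2]))))) (ZT.node 2064 (ZT.node 2061 (ZT.node 2059 (ZT.leaf [Int.ofNat 290, Int.negSucc 35, Int.negSucc 82, Int.ofNat 2, Int.negSucc 0, Int.ofNat 24, Int.negSucc 13, Int.ofNat 20, Int.ofNat 14, Int.ofNat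 0, Int.ofNat 0, Int.ofNat 0, Int.negSucc 0, Int.ofNat 3, Int.ofNat 75, Int.negSucc 1, Int.negSucc 9, Int.ofNat 0, Int.ofNat 5]) (ZT.node 2060 (ZT.leaf [Int.negSucc 1596, Int.negSucc 702, Int.ofNat 371, Int.negSucc 115, Int.negSucc 2, Int.negSucc 204, Int.negSucc 25, Int.ofNat 57, Int.ofNat 6, Int.negSucc 0, Int.ofNat 0, Int.ofNat 0, Int.negSucc 2, Int.negSucc 1, Int.ofNat 257, Int.ofNat 1, Int.negSucc 37, Int.ofNat 0, Int.negSucc 186]) (ZT.leaf []))) (ZT.node 2062 (ZT.leaf [Int.negSucc 0]) (ZT.node 2063 (ZT.leaf []) (ZT.leaf [])))) (ZT.node 2067 (ZT.node 2065 (ZT.leaf [Int.negSucc 0]) (ZT.node 2066 (ZT.leaf [Int.negSucc 1, Int.negSucc 1]) (ZT.leaf []))) (ZT.node 2068 (ZT.leaf [Int.negSucc 0]) (ZT.node 2069 (ZT.leaf []) (ZT.leaf [Int.negSucc 1, Int.negSucc 1])))))))) (ZT.node 2115 (ZT.node 2092 (ZT.node 2081 (ZT.node 2075 (ZT.node 2072 (ZT.node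 2071 (ZT.leaf [Int.ofNat 22, Int.negSucc 4, Int.negSucc 11, Int.ofNat 4, Int.ofNat 0, Int.ofNat 10, Int.ofNat 1, Int.ofNat 0, Int.ofNat 2, Int.ofNat 0, Int.ofNat 0, Int.ofNat 0, Int.negSucc 0, Int.ofNat 0, Int.ofNat 7, Int.ofNat 0, Int.negSucc 3, Int.ofNat 0, Int.ofNat 3]) (ZT.leaf [])) (ZT.node 2073 (ZT.leaf [Int.ofNat 24, Int.ofNat 2, Int.negSucc 4, Int.negSucc 0, Int.ofNat 0, Int.ofNat 0, Int.ofNat 0, Int.ofNat 1, Int.ofNat 0, Int.ofNat 0, Int.ofNat 0, Int.ofNat 0, Int.ofNat 1, Int.ofNat 0, Int.ofNat 0, Int.ofNat 0, Int.ofNat 0, Int.ofNat 0, Int.ofNat 0]) (ZT.node 2074 (ZT.leaf [Int.ofNat 221, Int.ofNat 54, Int.negSucc 56, Int.ofNat 10, Int.ofNat 0, Int.ofNat 27, Int.ofNat 0, Int.negSucc 2, Int.ofNat 2, Int.ofNat 0, Int.ofNat 0, Int.ofNat 0, Int.ofNat 0, Int.ofNat 1, Int.negSucc 13, Int.ofNat 0, Int.ofNat 5, Int.ofNat 0, Int.ofNat 23])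 (ZT.leaf [Int.negSucc 0])))) (ZT.node 2078 (ZT.node 2076 (ZT.leaf [Int.negSucc 3481, Int.negSucc 1407, Int.ofNat 807, Int.negSucc 225, Int.negSucc 3, Int.negSucc 437, Int.negSucc 42, Int.ofNat 95, Int.ofNat 4, Int.ofNat 0, Int.ofNat 0, Int.ofNat 0, Int.negSucc 11, Int.negSucc 2, Int.ofNat 474, Int.ofNat 2, Int.negSucc 69, Int.ofNat 0, Int.negSucc 385]) (ZT.node 2077 (ZT.leaf [Int.negSucc 0]) (ZT.leaf []))) (ZT.node 2079 (ZT.leaf [Int.ofNat 0, Int.negSucc 0, Int.ofNat 0, Int.ofNat 0, Int.ofNat 0, Int.ofNat 0, Int.ofNat 0, Int.ofNat 0, Int.ofNat 0, Int.ofNat 0, Int.ofNat 0, Int.ofNat 0, Int.ofNat 0, Int.ofNat 0, Int.ofNat 1]) (ZT.node 2080 (ZT.leaf []) (ZT.leaf [Int.negSucc 2205, Int.ofNat 391, Int.ofNat 457, Int.ofNat 100, Int.ofNat 2, Int.negSucc 57, Int.ofNat 7, Int.negSucc 46, Int.negSucc 22, Int.ofNat 0, Int.ofNat 0, Int.ofNat 0, Int.negSucc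 11, Int.ofNat 7, Int.negSucc 77, Int.negSucc 14, Int.negSucc 11, Int.ofNat 0, Int.negSucc 55]))))) (ZT.node 2086 (ZT.node 2083 (ZT.node 2082 (ZT.leaf [Int.ofNat 1364, Int.ofNat 1040, Int.negSucc 314, Int.ofNat 167, Int.ofNat 1, Int.ofNat 244, Int.ofNat 41, Int.negSucc 80, Int.negSucc 13, Int.ofNat 0, Int.ofNat 0, Int.ofNat 0, Int.ofNat 4, Int.ofNat 5, Int.negSucc 339, Int.negSucc 5, Int.ofNat 35, Int.ofNat 0, Int.ofNat 222]) (ZT.leaf [Int.negSucc 620, Int.negSucc 78, Int.ofNat 134, Int.ofNat 5, Int.ofNat 4, Int.negSucc 40, Int.ofNat 3, Int.negSucc 8, Int.negSucc 2, Int.ofNat 0, Int.ofNat 0, Int.ofNat 0, Int.negSucc 5, Int.ofNat 0, Int.ofNat 13, Int.negSucc 2, Int.negSucc 11, Int.ofNat 0, Int.negSucc 42])) (ZT.node 2084 (ZT.leaf []) (ZT.node 2085 (ZT.leaf [Int.ofNat 1052, Int.negSucc 1316, Int.negSucc 142, Int.negSucc 283, Int.negSucc 10,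 Int.negSucc 136, Int.negSucc 27, Int.ofNat 86, Int.ofNat 29, Int.negSucc 0, Int.ofNat 1, Int.ofNat 0, Int.ofNat 6, Int.negSucc 13, Int.ofNat 375, Int.ofNat 28, Int.ofNat 21, Int.ofNat 0, Int.negSucc 115]) (ZT.leaf [Int.negSucc 18954, Int.negSucc 4242, Int.ofNat 4219, Int.negSucc 553, Int.negSucc 10, Int.negSucc 1832, Int.negSucc 179, Int.ofNat 305, Int.negSucc 28, Int.negSucc 0, Int.ofNat 0, Int.ofNat 0, Int.negSucc 55, Int.ofNat 1, Int.ofNat 1635, Int.negSucc 36, Int.negSucc 348, Int.ofNat 0, Int.negSucc 1616])))) (ZT.node 2089 (ZT.node 2087 (ZT.leaf [Int.ofNat 47, Int.ofNat 22, Int.negSucc 8, Int.ofNat 1, Int.ofNat 0, Int.ofNat 6, Int.negSucc 0, Int.ofNat 1, Int.ofNat 0, Int.ofNat 0, Int.ofNat 0, Int.ofNat 0, Int.ofNat 1, Int.ofNat 0, Int.negSucc 6, Int.ofNat 0, Int.ofNat 2, Int.ofNat 0, Int.ofNat 5]) (ZT.node 2088 (ZT.leaf [Int.ofNat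 20666, Int.ofNat 7250, Int.negSucc 4695, Int.ofNat 1072, Int.ofNat 23, Int.ofNat 2395, Int.ofNat 280, Int.negSucc 540, Int.negSucc 27, Int.ofNat 1, Int.negSucc 0, Int.ofNat 0, Int.ofNat 58, Int.ofNat 25, Int.negSucc 2609, Int.ofNat 3, Int.ofNat 427, Int.ofNat 0, Int.ofNat 2145]) (ZT.leaf [Int.negSucc 12837, Int.negSucc 1180, Int.ofNat 2736, Int.ofNat 12, Int.ofNat 8, Int.negSucc 890, Int.negSucc 98, Int.ofNat 40, Int.negSucc 46, Int.ofNat 0, Int.ofNat 0, Int.ofNat 0, Int.negSucc 64, Int.negSucc 5, Int.ofNat 688, Int.negSucc 45, Int.negSucc 187, Int.ofNat 0, Int.negSucc 844]))) (ZT.node 2090 (ZT.leaf [Int.negSucc 4779, Int.negSucc 1698, Int.ofNat 1105, Int.negSucc 257, Int.negSucc 4, Int.negSucc 576, Int.negSucc 66, Int.ofNat 129, Int.ofNat 4, Int.ofNat 0, Int.ofNat 0, Int.ofNat 0, Int.negSucc 10, Int.negSucc 5, Int.ofNat 634, Int.negSucc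 2, Int.negSucc 100, Int.ofNat 0, Int.negSucc 511]) (ZT.node 2091 (ZT.leaf []) (ZT.leaf [Int.negSucc 771, Int.negSucc 353, Int.ofNat 201, Int.negSucc 69, Int.ofNat 0, Int.negSucc 116, Int.negSucc 3, Int.ofNat 13, Int.negSucc 5, Int.ofNat 0, Int.ofNat 0, Int.ofNat 0, Int.ofNat 0, Int.negSucc 3, Int.ofNat 92, Int.ofNat 1, Int.negSucc 13, Int.ofNat 0, Int.negSucc 94])))))) (ZT.node 2103 (ZT.node 2097 (ZT.node 2094 (ZT.node 2093 (ZT.leaf []) (ZT.leaf [Int.ofNat 5, Int.negSucc 14, Int.negSucc 4, Int.negSucc 2, Int.ofNat 0, Int.ofNat 0, Int.negSucc 1, Int.ofNat 1, Int.ofNat 0, Int.negSucc 0, Int.ofNat 0, Int.ofNat 0, Int.ofNat 0, Int.ofNat 0, Int.ofNat 8, Int.ofNat 0, Int.ofNat 1, Int.ofNat 0, Int.ofNat 0])) (ZT.node 2095 (ZT.leaf [Int.negSucc 0]) (ZT.node 2096 (ZT.leaf [Int.negSucc 1, Int.ofNat 1, Int.ofNat 1]) (ZT.leaf [Int.negSucc 686, Int.negSucc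 340, Int.ofNat 155, Int.negSucc 50, Int.negSucc 0, Int.negSucc 95, Int.negSucc 16, Int.ofNat 33, Int.ofNat 5, Int.ofNat 0, Int.ofNat 0, Int.ofNat 0, Int.ofNat 0, Int.negSucc 0, Int.ofNat 127, Int.ofNat 0, Int.negSucc 16, Int.ofNat 0, Int.negSucc 88])))) (ZT.node 2100 (ZT.node 2098 (ZT.leaf [Int.ofNat 25616, Int.ofNat 12452, Int.negSucc 5993, Int.ofNat 2022, Int.ofNat 57, Int.ofNat 3560, Int.ofNat 430, Int.negSucc 1000, Int.negSucc 111, Int.ofNat 1, Int.negSucc 0, Int.ofNat 1, Int.ofNat 40, Int.ofNat 42, Int.negSucc 4251, Int.negSucc 33, Int.ofNat 657, Int.ofNat 1, Int.ofNat 3181]) (ZT.node 2099 (ZT.leaf [Int.ofNat 355, Int.ofNat 225, Int.negSucc 70, Int.ofNat 32, Int.ofNat 2, Int.ofNat 41, Int.ofNat 8, Int.negSucc 12, Int.negSucc 4, Int.ofNat 0, Int.ofNat 0, Int.ofNat 0, Int.ofNat 3, Int.ofNat 0, Int.negSucc 86, Int.negSucc 0, Int.ofNat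 10, Int.ofNat 0, Int.ofNat 43]) (ZT.leaf []))) (ZT.node 2101 (ZT.leaf [Int.negSucc 1, Int.negSucc 2, Int.ofNat 0, Int.ofNat 0, Int.ofNat 0, Int.ofNat 0, Int.ofNat 0, Int.ofNat 0, Int.ofNat 0, Int.ofNat 0, Int.ofNat 0, Int.ofNat 0, Int.ofNat 0, Int.ofNat 0, Int.ofNat 1]) (ZT.node 2102 (ZT.leaf []) (ZT.leaf [Int.ofNat 20, Int.negSucc 5, Int.negSucc 11, Int.ofNat 4, Int.ofNat 0, Int.ofNat 10, Int.ofNat 1, Int.ofNat 0, Int.ofNat 2, Int.ofNat 0, Int.ofNat 0, Int.ofNat 0, Int.negSucc 0, Int.ofNat 0, Int.ofNat 7, Int.ofNat 0, Int.negSucc 3, Int.ofNat 0, Int.ofNat 3]))))) (ZT.node 2109 (ZT.node 2106 (ZT.node 2104 (ZT.leaf []) (ZT.node 2105 (ZT.leaf [Int.ofNat 85, Int.ofNat 16, Int.negSucc 22, Int.ofNat 3, Int.ofNat 0, Int.ofNat 10, Int.ofNat 0, Int.ofNat 0, Int.ofNat 1, Int.ofNat 0, Int.ofNat 0, Int.ofNat 0, Int.ofNat 0, Int.ofNat 0, Int.negSucc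 3, Int.ofNat 0, Int.ofNat 2, Int.ofNat 0, Int.ofNat 8]) (ZT.leaf [Int.negSucc 72, Int.negSucc 19, Int.ofNat 16, Int.negSucc 2, Int.ofNat 0, Int.negSucc 6, Int.negSucc 0, Int.negSucc 0, Int.ofNat 0, Int.ofNat 0, Int.ofNat 0, Int.ofNat 0, Int.negSucc 0, Int.ofNat 0, Int.ofNat 4, Int.negSucc 0, Int.negSucc 0, Int.ofNat 0, Int.negSucc 6]))) (ZT.node 2107 (ZT.leaf [Int.ofNat 1792, Int.ofNat 340, Int.negSucc 372, Int.ofNat 32, Int.ofNat 0, Int.ofNat 162, Int.ofNat 33, Int.negSucc 45, Int.negSucc 1, Int.ofNat 0, Int.ofNat 0, Int.ofNat 0, Int.ofNat 3, Int.negSucc 1, Int.negSucc 191, Int.ofNat 6, Int.ofNat 38, Int.ofNat 0, Int.ofNat 148]) (ZT.node 2108 (ZT.leaf [Int.negSucc 26, Int.ofNat 1, Int.ofNat 6, Int.ofNat 0, Int.ofNat 0, Int.negSucc 0, Int.ofNat 0, Int.negSucc 0, Int.negSucc 0, Int.negSucc 0, Int.ofNat 0, Int.ofNat 0, Int.ofNat 0, Int.ofNat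 0, Int.negSucc 1, Int.ofNat 0, Int.ofNat 0, Int.ofNat 0, Int.negSucc 0]) (ZT.leaf [Int.negSucc 351, Int.negSucc 87, Int.ofNat 90, Int.negSucc 17, Int.ofNat 0, Int.negSucc 41, Int.ofNat 0, Int.ofNat 6, Int.negSucc 2, Int.negSucc 0, Int.ofNat 0, Int.ofNat 0, Int.ofNat 0, Int.negSucc 0, Int.ofNat 24, Int.ofNat 0, Int.negSucc 6, Int.ofNat 0, Int.negSucc 33])))) (ZT.node 2112 (ZT.node 2110 (ZT.leaf [Int.negSucc 0]) (ZT.node 2111 (ZT.leaf [Int.ofNat 2479, Int.ofNat 859, Int.negSucc 573, Int.ofNat 134, Int.ofNat 3, Int.ofNat 300, Int.ofNat 43, Int.negSucc 77, Int.negSucc 3, Int.ofNat 0, Int.ofNat 0, Int.ofNat 0, Int.ofNat 3, Int.ofNat 1, Int.negSucc 365, Int.ofNat 3, Int.ofNat 53, Int.ofNat 0, Int.ofNat 267]) (ZT.leaf []))) (ZT.node 2113 (ZT.leaf []) (ZT.node 2114 (ZT.leaf [Int.ofNat 5491, Int.ofNat 2261, Int.negSucc 1215, Int.ofNat 335, Int.ofNat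 4, Int.ofNat 666, Int.ofNat 87, Int.negSucc 150, Int.negSucc 9, Int.negSucc 0, Int.ofNat 1, Int.ofNat 0, Int.ofNat 19, Int.ofNat 11, Int.negSucc 821, Int.negSucc 2, Int.ofNat 112, Int.ofNat 0, Int.ofNat 605]) (ZT.leaf []))))))) (ZT.node 2137 (ZT.node 2126 (ZT.node 2120 (ZT.node 2117 (ZT.node 2116 (ZT.leaf [Int.ofNat 2209, Int.ofNat 781, Int.negSucc 517, Int.ofNat 124, Int.ofNat 3, Int.ofNat 283, Int.ofNat 43, Int.negSucc 77, Int.negSucc 3, Int.ofNat 0, Int.ofNat 0, Int.ofNat 0, Int.ofNat 0, Int.ofNat 1, Int.negSucc 330, Int.ofNat 2, Int.ofNat 47, Int.ofNat 0, Int.ofNat 247]) (ZT.leaf [Int.negSucc 960, Int.ofNat 539, Int.ofNat 31, Int.ofNat 201, Int.ofNat 17, Int.ofNat 110, Int.negSucc 16, Int.negSucc 54, Int.ofNat 0, Int.ofNat 1, Int.negSucc 0, Int.ofNat 0, Int.negSucc 28, Int.ofNat 2, Int.negSucc 91, Int.negSucc 13, Int.ofNat 18, Int.ofNat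 0, Int.ofNat 63])) (ZT.node 2118 (ZT.leaf []) (ZT.node 2119 (ZT.leaf [Int.ofNat 3025, Int.ofNat 155, Int.negSucc 631, Int.negSucc 16, Int.ofNat 1, Int.ofNat 182, Int.ofNat 31, Int.negSucc 18, Int.ofNat 7, Int.ofNat 0, Int.ofNat 0, Int.ofNat 0, Int.ofNat 11, Int.negSucc 5, Int.negSucc 164, Int.ofNat 12, Int.ofNat 40, Int.negSucc 0, Int.ofNat 178]) (ZT.leaf [Int.negSucc 740, Int.negSucc 585, Int.ofNat 155, Int.negSucc 87, Int.negSucc 3, Int.negSucc 122, Int.negSucc 42, Int.ofNat 72, Int.ofNat 21, Int.ofNat 0, Int.ofNat 0, Int.ofNat 0, Int.ofNat 1, Int.ofNat 0, Int.ofNat 269, Int.ofNat 3, Int.negSucc 28, Int.ofNat 1, Int.negSucc 124])))) (ZT.node 2123 (ZT.node 2121 (ZT.leaf [Int.negSucc 0]) (ZT.node 2122 (ZT.leaf [Int.ofNat 132, Int.ofNat 41, Int.negSucc 34, Int.ofNat 7, Int.ofNat 0, Int.ofNat 17, Int.ofNat 0, Int.negSucc 2, Int.ofNat 1, Int.ofNat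 0, Int.ofNat 0, Int.ofNat 0, Int.ofNat 0, Int.ofNat 1, Int.negSucc 11, Int.ofNat 0, Int.ofNat 3, Int.ofNat 0, Int.ofNat 15]) (ZT.leaf [Int.ofNat 4962, Int.ofNat 1676, Int.negSucc 1135, Int.ofNat 255, Int.ofNat 7, Int.ofNat 568, Int.ofNat 61, Int.negSucc 131, Int.negSucc 3, Int.ofNat 0, Int.ofNat 1, Int.ofNat 0, Int.ofNat 9, Int.ofNat 3, Int.negSucc 631, Int.ofNat 4, Int.ofNat 112, Int.ofNat 0, Int.ofNat 510]))) (ZT.node 2124 (ZT.leaf []) (ZT.node 2125 (ZT.leaf []) (ZT.leaf [Int.negSucc 12314, Int.negSucc 5818, Int.ofNat 2881, Int.negSucc 985, Int.negSucc 23, Int.negSucc 1608, Int.negSucc 248, Int.ofNat 404, Int.ofNat 72, Int.negSucc 0, Int.ofNat 3, Int.ofNat 0, Int.negSucc 59, Int.negSucc 13, Int.ofNat 2596, Int.ofNat 4, Int.negSucc 254, Int.ofNat 0, Int.negSucc 1494]))))) (ZT.node 2131 (ZT.node 2128 (ZT.node 2127 (ZT.leaf [Int.ofNat 115,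 Int.ofNat 22, Int.negSucc 33, Int.ofNat 6, Int.ofNat 0, Int.ofNat 14, Int.ofNat 1, Int.negSucc 1, Int.ofNat 1, Int.ofNat 0, Int.ofNat 0, Int.ofNat 0, Int.ofNat 0, Int.ofNat 0, Int.negSucc 6, Int.ofNat 0, Int.ofNat 2, Int.ofNat 0, Int.ofNat 11]) (ZT.leaf [])) (ZT.node 2129 (ZT.leaf [Int.negSucc 51377, Int.negSucc 21050, Int.ofNat 11667, Int.negSucc 3212, Int.negSucc 56, Int.negSucc 6493, Int.negSucc 848, Int.ofNat 1664, Int.ofNat 158, Int.ofNat 1, Int.negSucc 0, Int.negSucc 0, Int.negSucc 130, Int.negSucc 59, Int.ofNat 7428, Int.ofNat 14, Int.negSucc 1108, Int.negSucc 1, Int.negSucc 5800]) (ZT.node 2130 (ZT.leaf [Int.ofNat 11916, Int.ofNat 7874, Int.negSucc 3111, Int.ofNat 1494, Int.ofNat 38, Int.ofNat 2169, Int.ofNat 236, Int.negSucc 612, Int.negSucc 63, Int.negSucc 0, Int.ofNat 0, Int.ofNat 0, Int.negSucc 0, Int.ofNat 26, Int.negSucc 2643,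 Int.negSucc 43, Int.ofNat 314, Int.ofNat 0, Int.ofNat 1849]) (ZT.leaf [])))) (ZT.node 2134 (ZT.node 2132 (ZT.leaf [Int.ofNat 1989, Int.ofNat 927, Int.negSucc 485, Int.ofNat 156, Int.ofNat 8, Int.ofNat 288, Int.ofNat 28, Int.negSucc 77, Int.negSucc 2, Int.ofNat 0, Int.ofNat 0, Int.ofNat 0, Int.negSucc 0, Int.ofNat 5, Int.negSucc 347, Int.ofNat 0, Int.ofNat 72, Int.ofNat 0, Int.ofNat 255]) (ZT.node 2133 (ZT.leaf [Int.ofNat 411, Int.ofNat 197, Int.negSucc 95, Int.ofNat 36, Int.ofNat 2, Int.ofNat 59, Int.ofNat 9, Int.negSucc 15, Int.ofNat 1, Int.ofNat 0, Int.ofNat 0, Int.ofNat 0, Int.negSucc 1, Int.ofNat 2, Int.negSucc 56, Int.negSucc 1, Int.negSucc 0, Int.ofNat 0, Int.ofNat 48]) (ZT.leaf [Int.negSucc 584, Int.ofNat 914, Int.ofNat 104, Int.ofNat 174, Int.ofNat 8, Int.ofNat 119, Int.ofNat 33, Int.negSucc 87, Int.negSucc 28, Int.ofNat 0, Int.ofNat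 0, Int.ofNat 0, Int.negSucc 10, Int.ofNat 9, Int.negSucc 306, Int.negSucc 10, Int.ofNat 26, Int.ofNat 0, Int.ofNat 107]))) (ZT.node 2135 (ZT.leaf []) (ZT.node 2136 (ZT.leaf [Int.negSucc 126, Int.negSucc 63, Int.ofNat 23, Int.negSucc 6, Int.negSucc 0, Int.negSucc 6, Int.negSucc 1, Int.ofNat 3, Int.ofNat 2, Int.ofNat 0, Int.ofNat 0, Int.ofNat 0, Int.negSucc 0, Int.ofNat 0, Int.ofNat 27, Int.ofNat 0, Int.negSucc 4, Int.ofNat 0, Int.negSucc 10]) (ZT.leaf [Int.ofNat 2, Int.ofNat 4, Int.ofNat 1, Int.ofNat 0, Int.ofNat 0, Int.ofNat 0, Int.ofNat 1, Int.ofNat 0, Int.ofNat 0, Int.ofNat 0, Int.ofNat 0, Int.ofNat 0, Int.ofNat 0, Int.ofNat 0, Int.negSucc 0])))))) (ZT.node 2148 (ZT.node 2142 (ZT.node 2139 (ZT.node 2138 (ZT.leaf [Int.negSucc 1, Int.ofNat 0, Int.ofNat 1, Int.ofNat 0, Int.ofNat 0, Int.ofNat 0, Int.ofNat 0, Int.ofNat 0, Int.ofNat 0, Int.ofNat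 0, Int.ofNat 0, Int.ofNat 0, Int.ofNat 0, Int.ofNat 0, Int.ofNat 0, Int.ofNat 0, Int.negSucc 0, Int.ofNat 0, Int.ofNat 0]) (ZT.leaf [Int.negSucc 905, Int.negSucc 579, Int.ofNat 209, Int.negSucc 94, Int.negSucc 1, Int.negSucc 142, Int.negSucc 22, Int.ofNat 43, Int.ofNat 8, Int.ofNat 0, Int.ofNat 0, Int.ofNat 0, Int.negSucc 1, Int.negSucc 2, Int.ofNat 188, Int.ofNat 3, Int.negSucc 17, Int.ofNat 0, Int.negSucc 129])) (ZT.node 2140 (ZT.leaf [Int.negSucc 0]) (ZT.node 2141 (ZT.leaf [Int.negSucc 0]) (ZT.leaf [])))) (ZT.node 2145 (ZT.node 2143 (ZT.leaf []) (ZT.node 2144 (ZT.leaf [Int.negSucc 23, Int.ofNat 6, Int.ofNat 5, Int.ofNat 3, Int.ofNat 0, Int.ofNat 0, Int.ofNat 1, Int.negSucc 1, Int.negSucc 0, Int.ofNat 0, Int.ofNat 0, Int.ofNat 0, Int.ofNat 0, Int.ofNat 0, Int.negSucc 5, Int.ofNat 0, Int.negSucc 0, Int.ofNat 0, Int.ofNat 0]) (ZT.leaf [Int.negSucc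 267, Int.negSucc 113, Int.ofNat 75, Int.negSucc 27, Int.negSucc 0, Int.negSucc 47, Int.negSucc 5, Int.ofNat 12, Int.negSucc 1, Int.negSucc 0, Int.ofNat 0, Int.ofNat 0, Int.ofNat 3, Int.negSucc 0, Int.ofNat 33, Int.ofNat 1, Int.negSucc 0, Int.ofNat 0, Int.negSucc 35]))) (ZT.node 2146 (ZT.leaf [Int.negSucc 95, Int.negSucc 32, Int.ofNat 21, Int.negSucc 3, Int.ofNat 0, Int.negSucc 9, Int.ofNat 0, Int.ofNat 0, Int.ofNat 0, Int.ofNat 0, Int.ofNat 0, Int.ofNat 0, Int.negSucc 0, Int.ofNat 0, Int.ofNat 11, Int.ofNat 0, Int.negSucc 1, Int.ofNat 0, Int.negSucc 8]) (ZT.node 2147 (ZT.leaf []) (ZT.leaf []))))) (ZT.node 2154 (ZT.node 2151 (ZT.node 2149 (ZT.leaf []) (ZT.node 2150 (ZT.leaf [Int.negSucc 94, Int.negSucc 24, Int.ofNat 23, Int.negSucc 5, Int.ofNat 0, Int.negSucc 9, Int.negSucc 0, Int.ofNat 0, Int.ofNat 0, Int.ofNat 0, Int.ofNat 0, Int.ofNat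 0, Int.negSucc 0, Int.ofNat 0, Int.ofNat 11, Int.negSucc 0, Int.negSucc 1, Int.ofNat 0, Int.negSucc 8]) (ZT.leaf [Int.negSucc 1, Int.negSucc 0]))) (ZT.node 2152 (ZT.leaf []) (ZT.node 2153 (ZT.leaf [Int.negSucc 177, Int.negSucc 305, Int.ofNat 12, Int.negSucc 33, Int.ofNat 0, Int.negSucc 33, Int.negSucc 16, Int.ofNat 29, Int.ofNat 10, Int.ofNat 0, Int.ofNat 0, Int.ofNat 0, Int.negSucc 1, Int.negSucc 0, Int.ofNat 105, Int.ofNat 2, Int.negSucc 7, Int.ofNat 0, Int.negSucc 43]) (ZT.leaf [Int.negSucc 25614, Int.negSucc 12450, Int.ofNat 5994, Int.negSucc 2021, Int.negSucc 56, Int.negSucc 3559, Int.negSucc 429, Int.ofNat 1001, Int.ofNat 112, Int.negSucc 0, Int.ofNat 1, Int.negSucc 0, Int.negSucc 39, Int.negSucc 41, Int.ofNat 4252, Int.ofNat 34, Int.negSucc 656, Int.negSucc 0, Int.negSucc 3180])))) (ZT.node 2157 (ZT.node 2155 (ZT.leaf [Int.negSucc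 1, Int.ofNat 0, Int.ofNat 1, Int.ofNat 0, Int.ofNat 0, Int.ofNat 0, Int.ofNat 0, Int.ofNat 0, Int.ofNat 0, Int.ofNat 0, Int.ofNat 0, Int.ofNat 0, Int.ofNat 0, Int.ofNat 0, Int.ofNat 0, Int.ofNat 0, Int.negSucc 0, Int.ofNat 0, Int.ofNat 0]) (ZT.node 2156 (ZT.leaf [Int.negSucc 10, Int.ofNat 5, Int.ofNat 1, Int.ofNat 1, Int.ofNat 0, Int.ofNat 0, Int.ofNat 1, Int.negSucc 0, Int.negSucc 0, Int.negSucc 0, Int.ofNat 0, Int.ofNat 0, Int.ofNat 0, Int.ofNat 0, Int.negSucc 6, Int.ofNat 0, Int.ofNat 0, Int.ofNat 0, Int.ofNat 1]) (ZT.leaf [Int.ofNat 6, Int.ofNat 5, Int.ofNat 1, Int.ofNat 0, Int.ofNat 0, Int.ofNat 0, Int.ofNat 0, Int.ofNat 0, Int.ofNat 0, Int.ofNat 1, Int.ofNat 0, Int.ofNat 0, Int.ofNat 0, Int.ofNat 0, Int.ofNat 0, Int.ofNat 0, Int.ofNat 0, Int.ofNat 0, Int.ofNat 0]))) (ZT.node 2158 (ZT.leaf []) (ZT.node 2159 (ZT.leaf [Int.ofNat 386,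 Int.ofNat 115, Int.negSucc 89, Int.ofNat 18, Int.ofNat 0, Int.ofNat 43, Int.ofNat 2, Int.negSucc 6, Int.ofNat 1, Int.ofNat 0, Int.ofNat 0, Int.ofNat 0, Int.ofNat 1, Int.ofNat 1, Int.negSucc 33, Int.ofNat 0, Int.ofNat 7, Int.ofNat 0, Int.ofNat 37]) (ZT.leaf [Int.ofNat 250, Int.ofNat 103, Int.negSucc 58, Int.ofNat 16, Int.ofNat 0, Int.ofNat 32, Int.ofNat 4, Int.negSucc 9, Int.negSucc 0, Int.ofNat 0, Int.ofNat 0, Int.ofNat 0, Int.ofNat 0, Int.ofNat 1, Int.negSucc 36, Int.ofNat 0, Int.ofNat 6, Int.ofNat 0, Int.ofNat 29]))))))))))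

end Cfsg.Agent.Helper9.TCData.L34L0
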