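import Cfsg.Agent.Lib.Helper9.LTC

set_option autoImplicit false
set_option maxRecDepth 1000000

namespace Cfsg.Agent.Helper9.TCData.L34L0
open Cfsg.Agent.Helper9.TC2 Cfsg.Agent.Helper9.LTC

noncomputable def labT_6 : ZT := (ZT.node 2340 (ZT.node 2250 (ZT.node 2205 (ZT.node 2182 (ZT.node 2171 (ZT.node 2165 (ZT.node 2162 (ZT.node 2161 (ZT.leaf [Int.ofNat 10, Int.ofNat 6, Int.negSucc 1, Int.ofNat 0, Int.ofNat 0, Int.ofNat 1, Int.ofNat 0, Int.negSucc 0, Int.negSucc 0, Int.ofNat 0, Int.ofNat 0, Int.ofNat 0, Int.ofNat 0, Int.ofNat 0, Int.ofNat 0, Int.ofNat 0, Int.ofNat 0, Int.ofNat 0, Int.ofNat 1]) (ZT.leaf [Int.ofNat 3, Int.ofNat 4, Int.ofNat 0, Int.ofNat 0, Int.ofNat 0, Int.ofNat 0, Int.ofNat 0, Int.ofNat 0, Int.ofNat 0, Int.ofNat 1, Int.ofNat 0])) (ZT.node 2163 (ZT.leaf [Int.negSucc 250, Int.negSucc 102, Int.ofNat 59, Int.negSucc 15, Int.ofNat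 0, Int.negSucc 31, Int.negSucc 3, Int.ofNat 10, Int.ofNat 1, Int.ofNat 0, Int.ofNat 0, Int.ofNat 0, Int.ofNat 0, Int.negSucc 0, Int.ofNat 37, Int.ofNat 0, Int.negSucc 5, Int.ofNat 0, Int.negSucc 28]) (ZT.node 2164 (ZT.leaf [Int.negSucc 0]) (ZT.leaf [Int.negSucc 0, Int.ofNat 0, Int.ofNat 0, Int.ofNat 0, Int.ofNat 0, Int.ofNat 0, Int.ofNat 0, Int.ofNat 0, Int.ofNat 0, Int.negSucc 0])))) (ZT.node 2168 (ZT.node 2166 (ZT.leaf [Int.ofNat 270, Int.ofNat 95, Int.negSucc 64, Int.ofNat 16, Int.ofNat 0, Int.ofNat 33, Int.ofNat 4, Int.negSucc 8, Int.ofNat 0, Int.ofNat 0, Int.ofNat 0, Int.ofNat 0, Int.ofNat 0, Int.ofNat 1, Int.negSucc 34, Int.ofNat 0, Int.ofNat 6, Int.ofNat 0, Int.ofNat 30]) (ZT.node 2167 (ZT.leaf []) (ZT.leaf [Int.ofNat 2, Int.ofNat 3]))) (ZT.node 2169 (ZT.leaf [Int.ofNat 11, Int.ofNat 1, Int.negSucc 1, Int.negSucc 2, Int.ofNat 0,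 Int.ofNat 1, Int.ofNat 0, Int.ofNat 1, Int.ofNat 0, Int.ofNat 0, Int.ofNat 0, Int.ofNat 0, Int.ofNat 1, Int.ofNat 0, Int.negSucc 1, Int.ofNat 0, Int.ofNat 2, Int.ofNat 0, Int.ofNat 1]) (ZT.node 2170 (ZT.leaf [Int.ofNat 461, Int.ofNat 303, Int.negSucc 95, Int.ofNat 46, Int.ofNat 0, Int.ofNat 67, Int.ofNat 17, Int.negSucc 19, Int.negSucc 4, Int.ofNat 0, Int.ofNat 0, Int.ofNat 0, Int.ofNat 3, Int.ofNat 2, Int.negSucc 98, Int.negSucc 1, Int.ofNat 2, Int.ofNat 0, Int.ofNat 64]) (ZT.leaf [Int.negSucc 167, Int.negSucc 50, Int.ofNat 41, Int.negSucc 8, Int.ofNat 0, Int.negSucc 21, Int.negSucc 0, Int.ofNat 3, Int.negSucc 0, Int.ofNat 0, Int.ofNat 0, Int.ofNat 0, Int.ofNat 0, Int.ofNat 0, Int.ofNat 15, Int.ofNat 0, Int.negSucc 1, Int.ofNat 0, Int.negSucc 16]))))) (ZT.node 2176 (ZT.node 2173 (ZT.node 2172 (ZT.leaf [Int.negSucc 9, Int.ofNat 8, Int.ofNat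 2, Int.ofNat 1, Int.ofNat 0, Int.ofNat 0, Int.ofNat 0, Int.negSucc 0, Int.negSucc 0, Int.negSucc 0, Int.ofNat 0, Int.ofNat 0, Int.ofNat 0, Int.ofNat 0, Int.negSucc 6, Int.ofNat 0, Int.ofNat 0, Int.ofNat 0, Int.ofNat 1]) (ZT.leaf [Int.ofNat 30, Int.negSucc 3, Int.negSucc 7, Int.ofNat 1, Int.ofNat 0, Int.ofNat 3, Int.ofNat 0, Int.ofNat 0, Int.ofNat 1, Int.ofNat 1, Int.ofNat 0, Int.ofNat 0, Int.ofNat 0, Int.ofNat 0, Int.ofNat 2, Int.ofNat 0, Int.ofNat 1, Int.ofNat 0, Int.ofNat 2])) (ZT.node 2174 (ZT.leaf [Int.negSucc 0]) (ZT.node 2175 (ZT.leaf []) (ZT.leaf [Int.negSucc 25, Int.ofNat 6, Int.ofNat 9, Int.negSucc 0, Int.ofNat 0, Int.negSucc 2, Int.ofNat 0, Int.ofNat 0, Int.negSucc 0, Int.ofNat 0, Int.ofNat 0, Int.ofNat 0, Int.ofNat 0, Int.ofNat 0, Int.negSucc 1, Int.ofNat 0, Int.negSucc 0, Int.ofNat 0, Int.negSucc 1])))) (ZT.node 2179 (ZT.node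 2177 (ZT.leaf [Int.negSucc 99, Int.negSucc 8, Int.ofNat 31, Int.negSucc 5, Int.ofNat 0, Int.negSucc 13, Int.ofNat 0, Int.ofNat 2, Int.negSucc 1, Int.ofNat 0, Int.ofNat 0, Int.ofNat 0, Int.ofNat 1, Int.ofNat 0, Int.ofNat 0, Int.ofNat 0, Int.negSucc 1, Int.ofNat 0, Int.negSucc 9]) (ZT.node 2178 (ZT.leaf []) (ZT.leaf []))) (ZT.node 2180 (ZT.leaf []) (ZT.node 2181 (ZT.leaf [Int.ofNat 2, Int.ofNat 1, Int.ofNat 0, Int.ofNat 0, Int.ofNat 0, Int.ofNat 0, Int.ofNat 0, Int.ofNat 0, Int.ofNat 0, Int.ofNat 0, Int.ofNat 0, Int.ofNat 0, Int.ofNat 0, Int.ofNat 0, Int.ofNat 0, Int.ofNat 0, Int.negSucc 0]) (ZT.leaf [Int.negSucc 1412, Int.negSucc 737, Int.ofNat 350, Int.negSucc 127, Int.negSucc 1, Int.negSucc 213, Int.negSucc 28, Int.ofNat 67, Int.ofNat 8, Int.ofNat 0, Int.ofNat 0, Int.ofNat 0, Int.negSucc 0, Int.negSucc 1, Int.ofNat 262, Int.ofNat 2, Int.negSucc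 36, Int.ofNat 0, Int.negSucc 192])))))) (ZT.node 2193 (ZT.node 2187 (ZT.node 2184 (ZT.node 2183 (ZT.leaf []) (ZT.leaf [Int.negSucc 2168, Int.negSucc 1489, Int.ofNat 513, Int.negSucc 253, Int.negSucc 3, Int.negSucc 363, Int.negSucc 56, Int.ofNat 99, Int.ofNat 18, Int.ofNat 0, Int.ofNat 0, Int.ofNat 0, Int.negSucc 7, Int.negSucc 7, Int.ofNat 524, Int.ofNat 8, Int.negSucc 36, Int.ofNat 0, Int.negSucc 327])) (ZT.node 2185 (ZT.leaf [Int.negSucc 3997, Int.negSucc 384, Int.ofNat 898, Int.negSucc 21, Int.ofNat 6, Int.negSucc 337, Int.negSucc 40, Int.negSucc 9, Int.negSucc 27, Int.ofNat 0, Int.ofNat 0, Int.ofNat 0, Int.negSucc 20, Int.negSucc 10, Int.ofNat 216, Int.negSucc 6, Int.negSucc 6, Int.ofNat 0, Int.negSucc 281]) (ZT.node 2186 (ZT.leaf [Int.ofNat 2169, Int.ofNat 1491, Int.negSucc 512, Int.ofNat 254, Int.ofNat 4, Int.ofNat 364, Int.ofNat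 57, Int.negSucc 98, Int.negSucc 17, Int.ofNat 0, Int.ofNat 0, Int.ofNat 0, Int.ofNat 8, Int.ofNat 8, Int.negSucc 523, Int.negSucc 7, Int.ofNat 37, Int.ofNat 0, Int.ofNat 328]) (ZT.leaf [Int.ofNat 9891, Int.ofNat 6895, Int.negSucc 2630, Int.ofNat 1329, Int.ofNat 34, Int.ofNat 1878, Int.ofNat 195, Int.negSucc 525, Int.negSucc 53, Int.negSucc 0, Int.ofNat 0, Int.ofNat 0, Int.negSucc 4, Int.ofNat 24, Int.negSucc 2240, Int.negSucc 42, Int.ofNat 259, Int.ofNat 0, Int.ofNat 1585])))) (ZT.node 2190 (ZT.node 2188 (ZT.leaf [Int.negSucc 91, Int.negSucc 32, Int.ofNat 20, Int.negSucc 3, Int.ofNat 0, Int.negSucc 9, Int.ofNat 0, Int.ofNat 1, Int.ofNat 0, Int.ofNat 0, Int.ofNat 0, Int.ofNat 0, Int.negSucc 0, Int.ofNat 0, Int.ofNat 11, Int.ofNat 0, Int.negSucc 0, Int.ofNat 0, Int.negSucc 8]) (ZT.node 2189 (ZT.leaf [Int.negSucc 0, Int.negSucc 0]) (ZT.leaf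 [Int.ofNat 685, Int.ofNat 345, Int.negSucc 177, Int.ofNat 66, Int.ofNat 0, Int.ofNat 107, Int.ofNat 4, Int.negSucc 12, Int.ofNat 5, Int.ofNat 0, Int.ofNat 0, Int.ofNat 0, Int.ofNat 0, Int.ofNat 4, Int.negSucc 91, Int.negSucc 1, Int.ofNat 12, Int.ofNat 0, Int.ofNat 87]))) (ZT.node 2191 (ZT.leaf []) (ZT.node 2192 (ZT.leaf [Int.ofNat 14, Int.ofNat 2, Int.negSucc 5, Int.ofNat 2, Int.ofNat 0, Int.ofNat 2, Int.ofNat 0, Int.negSucc 0, Int.ofNat 0, Int.ofNat 0, Int.ofNat 0, Int.ofNat 0, Int.ofNat 0, Int.ofNat 0, Int.negSucc 0, Int.ofNat 0, Int.ofNat 2, Int.ofNat 0, Int.ofNat 2]) (ZT.leaf [Int.ofNat 4, Int.ofNat 1, Int.ofNat 0, Int.ofNat 0, Int.ofNat 0, Int.ofNat 0, Int.ofNat 1, Int.ofNat 0, Int.ofNat 0, Int.ofNat 0, Int.ofNat 1]))))) (ZT.node 2199 (ZT.node 2196 (ZT.node 2194 (ZT.leaf [Int.negSucc 1083, Int.negSucc 354, Int.ofNat 194, Int.negSucc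 29, Int.ofNat 3, Int.negSucc 91, Int.negSucc 11, Int.ofNat 8, Int.negSucc 0, Int.ofNat 1, Int.ofNat 0, Int.ofNat 0, Int.negSucc 9, Int.negSucc 1, Int.ofNat 110, Int.negSucc 0, Int.negSucc 15, Int.ofNat 0, Int.negSucc 89]) (ZT.node 2195 (ZT.leaf [Int.negSucc 196, Int.negSucc 245, Int.ofNat 83, Int.negSucc 59, Int.negSucc 1, Int.negSucc 75, Int.negSucc 3, Int.ofNat 14, Int.negSucc 1, Int.negSucc 0, Int.ofNat 0, Int.ofNat 0, Int.ofNat 2, Int.negSucc 2, Int.ofNat 64, Int.ofNat 4, Int.negSucc 3, Int.ofNat 0, Int.negSucc 55]) (ZT.leaf [Int.negSucc 1925, Int.negSucc 1789, Int.ofNat 626, Int.negSucc 389, Int.negSucc 22, Int.negSucc 472, Int.negSucc 34, Int.ofNat 157, Int.ofNat 14, Int.negSucc 0, Int.ofNat 1, Int.ofNat 0, Int.ofNat 22, Int.negSucc 5, Int.ofNat 530, Int.ofNat 18, Int.negSucc 80, Int.ofNat 1, Int.negSucc 391]))) (ZT.node 2197 (ZT.leaf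 [Int.ofNat 95, Int.ofNat 21, Int.negSucc 20, Int.ofNat 2, Int.ofNat 0, Int.ofNat 10, Int.negSucc 0, Int.ofNat 1, Int.ofNat 1, Int.ofNat 0, Int.ofNat 0, Int.ofNat 0, Int.ofNat 1, Int.ofNat 0, Int.negSucc 3, Int.ofNat 0, Int.ofNat 1, Int.ofNat 0, Int.ofNat 8]) (ZT.node 2198 (ZT.leaf [Int.negSucc 0]) (ZT.leaf [Int.negSucc 11, Int.ofNat 8, Int.ofNat 4, Int.ofNat 1, Int.ofNat 0, Int.ofNat 0, Int.ofNat 0, Int.negSucc 0, Int.negSucc 0, Int.ofNat 0, Int.ofNat 0, Int.ofNat 0, Int.ofNat 0, Int.ofNat 0, Int.negSucc 4, Int.ofNat 0, Int.ofNat 0, Int.ofNat 0, Int.ofNat 0])))) (ZT.node 2202 (ZT.node 2200 (ZT.leaf []) (ZT.node 2201 (ZT.leaf [Int.negSucc 207, Int.negSucc 34, Int.ofNat 57, Int.negSucc 8, Int.ofNat 0, Int.negSucc 24, Int.ofNat 1, Int.ofNat 2, Int.negSucc 1, Int.ofNat 0, Int.ofNat 0, Int.ofNat 1, Int.ofNat 0, Int.ofNat 0, Int.ofNat 3, Int.ofNat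 0, Int.negSucc 2, Int.ofNat 0, Int.negSucc 18]) (ZT.leaf [Int.negSucc 0, Int.ofNat 0, Int.ofNat 0, Int.ofNat 0, Int.ofNat 0, Int.ofNat 0, Int.ofNat 0, Int.ofNat 1]))) (ZT.node 2203 (ZT.leaf [Int.ofNat 5879, Int.ofNat 3928, Int.negSucc 1406, Int.ofNat 648, Int.ofNat 9, Int.ofNat 1006, Int.ofNat 140, Int.negSucc 319, Int.negSucc 48, Int.ofNat 0, Int.ofNat 0, Int.ofNat 2, Int.ofNat 9, Int.ofNat 17, Int.negSucc 1297, Int.negSucc 17, Int.ofNat 168, Int.ofNat 1, Int.ofNat 902]) (ZT.node 2204 (ZT.leaf []) (ZT.leaf [Int.ofNat 1, Int.ofNat 0, Int.ofNat 0, Int.ofNat 0, Int.ofNat 0, Int.ofNat 0, Int.ofNat 0, Int.ofNat 0, Int.ofNat 0, Int.ofNat 0, Int.ofNat 0, Int.ofNat 0, Int.negSucc 0]))))))) (ZT.node 2227 (ZT.node 2216 (ZT.node 2210 (ZT.node 2207 (ZT.node 2206 (ZT.leaf [Int.negSucc 0]) (ZT.leaf [Int.negSucc 193, Int.ofNat 373, Int.negSucc 5, Int.ofNat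 88, Int.ofNat 5, Int.ofNat 68, Int.ofNat 0, Int.negSucc 28, Int.negSucc 4, Int.ofNat 0, Int.ofNat 0, Int.negSucc 0, Int.negSucc 6, Int.ofNat 6, Int.negSucc 108, Int.negSucc 6, Int.ofNat 20, Int.ofNat 0, Int.ofNat 54])) (ZT.node 2208 (ZT.leaf [Int.negSucc 329, Int.negSucc 123, Int.ofNat 80, Int.negSucc 20, Int.negSucc 0, Int.negSucc 41, Int.negSucc 2, Int.ofNat 10, Int.ofNat 0, Int.ofNat 0, Int.ofNat 0, Int.ofNat 0, Int.ofNat 0, Int.negSucc 1, Int.ofNat 34, Int.ofNat 1, Int.negSucc 6, Int.ofNat 1, Int.negSucc 36]) (ZT.node 2209 (ZT.leaf [Int.negSucc 1133, Int.negSucc 1036, Int.ofNat 301, Int.negSucc 194, Int.negSucc 8, Int.negSucc 234, Int.negSucc 23, Int.ofNat 74, Int.ofNat 13, Int.ofNat 0, Int.ofNat 0, Int.ofNat 1, Int.ofNat 0, Int.negSucc 8, Int.ofNat 373, Int.ofNat 11, Int.negSucc 49, Int.ofNat 0, Int.negSucc 210]) (ZT.leaf [Int.negSucc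 0])))) (ZT.node 2213 (ZT.node 2211 (ZT.leaf [Int.negSucc 2419, Int.negSucc 2136, Int.ofNat 632, Int.negSucc 383, Int.negSucc 9, Int.negSucc 511, Int.negSucc 61, Int.ofNat 169, Int.ofNat 27, Int.ofNat 0, Int.ofNat 0, Int.ofNat 0, Int.ofNat 2, Int.negSucc 12, Int.ofNat 693, Int.ofNat 16, Int.negSucc 90, Int.ofNat 0, Int.negSucc 451]) (ZT.node 2212 (ZT.leaf []) (ZT.leaf []))) (ZT.node 2214 (ZT.leaf [Int.negSucc 0]) (ZT.node 2215 (ZT.leaf [Int.ofNat 293, Int.negSucc 764, Int.ofNat 120, Int.negSucc 231, Int.negSucc 17, Int.negSucc 179, Int.ofNat 17, Int.ofNat 61, Int.negSucc 1, Int.ofNat 0, Int.ofNat 1, Int.ofNat 0, Int.ofNat 25, Int.negSucc 3, Int.ofNat 139, Int.ofNat 15, Int.negSucc 26, Int.ofNat 0, Int.negSucc 122]) (ZT.leaf [Int.ofNat 4071, Int.ofNat 3152, Int.negSucc 1170, Int.ofNat 647, Int.ofNat 31, Int.ofNat 844, Int.ofNat 60, Int.negSucc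 245, Int.negSucc 19, Int.ofNat 1, Int.negSucc 0, Int.ofNat 1, Int.negSucc 20, Int.ofNat 12, Int.negSucc 935, Int.negSucc 24, Int.ofNat 143, Int.ofNat 1, Int.ofNat 707]))))) (ZT.node 2221 (ZT.node 2218 (ZT.node 2217 (ZT.leaf []) (ZT.leaf [])) (ZT.node 2219 (ZT.leaf [Int.ofNat 273, Int.ofNat 113, Int.negSucc 75, Int.ofNat 28, Int.ofNat 1, Int.ofNat 48, Int.ofNat 6, Int.negSucc 11, Int.ofNat 2, Int.ofNat 1, Int.ofNat 0, Int.ofNat 0, Int.negSucc 2, Int.ofNat 1, Int.negSucc 32, Int.negSucc 0, Int.ofNat 1, Int.ofNat 0, Int.ofNat 36]) (ZT.node 2220 (ZT.leaf [Int.negSucc 237, Int.negSucc 49, Int.ofNat 55, Int.negSucc 8, Int.ofNat 0, Int.negSucc 25, Int.negSucc 1, Int.negSucc 2, Int.negSucc 1, Int.ofNat 0, Int.ofNat 0, Int.ofNat 0, Int.negSucc 1, Int.ofNat 0, Int.ofNat 9, Int.ofNat 0, Int.ofNat 0, Int.ofNat 0, Int.negSucc 19]) (ZT.leaf [Int.negSucc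 155, Int.negSucc 324, Int.ofNat 66, Int.negSucc 66, Int.negSucc 1, Int.negSucc 67, Int.negSucc 5, Int.ofNat 15, Int.ofNat 3, Int.ofNat 1, Int.ofNat 0, Int.ofNat 0, Int.negSucc 0, Int.negSucc 3, Int.ofNat 109, Int.ofNat 4, Int.negSucc 1, Int.ofNat 0, Int.negSucc 59])))) (ZT.node 2224 (ZT.node 2222 (ZT.leaf []) (ZT.node 2223 (ZT.leaf [Int.ofNat 11121, Int.ofNat 5574, Int.negSucc 2694, Int.ofNat 949, Int.ofNat 22, Int.ofNat 1608, Int.ofNat 167, Int.negSucc 400, Int.negSucc 31, Int.ofNat 0, Int.ofNat 0, Int.ofNat 0, Int.ofNat 20, Int.ofNat 24, Int.negSucc 1855, Int.negSucc 20, Int.ofNat 250, Int.ofNat 0, Int.ofNat 1408]) (ZT.leaf []))) (ZT.node 2225 (ZT.leaf [Int.ofNat 353, Int.ofNat 88, Int.negSucc 89, Int.ofNat 18, Int.ofNat 0, Int.ofNat 42, Int.ofNat 0, Int.negSucc 5, Int.ofNat 3, Int.ofNat 1, Int.ofNat 0, Int.ofNat 0, Int.ofNat 0, Int.ofNat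 1, Int.negSucc 23, Int.ofNat 0, Int.ofNat 7, Int.ofNat 0, Int.ofNat 34]) (ZT.node 2226 (ZT.leaf [Int.negSucc 0]) (ZT.leaf [Int.negSucc 0])))))) (ZT.node 2238 (ZT.node 2232 (ZT.node 2229 (ZT.node 2228 (ZT.leaf [Int.ofNat 97, Int.ofNat 26, Int.negSucc 19, Int.ofNat 2, Int.ofNat 0, Int.ofNat 10, Int.negSucc 0, Int.ofNat 1, Int.ofNat 1, Int.ofNat 1, Int.ofNat 0, Int.ofNat 0, Int.ofNat 1, Int.ofNat 0, Int.negSucc 3, Int.ofNat 0, Int.ofNat 3, Int.ofNat 0, Int.ofNat 8]) (ZT.leaf [])) (ZT.node 2230 (ZT.leaf [Int.negSucc 26, Int.negSucc 17, Int.ofNat 20, Int.negSucc 10, Int.negSucc 0, Int.negSucc 9, Int.negSucc 0, Int.ofNat 9, Int.ofNat 1, Int.ofNat 0, Int.ofNat 1, Int.ofNat 0, Int.ofNat 2, Int.negSucc 0, Int.ofNat 5, Int.ofNat 1, Int.negSucc 3, Int.ofNat 0, Int.negSucc 7]) (ZT.node 2231 (ZT.leaf [Int.ofNat 306, Int.ofNat 65, Int.negSucc 80, Int.ofNat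 16, Int.ofNat 0, Int.ofNat 37, Int.ofNat 0, Int.negSucc 3, Int.ofNat 3, Int.ofNat 0, Int.ofNat 0, Int.ofNat 0, Int.ofNat 0, Int.ofNat 1, Int.negSucc 18, Int.ofNat 0, Int.ofNat 2, Int.ofNat 0, Int.ofNat 30]) (ZT.leaf [Int.negSucc 8242, Int.negSucc 2010, Int.ofNat 1836, Int.negSucc 255, Int.negSucc 0, Int.negSucc 807, Int.negSucc 82, Int.ofNat 144, Int.negSucc 8, Int.ofNat 0, Int.ofNat 0, Int.ofNat 0, Int.negSucc 27, Int.negSucc 4, Int.ofNat 772, Int.negSucc 12, Int.negSucc 157, Int.ofNat 0, Int.negSucc 728])))) (ZT.node 2235 (ZT.node 2233 (ZT.leaf [Int.negSucc 0]) (ZT.node 2234 (ZT.leaf [Int.negSucc 2093, Int.negSucc 888, Int.ofNat 472, Int.negSucc 132, Int.negSucc 3, Int.negSucc 265, Int.negSucc 41, Int.ofNat 78, Int.ofNat 11, Int.ofNat 1, Int.ofNat 0, Int.ofNat 0, Int.negSucc 3, Int.negSucc 1, Int.ofNat 332, Int.ofNat 1, Int.negSucc 43,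 Int.ofNat 0, Int.negSucc 241]) (ZT.leaf [Int.negSucc 0]))) (ZT.node 2236 (ZT.leaf [Int.ofNat 330, Int.ofNat 124, Int.negSucc 79, Int.ofNat 21, Int.ofNat 1, Int.ofNat 42, Int.ofNat 3, Int.negSucc 9, Int.ofNat 0, Int.ofNat 0, Int.ofNat 0, Int.ofNat 0, Int.ofNat 0, Int.ofNat 2, Int.negSucc 33, Int.negSucc 0, Int.ofNat 7, Int.ofNat 0, Int.ofNat 37]) (ZT.node 2237 (ZT.leaf []) (ZT.leaf []))))) (ZT.node 2244 (ZT.node 2241 (ZT.node 2239 (ZT.leaf [Int.negSucc 9275, Int.negSucc 3208, Int.ofNat 2016, Int.negSucc 418, Int.negSucc 17, Int.negSucc 1099, Int.negSucc 131, Int.ofNat 347, Int.ofNat 26, Int.ofNat 1, Int.negSucc 0, Int.negSucc 0, Int.ofNat 10, Int.ofNat 0, Int.ofNat 800, Int.negSucc 5, Int.negSucc 226, Int.ofNat 0, Int.negSucc 953]) (ZT.node 2240 (ZT.leaf [Int.negSucc 4450, Int.ofNat 666, Int.ofNat 968, Int.ofNat 177, Int.ofNat 17, Int.negSucc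 195, Int.ofNat 0, Int.negSucc 110, Int.negSucc 64, Int.ofNat 0, Int.ofNat 0, Int.ofNat 0, Int.negSucc 26, Int.negSucc 2, Int.negSucc 188, Int.negSucc 18, Int.ofNat 38, Int.ofNat 0, Int.negSucc 143]) (ZT.leaf []))) (ZT.node 2242 (ZT.leaf [Int.ofNat 42849, Int.ofNat 14736, Int.negSucc 9699, Int.ofNat 2227, Int.ofNat 50, Int.ofNat 4911, Int.ofNat 618, Int.negSucc 1175, Int.negSucc 73, Int.ofNat 0, Int.ofNat 0, Int.ofNat 0, Int.ofNat 106, Int.ofNat 20, Int.negSucc 5651, Int.ofNat 27, Int.ofNat 878, Int.negSucc 0, Int.ofNat 4426]) (ZT.node 2243 (ZT.leaf []) (ZT.leaf [Int.negSucc 5395, Int.negSucc 1945, Int.ofNat 1288, Int.negSucc 342, Int.negSucc 0, Int.negSucc 561, Int.negSucc 77, Int.ofNat 49, Int.negSucc 2, Int.negSucc 0, Int.ofNat 1, Int.ofNat 1, Int.negSucc 44, Int.negSucc 7, Int.ofNat 1140, Int.ofNat 3, Int.negSucc 66, Int.ofNat 0, Int.negSucc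 557])))) (ZT.node 2247 (ZT.node 2245 (ZT.leaf [Int.ofNat 29459, Int.ofNat 12657, Int.negSucc 6815, Int.ofNat 1993, Int.ofNat 29, Int.ofNat 3855, Int.ofNat 477, Int.negSucc 899, Int.negSucc 60, Int.negSucc 0, Int.ofNat 1, Int.negSucc 0, Int.ofNat 85, Int.ofNat 65, Int.negSucc 4426, Int.negSucc 34, Int.ofNat 571, Int.ofNat 0, Int.ofNat 3421]) (ZT.node 2246 (ZT.leaf [Int.negSucc 0]) (ZT.leaf [Int.negSucc 86, Int.negSucc 16, Int.ofNat 23, Int.negSucc 2, Int.ofNat 0, Int.negSucc 9, Int.ofNat 0, Int.ofNat 0, Int.negSucc 0, Int.ofNat 0, Int.ofNat 0, Int.ofNat 0, Int.ofNat 0, Int.ofNat 0, Int.ofNat 4, Int.ofNat 0, Int.negSucc 1, Int.ofNat 0, Int.negSucc 7]))) (ZT.node 2248 (ZT.leaf [Int.ofNat 0, Int.ofNat 1]) (ZT.node 2249 (ZT.leaf [Int.negSucc 8, Int.ofNat 5, Int.ofNat 2, Int.ofNat 0, Int.ofNat 0, Int.ofNat 0, Int.ofNat 0, Int.negSucc 0, Int.negSucc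 0, Int.negSucc 0, Int.ofNat 0, Int.ofNat 0, Int.ofNat 0, Int.ofNat 0, Int.negSucc 2, Int.ofNat 0, Int.ofNat 0, Int.ofNat 0, Int.ofNat 0]) (ZT.leaf [])))))))) (ZT.node 2295 (ZT.node 2272 (ZT.node 2261 (ZT.node 2255 (ZT.node 2252 (ZT.node 2251 (ZT.leaf [Int.ofNat 8, Int.negSucc 4, Int.negSucc 1, Int.ofNat 0, Int.ofNat 0, Int.ofNat 0, Int.ofNat 0, Int.ofNat 1, Int.ofNat 1, Int.ofNat 1, Int.ofNat 0, Int.ofNat 0, Int.ofNat 0, Int.ofNat 0, Int.ofNat 3, Int.ofNat 0, Int.ofNat 0, Int.ofNat 0, Int.ofNat 0]) (ZT.leaf [Int.negSucc 13, Int.ofNat 4, Int.ofNat 3, Int.ofNat 0, Int.ofNat 0, Int.ofNat 0, Int.ofNat 0, Int.negSucc 0, Int.negSucc 0, Int.negSucc 0, Int.ofNat 0, Int.ofNat 0, Int.ofNat 0, Int.ofNat 0, Int.negSucc 1, Int.ofNat 0, Int.ofNat 0, Int.ofNat 0, Int.ofNat 0])) (ZT.node 2253 (ZT.leaf [Int.negSucc 0]) (ZT.node 2254 (ZT.leaf [Int.ofNat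 130, Int.negSucc 37, Int.negSucc 31, Int.negSucc 5, Int.ofNat 0, Int.ofNat 4, Int.negSucc 3, Int.ofNat 7, Int.ofNat 4, Int.ofNat 0, Int.ofNat 0, Int.ofNat 0, Int.ofNat 1, Int.ofNat 0, Int.ofNat 17, Int.ofNat 0, Int.ofNat 0, Int.ofNat 0, Int.ofNat 1]) (ZT.leaf [Int.ofNat 3387, Int.ofNat 1145, Int.negSucc 723, Int.ofNat 151, Int.ofNat 0, Int.ofNat 356, Int.ofNat 44, Int.negSucc 65, Int.ofNat 1, Int.negSucc 0, Int.ofNat 1, Int.ofNat 0, Int.ofNat 14, Int.ofNat 6, Int.negSucc 425, Int.ofNat 2, Int.ofNat 66, Int.ofNat 0, Int.ofNat 329])))) (ZT.node 2258 (ZT.node 2256 (ZT.leaf [Int.negSucc 19, Int.negSucc 9, Int.ofNat 5, Int.ofNat 0, Int.ofNat 0, Int.negSucc 2, Int.ofNat 0, Int.ofNat 0, Int.ofNat 0, Int.ofNat 0, Int.ofNat 0, Int.ofNat 0, Int.ofNat 0, Int.ofNat 0, Int.ofNat 2, Int.ofNat 0, Int.ofNat 1, Int.ofNat 0, Int.negSucc 1]) (ZT.node 2257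 (ZT.leaf [Int.negSucc 0]) (ZT.leaf [Int.negSucc 32, Int.ofNat 40, Int.negSucc 6, Int.ofNat 10, Int.negSucc 1, Int.ofNat 18, Int.ofNat 13, Int.negSucc 12, Int.negSucc 8, Int.ofNat 1, Int.negSucc 0, Int.ofNat 0, Int.ofNat 1, Int.negSucc 2, Int.ofNat 9, Int.negSucc 0, Int.negSucc 27, Int.ofNat 0, Int.ofNat 12]))) (ZT.node 2259 (ZT.leaf [Int.ofNat 6, Int.ofNat 3, Int.ofNat 1, Int.ofNat 0, Int.ofNat 0, Int.ofNat 0, Int.ofNat 0, Int.ofNat 0, Int.ofNat 0, Int.ofNat 1, Int.ofNat 0, Int.ofNat 0, Int.ofNat 0, Int.ofNat 0, Int.ofNat 0, Int.ofNat 0, Int.ofNat 1, Int.ofNat 0, Int.ofNat 0]) (ZT.node 2260 (ZT.leaf [Int.negSucc 166, Int.negSucc 85, Int.ofNat 39, Int.negSucc 13, Int.ofNat 0, Int.negSucc 24, Int.negSucc 5, Int.ofNat 7, Int.ofNat 2, Int.negSucc 0, Int.ofNat 0, Int.ofNat 0, Int.negSucc 0, Int.ofNat 0, Int.ofNat 36, Int.negSucc 0, Int.negSucc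 2, Int.ofNat 0, Int.negSucc 21]) (ZT.leaf []))))) (ZT.node 2266 (ZT.node 2263 (ZT.node 2262 (ZT.leaf [Int.ofNat 283, Int.ofNat 404, Int.negSucc 20, Int.ofNat 49, Int.ofNat 4, Int.ofNat 39, Int.ofNat 29, Int.negSucc 47, Int.negSucc 21, Int.ofNat 0, Int.ofNat 0, Int.ofNat 0, Int.ofNat 3, Int.negSucc 0, Int.negSucc 207, Int.ofNat 0, Int.ofNat 21, Int.ofNat 0, Int.ofNat 61]) (ZT.leaf [Int.ofNat 23, Int.negSucc 5, Int.negSucc 4, Int.negSucc 2, Int.ofNat 0, Int.ofNat 0, Int.negSucc 0, Int.ofNat 2, Int.ofNat 1, Int.ofNat 0, Int.ofNat 0, Int.ofNat 0, Int.ofNat 0, Int.ofNat 0, Int.ofNat 6, Int.ofNat 0, Int.ofNat 1, Int.ofNat 0, Int.ofNat 0])) (ZT.node 2264 (ZT.leaf [Int.ofNat 362, Int.negSucc 99, Int.negSucc 121, Int.negSucc 2, Int.negSucc 2, Int.ofNat 40, Int.negSucc 18, Int.ofNat 32, Int.ofNat 20, Int.negSucc 0, Int.ofNat 1, Int.ofNat 0, Int.ofNat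 0, Int.ofNat 3, Int.ofNat 117, Int.negSucc 1, Int.negSucc 10, Int.ofNat 0, Int.ofNat 14]) (ZT.node 2265 (ZT.leaf [Int.negSucc 0]) (ZT.leaf [Int.negSucc 25, Int.negSucc 3, Int.ofNat 6, Int.ofNat 0, Int.ofNat 0, Int.negSucc 1, Int.ofNat 0, Int.negSucc 0, Int.negSucc 0, Int.ofNat 0, Int.ofNat 0, Int.ofNat 0, Int.ofNat 0, Int.ofNat 0, Int.ofNat 4, Int.ofNat 0, Int.ofNat 1, Int.ofNat 0, Int.negSucc 0])))) (ZT.node 2269 (ZT.node 2267 (ZT.leaf [Int.negSucc 379, Int.negSucc 271, Int.ofNat 75, Int.negSucc 36, Int.negSucc 0, Int.negSucc 52, Int.negSucc 10, Int.ofNat 17, Int.ofNat 5, Int.ofNat 1, Int.ofNat 0, Int.ofNat 0, Int.negSucc 1, Int.negSucc 2, Int.ofNat 90, Int.ofNat 2, Int.negSucc 6, Int.ofNat 0, Int.negSucc 53]) (ZT.node 2268 (ZT.leaf [Int.ofNat 55, Int.ofNat 11, Int.negSucc 9, Int.negSucc 0, Int.ofNat 0, Int.ofNat 2, Int.ofNat 0, Int.ofNat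 2, Int.ofNat 1, Int.ofNat 0, Int.ofNat 0, Int.ofNat 0, Int.ofNat 1, Int.ofNat 0, Int.negSucc 5, Int.ofNat 0, Int.negSucc 0, Int.ofNat 0, Int.ofNat 2]) (ZT.leaf []))) (ZT.node 2270 (ZT.leaf [Int.ofNat 485, Int.ofNat 128, Int.negSucc 122, Int.ofNat 25, Int.ofNat 0, Int.ofNat 58, Int.ofNat 3, Int.negSucc 9, Int.ofNat 2, Int.ofNat 0, Int.ofNat 0, Int.ofNat 0, Int.ofNat 0, Int.ofNat 1, Int.negSucc 37, Int.ofNat 0, Int.ofNat 9, Int.ofNat 0, Int.ofNat 49]) (ZT.node 2271 (ZT.leaf [Int.ofNat 1816, Int.ofNat 1990, Int.negSucc 485, Int.ofNat 360, Int.ofNat 10, Int.ofNat 448, Int.ofNat 61, Int.negSucc 162, Int.negSucc 29, Int.ofNat 0, Int.ofNat 0, Int.ofNat 0, Int.negSucc 3, Int.ofNat 12, Int.negSucc 656, Int.negSucc 15, Int.ofNat 82, Int.ofNat 0, Int.ofNat 398]) (ZT.leaf [Int.ofNat 99, Int.ofNat 17, Int.negSucc 26, Int.ofNat 3, Int.ofNat 0, Int.ofNat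 11, Int.ofNat 0, Int.negSucc 0, Int.ofNat 1, Int.ofNat 0, Int.ofNat 0, Int.ofNat 0, Int.ofNat 0, Int.ofNat 1, Int.negSucc 5, Int.ofNat 0, Int.ofNat 1, Int.ofNat 0, Int.ofNat 9])))))) (ZT.node 2283 (ZT.node 2277 (ZT.node 2274 (ZT.node 2273 (ZT.leaf [Int.negSucc 845, Int.negSucc 257, Int.ofNat 211, Int.negSucc 45, Int.negSucc 0, Int.negSucc 103, Int.negSucc 5, Int.ofNat 18, Int.negSucc 1, Int.ofNat 0, Int.ofNat 0, Int.ofNat 0, Int.negSucc 0, Int.negSucc 0, Int.ofNat 75, Int.ofNat 0, Int.negSucc 14, Int.ofNat 0, Int.negSucc 86]) (ZT.leaf [])) (ZT.node 2275 (ZT.leaf []) (ZT.node 2276 (ZT.leaf [Int.ofNat 495, Int.ofNat 174, Int.negSucc 140, Int.ofNat 33, Int.negSucc 0, Int.ofNat 83, Int.ofNat 2, Int.negSucc 15, Int.ofNat 2, Int.ofNat 0, Int.ofNat 0, Int.ofNat 1, Int.negSucc 0, Int.ofNat 1, Int.negSucc 39, Int.ofNat 1, Int.ofNat 15, Int.ofNat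 0, Int.ofNat 66]) (ZT.leaf [])))) (ZT.node 2280 (ZT.node 2278 (ZT.leaf [Int.ofNat 28, Int.ofNat 0, Int.negSucc 4, Int.negSucc 1, Int.ofNat 1, Int.ofNat 1, Int.negSucc 0, Int.ofNat 3, Int.ofNat 1, Int.ofNat 0, Int.ofNat 0, Int.ofNat 0, Int.ofNat 0, Int.ofNat 1, Int.ofNat 5, Int.ofNat 0, Int.negSucc 1, Int.ofNat 0, Int.ofNat 0]) (ZT.node 2279 (ZT.leaf [Int.ofNat 2605, Int.ofNat 1758, Int.negSucc 627, Int.ofNat 297, Int.ofNat 5, Int.ofNat 446, Int.ofNat 62, Int.negSucc 139, Int.negSucc 20, Int.ofNat 0, Int.ofNat 0, Int.ofNat 0, Int.ofNat 4, Int.ofNat 8, Int.negSucc 579, Int.negSucc 8, Int.ofNat 70, Int.ofNat 0, Int.ofNat 399]) (ZT.leaf [Int.negSucc 10821, Int.negSucc 1986, Int.ofNat 2168, Int.negSucc 120, Int.negSucc 13, Int.negSucc 787, Int.negSucc 130, Int.ofNat 205, Int.ofNat 22, Int.negSucc 1, Int.ofNat 1, Int.ofNat 1, Int.negSucc 28,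 Int.ofNat 15, Int.ofNat 1025, Int.negSucc 39, Int.negSucc 243, Int.ofNat 1, Int.negSucc 798]))) (ZT.node 2281 (ZT.leaf [Int.ofNat 14584, Int.ofNat 3021, Int.negSucc 3242, Int.ofNat 393, Int.negSucc 5, Int.ofNat 1376, Int.ofNat 147, Int.negSucc 182, Int.ofNat 37, Int.negSucc 0, Int.ofNat 0, Int.negSucc 0, Int.ofNat 62, Int.ofNat 11, Int.negSucc 1220, Int.ofNat 24, Int.ofNat 198, Int.negSucc 1, Int.ofNat 1218]) (ZT.node 2282 (ZT.leaf []) (ZT.leaf [Int.negSucc 2685, Int.negSucc 1775, Int.ofNat 676, Int.negSucc 306, Int.negSucc 2, Int.negSucc 482, Int.negSucc 58, Int.ofNat 148, Int.ofNat 18, Int.ofNat 0, Int.ofNat 0, Int.negSucc 0, Int.negSucc 0, Int.negSucc 6, Int.ofNat 578, Int.ofNat 7, Int.negSucc 77, Int.negSucc 0, Int.negSucc 421]))))) (ZT.node 2289 (ZT.node 2286 (ZT.node 2284 (ZT.leaf []) (ZT.node 2285 (ZT.leaf [Int.ofNat 6184, Int.ofNat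 2481, Int.negSucc 1461, Int.ofNat 399, Int.ofNat 7, Int.ofNat 791, Int.ofNat 70, Int.negSucc 168, Int.negSucc 5, Int.ofNat 0, Int.ofNat 0, Int.ofNat 0, Int.ofNat 16, Int.ofNat 11, Int.negSucc 845, Int.negSucc 1, Int.ofNat 143, Int.ofNat 0, Int.ofNat 701]) (ZT.leaf []))) (ZT.node 2287 (ZT.leaf [Int.negSucc 9464, Int.negSucc 5387, Int.ofNat 2261, Int.negSucc 907, Int.negSucc 21, Int.negSucc 1467, Int.negSucc 199, Int.ofNat 425, Int.ofNat 58, Int.ofNat 1, Int.ofNat 0, Int.ofNat 0, Int.negSucc 15, Int.negSucc 21, Int.ofNat 1867, Int.ofNat 21, Int.negSucc 228, Int.ofNat 0, Int.negSucc 1297]) (ZT.node 2288 (ZT.leaf [Int.ofNat 50, Int.ofNat 23, Int.negSucc 8, Int.ofNat 1, Int.ofNat 0, Int.ofNat 6, Int.negSucc 0, Int.ofNat 1, Int.ofNat 0, Int.ofNat 0, Int.ofNat 0, Int.ofNat 0, Int.ofNat 1, Int.ofNat 0, Int.negSucc 6, Int.ofNat 0, Int.ofNat 2,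 Int.ofNat 0, Int.ofNat 5]) (ZT.leaf [Int.negSucc 323, Int.negSucc 180, Int.ofNat 64, Int.negSucc 21, Int.negSucc 0, Int.negSucc 38, Int.negSucc 8, Int.ofNat 11, Int.ofNat 3, Int.ofNat 0, Int.ofNat 0, Int.ofNat 0, Int.negSucc 1, Int.negSucc 0, Int.ofNat 62, Int.ofNat 0, Int.ofNat 0, Int.ofNat 0, Int.negSucc 35])))) (ZT.node 2292 (ZT.node 2290 (ZT.leaf [Int.ofNat 2627, Int.ofNat 919, Int.negSucc 649, Int.ofNat 166, Int.ofNat 5, Int.ofNat 355, Int.ofNat 42, Int.negSucc 83, Int.ofNat 0, Int.ofNat 0, Int.ofNat 0, Int.ofNat 0, Int.ofNat 0, Int.ofNat 1, Int.negSucc 341, Int.ofNat 0, Int.ofNat 47, Int.ofNat 0, Int.ofNat 299]) (ZT.node 2291 (ZT.leaf [Int.negSucc 20666, Int.negSucc 7249, Int.ofNat 4696, Int.negSucc 1071, Int.negSucc 22, Int.negSucc 2394, Int.negSucc 279, Int.ofNat 541, Int.ofNat 28, Int.negSucc 0, Int.ofNat 1, Int.ofNat 0, Int.negSucc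 57, Int.negSucc 24, Int.ofNat 2610, Int.negSucc 2, Int.negSucc 426, Int.ofNat 0, Int.negSucc 2144]) (ZT.leaf [Int.ofNat 1281, Int.ofNat 731, Int.negSucc 253, Int.ofNat 92, Int.ofNat 1, Int.ofNat 149, Int.ofNat 26, Int.negSucc 44, Int.negSucc 9, Int.ofNat 0, Int.ofNat 0, Int.ofNat 0, Int.ofNat 10, Int.ofNat 5, Int.negSucc 222, Int.negSucc 3, Int.ofNat 24, Int.ofNat 0, Int.ofNat 151]))) (ZT.node 2293 (ZT.leaf [Int.negSucc 365, Int.negSucc 276, Int.ofNat 81, Int.negSucc 41, Int.negSucc 1, Int.negSucc 57, Int.negSucc 11, Int.ofNat 21, Int.ofNat 5, Int.ofNat 0, Int.ofNat 0, Int.ofNat 0, Int.negSucc 0, Int.negSucc 2, Int.ofNat 85, Int.ofNat 3, Int.negSucc 7, Int.ofNat 0, Int.negSucc 56]) (ZT.node 2294 (ZT.leaf [Int.negSucc 0]) (ZT.leaf [Int.negSucc 3540, Int.negSucc 1103, Int.ofNat 819, Int.negSucc 167, Int.ofNat 1, Int.negSucc 410, Int.negSucc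 54, Int.ofNat 88, Int.ofNat 3, Int.ofNat 0, Int.ofNat 0, Int.ofNat 0, Int.negSucc 8, Int.negSucc 1, Int.ofNat 406, Int.negSucc 1, Int.negSucc 43, Int.ofNat 0, Int.negSucc 358]))))))) (ZT.node 2317 (ZT.node 2306 (ZT.node 2300 (ZT.node 2297 (ZT.node 2296 (ZT.leaf [Int.ofNat 2357, Int.ofNat 1500, Int.negSucc 563, Int.ofNat 257, Int.ofNat 5, Int.ofNat 385, Int.ofNat 55, Int.negSucc 100, Int.negSucc 14, Int.ofNat 0, Int.ofNat 0, Int.ofNat 0, Int.ofNat 8, Int.ofNat 8, Int.negSucc 523, Int.negSucc 7, Int.ofNat 39, Int.ofNat 0, Int.ofNat 341]) (ZT.leaf [])) (ZT.node 2298 (ZT.leaf []) (ZT.node 2299 (ZT.leaf [Int.ofNat 1, Int.ofNat 1]) (ZT.leaf [Int.negSucc 0, Int.negSucc 0])))) (ZT.node 2303 (ZT.node 2301 (ZT.leaf []) (ZT.node 2302 (ZT.leaf []) (ZT.leaf [Int.ofNat 99, Int.ofNat 9, Int.negSucc 30, Int.ofNat 6, Int.ofNat 0, Int.ofNat 14, Int.ofNat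 0, Int.negSucc 1, Int.ofNat 2, Int.ofNat 0, Int.ofNat 0, Int.ofNat 0, Int.negSucc 0, Int.ofNat 0, Int.ofNat 0, Int.ofNat 0, Int.ofNat 2, Int.ofNat 0, Int.ofNat 10]))) (ZT.node 2304 (ZT.leaf [Int.ofNat 3, Int.ofNat 4]) (ZT.node 2305 (ZT.leaf []) (ZT.leaf []))))) (ZT.node 2311 (ZT.node 2308 (ZT.node 2307 (ZT.leaf [Int.negSucc 846, Int.negSucc 268, Int.ofNat 205, Int.negSucc 47, Int.negSucc 1, Int.negSucc 95, Int.negSucc 2, Int.ofNat 16, Int.negSucc 1, Int.ofNat 0, Int.ofNat 0, Int.ofNat 0, Int.negSucc 1, Int.ofNat 0, Int.ofNat 97, Int.ofNat 0, Int.negSucc 19, Int.ofNat 0, Int.negSucc 81]) (ZT.leaf [Int.ofNat 0, Int.ofNat 1])) (ZT.node 2309 (ZT.leaf [Int.negSucc 0]) (ZT.node 2310 (ZT.leaf [Int.negSucc 5832, Int.negSucc 3494, Int.ofNat 1342, Int.negSucc 562, Int.negSucc 14, Int.negSucc 871, Int.negSucc 124, Int.ofNat 271, Int.ofNat 44, Int.ofNat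 0, Int.ofNat 0, Int.negSucc 0, Int.negSucc 13, Int.negSucc 15, Int.ofNat 1164, Int.ofNat 17, Int.negSucc 151, Int.negSucc 0, Int.negSucc 801]) (ZT.leaf [Int.negSucc 2729, Int.negSucc 1161, Int.ofNat 660, Int.negSucc 189, Int.negSucc 7, Int.negSucc 375, Int.negSucc 29, Int.ofNat 85, Int.negSucc 0, Int.ofNat 0, Int.ofNat 0, Int.ofNat 0, Int.negSucc 1, Int.negSucc 6, Int.ofNat 421, Int.ofNat 0, Int.negSucc 85, Int.ofNat 0, Int.negSucc 329])))) (ZT.node 2314 (ZT.node 2312 (ZT.leaf [Int.ofNat 183, Int.ofNat 51, Int.negSucc 42, Int.ofNat 6, Int.ofNat 0, Int.ofNat 20, Int.negSucc 0, Int.ofNat 0, Int.ofNat 1, Int.ofNat 0, Int.ofNat 0, Int.ofNat 0, Int.ofNat 1, Int.ofNat 0, Int.negSucc 14, Int.ofNat 0, Int.ofNat 4, Int.ofNat 0, Int.ofNat 17]) (ZT.node 2313 (ZT.leaf [Int.negSucc 75, Int.negSucc 11, Int.ofNat 23, Int.negSucc 4, Int.ofNat 0, Int.negSucc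 10, Int.ofNat 0, Int.ofNat 2, Int.negSucc 0, Int.ofNat 0, Int.ofNat 0, Int.ofNat 0, Int.ofNat 1, Int.ofNat 0, Int.ofNat 2, Int.ofNat 0, Int.negSucc 0, Int.ofNat 0, Int.negSucc 7]) (ZT.leaf [Int.ofNat 97, Int.ofNat 24, Int.negSucc 27, Int.ofNat 7, Int.ofNat 0, Int.ofNat 14, Int.ofNat 0, Int.negSucc 2, Int.ofNat 1, Int.ofNat 0, Int.ofNat 0, Int.ofNat 0, Int.ofNat 0, Int.ofNat 0, Int.negSucc 4, Int.ofNat 0, Int.ofNat 2, Int.ofNat 0, Int.ofNat 10]))) (ZT.node 2315 (ZT.leaf [Int.ofNat 29, Int.ofNat 10, Int.negSucc 7, Int.ofNat 2, Int.ofNat 0, Int.ofNat 4, Int.ofNat 0, Int.negSucc 0, Int.ofNat 0, Int.ofNat 0, Int.ofNat 0, Int.ofNat 0, Int.ofNat 0, Int.ofNat 0, Int.negSucc 2, Int.ofNat 0, Int.ofNat 1, Int.ofNat 0, Int.ofNat 3]) (ZT.node 2316 (ZT.leaf []) (ZT.leaf [Int.negSucc 0, Int.ofNat 0, Int.ofNat 0, Int.ofNat 0, Int.ofNat 0, Int.ofNat 0,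 Int.ofNat 0, Int.ofNat 0, Int.ofNat 0, Int.ofNat 0, Int.ofNat 0, Int.ofNat 0, Int.ofNat 0, Int.ofNat 0, Int.ofNat 0, Int.ofNat 0, Int.ofNat 0, Int.ofNat 0, Int.ofNat 1])))))) (ZT.node 2328 (ZT.node 2322 (ZT.node 2319 (ZT.node 2318 (ZT.leaf [Int.negSucc 29, Int.negSucc 9, Int.ofNat 8, Int.negSucc 1, Int.ofNat 0, Int.negSucc 3, Int.ofNat 0, Int.ofNat 1, Int.ofNat 0, Int.ofNat 0, Int.ofNat 0, Int.ofNat 0, Int.ofNat 0, Int.ofNat 0, Int.ofNat 3, Int.ofNat 0, Int.negSucc 0, Int.ofNat 0, Int.negSucc 2]) (ZT.leaf [])) (ZT.node 2320 (ZT.leaf []) (ZT.node 2321 (ZT.leaf [Int.negSucc 0]) (ZT.leaf [Int.ofNat 10426, Int.ofNat 1546, Int.negSucc 2246, Int.ofNat 105, Int.negSucc 6, Int.ofNat 885, Int.ofNat 121, Int.negSucc 119, Int.ofNat 28, Int.negSucc 0, Int.negSucc 0, Int.ofNat 0, Int.ofNat 42, Int.ofNat 10, Int.negSucc 669, Int.ofNat 24, Int.ofNat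 150, Int.ofNat 0, Int.ofNat 792])))) (ZT.node 2325 (ZT.node 2323 (ZT.leaf [Int.negSucc 4657, Int.negSucc 3246, Int.ofNat 1274, Int.negSucc 647, Int.negSucc 8, Int.negSucc 876, Int.negSucc 62, Int.ofNat 199, Int.ofNat 9, Int.ofNat 1, Int.negSucc 0, Int.ofNat 1, Int.negSucc 4, Int.negSucc 17, Int.ofNat 999, Int.ofNat 28, Int.negSucc 84, Int.ofNat 0, Int.negSucc 734]) (ZT.node 2324 (ZT.leaf [Int.negSucc 5251, Int.negSucc 3458, Int.ofNat 1290, Int.negSucc 595, Int.negSucc 16, Int.negSucc 880, Int.negSucc 110, Int.ofNat 272, Int.ofNat 38, Int.negSucc 0, Int.ofNat 1, Int.negSucc 0, Int.negSucc 3, Int.negSucc 19, Int.ofNat 1147, Int.ofNat 21, Int.negSucc 148, Int.negSucc 0, Int.negSucc 790]) (ZT.leaf [Int.ofNat 4890, Int.ofNat 2299, Int.negSucc 1103, Int.ofNat 368, Int.ofNat 10, Int.ofNat 659, Int.ofNat 120, Int.negSucc 212, Int.negSucc 34, Int.ofNat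 0, Int.ofNat 0, Int.ofNat 0, Int.ofNat 9, Int.ofNat 2, Int.negSucc 900, Int.ofNat 0, Int.ofNat 104, Int.ofNat 0, Int.ofNat 598]))) (ZT.node 2326 (ZT.leaf []) (ZT.node 2327 (ZT.leaf []) (ZT.leaf [Int.negSucc 36648, Int.negSucc 11628, Int.ofNat 8285, Int.negSucc 1661, Int.negSucc 7, Int.negSucc 4083, Int.negSucc 479, Int.ofNat 790, Int.negSucc 4, Int.ofNat 1, Int.negSucc 0, Int.ofNat 0, Int.negSucc 130, Int.negSucc 54, Int.ofNat 4245, Int.negSucc 11, Int.negSucc 617, Int.negSucc 0, Int.negSucc 3639]))))) (ZT.node 2334 (ZT.node 2331 (ZT.node 2329 (ZT.leaf [Int.negSucc 225, Int.ofNat 781, Int.negSucc 127, Int.ofNat 231, Int.ofNat 18, Int.ofNat 182, Int.negSucc 15, Int.negSucc 59, Int.ofNat 2, Int.ofNat 1, Int.negSucc 0, Int.ofNat 0, Int.negSucc 23, Int.ofNat 4, Int.negSucc 139, Int.negSucc 14, Int.ofNat 27, Int.ofNat 0, Int.ofNat 126]) (ZT.node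 2330 (ZT.leaf [Int.negSucc 4363, Int.negSucc 2385, Int.ofNat 1051, Int.negSucc 414, Int.negSucc 12, Int.negSucc 663, Int.negSucc 76, Int.ofNat 185, Int.ofNat 22, Int.negSucc 0, Int.ofNat 0, Int.negSucc 0, Int.negSucc 3, Int.negSucc 7, Int.ofNat 797, Int.ofNat 10, Int.negSucc 115, Int.negSucc 0, Int.negSucc 583]) (ZT.leaf [Int.negSucc 34, Int.negSucc 9, Int.ofNat 10, Int.negSucc 1, Int.ofNat 0, Int.negSucc 4, Int.ofNat 0, Int.ofNat 1, Int.ofNat 0, Int.ofNat 0, Int.ofNat 0, Int.ofNat 0, Int.ofNat 0, Int.ofNat 0, Int.ofNat 3, Int.ofNat 0, Int.negSucc 0, Int.ofNat 0, Int.negSucc 3]))) (ZT.node 2332 (ZT.leaf [Int.negSucc 0, Int.negSucc 0]) (ZT.node 2333 (ZT.leaf [Int.negSucc 10, Int.ofNat 8, Int.ofNat 2, Int.ofNat 1, Int.ofNat 0, Int.ofNat 0, Int.ofNat 0, Int.negSucc 0, Int.negSucc 0, Int.negSucc 0, Int.ofNat 0, Int.ofNat 0, Int.ofNat 0, Int.ofNat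 0, Int.negSucc 6, Int.ofNat 0, Int.ofNat 0, Int.ofNat 0, Int.ofNat 1]) (ZT.leaf [Int.negSucc 89, Int.negSucc 26, Int.ofNat 23, Int.negSucc 3, Int.ofNat 0, Int.negSucc 9, Int.ofNat 0, Int.ofNat 1, Int.ofNat 0, Int.ofNat 1, Int.ofNat 0, Int.ofNat 0, Int.negSucc 0, Int.ofNat 0, Int.ofNat 11, Int.ofNat 0, Int.negSucc 0, Int.ofNat 0, Int.negSucc 8])))) (ZT.node 2337 (ZT.node 2335 (ZT.leaf []) (ZT.node 2336 (ZT.leaf []) (ZT.leaf [Int.ofNat 53, Int.negSucc 2, Int.negSucc 13, Int.ofNat 1, Int.ofNat 0, Int.ofNat 4, Int.ofNat 0, Int.ofNat 0, Int.ofNat 1, Int.ofNat 0, Int.ofNat 0, Int.ofNat 0, Int.ofNat 0, Int.ofNat 0, Int.ofNat 3, Int.ofNat 0, Int.ofNat 1, Int.ofNat 0, Int.ofNat 3]))) (ZT.node 2338 (ZT.leaf [Int.ofNat 172, Int.ofNat 17, Int.negSucc 41, Int.ofNat 4, Int.negSucc 0, Int.ofNat 15, Int.negSucc 0, Int.ofNat 1, Int.ofNat 2, Int.ofNat 0,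 Int.ofNat 0, Int.ofNat 0, Int.ofNat 1, Int.ofNat 0, Int.ofNat 1, Int.ofNat 0, Int.ofNat 2, Int.ofNat 0, Int.ofNat 12]) (ZT.node 2339 (ZT.leaf [Int.negSucc 386, Int.negSucc 114, Int.ofNat 90, Int.negSucc 17, Int.ofNat 0, Int.negSucc 42, Int.negSucc 1, Int.ofNat 7, Int.negSucc 0, Int.ofNat 0, Int.ofNat 0, Int.ofNat 0, Int.negSucc 0, Int.negSucc 0, Int.ofNat 34, Int.ofNat 0, Int.negSucc 6, Int.ofNat 0, Int.negSucc 36]) (ZT.leaf [Int.negSucc 18, Int.negSucc 3, Int.ofNat 4, Int.ofNat 0, Int.ofNat 0, Int.negSucc 1, Int.ofNat 0, Int.negSucc 0, Int.negSucc 0, Int.ofNat 0, Int.ofNat 0, Int.ofNat 0, Int.ofNat 0, Int.ofNat 0, Int.ofNat 2, Int.ofNat 0, Int.ofNat 1, Int.ofNat 0, Int.negSucc 0]))))))))) (ZT.node 2430 (ZT.node 2385 (ZT.node 2362 (ZT.node 2351 (ZT.node 2345 (ZT.node 2342 (ZT.node 2341 (ZT.leaf [Int.negSucc 0]) (ZT.leaf [Int.negSucc 456,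 Int.negSucc 210, Int.ofNat 112, Int.negSucc 34, Int.negSucc 0, Int.negSucc 65, Int.negSucc 8, Int.ofNat 18, Int.ofNat 3, Int.ofNat 0, Int.ofNat 0, Int.ofNat 0, Int.negSucc 0, Int.negSucc 0, Int.ofNat 72, Int.ofNat 0, Int.negSucc 9, Int.ofNat 0, Int.negSucc 57])) (ZT.node 2343 (ZT.leaf [Int.negSucc 0]) (ZT.node 2344 (ZT.leaf [Int.negSucc 8, Int.ofNat 4, Int.ofNat 4, Int.ofNat 0, Int.ofNat 0, Int.negSucc 0, Int.ofNat 0, Int.ofNat 0, Int.ofNat 0, Int.ofNat 0, Int.ofNat 0, Int.ofNat 0, Int.ofNat 0, Int.ofNat 0, Int.negSucc 2, Int.ofNat 0, Int.ofNat 0, Int.ofNat 0, Int.negSucc 0]) (ZT.leaf [Int.negSucc 1, Int.negSucc 0, Int.ofNat 0, Int.ofNat 0, Int.ofNat 0, Int.ofNat 0, Int.ofNat 0, Int.ofNat 0, Int.ofNat 0, Int.ofNat 0, Int.ofNat 0, Int.ofNat 0, Int.ofNat 0, Int.ofNat 0, Int.ofNat 1])))) (ZT.node 2348 (ZT.node 2346 (ZT.leaf []) (ZT.node 2347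 (ZT.leaf [Int.ofNat 1, Int.ofNat 0, Int.ofNat 0, Int.ofNat 0, Int.ofNat 0, Int.ofNat 0, Int.ofNat 0, Int.ofNat 0, Int.ofNat 0, Int.ofNat 0, Int.ofNat 0, Int.ofNat 0, Int.ofNat 0, Int.ofNat 0, Int.negSucc 1]) (ZT.leaf [Int.ofNat 4782, Int.ofNat 1700, Int.negSucc 1104, Int.ofNat 258, Int.ofNat 5, Int.ofNat 577, Int.ofNat 67, Int.negSucc 128, Int.negSucc 3, Int.ofNat 0, Int.ofNat 0, Int.ofNat 0, Int.ofNat 11, Int.ofNat 6, Int.negSucc 633, Int.ofNat 3, Int.ofNat 101, Int.ofNat 0, Int.ofNat 512]))) (ZT.node 2349 (ZT.leaf [Int.negSucc 25617, Int.negSucc 12451, Int.ofNat 5994, Int.negSucc 2021, Int.negSucc 56, Int.negSucc 3559, Int.negSucc 429, Int.ofNat 1001, Int.ofNat 112, Int.negSucc 0, Int.ofNat 1, Int.negSucc 0, Int.negSucc 39, Int.negSucc 41, Int.ofNat 4252, Int.ofNat 34, Int.negSucc 656, Int.negSucc 0, Int.negSucc 3180]) (ZT.node 2350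 (ZT.leaf [Int.negSucc 12, Int.ofNat 5, Int.ofNat 3, Int.ofNat 0, Int.ofNat 0, Int.ofNat 0, Int.ofNat 0, Int.negSucc 0, Int.negSucc 0, Int.negSucc 0, Int.ofNat 0, Int.ofNat 0, Int.ofNat 0, Int.ofNat 0, Int.negSucc 1, Int.ofNat 0, Int.ofNat 0, Int.ofNat 0, Int.ofNat 0]) (ZT.leaf [Int.ofNat 4, Int.ofNat 2, Int.negSucc 1, Int.ofNat 0, Int.ofNat 0, Int.ofNat 1, Int.ofNat 0, Int.negSucc 0, Int.negSucc 0, Int.negSucc 0, Int.ofNat 0, Int.ofNat 0, Int.ofNat 0, Int.ofNat 0, Int.ofNat 0, Int.ofNat 0, Int.ofNat 0, Int.ofNat 0, Int.ofNat 1]))))) (ZT.node 2356 (ZT.node 2353 (ZT.node 2352 (ZT.leaf [Int.ofNat 629, Int.ofNat 240, Int.negSucc 156, Int.ofNat 45, Int.ofNat 1, Int.ofNat 86, Int.ofNat 7, Int.negSucc 15, Int.ofNat 1, Int.ofNat 0, Int.ofNat 0, Int.ofNat 0, Int.ofNat 1, Int.ofNat 1, Int.negSucc 80, Int.ofNat 0, Int.ofNat 13, Int.ofNat 0, Int.ofNat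 73]) (ZT.leaf [Int.negSucc 0])) (ZT.node 2354 (ZT.leaf [Int.negSucc 0, Int.ofNat 0, Int.ofNat 0, Int.ofNat 0, Int.ofNat 0, Int.ofNat 0, Int.ofNat 0, Int.ofNat 0, Int.ofNat 0, Int.ofNat 0, Int.ofNat 0, Int.ofNat 0, Int.ofNat 0, Int.ofNat 0, Int.ofNat 0, Int.ofNat 1]) (ZT.node 2355 (ZT.leaf []) (ZT.leaf [])))) (ZT.node 2359 (ZT.node 2357 (ZT.leaf [Int.negSucc 533, Int.negSucc 213, Int.ofNat 134, Int.negSucc 38, Int.negSucc 0, Int.negSucc 75, Int.negSucc 5, Int.ofNat 16, Int.negSucc 0, Int.ofNat 0, Int.ofNat 0, Int.ofNat 0, Int.ofNat 0, Int.negSucc 0, Int.ofNat 70, Int.ofNat 1, Int.negSucc 10, Int.ofNat 0, Int.negSucc 63]) (ZT.node 2358 (ZT.leaf [Int.ofNat 10, Int.negSucc 2, Int.negSucc 3, Int.ofNat 0, Int.ofNat 0, Int.ofNat 1, Int.ofNat 0, Int.ofNat 0, Int.ofNat 0, Int.ofNat 0, Int.ofNat 0, Int.ofNat 0, Int.ofNat 0, Int.ofNat 0, Int.ofNat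 3, Int.ofNat 0, Int.ofNat 0, Int.ofNat 0, Int.ofNat 1]) (ZT.leaf []))) (ZT.node 2360 (ZT.leaf [Int.negSucc 1, Int.ofNat 0, Int.ofNat 0, Int.ofNat 0, Int.ofNat 0, Int.ofNat 0, Int.ofNat 0, Int.ofNat 0, Int.ofNat 0, Int.ofNat 0, Int.ofNat 0, Int.ofNat 0, Int.ofNat 0, Int.ofNat 0, Int.ofNat 2]) (ZT.node 2361 (ZT.leaf [Int.negSucc 36, Int.ofNat 32, Int.ofNat 20, Int.ofNat 0, Int.ofNat 0, Int.negSucc 6, Int.ofNat 2, Int.ofNat 2, Int.negSucc 1, Int.ofNat 0, Int.ofNat 0, Int.ofNat 0, Int.ofNat 2, Int.ofNat 0, Int.negSucc 14, Int.ofNat 0, Int.negSucc 1, Int.ofNat 0, Int.negSucc 2]) (ZT.leaf [])))))) (ZT.node 2373 (ZT.node 2367 (ZT.node 2364 (ZT.node 2363 (ZT.leaf [Int.negSucc 0]) (ZT.leaf [])) (ZT.node 2365 (ZT.leaf [Int.negSucc 77, Int.ofNat 502, Int.ofNat 58, Int.ofNat 76, Int.ofNat 5, Int.ofNat 30, Int.ofNat 39, Int.negSucc 64, Int.negSucc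 30, Int.ofNat 0, Int.ofNat 0, Int.ofNat 0, Int.ofNat 1, Int.negSucc 1, Int.negSucc 269, Int.ofNat 0, Int.ofNat 15, Int.ofNat 0, Int.ofNat 61]) (ZT.node 2366 (ZT.leaf [Int.negSucc 0]) (ZT.leaf [Int.ofNat 13, Int.ofNat 2, Int.negSucc 2, Int.ofNat 0, Int.ofNat 0, Int.ofNat 1, Int.ofNat 0, Int.ofNat 0, Int.ofNat 0, Int.ofNat 0, Int.ofNat 0, Int.ofNat 0, Int.ofNat 0, Int.ofNat 0, Int.ofNat 0, Int.ofNat 0, Int.ofNat 0, Int.ofNat 0, Int.ofNat 1])))) (ZT.node 2370 (ZT.node 2368 (ZT.leaf [Int.negSucc 1358, Int.negSucc 349, Int.ofNat 305, Int.negSucc 37, Int.negSucc 0, Int.negSucc 143, Int.negSucc 25, Int.ofNat 35, Int.ofNat 2, Int.ofNat 0, Int.ofNat 0, Int.ofNat 0, Int.negSucc 0, Int.negSucc 2, Int.ofNat 179, Int.negSucc 4, Int.negSucc 31, Int.ofNat 0, Int.negSucc 132]) (ZT.node 2369 (ZT.leaf []) (ZT.leaf [Int.negSucc 2520, Int.negSucc 2185, Int.ofNat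 621, Int.negSucc 370, Int.negSucc 9, Int.negSucc 489, Int.negSucc 57, Int.ofNat 151, Int.ofNat 27, Int.ofNat 0, Int.ofNat 0, Int.ofNat 0, Int.negSucc 5, Int.negSucc 17, Int.ofNat 686, Int.ofNat 15, Int.negSucc 82, Int.ofNat 0, Int.negSucc 441]))) (ZT.node 2371 (ZT.leaf []) (ZT.node 2372 (ZT.leaf [Int.negSucc 6, Int.negSucc 6, Int.ofNat 1, Int.negSucc 2, Int.ofNat 0, Int.negSucc 0, Int.negSucc 0, Int.ofNat 1, Int.ofNat 0, Int.negSucc 0, Int.ofNat 0, Int.ofNat 0, Int.ofNat 0, Int.ofNat 0, Int.ofNat 4, Int.ofNat 0, Int.ofNat 1, Int.ofNat 0, Int.negSucc 0]) (ZT.leaf [Int.ofNat 1596, Int.ofNat 703, Int.negSucc 370, Int.ofNat 116, Int.ofNat 3, Int.ofNat 205, Int.ofNat 26, Int.negSucc 56, Int.negSucc 5, Int.ofNat 1, Int.ofNat 0, Int.ofNat 0, Int.ofNat 3, Int.ofNat 2, Int.negSucc 256, Int.negSucc 0, Int.ofNat 38, Int.ofNat 0, Int.ofNat 187])))))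 (ZT.node 2379 (ZT.node 2376 (ZT.node 2374 (ZT.leaf [Int.negSucc 0]) (ZT.node 2375 (ZT.leaf [Int.ofNat 466, Int.ofNat 265, Int.negSucc 104, Int.ofNat 42, Int.ofNat 1, Int.ofNat 63, Int.ofNat 11, Int.negSucc 17, Int.negSucc 2, Int.ofNat 0, Int.ofNat 1, Int.ofNat 0, Int.ofNat 2, Int.ofNat 2, Int.negSucc 84, Int.negSucc 1, Int.ofNat 10, Int.ofNat 0, Int.ofNat 61]) (ZT.leaf [Int.negSucc 282, Int.negSucc 404, Int.ofNat 21, Int.negSucc 48, Int.negSucc 3, Int.negSucc 38, Int.negSucc 28, Int.ofNat 48, Int.ofNat 22, Int.ofNat 0, Int.ofNat 0, Int.ofNat 0, Int.negSucc 2, Int.ofNat 1, Int.ofNat 208, Int.ofNat 0, Int.negSucc 20, Int.ofNat 0, Int.negSucc 60]))) (ZT.node 2377 (ZT.leaf [Int.negSucc 1839, Int.negSucc 340, Int.ofNat 399, Int.negSucc 34, Int.ofNat 2, Int.negSucc 179, Int.negSucc 41, Int.ofNat 52, Int.ofNat 8, Int.negSucc 0, Int.ofNat 1, Int.ofNat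 0, Int.negSucc 4, Int.ofNat 5, Int.ofNat 169, Int.negSucc 4, Int.negSucc 10, Int.ofNat 0, Int.negSucc 157]) (ZT.node 2378 (ZT.leaf [Int.ofNat 9, Int.ofNat 3, Int.negSucc 0, Int.ofNat 1, Int.ofNat 0, Int.ofNat 0, Int.ofNat 0, Int.ofNat 0, Int.ofNat 0, Int.ofNat 0, Int.ofNat 0, Int.ofNat 0, Int.ofNat 0, Int.negSucc 0, Int.ofNat 2, Int.ofNat 0, Int.ofNat 0, Int.ofNat 0, Int.ofNat 0]) (ZT.leaf [Int.negSucc 0])))) (ZT.node 2382 (ZT.node 2380 (ZT.leaf []) (ZT.node 2381 (ZT.leaf [Int.negSucc 0]) (ZT.leaf [Int.negSucc 0]))) (ZT.node 2383 (ZT.leaf [Int.negSucc 156, Int.negSucc 39, Int.ofNat 43, Int.negSucc 8, Int.ofNat 0, Int.negSucc 18, Int.ofNat 0, Int.ofNat 4, Int.negSucc 0, Int.ofNat 0, Int.ofNat 0, Int.ofNat 0, Int.ofNat 0, Int.negSucc 0, Int.ofNat 11, Int.ofNat 0, Int.negSucc 4, Int.ofNat 0, Int.negSucc 15]) (ZT.node 2384 (ZT.leaf [Int.ofNat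 6, Int.ofNat 2, Int.negSucc 0, Int.ofNat 0, Int.ofNat 0, Int.ofNat 0, Int.ofNat 0, Int.ofNat 0, Int.ofNat 0, Int.ofNat 0, Int.ofNat 0, Int.ofNat 0, Int.ofNat 0, Int.ofNat 0, Int.negSucc 0]) (ZT.leaf [Int.negSucc 26241, Int.negSucc 12463, Int.ofNat 6174, Int.negSucc 2041, Int.negSucc 57, Int.negSucc 3635, Int.negSucc 422, Int.ofNat 990, Int.ofNat 99, Int.ofNat 0, Int.ofNat 1, Int.negSucc 0, Int.negSucc 37, Int.negSucc 42, Int.ofNat 4245, Int.ofNat 33, Int.negSucc 656, Int.negSucc 0, Int.negSucc 3226]))))))) (ZT.node 2407 (ZT.node 2396 (ZT.node 2390 (ZT.node 2387 (ZT.node 2386 (ZT.leaf [Int.ofNat 915, Int.ofNat 324, Int.negSucc 170, Int.ofNat 32, Int.ofNat 0, Int.ofNat 103, Int.ofNat 38, Int.negSucc 53, Int.negSucc 10, Int.ofNat 1, Int.ofNat 0, Int.ofNat 0, Int.negSucc 0, Int.negSucc 0, Int.negSucc 166, Int.ofNat 2, Int.ofNat 22, Int.ofNat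 0, Int.ofNat 97]) (ZT.leaf [])) (ZT.node 2388 (ZT.leaf [Int.negSucc 7, Int.ofNat 9, Int.ofNat 2, Int.ofNat 1, Int.ofNat 0, Int.ofNat 0, Int.ofNat 0, Int.negSucc 0, Int.negSucc 0, Int.negSucc 0, Int.ofNat 0, Int.ofNat 0, Int.ofNat 0, Int.ofNat 0, Int.negSucc 6, Int.ofNat 0, Int.ofNat 0, Int.ofNat 0, Int.ofNat 1]) (ZT.node 2389 (ZT.leaf [Int.ofNat 9, Int.negSucc 7, Int.negSucc 1, Int.negSucc 0, Int.ofNat 0, Int.ofNat 0, Int.ofNat 0, Int.ofNat 1, Int.ofNat 1, Int.ofNat 1, Int.ofNat 0, Int.ofNat 0, Int.ofNat 0, Int.ofNat 0, Int.ofNat 7, Int.ofNat 0, Int.ofNat 0, Int.ofNat 0, Int.negSucc 0]) (ZT.leaf [Int.negSucc 5810, Int.ofNat 14, Int.ofNat 1222, Int.ofNat 114, Int.ofNat 12, Int.negSucc 334, Int.negSucc 30, Int.negSucc 24, Int.negSucc 38, Int.ofNat 0, Int.ofNat 0, Int.ofNat 0, Int.negSucc 30, Int.negSucc 1, Int.ofNat 124, Int.negSucc 26,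 Int.negSucc 59, Int.ofNat 0, Int.negSucc 307])))) (ZT.node 2393 (ZT.node 2391 (ZT.leaf [Int.negSucc 5870, Int.negSucc 153, Int.ofNat 1198, Int.ofNat 100, Int.ofNat 1, Int.negSucc 323, Int.negSucc 45, Int.ofNat 15, Int.negSucc 15, Int.ofNat 1, Int.ofNat 0, Int.ofNat 0, Int.negSucc 28, Int.ofNat 2, Int.ofNat 234, Int.negSucc 27, Int.negSucc 99, Int.ofNat 0, Int.negSucc 326]) (ZT.node 2392 (ZT.leaf [Int.negSucc 0]) (ZT.leaf [Int.negSucc 123, Int.negSucc 11, Int.ofNat 36, Int.negSucc 4, Int.ofNat 0, Int.negSucc 13, Int.ofNat 0, Int.ofNat 1, Int.negSucc 1, Int.ofNat 0, Int.ofNat 0, Int.ofNat 0, Int.ofNat 0, Int.ofNat 0, Int.ofNat 0, Int.ofNat 0, Int.negSucc 1, Int.ofNat 0, Int.negSucc 9]))) (ZT.node 2394 (ZT.leaf [Int.ofNat 5271, Int.negSucc 268, Int.negSucc 1083, Int.negSucc 161, Int.negSucc 10, Int.ofNat 248, Int.ofNat 26, Int.ofNat 24, Int.ofNat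 31, Int.ofNat 0, Int.ofNat 0, Int.ofNat 0, Int.ofNat 29, Int.negSucc 1, Int.negSucc 59, Int.ofNat 28, Int.ofNat 63, Int.ofNat 0, Int.ofNat 241]) (ZT.node 2395 (ZT.leaf []) (ZT.leaf [Int.ofNat 169, Int.ofNat 48, Int.negSucc 40, Int.ofNat 9, Int.ofNat 0, Int.ofNat 22, Int.ofNat 1, Int.negSucc 2, Int.ofNat 1, Int.negSucc 0, Int.ofNat 1, Int.ofNat 0, Int.ofNat 0, Int.ofNat 0, Int.negSucc 14, Int.ofNat 0, Int.ofNat 2, Int.ofNat 0, Int.ofNat 17]))))) (ZT.node 2401 (ZT.node 2398 (ZT.node 2397 (ZT.leaf [Int.negSucc 0]) (ZT.leaf [Int.negSucc 746, Int.negSucc 392, Int.ofNat 186, Int.negSucc 68, Int.negSucc 0, Int.negSucc 109, Int.negSucc 8, Int.ofNat 28, Int.ofNat 2, Int.ofNat 0, Int.ofNat 0, Int.ofNat 0, Int.negSucc 0, Int.negSucc 1, Int.ofNat 127, Int.ofNat 1, Int.negSucc 20, Int.ofNat 0, Int.negSucc 98])) (ZT.node 2399 (ZT.leaf [Int.ofNat 2103,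 Int.ofNat 892, Int.negSucc 470, Int.ofNat 133, Int.ofNat 4, Int.ofNat 266, Int.ofNat 42, Int.negSucc 77, Int.negSucc 10, Int.ofNat 0, Int.ofNat 0, Int.ofNat 0, Int.ofNat 4, Int.ofNat 2, Int.negSucc 331, Int.negSucc 0, Int.ofNat 45, Int.ofNat 0, Int.ofNat 242]) (ZT.node 2400 (ZT.leaf []) (ZT.leaf [Int.ofNat 507, Int.ofNat 131, Int.negSucc 126, Int.ofNat 24, Int.ofNat 0, Int.ofNat 58, Int.ofNat 3, Int.negSucc 8, Int.ofNat 2, Int.ofNat 0, Int.ofNat 0, Int.ofNat 0, Int.ofNat 1, Int.ofNat 1, Int.negSucc 39, Int.ofNat 0, Int.ofNat 9, Int.ofNat 0, Int.ofNat 50])))) (ZT.node 2404 (ZT.node 2402 (ZT.leaf [Int.ofNat 126, Int.ofNat 64, Int.negSucc 22, Int.ofNat 7, Int.ofNat 1, Int.ofNat 7, Int.ofNat 2, Int.negSucc 2, Int.negSucc 1, Int.ofNat 0, Int.ofNat 0, Int.ofNat 0, Int.ofNat 1, Int.ofNat 0, Int.negSucc 26, Int.ofNat 0, Int.ofNat 5, Int.ofNat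 0, Int.ofNat 11]) (ZT.node 2403 (ZT.leaf [Int.negSucc 903, Int.negSucc 1467, Int.ofNat 267, Int.negSucc 270, Int.negSucc 9, Int.negSucc 305, Int.negSucc 41, Int.ofNat 122, Int.ofNat 27, Int.ofNat 0, Int.ofNat 0, Int.ofNat 0, Int.ofNat 5, Int.negSucc 10, Int.ofNat 495, Int.ofNat 14, Int.negSucc 62, Int.ofNat 0, Int.negSucc 269]) (ZT.leaf [Int.ofNat 79, Int.ofNat 28, Int.negSucc 18, Int.ofNat 5, Int.ofNat 0, Int.ofNat 10, Int.ofNat 0, Int.negSucc 0, Int.ofNat 0, Int.ofNat 0, Int.ofNat 0, Int.ofNat 0, Int.ofNat 1, Int.ofNat 0, Int.negSucc 9, Int.ofNat 0, Int.ofNat 2, Int.ofNat 0, Int.ofNat 8]))) (ZT.node 2405 (ZT.leaf [Int.negSucc 3979, Int.ofNat 931, Int.ofNat 863, Int.ofNat 219, Int.ofNat 18, Int.negSucc 132, Int.ofNat 11, Int.negSucc 128, Int.negSucc 67, Int.ofNat 0, Int.ofNat 0, Int.ofNat 0, Int.negSucc 24, Int.negSucc 0, Int.negSucc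 273, Int.negSucc 20, Int.ofNat 48, Int.ofNat 0, Int.negSucc 82]) (ZT.node 2406 (ZT.leaf [Int.ofNat 129, Int.negSucc 36, Int.negSucc 31, Int.negSucc 5, Int.ofNat 0, Int.ofNat 4, Int.negSucc 3, Int.ofNat 7, Int.ofNat 4, Int.ofNat 0, Int.ofNat 0, Int.ofNat 0, Int.ofNat 1, Int.ofNat 0, Int.ofNat 17, Int.ofNat 0, Int.ofNat 0, Int.ofNat 0, Int.ofNat 1]) (ZT.leaf [Int.ofNat 1108, Int.ofNat 539, Int.negSucc 256, Int.ofNat 88, Int.ofNat 3, Int.ofNat 153, Int.ofNat 19, Int.negSucc 39, Int.negSucc 4, Int.ofNat 0, Int.ofNat 0, Int.ofNat 0, Int.ofNat 2, Int.ofNat 3, Int.negSucc 188, Int.negSucc 1, Int.ofNat 26, Int.ofNat 0, Int.ofNat 138])))))) (ZT.node 2418 (ZT.node 2412 (ZT.node 2409 (ZT.node 2408 (ZT.leaf [Int.negSucc 13128, Int.negSucc 4698, Int.ofNat 2931, Int.negSucc 658, Int.negSucc 11, Int.negSucc 1504, Int.negSucc 177, Int.ofNat 336, Int.ofNat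 26, Int.ofNat 0, Int.ofNat 0, Int.ofNat 0, Int.negSucc 44, Int.negSucc 19, Int.ofNat 1637, Int.negSucc 3, Int.negSucc 287, Int.ofNat 0, Int.negSucc 1356]) (ZT.leaf [])) (ZT.node 2410 (ZT.leaf [Int.ofNat 585, Int.negSucc 913, Int.negSucc 103, Int.negSucc 173, Int.negSucc 7, Int.negSucc 118, Int.negSucc 32, Int.ofNat 88, Int.ofNat 29, Int.ofNat 0, Int.ofNat 0, Int.ofNat 0, Int.ofNat 11, Int.negSucc 8, Int.ofNat 307, Int.ofNat 11, Int.negSucc 25, Int.ofNat 0, Int.negSucc 106]) (ZT.node 2411 (ZT.leaf [Int.ofNat 5871, Int.ofNat 154, Int.negSucc 1197, Int.negSucc 99, Int.negSucc 0, Int.ofNat 324, Int.ofNat 46, Int.negSucc 14, Int.ofNat 16, Int.negSucc 0, Int.ofNat 0, Int.ofNat 0, Int.ofNat 29, Int.negSucc 1, Int.negSucc 233, Int.ofNat 28, Int.ofNat 100, Int.ofNat 0, Int.ofNat 327]) (ZT.leaf [])))) (ZT.node 2415 (ZT.node 2413 (ZT.leaf [Int.negSucc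 3, Int.negSucc 2, Int.ofNat 0, Int.ofNat 0, Int.ofNat 0, Int.ofNat 0, Int.ofNat 0, Int.ofNat 0, Int.ofNat 0, Int.ofNat 0, Int.ofNat 0, Int.ofNat 0, Int.ofNat 0, Int.ofNat 0, Int.negSucc 0]) (ZT.node 2414 (ZT.leaf []) (ZT.leaf [Int.ofNat 14, Int.ofNat 2, Int.negSucc 4, Int.ofNat 2, Int.ofNat 0, Int.ofNat 3, Int.ofNat 0, Int.negSucc 0, Int.ofNat 0, Int.ofNat 0, Int.ofNat 0, Int.ofNat 0, Int.ofNat 0, Int.ofNat 0, Int.negSucc 2, Int.ofNat 0, Int.ofNat 1, Int.ofNat 0, Int.ofNat 3]))) (ZT.node 2416 (ZT.leaf [Int.negSucc 0, Int.ofNat 0, Int.ofNat 0, Int.ofNat 0, Int.ofNat 0, Int.ofNat 0, Int.ofNat 0, Int.ofNat 0, Int.ofNat 0, Int.ofNat 0, Int.ofNat 0, Int.ofNat 0, Int.ofNat 0, Int.ofNat 0, Int.ofNat 0, Int.ofNat 0, Int.ofNat 0, Int.ofNat 0, Int.negSucc 0]) (ZT.node 2417 (ZT.leaf [Int.negSucc 0]) (ZT.leaf []))))) (ZT.node 2424 (ZT.node 2421 (ZT.node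 2419 (ZT.leaf []) (ZT.node 2420 (ZT.leaf [Int.negSucc 0]) (ZT.leaf [Int.negSucc 0]))) (ZT.node 2422 (ZT.leaf [Int.negSucc 166, Int.negSucc 48, Int.ofNat 41, Int.negSucc 8, Int.ofNat 0, Int.negSucc 21, Int.ofNat 0, Int.ofNat 3, Int.negSucc 0, Int.ofNat 0, Int.ofNat 0, Int.ofNat 0, Int.ofNat 0, Int.ofNat 0, Int.ofNat 15, Int.ofNat 0, Int.negSucc 1, Int.ofNat 0, Int.negSucc 16]) (ZT.node 2423 (ZT.leaf [Int.ofNat 30, Int.ofNat 1, Int.negSucc 5, Int.ofNat 0, Int.ofNat 0, Int.ofNat 1, Int.ofNat 0, Int.ofNat 1, Int.ofNat 1, Int.ofNat 1, Int.ofNat 0, Int.ofNat 0, Int.ofNat 0, Int.ofNat 0, Int.ofNat 2, Int.ofNat 0, Int.ofNat 0, Int.ofNat 0, Int.ofNat 1]) (ZT.leaf [])))) (ZT.node 2427 (ZT.node 2425 (ZT.leaf [Int.negSucc 167, Int.negSucc 47, Int.ofNat 41, Int.negSucc 8, Int.ofNat 0, Int.negSucc 21, Int.negSucc 0, Int.ofNat 3, Int.negSucc 0, Int.ofNat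 0, Int.negSucc 0, Int.ofNat 0, Int.ofNat 0, Int.ofNat 0, Int.ofNat 15, Int.ofNat 0, Int.negSucc 1, Int.ofNat 0, Int.negSucc 16]) (ZT.node 2426 (ZT.leaf [Int.negSucc 41, Int.negSucc 32, Int.negSucc 1, Int.ofNat 1, Int.ofNat 0, Int.ofNat 2, Int.negSucc 1, Int.negSucc 0, Int.ofNat 2, Int.ofNat 0, Int.ofNat 0, Int.ofNat 0, Int.negSucc 1, Int.ofNat 0, Int.ofNat 12, Int.ofNat 0, Int.ofNat 1, Int.ofNat 0, Int.negSucc 0]) (ZT.leaf [Int.negSucc 77, Int.negSucc 7, Int.ofNat 23, Int.negSucc 3, Int.ofNat 0, Int.negSucc 9, Int.ofNat 0, Int.ofNat 0, Int.negSucc 0, Int.ofNat 0, Int.ofNat 0, Int.ofNat 0, Int.ofNat 0, Int.ofNat 0, Int.ofNat 0, Int.negSucc 0, Int.negSucc 1, Int.ofNat 0, Int.negSucc 7]))) (ZT.node 2428 (ZT.leaf [Int.ofNat 0, Int.ofNat 1]) (ZT.node 2429 (ZT.leaf [Int.negSucc 0]) (ZT.leaf [Int.negSucc 1, Int.ofNat 1, Int.ofNat 0, Int.ofNat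 0, Int.ofNat 0, Int.ofNat 0, Int.ofNat 0, Int.ofNat 0, Int.ofNat 0, Int.ofNat 0, Int.ofNat 0, Int.ofNat 0, Int.ofNat 0, Int.ofNat 0, Int.negSucc 0])))))))) (ZT.node 2475 (ZT.node 2452 (ZT.node 2441 (ZT.node 2435 (ZT.node 2432 (ZT.node 2431 (ZT.leaf [Int.negSucc 0]) (ZT.leaf [])) (ZT.node 2433 (ZT.leaf [Int.ofNat 144, Int.ofNat 31, Int.negSucc 34, Int.ofNat 5, Int.ofNat 0, Int.ofNat 14, Int.ofNat 0, Int.negSucc 0, Int.ofNat 1, Int.ofNat 0, Int.ofNat 0, Int.ofNat 0, Int.ofNat 1, Int.ofNat 0, Int.negSucc 7, Int.ofNat 0, Int.ofNat 2, Int.ofNat 0, Int.ofNat 12]) (ZT.node 2434 (ZT.leaf [Int.negSucc 0]) (ZT.leaf [Int.negSucc 0])))) (ZT.node 2438 (ZT.node 2436 (ZT.leaf [Int.ofNat 89, Int.ofNat 27, Int.negSucc 22, Int.ofNat 4, Int.ofNat 0, Int.ofNat 10, Int.ofNat 0, Int.negSucc 0, Int.ofNat 0, Int.negSucc 0, Int.ofNat 0, Int.ofNat 0, Int.ofNat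 1, Int.ofNat 0, Int.negSucc 10, Int.ofNat 0, Int.ofNat 1, Int.ofNat 0, Int.ofNat 9]) (ZT.node 2437 (ZT.leaf [Int.negSucc 0]) (ZT.leaf [Int.negSucc 50, Int.negSucc 2, Int.ofNat 12, Int.negSucc 0, Int.ofNat 0, Int.negSucc 3, Int.ofNat 0, Int.ofNat 0, Int.negSucc 0, Int.negSucc 0, Int.ofNat 0, Int.ofNat 0, Int.ofNat 0, Int.ofNat 0, Int.negSucc 1, Int.ofNat 0, Int.negSucc 0, Int.ofNat 0, Int.negSucc 2]))) (ZT.node 2439 (ZT.leaf [Int.ofNat 53, Int.ofNat 3, Int.negSucc 11, Int.ofNat 1, Int.ofNat 0, Int.ofNat 4, Int.ofNat 0, Int.ofNat 0, Int.ofNat 1, Int.ofNat 1, Int.ofNat 0, Int.ofNat 0, Int.ofNat 0, Int.ofNat 0, Int.ofNat 3, Int.ofNat 0, Int.ofNat 1, Int.ofNat 0, Int.ofNat 3]) (ZT.node 2440 (ZT.leaf []) (ZT.leaf [Int.ofNat 4246, Int.ofNat 3299, Int.negSucc 1064, Int.ofNat 585, Int.ofNat 14, Int.ofNat 808, Int.ofNat 98, Int.negSucc 223, Int.negSucc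 33, Int.ofNat 0, Int.ofNat 0, Int.ofNat 0, Int.ofNat 6, Int.ofNat 22, Int.negSucc 1082, Int.negSucc 20, Int.ofNat 106, Int.ofNat 0, Int.ofNat 706]))))) (ZT.node 2446 (ZT.node 2443 (ZT.node 2442 (ZT.leaf []) (ZT.leaf [])) (ZT.node 2444 (ZT.leaf [Int.negSucc 712, Int.negSucc 313, Int.ofNat 178, Int.negSucc 58, Int.negSucc 1, Int.negSucc 107, Int.negSucc 10, Int.ofNat 25, Int.negSucc 0, Int.ofNat 0, Int.ofNat 0, Int.ofNat 0, Int.ofNat 2, Int.negSucc 1, Int.ofNat 95, Int.ofNat 2, Int.negSucc 8, Int.ofNat 0, Int.negSucc 86]) (ZT.node 2445 (ZT.leaf []) (ZT.leaf [Int.ofNat 25, Int.ofNat 12, Int.negSucc 4, Int.ofNat 0, Int.ofNat 0, Int.ofNat 3, Int.ofNat 0, Int.ofNat 0, Int.ofNat 0, Int.ofNat 0, Int.ofNat 0, Int.ofNat 0, Int.ofNat 0, Int.ofNat 0, Int.negSucc 1, Int.ofNat 0, Int.negSucc 0, Int.ofNat 0, Int.ofNat 2])))) (ZT.node 2449 (ZT.node 2447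 (ZT.leaf []) (ZT.node 2448 (ZT.leaf [Int.ofNat 24, Int.ofNat 11, Int.negSucc 4, Int.ofNat 0, Int.ofNat 0, Int.ofNat 3, Int.ofNat 0, Int.ofNat 0, Int.ofNat 0, Int.ofNat 0, Int.ofNat 0, Int.ofNat 0, Int.ofNat 0, Int.ofNat 0, Int.negSucc 1, Int.ofNat 0, Int.negSucc 0, Int.ofNat 0, Int.ofNat 2]) (ZT.leaf [Int.negSucc 0]))) (ZT.node 2450 (ZT.leaf []) (ZT.node 2451 (ZT.leaf []) (ZT.leaf [Int.ofNat 281, Int.ofNat 405, Int.negSucc 20, Int.ofNat 49, Int.ofNat 4, Int.ofNat 39, Int.ofNat 29, Int.negSucc 47, Int.negSucc 21, Int.ofNat 0, Int.ofNat 0, Int.ofNat 0, Int.ofNat 3, Int.negSucc 0, Int.negSucc 207, Int.ofNat 0, Int.ofNat 21, Int.ofNat 0, Int.ofNat 61])))))) (ZT.node 2463 (ZT.node 2457 (ZT.node 2454 (ZT.node 2453 (ZT.leaf [Int.negSucc 280, Int.negSucc 403, Int.ofNat 21, Int.negSucc 48, Int.negSucc 3, Int.negSucc 38, Int.negSucc 28, Int.ofNat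 48, Int.ofNat 22, Int.ofNat 0, Int.ofNat 0, Int.ofNat 0, Int.negSucc 2, Int.ofNat 1, Int.ofNat 208, Int.ofNat 0, Int.negSucc 20, Int.ofNat 0, Int.negSucc 60]) (ZT.leaf [Int.ofNat 498, Int.ofNat 905, Int.negSucc 151, Int.ofNat 168, Int.ofNat 7, Int.ofNat 171, Int.ofNat 17, Int.negSucc 64, Int.negSucc 14, Int.ofNat 0, Int.ofNat 0, Int.ofNat 0, Int.negSucc 2, Int.ofNat 8, Int.negSucc 301, Int.negSucc 8, Int.ofNat 41, Int.ofNat 0, Int.ofNat 158])) (ZT.node 2455 (ZT.leaf [Int.negSucc 55, Int.negSucc 10, Int.ofNat 10, Int.ofNat 1, Int.ofNat 0, Int.negSucc 1, Int.ofNat 0, Int.negSucc 1, Int.negSucc 0, Int.ofNat 0, Int.ofNat 0, Int.ofNat 0, Int.negSucc 0, Int.ofNat 0, Int.ofNat 6, Int.ofNat 0, Int.ofNat 1, Int.ofNat 0, Int.negSucc 1]) (ZT.node 2456 (ZT.leaf [Int.negSucc 0]) (ZT.leaf [Int.negSucc 3178, Int.negSucc 2150, Int.ofNat 729, Int.negSucc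 340, Int.negSucc 5, Int.negSucc 522, Int.negSucc 80, Int.ofNat 172, Int.ofNat 31, Int.ofNat 0, Int.ofNat 0, Int.negSucc 0, Int.negSucc 7, Int.negSucc 9, Int.ofNat 718, Int.ofNat 11, Int.negSucc 89, Int.ofNat 0, Int.negSucc 479])))) (ZT.node 2460 (ZT.node 2458 (ZT.leaf [Int.negSucc 4106, Int.ofNat 940, Int.ofNat 774, Int.ofNat 292, Int.ofNat 11, Int.negSucc 42, Int.ofNat 1, Int.negSucc 89, Int.negSucc 41, Int.ofNat 0, Int.ofNat 0, Int.ofNat 0, Int.negSucc 27, Int.negSucc 1, Int.negSucc 202, Int.negSucc 27, Int.negSucc 53, Int.ofNat 0, Int.negSucc 68]) (ZT.node 2459 (ZT.leaf [Int.negSucc 111, Int.ofNat 232, Int.ofNat 21, Int.ofNat 44, Int.ofNat 3, Int.ofNat 15, Int.ofNat 5, Int.negSucc 8, Int.negSucc 4, Int.ofNat 0, Int.ofNat 0, Int.ofNat 0, Int.ofNat 1, Int.ofNat 4, Int.negSucc 64, Int.negSucc 4, Int.ofNat 5, Int.ofNat 1, Int.ofNat 20])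 (ZT.leaf [Int.ofNat 4, Int.ofNat 2, Int.ofNat 0, Int.negSucc 0, Int.ofNat 0, Int.ofNat 0, Int.ofNat 0, Int.ofNat 0, Int.ofNat 0, Int.ofNat 0, Int.ofNat 0, Int.ofNat 0, Int.ofNat 0, Int.ofNat 0, Int.negSucc 1]))) (ZT.node 2461 (ZT.leaf [Int.ofNat 74, Int.ofNat 11, Int.negSucc 22, Int.ofNat 5, Int.ofNat 0, Int.ofNat 11, Int.ofNat 0, Int.negSucc 1, Int.ofNat 1, Int.ofNat 0, Int.ofNat 0, Int.ofNat 0, Int.negSucc 0, Int.ofNat 1, Int.negSucc 1, Int.ofNat 0, Int.ofNat 1, Int.ofNat 0, Int.ofNat 8]) (ZT.node 2462 (ZT.leaf []) (ZT.leaf [Int.negSucc 0]))))) (ZT.node 2469 (ZT.node 2466 (ZT.node 2464 (ZT.leaf [Int.negSucc 107, Int.ofNat 57, Int.negSucc 11, Int.ofNat 25, Int.ofNat 1, Int.ofNat 21, Int.negSucc 4, Int.ofNat 3, Int.ofNat 4, Int.ofNat 1, Int.ofNat 0, Int.ofNat 0, Int.negSucc 1, Int.ofNat 2, Int.negSucc 9, Int.negSucc 1, Int.negSucc 4, Int.ofNat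 0, Int.ofNat 11]) (ZT.node 2465 (ZT.leaf [Int.ofNat 1267, Int.ofNat 512, Int.negSucc 300, Int.ofNat 87, Int.ofNat 4, Int.ofNat 155, Int.ofNat 12, Int.negSucc 33, Int.negSucc 0, Int.ofNat 0, Int.ofNat 0, Int.ofNat 0, Int.ofNat 4, Int.ofNat 2, Int.negSucc 181, Int.negSucc 1, Int.ofNat 28, Int.ofNat 0, Int.ofNat 138]) (ZT.leaf [Int.negSucc 170, Int.ofNat 495, Int.negSucc 59, Int.ofNat 131, Int.ofNat 7, Int.ofNat 109, Int.negSucc 2, Int.negSucc 35, Int.negSucc 1, Int.ofNat 1, Int.negSucc 0, Int.ofNat 0, Int.negSucc 9, Int.ofNat 9, Int.negSucc 143, Int.negSucc 9, Int.ofNat 20, Int.ofNat 1, Int.ofNat 82]))) (ZT.node 2467 (ZT.leaf []) (ZT.node 2468 (ZT.leaf [Int.negSucc 1064, Int.negSucc 514, Int.ofNat 228, Int.negSucc 66, Int.negSucc 0, Int.negSucc 120, Int.negSucc 16, Int.ofNat 31, Int.ofNat 4, Int.ofNat 0, Int.ofNat 0, Int.ofNat 0, Int.negSucc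 7, Int.negSucc 4, Int.ofNat 158, Int.ofNat 3, Int.negSucc 18, Int.ofNat 0, Int.negSucc 119]) (ZT.leaf [Int.ofNat 72, Int.ofNat 20, Int.negSucc 15, Int.ofNat 3, Int.ofNat 0, Int.ofNat 7, Int.ofNat 1, Int.ofNat 1, Int.ofNat 0, Int.ofNat 0, Int.ofNat 0, Int.ofNat 0, Int.ofNat 1, Int.ofNat 0, Int.negSucc 3, Int.ofNat 1, Int.ofNat 1, Int.ofNat 0, Int.ofNat 7])))) (ZT.node 2472 (ZT.node 2470 (ZT.leaf []) (ZT.node 2471 (ZT.leaf [Int.negSucc 0, Int.ofNat 0, Int.ofNat 0, Int.ofNat 0, Int.ofNat 0, Int.ofNat 0, Int.ofNat 0, Int.ofNat 0, Int.ofNat 0, Int.ofNat 0, Int.ofNat 0, Int.ofNat 0, Int.ofNat 0, Int.negSucc 0]) (ZT.leaf [Int.negSucc 29, Int.ofNat 0, Int.ofNat 6, Int.ofNat 0, Int.ofNat 0, Int.negSucc 0, Int.ofNat 0, Int.negSucc 0, Int.negSucc 0, Int.negSucc 0, Int.ofNat 0, Int.ofNat 0, Int.ofNat 0, Int.ofNat 0, Int.negSucc 1, Int.ofNat 0, Int.ofNat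 0, Int.ofNat 0, Int.negSucc 0]))) (ZT.node 2473 (ZT.leaf [Int.negSucc 77, Int.negSucc 20, Int.ofNat 17, Int.negSucc 2, Int.ofNat 0, Int.negSucc 6, Int.negSucc 0, Int.negSucc 0, Int.ofNat 0, Int.ofNat 0, Int.ofNat 0, Int.ofNat 0, Int.negSucc 0, Int.ofNat 0, Int.ofNat 4, Int.negSucc 0, Int.negSucc 0, Int.ofNat 0, Int.negSucc 6]) (ZT.node 2474 (ZT.leaf [Int.ofNat 533, Int.ofNat 214, Int.negSucc 133, Int.ofNat 39, Int.ofNat 1, Int.ofNat 76, Int.ofNat 6, Int.negSucc 15, Int.ofNat 1, Int.ofNat 0, Int.ofNat 0, Int.ofNat 0, Int.ofNat 0, Int.ofNat 1, Int.negSucc 69, Int.negSucc 0, Int.ofNat 11, Int.ofNat 0, Int.ofNat 64]) (ZT.leaf [Int.negSucc 739, Int.negSucc 234, Int.ofNat 174, Int.negSucc 33, Int.ofNat 0, Int.negSucc 87, Int.negSucc 1, Int.ofNat 7, Int.negSucc 3, Int.ofNat 0, Int.ofNat 0, Int.ofNat 0, Int.negSucc 2, Int.negSucc 1, Int.ofNat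 73, Int.ofNat 0, Int.negSucc 13, Int.ofNat 0, Int.negSucc 74]))))))) (ZT.node 2497 (ZT.node 2486 (ZT.node 2480 (ZT.node 2477 (ZT.node 2476 (ZT.leaf [Int.negSucc 259, Int.negSucc 158, Int.ofNat 58, Int.negSucc 24, Int.ofNat 0, Int.negSucc 37, Int.negSucc 5, Int.ofNat 11, Int.ofNat 2, Int.ofNat 0, Int.ofNat 0, Int.ofNat 0, Int.negSucc 0, Int.negSucc 0, Int.ofNat 52, Int.ofNat 1, Int.negSucc 4, Int.ofNat 0, Int.negSucc 34]) (ZT.leaf [Int.ofNat 429, Int.ofNat 199, Int.negSucc 99, Int.ofNat 31, Int.ofNat 1, Int.ofNat 59, Int.ofNat 5, Int.negSucc 12, Int.negSucc 0, Int.negSucc 0, Int.ofNat 0, Int.ofNat 0, Int.ofNat 1, Int.ofNat 1, Int.negSucc 61, Int.negSucc 0, Int.ofNat 8, Int.ofNat 0, Int.ofNat 51])) (ZT.node 2478 (ZT.leaf [Int.ofNat 260, Int.ofNat 146, Int.negSucc 58, Int.ofNat 22, Int.ofNat 1, Int.ofNat 37, Int.ofNat 4, Int.negSucc 9, Int.negSucc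 1, Int.negSucc 0, Int.ofNat 0, Int.ofNat 0, Int.ofNat 1, Int.ofNat 1, Int.negSucc 46, Int.negSucc 0, Int.ofNat 6, Int.ofNat 0, Int.ofNat 34]) (ZT.node 2479 (ZT.leaf [Int.ofNat 3, Int.ofNat 14, Int.ofNat 1, Int.ofNat 3, Int.ofNat 0, Int.ofNat 1, Int.ofNat 2, Int.negSucc 0, Int.ofNat 0, Int.ofNat 1, Int.ofNat 0, Int.ofNat 0, Int.ofNat 0, Int.ofNat 0, Int.negSucc 4, Int.ofNat 0, Int.negSucc 0, Int.ofNat 0, Int.ofNat 1]) (ZT.leaf [Int.negSucc 495, Int.negSucc 173, Int.ofNat 141, Int.negSucc 32, Int.ofNat 1, Int.negSucc 82, Int.negSucc 1, Int.ofNat 16, Int.negSucc 1, Int.ofNat 0, Int.ofNat 0, Int.negSucc 0, Int.ofNat 1, Int.negSucc 0, Int.ofNat 40, Int.negSucc 0, Int.negSucc 14, Int.ofNat 0, Int.negSucc 65])))) (ZT.node 2483 (ZT.node 2481 (ZT.leaf [Int.ofNat 167, Int.ofNat 37, Int.negSucc 42, Int.ofNat 6, Int.ofNat 1, Int.ofNat 21, Int.negSucc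 0, Int.negSucc 1, Int.ofNat 1, Int.negSucc 0, Int.ofNat 0, Int.ofNat 0, Int.ofNat 0, Int.ofNat 0, Int.negSucc 9, Int.ofNat 0, Int.ofNat 3, Int.ofNat 0, Int.ofNat 16]) (ZT.node 2482 (ZT.leaf [Int.negSucc 0]) (ZT.leaf []))) (ZT.node 2484 (ZT.leaf [Int.ofNat 128, Int.ofNat 118, Int.negSucc 26, Int.ofNat 18, Int.ofNat 0, Int.ofNat 21, Int.ofNat 5, Int.negSucc 7, Int.negSucc 2, Int.negSucc 0, Int.ofNat 0, Int.ofNat 0, Int.ofNat 1, Int.ofNat 1, Int.negSucc 39, Int.negSucc 0, Int.ofNat 4, Int.ofNat 0, Int.ofNat 23]) (ZT.node 2485 (ZT.leaf [Int.negSucc 102, Int.negSucc 11, Int.ofNat 23, Int.negSucc 1, Int.ofNat 0, Int.negSucc 2, Int.ofNat 1, Int.ofNat 0, Int.ofNat 0, Int.ofNat 0, Int.negSucc 0, Int.ofNat 0, Int.negSucc 0, Int.ofNat 1, Int.ofNat 0, Int.ofNat 0, Int.negSucc 2, Int.ofNat 0, Int.negSucc 5]) (ZT.leaf []))))) (ZT.node 2491 (ZT.node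 2488 (ZT.node 2487 (ZT.leaf [Int.negSucc 196, Int.ofNat 27, Int.ofNat 1, Int.ofNat 23, Int.ofNat 1, Int.ofNat 17, Int.negSucc 6, Int.ofNat 1, Int.ofNat 5, Int.ofNat 1, Int.ofNat 0, Int.ofNat 0, Int.negSucc 3, Int.ofNat 2, Int.negSucc 1, Int.negSucc 1, Int.negSucc 4, Int.ofNat 0, Int.ofNat 5]) (ZT.leaf [])) (ZT.node 2489 (ZT.leaf [Int.ofNat 398, Int.ofNat 114, Int.negSucc 93, Int.ofNat 18, Int.ofNat 0, Int.ofNat 44, Int.ofNat 2, Int.negSucc 6, Int.ofNat 1, Int.ofNat 0, Int.ofNat 0, Int.ofNat 0, Int.ofNat 1, Int.ofNat 2, Int.negSucc 30, Int.ofNat 0, Int.ofNat 7, Int.ofNat 0, Int.ofNat 38]) (ZT.node 2490 (ZT.leaf [Int.negSucc 1039, Int.negSucc 725, Int.ofNat 269, Int.negSucc 134, Int.ofNat 1, Int.negSucc 187, Int.negSucc 8, Int.ofNat 16, Int.negSucc 2, Int.ofNat 0, Int.ofNat 0, Int.ofNat 0, Int.negSucc 7, Int.negSucc 6, Int.ofNat 193, Int.ofNat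 4, Int.ofNat 1, Int.negSucc 0, Int.negSucc 155]) (ZT.leaf [])))) (ZT.node 2494 (ZT.node 2492 (ZT.leaf [Int.ofNat 10440, Int.ofNat 7069, Int.negSucc 2780, Int.ofNat 1365, Int.ofNat 35, Int.ofNat 1956, Int.ofNat 199, Int.negSucc 538, Int.negSucc 49, Int.negSucc 0, Int.ofNat 0, Int.ofNat 0, Int.negSucc 5, Int.ofNat 25, Int.negSucc 2286, Int.negSucc 43, Int.ofNat 267, Int.ofNat 0, Int.ofNat 1646]) (ZT.node 2493 (ZT.leaf [Int.negSucc 12, Int.negSucc 0, Int.ofNat 3, Int.ofNat 0, Int.ofNat 0, Int.negSucc 0, Int.ofNat 0, Int.ofNat 0, Int.ofNat 0, Int.ofNat 0, Int.ofNat 0, Int.ofNat 0, Int.ofNat 0, Int.ofNat 0, Int.ofNat 0, Int.ofNat 0, Int.ofNat 0, Int.ofNat 0, Int.negSucc 0]) (ZT.leaf []))) (ZT.node 2495 (ZT.leaf [Int.ofNat 2, Int.ofNat 0, Int.ofNat 0, Int.ofNat 0, Int.ofNat 0, Int.ofNat 0, Int.ofNat 0, Int.ofNat 0, Int.ofNat 0, Int.ofNat 0,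 Int.ofNat 0, Int.ofNat 0, Int.ofNat 0, Int.ofNat 0, Int.ofNat 0, Int.ofNat 0, Int.ofNat 0, Int.ofNat 0, Int.negSucc 0]) (ZT.node 2496 (ZT.leaf [Int.negSucc 3600, Int.negSucc 1608, Int.ofNat 803, Int.negSucc 238, Int.negSucc 3, Int.negSucc 447, Int.negSucc 55, Int.ofNat 117, Int.ofNat 15, Int.ofNat 0, Int.ofNat 0, Int.ofNat 0, Int.negSucc 14, Int.negSucc 2, Int.ofNat 566, Int.ofNat 1, Int.negSucc 80, Int.ofNat 0, Int.negSucc 411]) (ZT.leaf [Int.ofNat 5156, Int.ofNat 2648, Int.negSucc 1252, Int.ofNat 453, Int.ofNat 11, Int.ofNat 772, Int.ofNat 86, Int.negSucc 196, Int.negSucc 16, Int.ofNat 0, Int.ofNat 0, Int.ofNat 0, Int.ofNat 8, Int.ofNat 11, Int.negSucc 884, Int.negSucc 10, Int.ofNat 113, Int.ofNat 0, Int.ofNat 670])))))) (ZT.node 2508 (ZT.node 2502 (ZT.node 2499 (ZT.node 2498 (ZT.leaf [Int.ofNat 10860, Int.ofNat 7142, Int.negSucc 2850,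 Int.ofNat 1357, Int.ofNat 35, Int.ofNat 1990, Int.ofNat 202, Int.negSucc 561, Int.negSucc 50, Int.negSucc 0, Int.ofNat 0, Int.ofNat 0, Int.negSucc 6, Int.ofNat 23, Int.negSucc 2306, Int.negSucc 41, Int.ofNat 295, Int.ofNat 0, Int.ofNat 1680]) (ZT.leaf [Int.negSucc 9941, Int.negSucc 5644, Int.ofNat 2571, Int.negSucc 1090, Int.negSucc 31, Int.negSucc 1665, Int.negSucc 163, Int.ofNat 461, Int.ofNat 42, Int.ofNat 1, Int.ofNat 1, Int.negSucc 0, Int.ofNat 2, Int.negSucc 6, Int.ofNat 1957, Int.ofNat 19, Int.negSucc 262, Int.ofNat 0, Int.negSucc 1412])) (ZT.node 2500 (ZT.leaf [Int.negSucc 7718, Int.negSucc 5404, Int.ofNat 2118, Int.negSucc 1074, Int.negSucc 29, Int.negSucc 1513, Int.negSucc 137, Int.ofNat 427, Int.ofNat 36, Int.ofNat 1, Int.ofNat 0, Int.ofNat 0, Int.ofNat 13, Int.negSucc 15, Int.ofNat 1717, Int.ofNat 35, Int.negSucc 221, Int.ofNat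 0, Int.negSucc 1256]) (ZT.node 2501 (ZT.leaf [Int.negSucc 10006, Int.negSucc 6928, Int.ofNat 2655, Int.negSucc 1332, Int.negSucc 33, Int.negSucc 1887, Int.negSucc 195, Int.ofNat 527, Int.ofNat 54, Int.ofNat 1, Int.ofNat 0, Int.ofNat 0, Int.ofNat 4, Int.negSucc 23, Int.ofNat 2252, Int.ofNat 43, Int.negSucc 260, Int.ofNat 0, Int.negSucc 1594]) (ZT.leaf [Int.ofNat 15047, Int.ofNat 4932, Int.negSucc 3320, Int.ofNat 678, Int.ofNat 16, Int.ofNat 1594, Int.ofNat 209, Int.negSucc 360, Int.negSucc 27, Int.ofNat 0, Int.ofNat 0, Int.ofNat 1, Int.ofNat 54, Int.ofNat 18, Int.negSucc 1877, Int.ofNat 14, Int.ofNat 330, Int.ofNat 1, Int.ofNat 1489])))) (ZT.node 2505 (ZT.node 2503 (ZT.leaf []) (ZT.node 2504 (ZT.leaf [Int.negSucc 0, Int.negSucc 0, Int.ofNat 0, Int.ofNat 0, Int.ofNat 0, Int.ofNat 0, Int.ofNat 0, Int.ofNat 0, Int.ofNat 0, Int.ofNat 0, Int.ofNat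 0, Int.ofNat 0, Int.ofNat 0, Int.ofNat 0, Int.ofNat 1]) (ZT.leaf [Int.negSucc 0, Int.ofNat 0, Int.ofNat 0, Int.ofNat 0, Int.ofNat 0, Int.ofNat 0, Int.ofNat 0, Int.ofNat 0, Int.ofNat 0, Int.ofNat 0, Int.ofNat 0, Int.ofNat 0, Int.ofNat 0, Int.ofNat 0, Int.ofNat 2]))) (ZT.node 2506 (ZT.leaf [Int.ofNat 1, Int.ofNat 1, Int.ofNat 0, Int.ofNat 0, Int.ofNat 0, Int.ofNat 0, Int.ofNat 0, Int.ofNat 0, Int.ofNat 0, Int.ofNat 0, Int.ofNat 0, Int.ofNat 0, Int.ofNat 0, Int.ofNat 0, Int.negSucc 0]) (ZT.node 2507 (ZT.leaf [Int.ofNat 4751, Int.ofNat 1693, Int.negSucc 1098, Int.ofNat 258, Int.ofNat 5, Int.ofNat 575, Int.ofNat 67, Int.negSucc 129, Int.negSucc 4, Int.ofNat 0, Int.ofNat 0, Int.ofNat 0, Int.ofNat 11, Int.ofNat 6, Int.negSucc 629, Int.ofNat 3, Int.ofNat 102, Int.ofNat 0, Int.ofNat 511]) (ZT.leaf [Int.ofNat 456, Int.ofNat 866, Int.negSucc 148,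 Int.ofNat 164, Int.ofNat 7, Int.ofNat 168, Int.ofNat 15, Int.negSucc 66, Int.negSucc 13, Int.ofNat 0, Int.ofNat 0, Int.ofNat 0, Int.negSucc 4, Int.ofNat 8, Int.negSucc 286, Int.negSucc 9, Int.ofNat 41, Int.ofNat 0, Int.ofNat 153]))))) (ZT.node 2514 (ZT.node 2511 (ZT.node 2509 (ZT.leaf [Int.negSucc 2103, Int.negSucc 891, Int.ofNat 471, Int.negSucc 132, Int.negSucc 3, Int.negSucc 265, Int.negSucc 41, Int.ofNat 78, Int.ofNat 11, Int.ofNat 0, Int.ofNat 0, Int.ofNat 0, Int.negSucc 3, Int.negSucc 1, Int.ofNat 332, Int.ofNat 1, Int.negSucc 44, Int.ofNat 0, Int.negSucc 241]) (ZT.node 2510 (ZT.leaf [Int.negSucc 3260, Int.negSucc 2211, Int.ofNat 741, Int.negSucc 350, Int.negSucc 7, Int.negSucc 519, Int.negSucc 88, Int.ofNat 179, Int.ofNat 33, Int.ofNat 0, Int.ofNat 0, Int.ofNat 0, Int.negSucc 7, Int.negSucc 9, Int.ofNat 769, Int.ofNat 14, Int.negSucc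 88, Int.ofNat 0, Int.negSucc 484]) (ZT.leaf [Int.ofNat 2237, Int.ofNat 1023, Int.negSucc 515, Int.ofNat 161, Int.ofNat 5, Int.ofNat 300, Int.ofNat 50, Int.negSucc 94, Int.negSucc 14, Int.ofNat 0, Int.ofNat 0, Int.ofNat 0, Int.ofNat 3, Int.ofNat 2, Int.negSucc 393, Int.negSucc 2, Int.ofNat 52, Int.negSucc 0, Int.ofNat 274]))) (ZT.node 2512 (ZT.leaf []) (ZT.node 2513 (ZT.leaf []) (ZT.leaf [Int.negSucc 0])))) (ZT.node 2517 (ZT.node 2515 (ZT.leaf [Int.negSucc 485, Int.negSucc 127, Int.ofNat 123, Int.negSucc 24, Int.ofNat 0, Int.negSucc 57, Int.negSucc 2, Int.ofNat 10, Int.negSucc 1, Int.ofNat 0, Int.ofNat 0, Int.ofNat 0, Int.ofNat 0, Int.negSucc 0, Int.ofNat 38, Int.ofNat 0, Int.negSucc 8, Int.ofNat 0, Int.negSucc 48]) (ZT.node 2516 (ZT.leaf [Int.ofNat 30, Int.ofNat 5, Int.negSucc 5, Int.ofNat 0, Int.ofNat 0, Int.ofNat 2, Int.ofNat 0, Int.ofNat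 1, Int.ofNat 1, Int.ofNat 0, Int.ofNat 0, Int.ofNat 0, Int.ofNat 0, Int.ofNat 0, Int.negSucc 3, Int.ofNat 0, Int.negSucc 0, Int.ofNat 0, Int.ofNat 1]) (ZT.leaf [Int.negSucc 2, Int.negSucc 0]))) (ZT.node 2518 (ZT.leaf [Int.negSucc 5388, Int.negSucc 2656, Int.ofNat 1254, Int.negSucc 425, Int.negSucc 14, Int.negSucc 723, Int.negSucc 78, Int.ofNat 205, Int.ofNat 26, Int.ofNat 0, Int.ofNat 0, Int.ofNat 0, Int.negSucc 7, Int.negSucc 10, Int.ofNat 973, Int.ofNat 7, Int.negSucc 161, Int.ofNat 0, Int.negSucc 666]) (ZT.node 2519 (ZT.leaf []) (ZT.leaf [Int.ofNat 4842, Int.ofNat 1758, Int.negSucc 1111, Int.ofNat 264, Int.ofNat 5, Int.ofNat 582, Int.ofNat 69, Int.negSucc 129, Int.negSucc 5, Int.ofNat 0, Int.ofNat 0, Int.ofNat 0, Int.ofNat 13, Int.ofNat 6, Int.negSucc 652, Int.ofNat 3, Int.ofNat 102, Int.ofNat 0, Int.ofNat 519]))))))))))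

noncomputable def labT_7 : ZT := (ZT.node 2700 (ZT.node 2610 (ZT.node 2565 (ZT.node 2542 (ZT.node 2531 (ZT.node 2525 (ZT.node 2522 (ZT.node 2521 (ZT.leaf [Int.negSucc 613, Int.ofNat 1485, Int.ofNat 7, Int.ofNat 346, Int.ofNat 14, Int.ofNat 256, Int.ofNat 28, Int.negSucc 135, Int.negSucc 27, Int.ofNat 0, Int.ofNat 0, Int.ofNat 0, Int.negSucc 22, Int.ofNat 1, Int.negSucc 454, Int.negSucc 19, Int.ofNat 41, Int.ofNat 0, Int.ofNat 201]) (ZT.leaf [])) (ZT.node 2523 (ZT.leaf [Int.negSucc 658, Int.negSucc 331, Int.ofNat 184, Int.negSucc 68, Int.ofNat 0, Int.negSucc 115, Int.negSucc 1, Int.ofNat 12, Int.negSucc 6, Int.ofNat 0, Int.ofNat 0, Int.ofNat 0, Int.ofNat 0, Int.negSucc 3, Int.ofNat 93, Int.ofNat 2, Int.negSucc 9, Int.ofNat 0, Int.negSucc 90]) (ZT.node 2524 (ZT.leaf [Int.negSucc 47, Int.negSucc 21, Int.ofNat 9, Int.negSucc 0, Int.ofNat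 0, Int.negSucc 5, Int.ofNat 1, Int.negSucc 0, Int.ofNat 0, Int.ofNat 0, Int.ofNat 0, Int.ofNat 0, Int.negSucc 0, Int.ofNat 0, Int.ofNat 7, Int.ofNat 0, Int.negSucc 1, Int.ofNat 0, Int.negSucc 4]) (ZT.leaf [])))) (ZT.node 2528 (ZT.node 2526 (ZT.leaf [Int.ofNat 7554, Int.ofNat 3255, Int.negSucc 1747, Int.ofNat 522, Int.ofNat 12, Int.ofNat 988, Int.ofNat 122, Int.negSucc 269, Int.negSucc 28, Int.ofNat 2, Int.negSucc 0, Int.ofNat 0, Int.ofNat 11, Int.ofNat 3, Int.negSucc 1126, Int.negSucc 3, Int.ofNat 168, Int.ofNat 0, Int.ofNat 873]) (ZT.node 2527 (ZT.leaf []) (ZT.leaf [Int.ofNat 32, Int.ofNat 0, Int.negSucc 5, Int.ofNat 0, Int.ofNat 0, Int.ofNat 1, Int.ofNat 0, Int.ofNat 1, Int.ofNat 1, Int.ofNat 1, Int.ofNat 0, Int.ofNat 0, Int.ofNat 0, Int.ofNat 0, Int.ofNat 2, Int.ofNat 0, Int.ofNat 0, Int.ofNat 0, Int.ofNat 1]))) (ZT.node 2529 (ZT.leaf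 []) (ZT.node 2530 (ZT.leaf [Int.negSucc 51, Int.negSucc 2, Int.ofNat 11, Int.ofNat 0, Int.ofNat 0, Int.negSucc 2, Int.ofNat 1, Int.negSucc 0, Int.negSucc 0, Int.ofNat 0, Int.ofNat 0, Int.ofNat 0, Int.ofNat 0, Int.ofNat 0, Int.ofNat 1, Int.ofNat 0, Int.negSucc 1, Int.ofNat 0, Int.negSucc 1]) (ZT.leaf [Int.negSucc 32, Int.ofNat 0, Int.ofNat 6, Int.ofNat 0, Int.ofNat 0, Int.negSucc 0, Int.ofNat 0, Int.negSucc 0, Int.negSucc 0, Int.negSucc 0, Int.ofNat 0, Int.ofNat 0, Int.ofNat 0, Int.ofNat 0, Int.negSucc 1, Int.ofNat 0, Int.ofNat 0, Int.ofNat 0, Int.negSucc 0]))))) (ZT.node 2536 (ZT.node 2533 (ZT.node 2532 (ZT.leaf [Int.ofNat 27, Int.negSucc 5, Int.negSucc 4, Int.negSucc 2, Int.ofNat 0, Int.ofNat 0, Int.negSucc 0, Int.ofNat 2, Int.ofNat 1, Int.ofNat 0, Int.ofNat 0, Int.ofNat 0, Int.ofNat 0, Int.ofNat 0, Int.ofNat 6, Int.ofNat 0, Int.ofNat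 1, Int.ofNat 0, Int.ofNat 0]) (ZT.leaf [])) (ZT.node 2534 (ZT.leaf [Int.ofNat 2, Int.ofNat 1]) (ZT.node 2535 (ZT.leaf [Int.ofNat 26, Int.negSucc 0, Int.negSucc 5, Int.ofNat 0, Int.ofNat 0, Int.ofNat 1, Int.ofNat 0, Int.ofNat 1, Int.ofNat 1, Int.ofNat 1, Int.ofNat 0, Int.ofNat 0, Int.ofNat 0, Int.ofNat 0, Int.ofNat 2, Int.ofNat 0, Int.ofNat 0, Int.ofNat 0, Int.ofNat 1]) (ZT.leaf [Int.negSucc 23, Int.negSucc 3, Int.ofNat 4, Int.ofNat 1, Int.ofNat 0, Int.ofNat 0, Int.ofNat 0, Int.negSucc 0, Int.ofNat 0, Int.ofNat 0, Int.ofNat 0, Int.ofNat 0, Int.negSucc 0, Int.ofNat 0, Int.ofNat 2, Int.ofNat 0, Int.ofNat 0, Int.ofNat 0, Int.negSucc 0])))) (ZT.node 2539 (ZT.node 2537 (ZT.leaf [Int.negSucc 0]) (ZT.node 2538 (ZT.leaf []) (ZT.leaf [Int.ofNat 0, Int.ofNat 1, Int.ofNat 0, Int.ofNat 0, Int.ofNat 0, Int.ofNat 0, Int.ofNat 0, Int.ofNat 0, Int.ofNat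 0, Int.ofNat 0, Int.ofNat 0, Int.ofNat 0, Int.ofNat 0, Int.ofNat 0, Int.negSucc 0]))) (ZT.node 2540 (ZT.leaf [Int.negSucc 5343, Int.negSucc 1938, Int.ofNat 1254, Int.negSucc 306, Int.negSucc 6, Int.negSucc 665, Int.negSucc 75, Int.ofNat 152, Int.ofNat 3, Int.ofNat 0, Int.ofNat 0, Int.ofNat 0, Int.negSucc 7, Int.negSucc 7, Int.ofNat 703, Int.negSucc 0, Int.negSucc 108, Int.ofNat 0, Int.negSucc 583]) (ZT.node 2541 (ZT.leaf [Int.negSucc 2, Int.negSucc 1, Int.ofNat 0, Int.ofNat 0, Int.ofNat 0, Int.ofNat 0, Int.ofNat 0, Int.ofNat 0, Int.ofNat 0, Int.ofNat 0, Int.ofNat 0, Int.ofNat 0, Int.ofNat 0, Int.ofNat 0, Int.ofNat 1]) (ZT.leaf [Int.ofNat 25, Int.ofNat 4, Int.negSucc 5, Int.ofNat 0, Int.ofNat 0, Int.ofNat 2, Int.ofNat 0, Int.ofNat 1, Int.ofNat 1, Int.ofNat 0, Int.ofNat 0, Int.ofNat 0, Int.ofNat 0, Int.ofNat 0, Int.negSucc 3, Int.ofNat 0,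 Int.negSucc 0, Int.ofNat 0, Int.ofNat 1])))))) (ZT.node 2553 (ZT.node 2547 (ZT.node 2544 (ZT.node 2543 (ZT.leaf [Int.negSucc 253, Int.negSucc 122, Int.ofNat 63, Int.negSucc 23, Int.ofNat 0, Int.negSucc 33, Int.negSucc 4, Int.ofNat 8, Int.ofNat 1, Int.ofNat 1, Int.negSucc 0, Int.ofNat 0, Int.negSucc 0, Int.ofNat 0, Int.ofNat 33, Int.ofNat 1, Int.negSucc 2, Int.ofNat 0, Int.negSucc 31]) (ZT.leaf [])) (ZT.node 2545 (ZT.leaf [Int.negSucc 3, Int.ofNat 1, Int.ofNat 0, Int.ofNat 0, Int.ofNat 0, Int.ofNat 0, Int.ofNat 0, Int.ofNat 0, Int.ofNat 0, Int.ofNat 0, Int.ofNat 0, Int.ofNat 0, Int.ofNat 0, Int.ofNat 0, Int.negSucc 0, Int.ofNat 0, Int.ofNat 0, Int.ofNat 0, Int.ofNat 0]) (ZT.node 2546 (ZT.leaf [Int.ofNat 23123, Int.ofNat 9295, Int.negSucc 5303, Int.ofNat 1490, Int.ofNat 50, Int.ofNat 2861, Int.ofNat 356, Int.negSucc 797, Int.negSucc 85,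 Int.ofNat 1, Int.negSucc 0, Int.ofNat 0, Int.ofNat 32, Int.ofNat 0, Int.negSucc 3531, Int.ofNat 12, Int.ofNat 574, Int.negSucc 0, Int.ofNat 2583]) (ZT.leaf [Int.ofNat 1, Int.ofNat 3, Int.ofNat 0, Int.ofNat 0, Int.ofNat 0, Int.ofNat 0, Int.ofNat 0, Int.ofNat 0, Int.ofNat 0, Int.ofNat 0, Int.ofNat 0, Int.ofNat 0, Int.ofNat 0, Int.ofNat 0, Int.negSucc 0, Int.ofNat 0, Int.ofNat 0, Int.ofNat 0, Int.ofNat 0])))) (ZT.node 2550 (ZT.node 2548 (ZT.leaf []) (ZT.node 2549 (ZT.leaf [Int.negSucc 42849, Int.negSucc 14735, Int.ofNat 9700, Int.negSucc 2226, Int.negSucc 49, Int.negSucc 4910, Int.negSucc 617, Int.ofNat 1176, Int.ofNat 74, Int.ofNat 0, Int.ofNat 0, Int.ofNat 0, Int.negSucc 105, Int.negSucc 19, Int.ofNat 5652, Int.negSucc 26, Int.negSucc 877, Int.ofNat 1, Int.negSucc 4425]) (ZT.leaf [Int.negSucc 0]))) (ZT.node 2551 (ZT.leaf [Int.negSucc 5888,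 Int.negSucc 2216, Int.ofNat 1384, Int.negSucc 365, Int.negSucc 9, Int.negSucc 733, Int.negSucc 87, Int.ofNat 179, Int.ofNat 8, Int.ofNat 1, Int.ofNat 0, Int.ofNat 0, Int.negSucc 4, Int.negSucc 7, Int.ofNat 831, Int.ofNat 0, Int.negSucc 139, Int.ofNat 0, Int.negSucc 647]) (ZT.node 2552 (ZT.leaf [Int.negSucc 0]) (ZT.leaf [Int.negSucc 4670, Int.negSucc 1439, Int.ofNat 1044, Int.negSucc 197, Int.negSucc 2, Int.negSucc 513, Int.negSucc 62, Int.ofNat 116, Int.ofNat 4, Int.ofNat 0, Int.ofNat 0, Int.ofNat 0, Int.negSucc 11, Int.negSucc 1, Int.ofNat 551, Int.negSucc 6, Int.negSucc 99, Int.ofNat 0, Int.negSucc 458]))))) (ZT.node 2559 (ZT.node 2556 (ZT.node 2554 (ZT.leaf [Int.negSucc 3252, Int.negSucc 111, Int.ofNat 703, Int.ofNat 40, Int.ofNat 5, Int.negSucc 219, Int.negSucc 11, Int.ofNat 13, Int.negSucc 17, Int.ofNat 0, Int.ofNat 0, Int.ofNat 0,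 Int.negSucc 11, Int.ofNat 1, Int.ofNat 64, Int.negSucc 12, Int.negSucc 59, Int.ofNat 0, Int.negSucc 201]) (ZT.node 2555 (ZT.leaf [Int.ofNat 2872, Int.ofNat 1592, Int.negSucc 711, Int.ofNat 290, Int.ofNat 4, Int.ofNat 481, Int.ofNat 69, Int.negSucc 118, Int.negSucc 7, Int.negSucc 0, Int.ofNat 0, Int.ofNat 0, Int.ofNat 6, Int.ofNat 8, Int.negSucc 500, Int.negSucc 9, Int.ofNat 30, Int.ofNat 0, Int.ofNat 395]) (ZT.leaf [Int.negSucc 1190, Int.negSucc 586, Int.ofNat 333, Int.negSucc 122, Int.negSucc 5, Int.negSucc 185, Int.negSucc 7, Int.ofNat 40, Int.negSucc 1, Int.negSucc 0, Int.ofNat 1, Int.ofNat 0, Int.ofNat 0, Int.negSucc 4, Int.ofNat 197, Int.ofNat 5, Int.negSucc 26, Int.ofNat 0, Int.negSucc 156]))) (ZT.node 2557 (ZT.leaf []) (ZT.node 2558 (ZT.leaf [Int.negSucc 411, Int.negSucc 196, Int.ofNat 96, Int.negSucc 35, Int.negSucc 1, Int.negSucc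 58, Int.negSucc 8, Int.ofNat 16, Int.negSucc 0, Int.ofNat 0, Int.ofNat 0, Int.ofNat 0, Int.ofNat 2, Int.negSucc 1, Int.ofNat 57, Int.ofNat 2, Int.ofNat 1, Int.ofNat 0, Int.negSucc 47]) (ZT.leaf [Int.ofNat 9969, Int.ofNat 6207, Int.negSucc 2422, Int.ofNat 1068, Int.ofNat 28, Int.ofNat 1629, Int.ofNat 189, Int.negSucc 458, Int.negSucc 58, Int.ofNat 1, Int.ofNat 0, Int.ofNat 1, Int.ofNat 12, Int.ofNat 35, Int.negSucc 2029, Int.negSucc 32, Int.ofNat 270, Int.ofNat 1, Int.ofNat 1440])))) (ZT.node 2562 (ZT.node 2560 (ZT.leaf [Int.ofNat 166, Int.ofNat 86, Int.negSucc 38, Int.ofNat 14, Int.ofNat 0, Int.ofNat 25, Int.ofNat 6, Int.negSucc 6, Int.negSucc 1, Int.ofNat 1, Int.ofNat 0, Int.ofNat 0, Int.ofNat 1, Int.ofNat 0, Int.negSucc 35, Int.ofNat 1, Int.ofNat 3, Int.ofNat 0, Int.ofNat 22]) (ZT.node 2561 (ZT.leaf [Int.negSucc 0]) (ZT.leaf [Int.negSucc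 793, Int.negSucc 356, Int.ofNat 175, Int.negSucc 49, Int.negSucc 0, Int.negSucc 97, Int.negSucc 6, Int.ofNat 15, Int.ofNat 1, Int.ofNat 0, Int.ofNat 0, Int.ofNat 0, Int.negSucc 4, Int.negSucc 1, Int.ofNat 124, Int.ofNat 1, Int.negSucc 19, Int.ofNat 0, Int.negSucc 89]))) (ZT.node 2563 (ZT.leaf []) (ZT.node 2564 (ZT.leaf [Int.ofNat 9769, Int.ofNat 5556, Int.negSucc 2319, Int.ofNat 930, Int.ofNat 23, Int.ofNat 1504, Int.ofNat 209, Int.negSucc 435, Int.negSucc 60, Int.negSucc 0, Int.ofNat 0, Int.ofNat 0, Int.ofNat 18, Int.ofNat 23, Int.negSucc 1926, Int.negSucc 20, Int.ofNat 230, Int.ofNat 0, Int.ofNat 1332]) (ZT.leaf [Int.negSucc 1091, Int.negSucc 1510, Int.ofNat 299, Int.negSucc 273, Int.negSucc 9, Int.negSucc 313, Int.negSucc 45, Int.ofNat 121, Int.ofNat 28, Int.ofNat 0, Int.ofNat 0, Int.ofNat 0, Int.ofNat 3, Int.negSucc 10, Int.ofNat 507,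 Int.ofNat 12, Int.negSucc 62, Int.ofNat 0, Int.negSucc 280]))))))) (ZT.node 2587 (ZT.node 2576 (ZT.node 2570 (ZT.node 2567 (ZT.node 2566 (ZT.leaf [Int.negSucc 42, Int.negSucc 40, Int.ofNat 3, Int.negSucc 3, Int.ofNat 0, Int.negSucc 2, Int.negSucc 1, Int.negSucc 1, Int.ofNat 1, Int.ofNat 0, Int.ofNat 0, Int.ofNat 0, Int.negSucc 1, Int.ofNat 0, Int.ofNat 15, Int.ofNat 0, Int.ofNat 0, Int.ofNat 0, Int.negSucc 4]) (ZT.leaf [Int.negSucc 270, Int.negSucc 94, Int.ofNat 65, Int.negSucc 15, Int.ofNat 0, Int.negSucc 32, Int.negSucc 3, Int.ofNat 9, Int.ofNat 0, Int.ofNat 0, Int.ofNat 0, Int.ofNat 0, Int.ofNat 0, Int.negSucc 0, Int.ofNat 35, Int.ofNat 0, Int.negSucc 5, Int.ofNat 0, Int.negSucc 29])) (ZT.node 2568 (ZT.leaf [Int.negSucc 0]) (ZT.node 2569 (ZT.leaf [Int.negSucc 104, Int.negSucc 25, Int.ofNat 37, Int.negSucc 13, Int.negSucc 0, Int.negSucc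 22, Int.ofNat 0, Int.ofNat 5, Int.negSucc 3, Int.ofNat 0, Int.ofNat 0, Int.ofNat 0, Int.ofNat 4, Int.negSucc 0, Int.negSucc 2, Int.ofNat 2, Int.ofNat 2, Int.ofNat 0, Int.negSucc 13]) (ZT.leaf [Int.ofNat 101, Int.ofNat 10, Int.negSucc 30, Int.ofNat 6, Int.ofNat 0, Int.ofNat 14, Int.ofNat 0, Int.negSucc 1, Int.ofNat 2, Int.ofNat 0, Int.ofNat 0, Int.ofNat 0, Int.negSucc 0, Int.ofNat 0, Int.ofNat 0, Int.ofNat 0, Int.ofNat 2, Int.ofNat 0, Int.ofNat 10])))) (ZT.node 2573 (ZT.node 2571 (ZT.leaf [Int.negSucc 5, Int.negSucc 3, Int.negSucc 0, Int.ofNat 0, Int.ofNat 0, Int.ofNat 0, Int.ofNat 0, Int.ofNat 0, Int.ofNat 0, Int.negSucc 0, Int.ofNat 0, Int.ofNat 0, Int.ofNat 0, Int.ofNat 0, Int.ofNat 0, Int.ofNat 0, Int.ofNat 0, Int.ofNat 0, Int.ofNat 0]) (ZT.node 2572 (ZT.leaf [Int.negSucc 0, Int.ofNat 0, Int.ofNat 0, Int.ofNat 0, Int.ofNat 0, Int.ofNat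 0, Int.ofNat 0, Int.ofNat 0, Int.ofNat 0, Int.ofNat 0, Int.ofNat 1]) (ZT.leaf [Int.negSucc 4, Int.negSucc 1, Int.ofNat 2, Int.ofNat 0, Int.ofNat 0, Int.negSucc 0, Int.ofNat 0, Int.ofNat 1, Int.ofNat 1, Int.ofNat 1, Int.ofNat 0, Int.ofNat 0, Int.ofNat 0, Int.ofNat 0, Int.ofNat 0, Int.ofNat 0, Int.ofNat 0, Int.ofNat 0, Int.negSucc 0]))) (ZT.node 2574 (ZT.leaf []) (ZT.node 2575 (ZT.leaf [Int.negSucc 0]) (ZT.leaf []))))) (ZT.node 2581 (ZT.node 2578 (ZT.node 2577 (ZT.leaf [Int.negSucc 14, Int.negSucc 1, Int.ofNat 5, Int.negSucc 1, Int.ofNat 0, Int.negSucc 2, Int.ofNat 0, Int.ofNat 1, Int.ofNat 0, Int.ofNat 0, Int.ofNat 0, Int.ofNat 0, Int.ofNat 0, Int.ofNat 0, Int.ofNat 3, Int.ofNat 0, Int.negSucc 0, Int.ofNat 0, Int.negSucc 2]) (ZT.leaf [Int.negSucc 0, Int.ofNat 1, Int.ofNat 0, Int.ofNat 0, Int.ofNat 0, Int.ofNat 0, Int.ofNat 0, Int.ofNat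 0, Int.ofNat 0, Int.ofNat 0, Int.ofNat 0, Int.ofNat 0, Int.ofNat 0, Int.ofNat 0, Int.negSucc 0])) (ZT.node 2579 (ZT.leaf [Int.negSucc 0, Int.negSucc 0]) (ZT.node 2580 (ZT.leaf [Int.negSucc 98, Int.ofNat 127, Int.ofNat 40, Int.ofNat 16, Int.ofNat 1, Int.ofNat 4, Int.ofNat 13, Int.negSucc 19, Int.negSucc 6, Int.ofNat 0, Int.ofNat 0, Int.ofNat 0, Int.negSucc 1, Int.ofNat 1, Int.negSucc 58, Int.negSucc 0, Int.negSucc 0, Int.ofNat 0, Int.ofNat 10]) (ZT.leaf [Int.negSucc 648, Int.negSucc 418, Int.ofNat 152, Int.negSucc 69, Int.negSucc 1, Int.negSucc 104, Int.negSucc 16, Int.ofNat 32, Int.ofNat 6, Int.ofNat 0, Int.ofNat 0, Int.ofNat 0, Int.negSucc 0, Int.negSucc 1, Int.ofNat 136, Int.ofNat 2, Int.negSucc 13, Int.ofNat 0, Int.negSucc 94])))) (ZT.node 2584 (ZT.node 2582 (ZT.leaf []) (ZT.node 2583 (ZT.leaf []) (ZT.leaf [Int.negSucc 53, Int.negSucc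 2, Int.ofNat 12, Int.negSucc 0, Int.ofNat 0, Int.negSucc 3, Int.ofNat 0, Int.ofNat 0, Int.negSucc 0, Int.negSucc 0, Int.ofNat 0, Int.ofNat 0, Int.ofNat 0, Int.ofNat 0, Int.negSucc 2, Int.ofNat 0, Int.negSucc 0, Int.ofNat 0, Int.negSucc 2]))) (ZT.node 2585 (ZT.leaf [Int.ofNat 1012, Int.ofNat 505, Int.negSucc 235, Int.ofNat 84, Int.ofNat 3, Int.ofNat 143, Int.ofNat 19, Int.negSucc 38, Int.negSucc 4, Int.ofNat 0, Int.ofNat 0, Int.ofNat 0, Int.ofNat 2, Int.ofNat 3, Int.negSucc 177, Int.negSucc 1, Int.ofNat 25, Int.ofNat 0, Int.ofNat 129]) (ZT.node 2586 (ZT.leaf [Int.ofNat 96, Int.ofNat 25, Int.negSucc 19, Int.ofNat 2, Int.ofNat 0, Int.ofNat 10, Int.negSucc 0, Int.ofNat 1, Int.ofNat 1, Int.ofNat 1, Int.ofNat 0, Int.ofNat 0, Int.ofNat 1, Int.ofNat 0, Int.negSucc 3, Int.ofNat 0, Int.ofNat 3, Int.ofNat 0, Int.ofNat 8]) (ZT.leaf [Int.ofNat 5342,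 Int.ofNat 1939, Int.negSucc 1253, Int.ofNat 307, Int.ofNat 7, Int.ofNat 666, Int.ofNat 76, Int.negSucc 151, Int.negSucc 2, Int.ofNat 0, Int.ofNat 0, Int.ofNat 0, Int.ofNat 8, Int.ofNat 8, Int.negSucc 702, Int.ofNat 1, Int.ofNat 109, Int.ofNat 0, Int.ofNat 584])))))) (ZT.node 2598 (ZT.node 2592 (ZT.node 2589 (ZT.node 2588 (ZT.leaf [Int.negSucc 0, Int.ofNat 0, Int.ofNat 0, Int.ofNat 0, Int.ofNat 0, Int.ofNat 0, Int.ofNat 0, Int.ofNat 0, Int.ofNat 0, Int.ofNat 0, Int.ofNat 0, Int.ofNat 0, Int.negSucc 0]) (ZT.leaf [Int.negSucc 3, Int.negSucc 3])) (ZT.node 2590 (ZT.leaf []) (ZT.node 2591 (ZT.leaf []) (ZT.leaf [])))) (ZT.node 2595 (ZT.node 2593 (ZT.leaf [Int.negSucc 7, Int.ofNat 0, Int.ofNat 3, Int.ofNat 0, Int.ofNat 0, Int.negSucc 0, Int.ofNat 0, Int.ofNat 0, Int.ofNat 0, Int.ofNat 0, Int.ofNat 0, Int.ofNat 0, Int.ofNat 0, Int.ofNat 0, Int.ofNat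 0, Int.ofNat 0, Int.ofNat 0, Int.ofNat 0, Int.negSucc 0]) (ZT.node 2594 (ZT.leaf [Int.ofNat 2629, Int.ofNat 310, Int.negSucc 587, Int.ofNat 21, Int.ofNat 1, Int.ofNat 223, Int.ofNat 17, Int.negSucc 38, Int.ofNat 10, Int.ofNat 0, Int.ofNat 0, Int.ofNat 0, Int.ofNat 3, Int.negSucc 0, Int.negSucc 142, Int.ofNat 10, Int.ofNat 65, Int.ofNat 0, Int.ofNat 198]) (ZT.leaf [Int.ofNat 3, Int.ofNat 1]))) (ZT.node 2596 (ZT.leaf [Int.ofNat 37, Int.ofNat 11, Int.negSucc 8, Int.ofNat 2, Int.ofNat 0, Int.ofNat 4, Int.ofNat 0, Int.negSucc 0, Int.ofNat 0, Int.ofNat 0, Int.ofNat 0, Int.ofNat 0, Int.ofNat 0, Int.ofNat 0, Int.negSucc 3, Int.ofNat 0, Int.ofNat 1, Int.ofNat 0, Int.ofNat 3]) (ZT.node 2597 (ZT.leaf [Int.negSucc 6, Int.negSucc 1, Int.ofNat 1, Int.ofNat 0, Int.ofNat 0, Int.ofNat 0, Int.ofNat 0, Int.ofNat 0, Int.ofNat 0, Int.ofNat 0, Int.ofNat 0,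 Int.ofNat 0, Int.ofNat 0, Int.ofNat 0, Int.ofNat 1]) (ZT.leaf [Int.ofNat 8, Int.negSucc 3, Int.negSucc 3, Int.ofNat 0, Int.ofNat 0, Int.ofNat 1, Int.ofNat 0, Int.ofNat 0, Int.ofNat 0, Int.ofNat 0, Int.ofNat 0, Int.ofNat 0, Int.ofNat 0, Int.ofNat 0, Int.ofNat 3, Int.ofNat 0, Int.ofNat 0, Int.ofNat 0, Int.ofNat 1]))))) (ZT.node 2604 (ZT.node 2601 (ZT.node 2599 (ZT.leaf [Int.negSucc 33, Int.negSucc 8, Int.ofNat 9, Int.negSucc 1, Int.ofNat 0, Int.negSucc 3, Int.ofNat 0, Int.ofNat 1, Int.ofNat 0, Int.ofNat 0, Int.ofNat 0, Int.ofNat 0, Int.ofNat 0, Int.ofNat 0, Int.ofNat 4, Int.ofNat 0, Int.negSucc 0, Int.ofNat 0, Int.negSucc 2]) (ZT.node 2600 (ZT.leaf [Int.negSucc 0]) (ZT.leaf [Int.ofNat 4931, Int.ofNat 1791, Int.negSucc 1104, Int.ofNat 262, Int.ofNat 8, Int.ofNat 556, Int.ofNat 64, Int.negSucc 137, Int.negSucc 11, Int.ofNat 0, Int.ofNat 0,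 Int.ofNat 0, Int.ofNat 13, Int.ofNat 3, Int.negSucc 685, Int.ofNat 3, Int.ofNat 121, Int.ofNat 0, Int.ofNat 514]))) (ZT.node 2602 (ZT.leaf [Int.negSucc 0]) (ZT.node 2603 (ZT.leaf [Int.negSucc 273, Int.negSucc 254, Int.ofNat 69, Int.negSucc 45, Int.negSucc 1, Int.negSucc 49, Int.negSucc 3, Int.ofNat 16, Int.ofNat 3, Int.ofNat 0, Int.ofNat 0, Int.ofNat 0, Int.ofNat 0, Int.negSucc 1, Int.ofNat 62, Int.ofNat 3, Int.negSucc 9, Int.ofNat 0, Int.negSucc 44]) (ZT.leaf [Int.negSucc 185, Int.negSucc 96, Int.ofNat 62, Int.negSucc 23, Int.negSucc 0, Int.negSucc 35, Int.ofNat 2, Int.ofNat 12, Int.ofNat 1, Int.ofNat 0, Int.ofNat 0, Int.ofNat 0, Int.ofNat 1, Int.ofNat 0, Int.ofNat 33, Int.ofNat 0, Int.negSucc 13, Int.ofNat 0, Int.negSucc 30])))) (ZT.node 2607 (ZT.node 2605 (ZT.leaf [Int.negSucc 116, Int.negSucc 76, Int.ofNat 46, Int.negSucc 20, Int.negSucc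 0, Int.negSucc 28, Int.ofNat 3, Int.ofNat 13, Int.ofNat 1, Int.ofNat 0, Int.ofNat 0, Int.ofNat 0, Int.ofNat 2, Int.ofNat 0, Int.ofNat 29, Int.ofNat 1, Int.negSucc 12, Int.ofNat 0, Int.negSucc 23]) (ZT.node 2606 (ZT.leaf [Int.negSucc 0]) (ZT.leaf [Int.negSucc 4838, Int.negSucc 1755, Int.ofNat 1112, Int.negSucc 263, Int.negSucc 4, Int.negSucc 581, Int.negSucc 68, Int.ofNat 130, Int.ofNat 6, Int.ofNat 0, Int.ofNat 0, Int.ofNat 0, Int.negSucc 12, Int.negSucc 5, Int.ofNat 653, Int.negSucc 2, Int.negSucc 101, Int.ofNat 0, Int.negSucc 518]))) (ZT.node 2608 (ZT.leaf []) (ZT.node 2609 (ZT.leaf []) (ZT.leaf [Int.negSucc 0])))))))) (ZT.node 2655 (ZT.node 2632 (ZT.node 2621 (ZT.node 2615 (ZT.node 2612 (ZT.node 2611 (ZT.leaf [Int.negSucc 0]) (ZT.leaf [Int.ofNat 1238, Int.ofNat 1455, Int.negSucc 366, Int.ofNat 279, Int.ofNat 9, Int.ofNat 341, Int.ofNat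 32, Int.negSucc 105, Int.negSucc 16, Int.ofNat 0, Int.ofNat 0, Int.ofNat 0, Int.negSucc 3, Int.ofNat 13, Int.negSucc 462, Int.negSucc 10, Int.ofNat 59, Int.ofNat 0, Int.ofNat 291])) (ZT.node 2613 (ZT.leaf [Int.ofNat 428, Int.ofNat 2275, Int.negSucc 222, Int.ofNat 426, Int.ofNat 11, Int.ofNat 413, Int.ofNat 74, Int.negSucc 190, Int.negSucc 46, Int.ofNat 0, Int.negSucc 0, Int.ofNat 0, Int.negSucc 7, Int.ofNat 21, Int.negSucc 751, Int.negSucc 29, Int.ofNat 54, Int.ofNat 0, Int.ofNat 377]) (ZT.node 2614 (ZT.leaf []) (ZT.leaf [Int.negSucc 0])))) (ZT.node 2618 (ZT.node 2616 (ZT.leaf [Int.negSucc 6283, Int.negSucc 690, Int.ofNat 1365, Int.negSucc 21, Int.ofNat 7, Int.negSucc 460, Int.negSucc 48, Int.ofNat 12, Int.negSucc 25, Int.ofNat 0, Int.ofNat 0, Int.ofNat 0, Int.negSucc 35, Int.negSucc 3, Int.ofNat 371, Int.negSucc 18, Int.negSucc 75, Int.ofNat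 0, Int.negSucc 432]) (ZT.node 2617 (ZT.leaf [Int.ofNat 26250, Int.ofNat 12455, Int.negSucc 6175, Int.ofNat 2041, Int.ofNat 58, Int.ofNat 3636, Int.ofNat 423, Int.negSucc 988, Int.negSucc 97, Int.ofNat 1, Int.negSucc 0, Int.ofNat 1, Int.ofNat 38, Int.ofNat 43, Int.negSucc 4237, Int.negSucc 32, Int.ofNat 657, Int.ofNat 1, Int.ofNat 3226]) (ZT.leaf [Int.ofNat 764, Int.ofNat 366, Int.negSucc 192, Int.ofNat 69, Int.ofNat 0, Int.ofNat 114, Int.ofNat 5, Int.negSucc 11, Int.ofNat 5, Int.ofNat 0, Int.ofNat 0, Int.ofNat 0, Int.ofNat 1, Int.ofNat 4, Int.negSucc 96, Int.negSucc 0, Int.ofNat 13, Int.ofNat 0, Int.ofNat 94]))) (ZT.node 2619 (ZT.leaf [Int.ofNat 643, Int.ofNat 404, Int.negSucc 152, Int.ofNat 67, Int.ofNat 2, Int.ofNat 104, Int.ofNat 15, Int.negSucc 30, Int.negSucc 5, Int.negSucc 0, Int.ofNat 0, Int.ofNat 0, Int.ofNat 1, Int.ofNat 2, Int.negSucc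 130, Int.negSucc 1, Int.ofNat 15, Int.ofNat 0, Int.ofNat 94]) (ZT.node 2620 (ZT.leaf [Int.ofNat 74, Int.ofNat 21, Int.negSucc 15, Int.ofNat 3, Int.ofNat 0, Int.ofNat 7, Int.ofNat 1, Int.ofNat 1, Int.ofNat 0, Int.ofNat 0, Int.ofNat 0, Int.ofNat 0, Int.ofNat 1, Int.ofNat 0, Int.negSucc 3, Int.ofNat 1, Int.ofNat 1, Int.ofNat 0, Int.ofNat 7]) (ZT.leaf [Int.negSucc 25437, Int.negSucc 12145, Int.ofNat 5982, Int.negSucc 1987, Int.negSucc 56, Int.negSucc 3525, Int.negSucc 412, Int.ofNat 972, Int.ofNat 102, Int.negSucc 0, Int.ofNat 1, Int.negSucc 0, Int.negSucc 37, Int.negSucc 40, Int.ofNat 4147, Int.ofNat 32, Int.negSucc 648, Int.negSucc 0, Int.negSucc 3136]))))) (ZT.node 2626 (ZT.node 2623 (ZT.node 2622 (ZT.leaf [Int.ofNat 97, Int.ofNat 28, Int.negSucc 23, Int.ofNat 5, Int.ofNat 0, Int.ofNat 13, Int.ofNat 0, Int.negSucc 1, Int.ofNat 1, Int.ofNat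 0, Int.ofNat 0, Int.ofNat 0, Int.ofNat 0, Int.ofNat 1, Int.negSucc 4, Int.ofNat 0, Int.ofNat 2, Int.ofNat 0, Int.ofNat 11]) (ZT.leaf [])) (ZT.node 2624 (ZT.leaf [Int.negSucc 0]) (ZT.node 2625 (ZT.leaf [Int.negSucc 6182, Int.negSucc 2480, Int.ofNat 1462, Int.negSucc 398, Int.negSucc 6, Int.negSucc 790, Int.negSucc 69, Int.ofNat 169, Int.ofNat 6, Int.ofNat 0, Int.ofNat 0, Int.ofNat 0, Int.negSucc 15, Int.negSucc 10, Int.ofNat 846, Int.ofNat 2, Int.negSucc 142, Int.ofNat 0, Int.negSucc 700]) (ZT.leaf [Int.negSucc 276, Int.negSucc 222, Int.ofNat 41, Int.negSucc 19, Int.ofNat 0, Int.negSucc 32, Int.negSucc 12, Int.ofNat 21, Int.ofNat 8, Int.ofNat 0, Int.ofNat 0, Int.ofNat 0, Int.negSucc 2, Int.ofNat 0, Int.ofNat 93, Int.negSucc 0, Int.negSucc 10, Int.ofNat 0, Int.negSucc 40])))) (ZT.node 2629 (ZT.node 2627 (ZT.leaf [Int.negSucc 498, Int.negSucc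 904, Int.ofNat 152, Int.negSucc 167, Int.negSucc 6, Int.negSucc 170, Int.negSucc 16, Int.ofNat 65, Int.ofNat 15, Int.ofNat 0, Int.ofNat 0, Int.ofNat 0, Int.ofNat 3, Int.negSucc 7, Int.ofNat 302, Int.ofNat 9, Int.negSucc 40, Int.ofNat 0, Int.negSucc 157]) (ZT.node 2628 (ZT.leaf [Int.negSucc 2, Int.ofNat 0, Int.ofNat 0, Int.ofNat 0, Int.ofNat 0, Int.ofNat 0, Int.ofNat 0, Int.ofNat 0, Int.ofNat 0, Int.ofNat 0, Int.ofNat 0, Int.ofNat 0, Int.ofNat 0, Int.ofNat 0, Int.ofNat 0, Int.negSucc 0]) (ZT.leaf [Int.ofNat 48, Int.ofNat 1, Int.negSucc 25, Int.ofNat 3, Int.negSucc 1, Int.ofNat 18, Int.ofNat 9, Int.negSucc 5, Int.negSucc 5, Int.ofNat 1, Int.negSucc 0, Int.ofNat 0, Int.ofNat 2, Int.negSucc 2, Int.ofNat 23, Int.negSucc 0, Int.negSucc 26, Int.ofNat 0, Int.ofNat 10]))) (ZT.node 2630 (ZT.leaf []) (ZT.node 2631 (ZT.leaf [Int.negSucc 5392, Int.negSucc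 2128, Int.ofNat 1258, Int.negSucc 344, Int.negSucc 7, Int.negSucc 676, Int.negSucc 74, Int.ofNat 158, Int.ofNat 8, Int.ofNat 0, Int.ofNat 0, Int.ofNat 0, Int.negSucc 9, Int.negSucc 4, Int.ofNat 774, Int.ofNat 0, Int.negSucc 114, Int.ofNat 0, Int.negSucc 598]) (ZT.leaf [Int.negSucc 2993, Int.negSucc 900, Int.ofNat 665, Int.negSucc 122, Int.ofNat 2, Int.negSucc 320, Int.negSucc 42, Int.ofNat 63, Int.ofNat 3, Int.ofNat 0, Int.ofNat 1, Int.ofNat 0, Int.negSucc 11, Int.negSucc 1, Int.ofNat 323, Int.negSucc 1, Int.negSucc 32, Int.ofNat 0, Int.negSucc 285])))))) (ZT.node 2643 (ZT.node 2637 (ZT.node 2634 (ZT.node 2633 (ZT.leaf []) (ZT.leaf [Int.negSucc 0])) (ZT.node 2635 (ZT.leaf [Int.ofNat 742, Int.ofNat 586, Int.negSucc 154, Int.ofNat 88, Int.ofNat 4, Int.ofNat 123, Int.ofNat 43, Int.negSucc 71, Int.negSucc 20, Int.ofNat 0, Int.ofNat 0, Int.ofNat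 0, Int.negSucc 0, Int.ofNat 0, Int.negSucc 268, Int.negSucc 2, Int.ofNat 29, Int.negSucc 0, Int.ofNat 125]) (ZT.node 2636 (ZT.leaf [Int.negSucc 5082, Int.negSucc 2041, Int.ofNat 1196, Int.negSucc 341, Int.negSucc 11, Int.negSucc 632, Int.negSucc 74, Int.ofNat 163, Int.ofNat 15, Int.ofNat 0, Int.negSucc 0, Int.ofNat 1, Int.negSucc 7, Int.negSucc 5, Int.ofNat 726, Int.ofNat 7, Int.negSucc 109, Int.ofNat 2, Int.negSucc 566]) (ZT.leaf [Int.negSucc 4817, Int.negSucc 2056, Int.ofNat 1062, Int.negSucc 312, Int.negSucc 6, Int.negSucc 589, Int.negSucc 92, Int.ofNat 175, Int.ofNat 30, Int.ofNat 0, Int.ofNat 0, Int.negSucc 0, Int.negSucc 16, Int.negSucc 0, Int.ofNat 840, Int.negSucc 5, Int.negSucc 110, Int.ofNat 0, Int.negSucc 556])))) (ZT.node 2640 (ZT.node 2638 (ZT.leaf []) (ZT.node 2639 (ZT.leaf []) (ZT.leaf [Int.ofNat 51378, Int.ofNat 21051,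 Int.negSucc 11666, Int.ofNat 3213, Int.ofNat 57, Int.ofNat 6494, Int.ofNat 849, Int.negSucc 1663, Int.negSucc 157, Int.negSucc 0, Int.ofNat 1, Int.ofNat 1, Int.ofNat 131, Int.ofNat 60, Int.negSucc 7427, Int.negSucc 13, Int.ofNat 1109, Int.ofNat 2, Int.ofNat 5801]))) (ZT.node 2641 (ZT.leaf [Int.negSucc 6930, Int.negSucc 4014, Int.ofNat 1594, Int.negSucc 646, Int.negSucc 17, Int.negSucc 1018, Int.negSucc 143, Int.ofNat 310, Int.ofNat 49, Int.ofNat 0, Int.ofNat 0, Int.negSucc 0, Int.negSucc 15, Int.negSucc 18, Int.ofNat 1342, Int.ofNat 19, Int.negSucc 177, Int.negSucc 0, Int.negSucc 934]) (ZT.node 2642 (ZT.leaf [Int.negSucc 4, Int.negSucc 0, Int.ofNat 0, Int.ofNat 0, Int.ofNat 0, Int.ofNat 0, Int.negSucc 0, Int.ofNat 0, Int.ofNat 0, Int.ofNat 0, Int.negSucc 0]) (ZT.leaf []))))) (ZT.node 2649 (ZT.node 2646 (ZT.node 2644 (ZT.leaf []) (ZT.node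 2645 (ZT.leaf []) (ZT.leaf [Int.ofNat 5346, Int.ofNat 1939, Int.negSucc 1253, Int.ofNat 307, Int.ofNat 7, Int.ofNat 666, Int.ofNat 76, Int.negSucc 151, Int.negSucc 2, Int.ofNat 0, Int.ofNat 0, Int.ofNat 0, Int.ofNat 8, Int.ofNat 8, Int.negSucc 702, Int.ofNat 1, Int.ofNat 109, Int.ofNat 0, Int.ofNat 584]))) (ZT.node 2647 (ZT.leaf [Int.negSucc 35, Int.ofNat 8, Int.ofNat 6, Int.ofNat 2, Int.ofNat 0, Int.ofNat 0, Int.ofNat 1, Int.negSucc 1, Int.negSucc 0, Int.ofNat 0, Int.ofNat 0, Int.ofNat 0, Int.ofNat 0, Int.ofNat 1, Int.negSucc 7, Int.ofNat 0, Int.negSucc 0, Int.ofNat 0, Int.ofNat 0]) (ZT.node 2648 (ZT.leaf [Int.negSucc 0, Int.negSucc 1, Int.ofNat 0, Int.ofNat 0, Int.ofNat 0, Int.ofNat 0, Int.ofNat 0, Int.ofNat 0, Int.ofNat 0, Int.ofNat 0, Int.ofNat 0, Int.ofNat 0, Int.ofNat 0, Int.ofNat 0, Int.ofNat 1]) (ZT.leaf [Int.ofNat 259, Int.ofNat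 159, Int.negSucc 57, Int.ofNat 25, Int.ofNat 0, Int.ofNat 38, Int.ofNat 6, Int.negSucc 10, Int.negSucc 1, Int.ofNat 0, Int.ofNat 0, Int.ofNat 0, Int.ofNat 1, Int.ofNat 1, Int.negSucc 51, Int.negSucc 0, Int.ofNat 5, Int.ofNat 0, Int.ofNat 35])))) (ZT.node 2652 (ZT.node 2650 (ZT.leaf [Int.ofNat 648, Int.ofNat 419, Int.negSucc 151, Int.ofNat 70, Int.ofNat 2, Int.ofNat 105, Int.ofNat 17, Int.negSucc 31, Int.negSucc 5, Int.ofNat 0, Int.ofNat 0, Int.ofNat 0, Int.ofNat 1, Int.ofNat 2, Int.negSucc 135, Int.negSucc 1, Int.ofNat 14, Int.ofNat 0, Int.ofNat 95]) (ZT.node 2651 (ZT.leaf []) (ZT.leaf []))) (ZT.node 2653 (ZT.leaf [Int.negSucc 0]) (ZT.node 2654 (ZT.leaf [Int.ofNat 104, Int.ofNat 26, Int.negSucc 36, Int.ofNat 14, Int.ofNat 1, Int.ofNat 23, Int.ofNat 0, Int.negSucc 4, Int.ofNat 4, Int.ofNat 0, Int.ofNat 0, Int.ofNat 0, Int.negSucc 3, Int.ofNat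 1, Int.ofNat 3, Int.negSucc 1, Int.negSucc 1, Int.ofNat 0, Int.ofNat 14]) (ZT.leaf [Int.negSucc 494, Int.negSucc 201, Int.ofNat 119, Int.negSucc 32, Int.negSucc 0, Int.negSucc 65, Int.negSucc 6, Int.ofNat 16, Int.ofNat 2, Int.ofNat 0, Int.ofNat 0, Int.ofNat 0, Int.negSucc 0, Int.ofNat 0, Int.ofNat 64, Int.ofNat 0, Int.negSucc 10, Int.ofNat 0, Int.negSucc 57]))))))) (ZT.node 2677 (ZT.node 2666 (ZT.node 2660 (ZT.node 2657 (ZT.node 2656 (ZT.leaf [Int.ofNat 17, Int.ofNat 5, Int.negSucc 1, Int.negSucc 0, Int.ofNat 0, Int.ofNat 0, Int.ofNat 0, Int.ofNat 1, Int.ofNat 0, Int.ofNat 0, Int.ofNat 0, Int.ofNat 0, Int.ofNat 0, Int.ofNat 0, Int.negSucc 0, Int.ofNat 0, Int.ofNat 0, Int.ofNat 0, Int.ofNat 1]) (ZT.leaf [Int.ofNat 4158, Int.negSucc 569, Int.negSucc 984, Int.negSucc 119, Int.negSucc 13, Int.ofNat 241, Int.negSucc 4, Int.ofNat 99, Int.ofNat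 68, Int.ofNat 0, Int.ofNat 0, Int.ofNat 0, Int.ofNat 18, Int.ofNat 6, Int.ofNat 166, Int.ofNat 15, Int.negSucc 39, Int.ofNat 0, Int.ofNat 168])) (ZT.node 2658 (ZT.leaf [Int.ofNat 693, Int.ofNat 336, Int.negSucc 179, Int.ofNat 65, Int.ofNat 0, Int.ofNat 107, Int.ofNat 4, Int.negSucc 11, Int.ofNat 6, Int.ofNat 1, Int.ofNat 0, Int.ofNat 0, Int.ofNat 0, Int.ofNat 4, Int.negSucc 84, Int.negSucc 1, Int.ofNat 12, Int.ofNat 0, Int.ofNat 86]) (ZT.node 2659 (ZT.leaf []) (ZT.leaf [Int.ofNat 16, Int.negSucc 8, Int.negSucc 7, Int.ofNat 1, Int.ofNat 0, Int.ofNat 3, Int.negSucc 0, Int.negSucc 0, Int.ofNat 1, Int.ofNat 0, Int.ofNat 0, Int.ofNat 0, Int.negSucc 0, Int.ofNat 0, Int.ofNat 4, Int.ofNat 0, Int.ofNat 1, Int.ofNat 0, Int.ofNat 2])))) (ZT.node 2663 (ZT.node 2661 (ZT.leaf [Int.negSucc 93, Int.ofNat 0, Int.ofNat 31, Int.negSucc 4, Int.ofNat 0, Int.negSucc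 12, Int.ofNat 1, Int.ofNat 1, Int.negSucc 1, Int.ofNat 0, Int.ofNat 0, Int.ofNat 0, Int.ofNat 1, Int.ofNat 0, Int.negSucc 3, Int.negSucc 0, Int.negSucc 2, Int.ofNat 0, Int.negSucc 9]) (ZT.node 2662 (ZT.leaf [Int.ofNat 42, Int.ofNat 32, Int.ofNat 2, Int.negSucc 0, Int.ofNat 0, Int.negSucc 1, Int.ofNat 2, Int.ofNat 1, Int.negSucc 1, Int.ofNat 0, Int.ofNat 0, Int.ofNat 0, Int.ofNat 2, Int.ofNat 0, Int.negSucc 11, Int.ofNat 0, Int.negSucc 0, Int.ofNat 0, Int.ofNat 1]) (ZT.leaf []))) (ZT.node 2664 (ZT.leaf [Int.negSucc 2548, Int.negSucc 740, Int.ofNat 636, Int.negSucc 140, Int.negSucc 3, Int.negSucc 324, Int.negSucc 32, Int.ofNat 69, Int.negSucc 5, Int.ofNat 0, Int.negSucc 0, Int.ofNat 0, Int.ofNat 1, Int.negSucc 0, Int.ofNat 279, Int.negSucc 0, Int.negSucc 44, Int.ofNat 0, Int.negSucc 269]) (ZT.node 2665 (ZT.leaf []) (ZT.leaf [Int.negSucc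 30, Int.negSucc 4, Int.ofNat 6, Int.ofNat 0, Int.ofNat 0, Int.negSucc 1, Int.ofNat 0, Int.negSucc 0, Int.negSucc 0, Int.ofNat 0, Int.ofNat 0, Int.ofNat 0, Int.ofNat 0, Int.ofNat 0, Int.ofNat 4, Int.ofNat 0, Int.ofNat 1, Int.ofNat 0, Int.negSucc 0]))))) (ZT.node 2671 (ZT.node 2668 (ZT.node 2667 (ZT.leaf [Int.negSucc 0]) (ZT.leaf [Int.ofNat 10, Int.negSucc 7, Int.negSucc 1, Int.negSucc 0, Int.ofNat 0, Int.ofNat 0, Int.ofNat 0, Int.ofNat 1, Int.ofNat 1, Int.ofNat 1, Int.ofNat 0, Int.ofNat 0, Int.ofNat 0, Int.ofNat 0, Int.ofNat 7, Int.ofNat 0, Int.ofNat 0, Int.ofNat 0, Int.negSucc 0])) (ZT.node 2669 (ZT.leaf []) (ZT.node 2670 (ZT.leaf [Int.negSucc 0, Int.ofNat 0, Int.ofNat 0, Int.ofNat 0, Int.ofNat 0, Int.ofNat 0, Int.ofNat 0, Int.ofNat 0, Int.ofNat 0, Int.ofNat 0, Int.ofNat 0, Int.ofNat 0, Int.ofNat 0, Int.ofNat 0, Int.ofNat 0, Int.ofNat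 0, Int.ofNat 2]) (ZT.leaf [Int.ofNat 7, Int.ofNat 0, Int.negSucc 2, Int.ofNat 0, Int.ofNat 0, Int.ofNat 1, Int.ofNat 0, Int.ofNat 0, Int.ofNat 0, Int.ofNat 0, Int.ofNat 0, Int.ofNat 0, Int.ofNat 0, Int.ofNat 0, Int.ofNat 0, Int.ofNat 0, Int.ofNat 0, Int.ofNat 0, Int.ofNat 1])))) (ZT.node 2674 (ZT.node 2672 (ZT.leaf [Int.negSucc 744, Int.negSucc 960, Int.ofNat 181, Int.negSucc 171, Int.negSucc 4, Int.negSucc 202, Int.negSucc 43, Int.ofNat 90, Int.ofNat 17, Int.ofNat 0, Int.ofNat 0, Int.ofNat 0, Int.ofNat 2, Int.negSucc 4, Int.ofNat 327, Int.ofNat 9, Int.negSucc 22, Int.ofNat 0, Int.negSucc 178]) (ZT.node 2673 (ZT.leaf [Int.ofNat 5722, Int.ofNat 3542, Int.negSucc 1354, Int.ofNat 593, Int.ofNat 17, Int.ofNat 894, Int.ofNat 128, Int.negSucc 293, Int.negSucc 46, Int.ofNat 0, Int.ofNat 0, Int.ofNat 1, Int.ofNat 7, Int.ofNat 14, Int.negSucc 1177,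 Int.negSucc 17, Int.ofNat 157, Int.ofNat 1, Int.ofNat 814]) (ZT.leaf [Int.negSucc 2]))) (ZT.node 2675 (ZT.leaf [Int.negSucc 0]) (ZT.node 2676 (ZT.leaf []) (ZT.leaf [])))))) (ZT.node 2688 (ZT.node 2682 (ZT.node 2679 (ZT.node 2678 (ZT.leaf [Int.negSucc 0]) (ZT.leaf [])) (ZT.node 2680 (ZT.leaf [Int.ofNat 429, Int.ofNat 453, Int.negSucc 121, Int.ofNat 90, Int.ofNat 1, Int.ofNat 109, Int.ofNat 14, Int.negSucc 25, Int.negSucc 3, Int.ofNat 0, Int.negSucc 0, Int.ofNat 0, Int.ofNat 1, Int.ofNat 2, Int.negSucc 141, Int.negSucc 3, Int.ofNat 3, Int.ofNat 0, Int.ofNat 89]) (ZT.node 2681 (ZT.leaf [Int.ofNat 1088, Int.ofNat 355, Int.negSucc 193, Int.ofNat 30, Int.negSucc 2, Int.ofNat 92, Int.ofNat 13, Int.negSucc 7, Int.ofNat 1, Int.negSucc 0, Int.ofNat 1, Int.ofNat 0, Int.ofNat 10, Int.ofNat 2, Int.negSucc 109, Int.ofNat 1, Int.ofNat 16, Int.ofNat 0,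 Int.ofNat 90]) (ZT.leaf [Int.negSucc 235, Int.negSucc 207, Int.ofNat 39, Int.negSucc 29, Int.ofNat 1, Int.negSucc 32, Int.negSucc 10, Int.ofNat 12, Int.ofNat 6, Int.ofNat 1, Int.ofNat 0, Int.ofNat 0, Int.negSucc 2, Int.ofNat 1, Int.ofNat 78, Int.ofNat 0, Int.ofNat 1, Int.ofNat 0, Int.negSucc 32])))) (ZT.node 2685 (ZT.node 2683 (ZT.leaf [Int.negSucc 6, Int.negSucc 4, Int.negSucc 0, Int.ofNat 0, Int.ofNat 0, Int.ofNat 0, Int.ofNat 0, Int.ofNat 0, Int.ofNat 0, Int.negSucc 0, Int.ofNat 0, Int.ofNat 0, Int.ofNat 0, Int.ofNat 0, Int.ofNat 0, Int.ofNat 0, Int.ofNat 0, Int.ofNat 0, Int.ofNat 0]) (ZT.node 2684 (ZT.leaf [Int.negSucc 7, Int.negSucc 11, Int.ofNat 3, Int.negSucc 1, Int.ofNat 0, Int.negSucc 2, Int.ofNat 0, Int.ofNat 2, Int.ofNat 1, Int.ofNat 1, Int.ofNat 0, Int.ofNat 0, Int.ofNat 0, Int.ofNat 0, Int.ofNat 7, Int.ofNat 0, Int.negSucc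 0, Int.ofNat 0, Int.negSucc 2]) (ZT.leaf [Int.ofNat 2, Int.ofNat 1]))) (ZT.node 2686 (ZT.leaf [Int.negSucc 3210, Int.negSucc 2155, Int.ofNat 735, Int.negSucc 340, Int.negSucc 5, Int.negSucc 524, Int.negSucc 80, Int.ofNat 171, Int.ofNat 30, Int.ofNat 0, Int.ofNat 0, Int.negSucc 0, Int.negSucc 7, Int.negSucc 9, Int.ofNat 722, Int.ofNat 11, Int.negSucc 88, Int.ofNat 0, Int.negSucc 480]) (ZT.node 2687 (ZT.leaf []) (ZT.leaf []))))) (ZT.node 2694 (ZT.node 2691 (ZT.node 2689 (ZT.leaf [Int.negSucc 0]) (ZT.node 2690 (ZT.leaf [Int.ofNat 15356, Int.ofNat 5243, Int.negSucc 3470, Int.ofNat 773, Int.ofNat 21, Int.ofNat 1744, Int.ofNat 204, Int.negSucc 426, Int.negSucc 32, Int.ofNat 1, Int.negSucc 0, Int.ofNat 0, Int.ofNat 35, Int.ofNat 5, Int.negSucc 1922, Int.ofNat 10, Int.ofNat 349, Int.ofNat 0, Int.ofNat 1572]) (ZT.leaf [Int.negSucc 362, Int.negSucc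 731, Int.ofNat 191, Int.negSucc 173, Int.negSucc 10, Int.negSucc 178, Int.negSucc 2, Int.ofNat 74, Int.ofNat 12, Int.negSucc 0, Int.ofNat 1, Int.ofNat 0, Int.ofNat 14, Int.negSucc 1, Int.ofNat 239, Int.ofNat 6, Int.negSucc 43, Int.ofNat 0, Int.negSucc 146]))) (ZT.node 2692 (ZT.leaf []) (ZT.node 2693 (ZT.leaf []) (ZT.leaf [Int.negSucc 15, Int.ofNat 5, Int.ofNat 2, Int.ofNat 1, Int.ofNat 0, Int.ofNat 0, Int.ofNat 0, Int.negSucc 0, Int.negSucc 0, Int.negSucc 0, Int.ofNat 0, Int.ofNat 0, Int.ofNat 0, Int.ofNat 0, Int.negSucc 5, Int.ofNat 0, Int.ofNat 0, Int.ofNat 0, Int.ofNat 0])))) (ZT.node 2697 (ZT.node 2695 (ZT.leaf []) (ZT.node 2696 (ZT.leaf [Int.negSucc 0]) (ZT.leaf [Int.ofNat 29, Int.ofNat 18, Int.negSucc 19, Int.ofNat 11, Int.ofNat 1, Int.ofNat 10, Int.ofNat 1, Int.negSucc 8, Int.negSucc 0, Int.ofNat 0, Int.negSucc 0, Int.ofNat 0, Int.negSucc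 1, Int.ofNat 1, Int.negSucc 4, Int.negSucc 0, Int.ofNat 4, Int.ofNat 0, Int.ofNat 8]))) (ZT.node 2698 (ZT.leaf [Int.negSucc 425, Int.negSucc 123, Int.ofNat 114, Int.negSucc 28, Int.negSucc 0, Int.negSucc 59, Int.negSucc 1, Int.ofNat 12, Int.negSucc 2, Int.ofNat 0, Int.ofNat 0, Int.ofNat 0, Int.ofNat 2, Int.negSucc 0, Int.ofNat 40, Int.ofNat 0, Int.negSucc 1, Int.ofNat 0, Int.negSucc 44]) (ZT.node 2699 (ZT.leaf []) (ZT.leaf [Int.ofNat 0, Int.ofNat 0, Int.ofNat 0, Int.ofNat 0, Int.ofNat 0, Int.ofNat 0, Int.ofNat 0, Int.ofNat 0, Int.ofNat 0, Int.ofNat 0, Int.ofNat 0, Int.ofNat 0, Int.ofNat 0, Int.ofNat 0, Int.ofNat 0, Int.ofNat 0, Int.ofNat 0, Int.negSucc 0]))))))))) (ZT.node 2790 (ZT.node 2745 (ZT.node 2722 (ZT.node 2711 (ZT.node 2705 (ZT.node 2702 (ZT.node 2701 (ZT.leaf []) (ZT.leaf [Int.negSucc 24088, Int.negSucc 11694, Int.ofNat 5566,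 Int.negSucc 1884, Int.negSucc 52, Int.negSucc 3281, Int.negSucc 460, Int.ofNat 954, Int.ofNat 135, Int.ofNat 0, Int.ofNat 1, Int.negSucc 0, Int.negSucc 46, Int.negSucc 31, Int.ofNat 4138, Int.ofNat 28, Int.negSucc 567, Int.negSucc 0, Int.negSucc 2958])) (ZT.node 2703 (ZT.leaf [Int.negSucc 128, Int.negSucc 117, Int.ofNat 27, Int.negSucc 17, Int.ofNat 0, Int.negSucc 20, Int.negSucc 4, Int.ofNat 8, Int.ofNat 3, Int.ofNat 1, Int.ofNat 0, Int.ofNat 0, Int.negSucc 0, Int.negSucc 0, Int.ofNat 40, Int.ofNat 1, Int.negSucc 3, Int.ofNat 0, Int.negSucc 22]) (ZT.node 2704 (ZT.leaf []) (ZT.leaf [Int.negSucc 54242, Int.negSucc 21151, Int.ofNat 12599, Int.negSucc 3378, Int.negSucc 77, Int.negSucc 6785, Int.negSucc 807, Int.ofNat 1660, Int.ofNat 113, Int.ofNat 0, Int.ofNat 0, Int.ofNat 0, Int.negSucc 115, Int.negSucc 51, Int.ofNat 7713, Int.ofNat 6, Int.negSucc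 1121, Int.ofNat 1, Int.negSucc 6012])))) (ZT.node 2708 (ZT.node 2706 (ZT.leaf [Int.ofNat 5389, Int.ofNat 2657, Int.negSucc 1253, Int.ofNat 426, Int.ofNat 15, Int.ofNat 724, Int.ofNat 79, Int.negSucc 204, Int.negSucc 25, Int.ofNat 0, Int.ofNat 0, Int.ofNat 0, Int.ofNat 8, Int.ofNat 11, Int.negSucc 972, Int.negSucc 6, Int.ofNat 162, Int.ofNat 0, Int.ofNat 667]) (ZT.node 2707 (ZT.leaf []) (ZT.leaf [Int.ofNat 9, Int.negSucc 8, Int.negSucc 1, Int.ofNat 0, Int.ofNat 0, Int.ofNat 0, Int.ofNat 0, Int.ofNat 1, Int.ofNat 1, Int.ofNat 1, Int.ofNat 0, Int.ofNat 0, Int.ofNat 0, Int.ofNat 0, Int.ofNat 4, Int.ofNat 0, Int.ofNat 0, Int.ofNat 0, Int.ofNat 0]))) (ZT.node 2709 (ZT.leaf [Int.negSucc 0]) (ZT.node 2710 (ZT.leaf [Int.negSucc 0]) (ZT.leaf [Int.negSucc 14, Int.negSucc 4, Int.ofNat 3, Int.ofNat 0, Int.ofNat 0, Int.negSucc 0, Int.ofNat 0, Int.ofNat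 0, Int.ofNat 0, Int.ofNat 0, Int.ofNat 0, Int.ofNat 0, Int.ofNat 0, Int.ofNat 0, Int.ofNat 0, Int.ofNat 0, Int.ofNat 0, Int.ofNat 0, Int.negSucc 0]))))) (ZT.node 2716 (ZT.node 2713 (ZT.node 2712 (ZT.leaf [Int.negSucc 10, Int.ofNat 3, Int.ofNat 4, Int.ofNat 0, Int.ofNat 0, Int.negSucc 0, Int.ofNat 0, Int.ofNat 0, Int.ofNat 0, Int.ofNat 0, Int.ofNat 0, Int.ofNat 0, Int.ofNat 0, Int.ofNat 0, Int.negSucc 2, Int.ofNat 0, Int.ofNat 0, Int.ofNat 0, Int.negSucc 0]) (ZT.leaf [])) (ZT.node 2714 (ZT.leaf [Int.negSucc 2539, Int.negSucc 1550, Int.ofNat 607, Int.negSucc 262, Int.negSucc 4, Int.negSucc 404, Int.negSucc 53, Int.ofNat 101, Int.ofNat 14, Int.ofNat 0, Int.ofNat 0, Int.ofNat 0, Int.negSucc 8, Int.negSucc 7, Int.ofNat 539, Int.ofNat 8, Int.negSucc 42, Int.ofNat 0, Int.negSucc 357]) (ZT.node 2715 (ZT.leaf []) (ZT.leaf [Int.ofNat 469, Int.ofNat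 265, Int.negSucc 104, Int.ofNat 42, Int.ofNat 1, Int.ofNat 63, Int.ofNat 11, Int.negSucc 17, Int.negSucc 2, Int.ofNat 0, Int.ofNat 0, Int.ofNat 0, Int.ofNat 2, Int.ofNat 2, Int.negSucc 84, Int.negSucc 1, Int.ofNat 10, Int.ofNat 0, Int.ofNat 61])))) (ZT.node 2719 (ZT.node 2717 (ZT.leaf [Int.negSucc 0]) (ZT.node 2718 (ZT.leaf [Int.ofNat 48, Int.negSucc 0, Int.negSucc 12, Int.ofNat 1, Int.ofNat 0, Int.ofNat 4, Int.ofNat 0, Int.ofNat 0, Int.ofNat 1, Int.ofNat 0, Int.ofNat 0, Int.ofNat 0, Int.ofNat 0, Int.ofNat 0, Int.ofNat 3, Int.ofNat 0, Int.negSucc 0, Int.ofNat 0, Int.ofNat 3]) (ZT.leaf [Int.ofNat 1091, Int.ofNat 1511, Int.negSucc 298, Int.ofNat 274, Int.ofNat 10, Int.ofNat 314, Int.ofNat 46, Int.negSucc 120, Int.negSucc 27, Int.ofNat 0, Int.ofNat 0, Int.ofNat 0, Int.negSucc 2, Int.ofNat 11, Int.negSucc 506, Int.negSucc 11, Int.ofNat 63,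 Int.ofNat 0, Int.ofNat 281]))) (ZT.node 2720 (ZT.leaf [Int.negSucc 105, Int.negSucc 26, Int.ofNat 37, Int.negSucc 13, Int.negSucc 0, Int.negSucc 22, Int.ofNat 0, Int.ofNat 5, Int.negSucc 3, Int.ofNat 0, Int.ofNat 0, Int.ofNat 0, Int.ofNat 4, Int.negSucc 0, Int.negSucc 2, Int.ofNat 2, Int.ofNat 2, Int.ofNat 0, Int.negSucc 13]) (ZT.node 2721 (ZT.leaf [Int.negSucc 68, Int.negSucc 35, Int.ofNat 30, Int.negSucc 15, Int.negSucc 0, Int.negSucc 22, Int.negSucc 1, Int.ofNat 7, Int.negSucc 2, Int.ofNat 0, Int.ofNat 0, Int.ofNat 0, Int.ofNat 4, Int.negSucc 1, Int.ofNat 5, Int.ofNat 2, Int.ofNat 3, Int.ofNat 0, Int.negSucc 13]) (ZT.leaf [Int.negSucc 265, Int.negSucc 33, Int.ofNat 68, Int.negSucc 8, Int.ofNat 0, Int.negSucc 25, Int.ofNat 1, Int.negSucc 0, Int.negSucc 2, Int.ofNat 0, Int.negSucc 0, Int.ofNat 0, Int.negSucc 0, Int.ofNat 1, Int.ofNat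 1, Int.ofNat 0, Int.negSucc 2, Int.ofNat 0, Int.negSucc 20])))))) (ZT.node 2733 (ZT.node 2727 (ZT.node 2724 (ZT.node 2723 (ZT.leaf [Int.negSucc 482, Int.negSucc 127, Int.ofNat 123, Int.negSucc 24, Int.ofNat 0, Int.negSucc 57, Int.negSucc 2, Int.ofNat 10, Int.negSucc 1, Int.ofNat 0, Int.ofNat 0, Int.ofNat 0, Int.ofNat 0, Int.negSucc 0, Int.ofNat 38, Int.ofNat 0, Int.negSucc 8, Int.ofNat 0, Int.negSucc 48]) (ZT.leaf [])) (ZT.node 2725 (ZT.leaf [Int.negSucc 2237, Int.negSucc 1022, Int.ofNat 516, Int.negSucc 160, Int.negSucc 4, Int.negSucc 299, Int.negSucc 49, Int.ofNat 95, Int.ofNat 15, Int.ofNat 0, Int.ofNat 0, Int.ofNat 0, Int.negSucc 2, Int.negSucc 1, Int.ofNat 394, Int.ofNat 3, Int.negSucc 51, Int.ofNat 1, Int.negSucc 273]) (ZT.node 2726 (ZT.leaf [Int.ofNat 15639, Int.ofNat 4041, Int.negSucc 3229, Int.ofNat 434, Int.ofNat 21, Int.ofNat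 1378, Int.ofNat 224, Int.negSucc 379, Int.negSucc 51, Int.ofNat 2, Int.negSucc 0, Int.ofNat 0, Int.ofNat 46, Int.negSucc 13, Int.negSucc 1863, Int.ofNat 46, Int.ofNat 355, Int.negSucc 0, Int.ofNat 1356]) (ZT.leaf [Int.negSucc 2360, Int.negSucc 1662, Int.ofNat 565, Int.negSucc 277, Int.negSucc 3, Int.negSucc 406, Int.negSucc 60, Int.ofNat 132, Int.ofNat 22, Int.ofNat 0, Int.negSucc 0, Int.ofNat 0, Int.negSucc 4, Int.negSucc 7, Int.ofNat 550, Int.ofNat 9, Int.negSucc 66, Int.ofNat 0, Int.negSucc 370])))) (ZT.node 2730 (ZT.node 2728 (ZT.leaf [Int.ofNat 18, Int.ofNat 10, Int.negSucc 4, Int.ofNat 0, Int.ofNat 0, Int.ofNat 3, Int.ofNat 0, Int.ofNat 0, Int.ofNat 0, Int.ofNat 0, Int.ofNat 0, Int.ofNat 0, Int.ofNat 0, Int.ofNat 0, Int.negSucc 1, Int.ofNat 0, Int.negSucc 0, Int.ofNat 0, Int.ofNat 2]) (ZT.node 2729 (ZT.leaf []) (ZT.leaf []))) (ZT.node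 2731 (ZT.leaf [Int.ofNat 66, Int.ofNat 16, Int.negSucc 7, Int.negSucc 0, Int.ofNat 0, Int.ofNat 2, Int.ofNat 1, Int.ofNat 1, Int.ofNat 0, Int.ofNat 1, Int.ofNat 0, Int.ofNat 0, Int.ofNat 1, Int.ofNat 0, Int.negSucc 0, Int.ofNat 0, Int.ofNat 0, Int.ofNat 0, Int.ofNat 3]) (ZT.node 2732 (ZT.leaf [Int.ofNat 381, Int.ofNat 272, Int.negSucc 74, Int.ofNat 37, Int.ofNat 1, Int.ofNat 53, Int.ofNat 11, Int.negSucc 16, Int.negSucc 4, Int.negSucc 0, Int.ofNat 0, Int.ofNat 0, Int.ofNat 2, Int.ofNat 3, Int.negSucc 89, Int.negSucc 1, Int.ofNat 7, Int.ofNat 0, Int.ofNat 54]) (ZT.leaf []))))) (ZT.node 2739 (ZT.node 2736 (ZT.node 2734 (ZT.leaf []) (ZT.node 2735 (ZT.leaf []) (ZT.leaf [Int.negSucc 12, Int.ofNat 10, Int.ofNat 8, Int.negSucc 0, Int.ofNat 0, Int.negSucc 2, Int.ofNat 1, Int.ofNat 1, Int.negSucc 0, Int.ofNat 0, Int.ofNat 0, Int.ofNat 0, Int.ofNat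 1, Int.ofNat 0, Int.negSucc 3, Int.ofNat 0, Int.negSucc 0, Int.ofNat 0, Int.negSucc 1]))) (ZT.node 2737 (ZT.leaf []) (ZT.node 2738 (ZT.leaf [Int.negSucc 2897, Int.negSucc 407, Int.ofNat 668, Int.negSucc 45, Int.negSucc 1, Int.negSucc 270, Int.negSucc 20, Int.ofNat 50, Int.negSucc 11, Int.ofNat 0, Int.ofNat 0, Int.ofNat 0, Int.ofNat 0, Int.ofNat 0, Int.ofNat 168, Int.negSucc 8, Int.negSucc 66, Int.ofNat 0, Int.negSucc 233]) (ZT.leaf [])))) (ZT.node 2742 (ZT.node 2740 (ZT.leaf [Int.negSucc 76, Int.negSucc 19, Int.ofNat 24, Int.negSucc 6, Int.ofNat 0, Int.negSucc 11, Int.ofNat 0, Int.ofNat 4, Int.ofNat 0, Int.ofNat 0, Int.ofNat 0, Int.ofNat 0, Int.ofNat 0, Int.ofNat 0, Int.ofNat 3, Int.ofNat 0, Int.negSucc 2, Int.ofNat 0, Int.negSucc 8]) (ZT.node 2741 (ZT.leaf [Int.negSucc 2, Int.negSucc 0]) (ZT.leaf [Int.negSucc 0]))) (ZT.node 2743 (ZT.leaf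 [Int.ofNat 1088, Int.negSucc 221, Int.negSucc 201, Int.negSucc 80, Int.negSucc 2, Int.ofNat 17, Int.negSucc 1, Int.ofNat 16, Int.ofNat 9, Int.ofNat 0, Int.ofNat 0, Int.ofNat 0, Int.ofNat 5, Int.ofNat 1, Int.ofNat 54, Int.ofNat 7, Int.ofNat 32, Int.ofNat 1, Int.ofNat 27]) (ZT.node 2744 (ZT.leaf []) (ZT.leaf []))))))) (ZT.node 2767 (ZT.node 2756 (ZT.node 2750 (ZT.node 2747 (ZT.node 2746 (ZT.leaf [Int.ofNat 14, Int.ofNat 5, Int.negSucc 2, Int.ofNat 0, Int.ofNat 0, Int.ofNat 1, Int.ofNat 0, Int.ofNat 0, Int.ofNat 0, Int.ofNat 0, Int.ofNat 0, Int.ofNat 0, Int.ofNat 0, Int.ofNat 0, Int.ofNat 0, Int.ofNat 0, Int.ofNat 0, Int.ofNat 0, Int.ofNat 1]) (ZT.leaf [Int.ofNat 25, Int.negSucc 15, Int.negSucc 9, Int.ofNat 0, Int.ofNat 0, Int.ofNat 3, Int.negSucc 0, Int.ofNat 0, Int.ofNat 2, Int.ofNat 1, Int.ofNat 0, Int.ofNat 0, Int.negSucc 0, Int.ofNat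 0, Int.ofNat 11, Int.ofNat 0, Int.ofNat 1, Int.ofNat 0, Int.ofNat 1])) (ZT.node 2748 (ZT.leaf [Int.negSucc 0]) (ZT.node 2749 (ZT.leaf [Int.ofNat 75, Int.ofNat 12, Int.negSucc 22, Int.ofNat 5, Int.ofNat 0, Int.ofNat 11, Int.ofNat 0, Int.negSucc 1, Int.ofNat 1, Int.ofNat 0, Int.ofNat 0, Int.ofNat 0, Int.negSucc 0, Int.ofNat 0, Int.negSucc 1, Int.ofNat 0, Int.ofNat 1, Int.ofNat 0, Int.ofNat 8]) (ZT.leaf [Int.negSucc 74, Int.negSucc 10, Int.ofNat 23, Int.negSucc 4, Int.ofNat 0, Int.negSucc 10, Int.ofNat 0, Int.ofNat 2, Int.negSucc 0, Int.ofNat 0, Int.ofNat 0, Int.ofNat 0, Int.ofNat 1, Int.negSucc 0, Int.ofNat 2, Int.ofNat 0, Int.negSucc 0, Int.ofNat 0, Int.negSucc 7])))) (ZT.node 2753 (ZT.node 2751 (ZT.leaf [Int.negSucc 0]) (ZT.node 2752 (ZT.leaf []) (ZT.leaf [Int.negSucc 4842, Int.negSucc 1757, Int.ofNat 1112, Int.negSucc 263, Int.negSucc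 4, Int.negSucc 581, Int.negSucc 68, Int.ofNat 130, Int.ofNat 6, Int.ofNat 0, Int.ofNat 0, Int.ofNat 0, Int.negSucc 12, Int.negSucc 5, Int.ofNat 653, Int.negSucc 2, Int.negSucc 101, Int.ofNat 0, Int.negSucc 518]))) (ZT.node 2754 (ZT.leaf [Int.ofNat 29, Int.ofNat 0, Int.negSucc 5, Int.ofNat 0, Int.ofNat 0, Int.ofNat 1, Int.ofNat 0, Int.ofNat 1, Int.ofNat 1, Int.ofNat 1, Int.ofNat 0, Int.ofNat 0, Int.ofNat 0, Int.ofNat 0, Int.ofNat 2, Int.ofNat 0, Int.ofNat 0, Int.ofNat 0, Int.ofNat 1]) (ZT.node 2755 (ZT.leaf []) (ZT.leaf []))))) (ZT.node 2761 (ZT.node 2758 (ZT.node 2757 (ZT.leaf [Int.ofNat 0, Int.ofNat 0, Int.ofNat 0, Int.ofNat 0, Int.ofNat 0, Int.ofNat 0, Int.ofNat 0, Int.ofNat 0, Int.ofNat 0, Int.ofNat 0, Int.ofNat 0, Int.ofNat 0, Int.ofNat 0, Int.ofNat 0, Int.ofNat 0, Int.negSucc 0]) (ZT.leaf [])) (ZT.node 2759 (ZT.leaf []) (ZT.node 2760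 (ZT.leaf [Int.ofNat 42, Int.ofNat 41, Int.negSucc 2, Int.ofNat 4, Int.ofNat 0, Int.ofNat 3, Int.ofNat 2, Int.ofNat 2, Int.negSucc 0, Int.ofNat 0, Int.ofNat 0, Int.ofNat 0, Int.ofNat 2, Int.ofNat 0, Int.negSucc 14, Int.ofNat 0, Int.ofNat 0, Int.ofNat 0, Int.ofNat 5]) (ZT.leaf [Int.ofNat 1457, Int.ofNat 1672, Int.negSucc 392, Int.ofNat 304, Int.ofNat 9, Int.ofNat 369, Int.ofNat 41, Int.negSucc 119, Int.negSucc 22, Int.ofNat 0, Int.ofNat 0, Int.ofNat 0, Int.negSucc 1, Int.ofNat 13, Int.negSucc 527, Int.negSucc 11, Int.ofNat 64, Int.ofNat 0, Int.ofNat 322])))) (ZT.node 2764 (ZT.node 2762 (ZT.leaf [Int.ofNat 29122, Int.ofNat 10777, Int.negSucc 6645, Int.ofNat 1660, Int.ofNat 38, Int.ofNat 3551, Int.ofNat 412, Int.negSucc 867, Int.negSucc 50, Int.negSucc 0, Int.ofNat 1, Int.ofNat 1, Int.ofNat 58, Int.ofNat 19, Int.negSucc 3706, Int.ofNat 7,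 Int.ofNat 645, Int.ofNat 1, Int.ofNat 3130]) (ZT.node 2763 (ZT.leaf [Int.negSucc 0]) (ZT.leaf [Int.ofNat 25437, Int.ofNat 12146, Int.negSucc 5981, Int.ofNat 1988, Int.ofNat 57, Int.ofNat 3526, Int.ofNat 413, Int.negSucc 971, Int.negSucc 101, Int.ofNat 1, Int.negSucc 0, Int.ofNat 1, Int.ofNat 38, Int.ofNat 41, Int.negSucc 4146, Int.negSucc 31, Int.ofNat 649, Int.ofNat 1, Int.ofNat 3137]))) (ZT.node 2765 (ZT.leaf [Int.ofNat 2, Int.ofNat 1]) (ZT.node 2766 (ZT.leaf [Int.negSucc 0]) (ZT.leaf [Int.ofNat 493, Int.ofNat 201, Int.negSucc 118, Int.ofNat 33, Int.ofNat 1, Int.ofNat 66, Int.ofNat 7, Int.negSucc 15, Int.negSucc 1, Int.ofNat 0, Int.ofNat 0, Int.ofNat 0, Int.ofNat 1, Int.ofNat 0, Int.negSucc 63, Int.ofNat 0, Int.ofNat 11, Int.ofNat 0, Int.ofNat 58])))))) (ZT.node 2778 (ZT.node 2772 (ZT.node 2769 (ZT.node 2768 (ZT.leaf [Int.negSucc 28584,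 Int.negSucc 13796, Int.ofNat 6741, Int.negSucc 2268, Int.negSucc 61, Int.negSucc 4002, Int.negSucc 467, Int.ofNat 1094, Int.ofNat 112, Int.negSucc 1, Int.ofNat 1, Int.negSucc 0, Int.negSucc 40, Int.negSucc 49, Int.ofNat 4695, Int.ofNat 40, Int.negSucc 719, Int.negSucc 0, Int.negSucc 3553]) (ZT.leaf [])) (ZT.node 2770 (ZT.leaf []) (ZT.node 2771 (ZT.leaf [Int.ofNat 6368, Int.ofNat 700, Int.negSucc 1387, Int.ofNat 26, Int.negSucc 6, Int.ofNat 471, Int.ofNat 49, Int.negSucc 11, Int.ofNat 27, Int.ofNat 0, Int.ofNat 0, Int.ofNat 0, Int.ofNat 36, Int.ofNat 4, Int.negSucc 370, Int.ofNat 20, Int.ofNat 78, Int.ofNat 0, Int.ofNat 441]) (ZT.leaf [])))) (ZT.node 2775 (ZT.node 2773 (ZT.leaf []) (ZT.node 2774 (ZT.leaf [Int.ofNat 43, Int.ofNat 40, Int.negSucc 2, Int.ofNat 4, Int.ofNat 0, Int.ofNat 3, Int.ofNat 2, Int.ofNat 2, Int.ofNat 0, Int.ofNat 0,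 Int.ofNat 0, Int.ofNat 0, Int.ofNat 2, Int.ofNat 0, Int.negSucc 14, Int.ofNat 0, Int.ofNat 0, Int.ofNat 0, Int.ofNat 5]) (ZT.leaf []))) (ZT.node 2776 (ZT.leaf [Int.ofNat 48, Int.ofNat 23, Int.negSucc 8, Int.ofNat 1, Int.ofNat 0, Int.ofNat 6, Int.negSucc 0, Int.ofNat 1, Int.ofNat 0, Int.ofNat 0, Int.ofNat 0, Int.ofNat 0, Int.ofNat 1, Int.ofNat 0, Int.negSucc 6, Int.ofNat 0, Int.ofNat 2, Int.ofNat 0, Int.ofNat 5]) (ZT.node 2777 (ZT.leaf [Int.ofNat 4450, Int.negSucc 665, Int.negSucc 967, Int.negSucc 176, Int.negSucc 16, Int.ofNat 196, Int.ofNat 0, Int.ofNat 111, Int.ofNat 65, Int.ofNat 0, Int.ofNat 0, Int.ofNat 0, Int.ofNat 27, Int.ofNat 3, Int.ofNat 189, Int.ofNat 19, Int.negSucc 37, Int.ofNat 0, Int.ofNat 144]) (ZT.leaf [Int.negSucc 7664, Int.negSucc 3466, Int.ofNat 1875, Int.negSucc 603, Int.negSucc 16, Int.negSucc 1077, Int.negSucc 114,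 Int.ofNat 271, Int.ofNat 14, Int.negSucc 0, Int.ofNat 1, Int.ofNat 0, Int.negSucc 6, Int.negSucc 14, Int.ofNat 1247, Int.ofNat 10, Int.negSucc 171, Int.ofNat 0, Int.negSucc 940]))))) (ZT.node 2784 (ZT.node 2781 (ZT.node 2779 (ZT.leaf [Int.negSucc 28307, Int.negSucc 10435, Int.ofNat 6447, Int.negSucc 1598, Int.negSucc 35, Int.negSucc 3432, Int.negSucc 401, Int.ofNat 844, Int.ofNat 53, Int.ofNat 1, Int.negSucc 0, Int.negSucc 0, Int.negSucc 58, Int.negSucc 16, Int.ofNat 3608, Int.negSucc 8, Int.negSucc 634, Int.negSucc 0, Int.negSucc 3034]) (ZT.node 2780 (ZT.leaf [Int.ofNat 5334, Int.ofNat 3306, Int.negSucc 1258, Int.ofNat 558, Int.ofNat 10, Int.ofNat 844, Int.ofNat 112, Int.negSucc 234, Int.negSucc 34, Int.ofNat 1, Int.ofNat 0, Int.ofNat 1, Int.ofNat 11, Int.ofNat 20, Int.negSucc 1034, Int.negSucc 20, Int.ofNat 100, Int.ofNat 1, Int.ofNat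 748]) (ZT.leaf []))) (ZT.node 2782 (ZT.leaf []) (ZT.node 2783 (ZT.leaf []) (ZT.leaf [Int.ofNat 2, Int.ofNat 4, Int.ofNat 0, Int.ofNat 0, Int.ofNat 0, Int.ofNat 0, Int.ofNat 0, Int.ofNat 0, Int.ofNat 0, Int.ofNat 0, Int.ofNat 0, Int.ofNat 0, Int.ofNat 0, Int.ofNat 0, Int.negSucc 0, Int.ofNat 0, Int.ofNat 0, Int.ofNat 0, Int.ofNat 0])))) (ZT.node 2787 (ZT.node 2785 (ZT.leaf [Int.ofNat 422, Int.ofNat 22, Int.negSucc 9, Int.negSucc 38, Int.negSucc 2, Int.negSucc 23, Int.ofNat 10, Int.ofNat 4, Int.negSucc 5, Int.negSucc 0, Int.ofNat 0, Int.ofNat 0, Int.ofNat 10, Int.negSucc 1, Int.negSucc 16, Int.ofNat 3, Int.ofNat 6, Int.ofNat 0, Int.negSucc 0]) (ZT.node 2786 (ZT.leaf [Int.negSucc 2, Int.ofNat 0, Int.ofNat 0, Int.ofNat 0, Int.ofNat 0, Int.ofNat 0, Int.negSucc 0, Int.ofNat 0, Int.ofNat 0, Int.ofNat 0, Int.negSucc 0]) (ZT.leaf []))) (ZT.node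 2788 (ZT.leaf [Int.negSucc 42, Int.negSucc 38, Int.ofNat 3, Int.negSucc 3, Int.ofNat 0, Int.negSucc 2, Int.negSucc 1, Int.negSucc 1, Int.ofNat 1, Int.ofNat 0, Int.ofNat 0, Int.ofNat 0, Int.negSucc 1, Int.ofNat 0, Int.ofNat 15, Int.negSucc 0, Int.ofNat 0, Int.ofNat 0, Int.negSucc 4]) (ZT.node 2789 (ZT.leaf [Int.ofNat 78, Int.ofNat 7, Int.negSucc 22, Int.ofNat 4, Int.ofNat 0, Int.ofNat 10, Int.ofNat 0, Int.ofNat 0, Int.ofNat 1, Int.ofNat 0, Int.ofNat 0, Int.ofNat 0, Int.ofNat 0, Int.ofNat 0, Int.ofNat 0, Int.ofNat 1, Int.ofNat 2, Int.ofNat 0, Int.ofNat 8]) (ZT.leaf [Int.ofNat 0, Int.ofNat 2, Int.ofNat 0, Int.ofNat 0, Int.ofNat 0, Int.ofNat 0, Int.ofNat 0, Int.ofNat 0, Int.ofNat 0, Int.ofNat 0, Int.ofNat 0, Int.ofNat 0, Int.ofNat 0, Int.ofNat 0, Int.negSucc 0])))))))) (ZT.node 2835 (ZT.node 2812 (ZT.node 2801 (ZT.node 2795 (ZT.node 2792 (ZT.node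 2791 (ZT.leaf []) (ZT.leaf [Int.negSucc 1491, Int.negSucc 2789, Int.ofNat 451, Int.negSucc 492, Int.negSucc 11, Int.negSucc 533, Int.negSucc 90, Int.ofNat 222, Int.ofNat 51, Int.ofNat 0, Int.ofNat 1, Int.ofNat 0, Int.ofNat 0, Int.negSucc 25, Int.ofNat 910, Int.ofNat 33, Int.negSucc 72, Int.ofNat 0, Int.negSucc 496])) (ZT.node 2793 (ZT.leaf [Int.ofNat 26, Int.ofNat 18, Int.negSucc 19, Int.ofNat 11, Int.ofNat 1, Int.ofNat 10, Int.ofNat 1, Int.negSucc 8, Int.negSucc 0, Int.ofNat 0, Int.negSucc 0, Int.ofNat 0, Int.negSucc 1, Int.ofNat 1, Int.negSucc 4, Int.negSucc 0, Int.ofNat 4, Int.ofNat 0, Int.ofNat 8]) (ZT.node 2794 (ZT.leaf [Int.negSucc 469, Int.negSucc 264, Int.ofNat 105, Int.negSucc 41, Int.negSucc 0, Int.negSucc 62, Int.negSucc 10, Int.ofNat 18, Int.ofNat 3, Int.ofNat 0, Int.ofNat 0, Int.ofNat 0, Int.negSucc 1, Int.negSucc 1, Int.ofNat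 85, Int.ofNat 2, Int.negSucc 9, Int.ofNat 0, Int.negSucc 60]) (ZT.leaf [Int.negSucc 376, Int.negSucc 270, Int.ofNat 75, Int.negSucc 36, Int.negSucc 0, Int.negSucc 52, Int.negSucc 10, Int.ofNat 17, Int.ofNat 5, Int.ofNat 1, Int.ofNat 0, Int.ofNat 0, Int.negSucc 1, Int.negSucc 2, Int.ofNat 90, Int.ofNat 2, Int.negSucc 6, Int.ofNat 0, Int.negSucc 53])))) (ZT.node 2798 (ZT.node 2796 (ZT.leaf [Int.negSucc 493, Int.negSucc 200, Int.ofNat 119, Int.negSucc 32, Int.negSucc 0, Int.negSucc 65, Int.negSucc 6, Int.ofNat 16, Int.ofNat 2, Int.ofNat 0, Int.ofNat 0, Int.ofNat 0, Int.negSucc 0, Int.ofNat 0, Int.ofNat 64, Int.ofNat 0, Int.negSucc 10, Int.ofNat 0, Int.negSucc 57]) (ZT.node 2797 (ZT.leaf [Int.ofNat 362, Int.ofNat 732, Int.negSucc 190, Int.ofNat 174, Int.ofNat 11, Int.ofNat 179, Int.ofNat 3, Int.negSucc 73, Int.negSucc 11, Int.ofNat 1, Int.negSucc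 0, Int.ofNat 0, Int.negSucc 13, Int.ofNat 2, Int.negSucc 238, Int.negSucc 5, Int.ofNat 44, Int.ofNat 0, Int.ofNat 147]) (ZT.leaf []))) (ZT.node 2799 (ZT.leaf [Int.negSucc 297, Int.negSucc 124, Int.ofNat 74, Int.negSucc 20, Int.negSucc 0, Int.negSucc 40, Int.negSucc 2, Int.ofNat 11, Int.ofNat 1, Int.ofNat 1, Int.ofNat 0, Int.ofNat 0, Int.ofNat 0, Int.negSucc 0, Int.ofNat 36, Int.ofNat 1, Int.negSucc 6, Int.ofNat 0, Int.negSucc 35]) (ZT.node 2800 (ZT.leaf [Int.negSucc 0]) (ZT.leaf [Int.ofNat 167, Int.ofNat 51, Int.negSucc 40, Int.ofNat 9, Int.ofNat 0, Int.ofNat 22, Int.ofNat 1, Int.negSucc 2, Int.ofNat 1, Int.ofNat 0, Int.ofNat 0, Int.ofNat 0, Int.ofNat 0, Int.ofNat 0, Int.negSucc 14, Int.ofNat 0, Int.ofNat 2, Int.ofNat 0, Int.ofNat 17]))))) (ZT.node 2806 (ZT.node 2803 (ZT.node 2802 (ZT.leaf [Int.negSucc 167, Int.negSucc 36, Int.ofNat 43,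 Int.negSucc 5, Int.negSucc 0, Int.negSucc 20, Int.ofNat 1, Int.ofNat 2, Int.negSucc 0, Int.ofNat 1, Int.ofNat 0, Int.ofNat 0, Int.ofNat 0, Int.ofNat 0, Int.ofNat 10, Int.ofNat 0, Int.negSucc 2, Int.ofNat 0, Int.negSucc 15]) (ZT.leaf [Int.negSucc 3, Int.negSucc 13, Int.negSucc 0, Int.negSucc 2, Int.ofNat 0, Int.negSucc 0, Int.negSucc 1, Int.ofNat 1, Int.ofNat 0, Int.negSucc 0, Int.ofNat 0, Int.ofNat 0, Int.ofNat 0, Int.ofNat 0, Int.ofNat 5, Int.ofNat 0, Int.ofNat 1, Int.ofNat 0, Int.negSucc 0])) (ZT.node 2804 (ZT.leaf []) (ZT.node 2805 (ZT.leaf []) (ZT.leaf [Int.negSucc 3, Int.negSucc 0])))) (ZT.node 2809 (ZT.node 2807 (ZT.leaf []) (ZT.node 2808 (ZT.leaf [Int.negSucc 0]) (ZT.leaf []))) (ZT.node 2810 (ZT.leaf []) (ZT.node 2811 (ZT.leaf []) (ZT.leaf [Int.ofNat 16943, Int.ofNat 7623, Int.negSucc 3878, Int.ofNat 1210, Int.ofNat 37, Int.ofNat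 2227, Int.ofNat 320, Int.negSucc 650, Int.negSucc 86, Int.ofNat 0, Int.negSucc 0, Int.ofNat 0, Int.ofNat 30, Int.ofNat 15, Int.negSucc 2762, Int.negSucc 10, Int.ofNat 397, Int.ofNat 0, Int.ofNat 1996])))))) (ZT.node 2823 (ZT.node 2817 (ZT.node 2814 (ZT.node 2813 (ZT.leaf [Int.negSucc 492, Int.negSucc 1422, Int.ofNat 210, Int.negSucc 273, Int.negSucc 2, Int.negSucc 289, Int.negSucc 33, Int.ofNat 78, Int.ofNat 8, Int.ofNat 0, Int.ofNat 0, Int.ofNat 1, Int.ofNat 4, Int.negSucc 17, Int.ofNat 330, Int.ofNat 25, Int.negSucc 3, Int.ofNat 0, Int.negSucc 232]) (ZT.leaf [])) (ZT.node 2815 (ZT.leaf [Int.ofNat 9275, Int.ofNat 3209, Int.negSucc 2015, Int.ofNat 419, Int.ofNat 18, Int.ofNat 1100, Int.ofNat 132, Int.negSucc 346, Int.negSucc 25, Int.negSucc 0, Int.ofNat 1, Int.ofNat 1, Int.negSucc 9, Int.ofNat 0, Int.negSucc 799, Int.ofNat 6, Int.ofNat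 227, Int.ofNat 0, Int.ofNat 954]) (ZT.node 2816 (ZT.leaf [Int.ofNat 2, Int.ofNat 3]) (ZT.leaf [Int.negSucc 296, Int.negSucc 123, Int.ofNat 74, Int.negSucc 20, Int.negSucc 0, Int.negSucc 40, Int.negSucc 2, Int.ofNat 11, Int.ofNat 1, Int.ofNat 1, Int.ofNat 0, Int.ofNat 0, Int.ofNat 0, Int.negSucc 0, Int.ofNat 36, Int.ofNat 1, Int.negSucc 6, Int.ofNat 0, Int.negSucc 35])))) (ZT.node 2820 (ZT.node 2818 (ZT.leaf [Int.ofNat 114, Int.ofNat 77, Int.negSucc 45, Int.ofNat 21, Int.ofNat 1, Int.ofNat 29, Int.negSucc 2, Int.negSucc 12, Int.negSucc 0, Int.ofNat 0, Int.ofNat 0, Int.ofNat 0, Int.negSucc 1, Int.ofNat 0, Int.negSucc 28, Int.negSucc 0, Int.ofNat 13, Int.ofNat 0, Int.ofNat 24]) (ZT.node 2819 (ZT.leaf [Int.negSucc 0, Int.ofNat 0, Int.ofNat 0, Int.ofNat 0, Int.ofNat 0, Int.ofNat 0, Int.ofNat 0, Int.ofNat 0, Int.ofNat 0, Int.ofNat 0, Int.ofNat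 0, Int.ofNat 0, Int.ofNat 0, Int.ofNat 0, Int.ofNat 0, Int.ofNat 0, Int.ofNat 0, Int.ofNat 1]) (ZT.leaf []))) (ZT.node 2821 (ZT.leaf [Int.negSucc 130, Int.negSucc 130, Int.ofNat 45, Int.negSucc 27, Int.negSucc 0, Int.negSucc 33, Int.negSucc 7, Int.ofNat 17, Int.ofNat 4, Int.ofNat 0, Int.ofNat 0, Int.ofNat 0, Int.ofNat 1, Int.ofNat 0, Int.ofNat 62, Int.ofNat 2, Int.negSucc 6, Int.ofNat 0, Int.negSucc 31]) (ZT.node 2822 (ZT.leaf []) (ZT.leaf []))))) (ZT.node 2829 (ZT.node 2826 (ZT.node 2824 (ZT.leaf [Int.ofNat 4842, Int.ofNat 1756, Int.negSucc 1111, Int.ofNat 264, Int.ofNat 5, Int.ofNat 582, Int.ofNat 69, Int.negSucc 129, Int.negSucc 5, Int.ofNat 0, Int.ofNat 0, Int.ofNat 0, Int.ofNat 13, Int.ofNat 6, Int.negSucc 652, Int.ofNat 3, Int.ofNat 102, Int.ofNat 0, Int.ofNat 519]) (ZT.node 2825 (ZT.leaf [Int.ofNat 9, Int.negSucc 11, Int.negSucc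 7, Int.ofNat 1, Int.ofNat 0, Int.ofNat 3, Int.negSucc 0, Int.negSucc 0, Int.ofNat 1, Int.ofNat 0, Int.ofNat 0, Int.ofNat 0, Int.negSucc 0, Int.ofNat 0, Int.ofNat 5, Int.ofNat 0, Int.ofNat 1, Int.ofNat 0, Int.ofNat 1]) (ZT.leaf [Int.negSucc 48, Int.negSucc 22, Int.ofNat 9, Int.negSucc 0, Int.ofNat 0, Int.negSucc 5, Int.ofNat 1, Int.negSucc 0, Int.ofNat 0, Int.ofNat 0, Int.ofNat 0, Int.ofNat 0, Int.negSucc 0, Int.ofNat 0, Int.ofNat 7, Int.ofNat 0, Int.negSucc 1, Int.ofNat 0, Int.negSucc 4]))) (ZT.node 2827 (ZT.leaf [Int.negSucc 0]) (ZT.node 2828 (ZT.leaf []) (ZT.leaf [Int.ofNat 379, Int.ofNat 272, Int.negSucc 74, Int.ofNat 37, Int.ofNat 1, Int.ofNat 53, Int.ofNat 11, Int.negSucc 16, Int.negSucc 4, Int.negSucc 0, Int.ofNat 0, Int.ofNat 0, Int.ofNat 2, Int.ofNat 3, Int.negSucc 89, Int.negSucc 1, Int.ofNat 7, Int.ofNat 0, Int.ofNat 54]))))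 (ZT.node 2832 (ZT.node 2830 (ZT.leaf [Int.ofNat 297, Int.ofNat 125, Int.negSucc 73, Int.ofNat 21, Int.ofNat 1, Int.ofNat 41, Int.ofNat 3, Int.negSucc 10, Int.negSucc 0, Int.negSucc 0, Int.ofNat 0, Int.ofNat 0, Int.ofNat 0, Int.ofNat 1, Int.negSucc 35, Int.negSucc 0, Int.ofNat 7, Int.ofNat 0, Int.ofNat 36]) (ZT.node 2831 (ZT.leaf []) (ZT.leaf []))) (ZT.node 2833 (ZT.leaf [Int.ofNat 9668, Int.ofNat 5109, Int.negSucc 2312, Int.ofNat 885, Int.ofNat 19, Int.ofNat 1357, Int.ofNat 211, Int.negSucc 346, Int.negSucc 61, Int.ofNat 1, Int.negSucc 1, Int.negSucc 0, Int.ofNat 47, Int.ofNat 17, Int.negSucc 2203, Int.negSucc 14, Int.ofNat 209, Int.ofNat 0, Int.ofNat 1249]) (ZT.node 2834 (ZT.leaf [Int.ofNat 2656, Int.ofNat 1430, Int.negSucc 558, Int.ofNat 174, Int.negSucc 0, Int.ofNat 362, Int.ofNat 68, Int.negSucc 136, Int.negSucc 27, Int.negSucc 0,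 Int.ofNat 0, Int.ofNat 0, Int.ofNat 9, Int.ofNat 8, Int.negSucc 516, Int.negSucc 1, Int.ofNat 98, Int.ofNat 0, Int.ofNat 359]) (ZT.leaf [Int.negSucc 374, Int.negSucc 272, Int.ofNat 75, Int.negSucc 36, Int.negSucc 0, Int.negSucc 52, Int.negSucc 10, Int.ofNat 17, Int.ofNat 5, Int.ofNat 1, Int.ofNat 0, Int.ofNat 0, Int.negSucc 1, Int.negSucc 2, Int.ofNat 90, Int.ofNat 2, Int.negSucc 6, Int.ofNat 0, Int.negSucc 53]))))))) (ZT.node 2857 (ZT.node 2846 (ZT.node 2840 (ZT.node 2837 (ZT.node 2836 (ZT.leaf [Int.negSucc 6820, Int.negSucc 4555, Int.ofNat 1664, Int.negSucc 786, Int.negSucc 22, Int.negSucc 1151, Int.negSucc 133, Int.ofNat 337, Int.ofNat 49, Int.ofNat 0, Int.ofNat 0, Int.negSucc 0, Int.negSucc 8, Int.negSucc 25, Int.ofNat 1482, Int.ofNat 25, Int.negSucc 198, Int.negSucc 0, Int.negSucc 1022]) (ZT.leaf [Int.negSucc 6910, Int.negSucc 4035,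 Int.ofNat 1649, Int.negSucc 677, Int.negSucc 15, Int.negSucc 1072, Int.negSucc 130, Int.ofNat 297, Int.ofNat 39, Int.negSucc 0, Int.ofNat 0, Int.negSucc 0, Int.negSucc 11, Int.negSucc 22, Int.ofNat 1326, Int.ofNat 19, Int.negSucc 172, Int.negSucc 0, Int.negSucc 954])) (ZT.node 2838 (ZT.leaf [Int.negSucc 16, Int.negSucc 1, Int.ofNat 3, Int.ofNat 0, Int.ofNat 0, Int.negSucc 0, Int.ofNat 0, Int.ofNat 0, Int.ofNat 0, Int.ofNat 0, Int.ofNat 0, Int.ofNat 0, Int.ofNat 0, Int.ofNat 0, Int.ofNat 0, Int.ofNat 0, Int.ofNat 0, Int.ofNat 0, Int.ofNat 0]) (ZT.node 2839 (ZT.leaf [Int.negSucc 18942, Int.negSucc 8317, Int.ofNat 4329, Int.negSucc 1303, Int.negSucc 36, Int.negSucc 2456, Int.negSucc 342, Int.ofNat 694, Int.ofNat 88, Int.ofNat 0, Int.ofNat 1, Int.ofNat 0, Int.negSucc 36, Int.negSucc 16, Int.ofNat 3004, Int.ofNat 9, Int.negSucc 435, Int.ofNat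 0, Int.negSucc 2202]) (ZT.leaf [])))) (ZT.node 2843 (ZT.node 2841 (ZT.leaf [Int.ofNat 2, Int.ofNat 0, Int.ofNat 0, Int.ofNat 0, Int.ofNat 0, Int.ofNat 0, Int.ofNat 0, Int.ofNat 0, Int.ofNat 0, Int.ofNat 0, Int.ofNat 0, Int.ofNat 0, Int.ofNat 0, Int.ofNat 0, Int.ofNat 0, Int.ofNat 1]) (ZT.node 2842 (ZT.leaf []) (ZT.leaf [Int.negSucc 0]))) (ZT.node 2844 (ZT.leaf []) (ZT.node 2845 (ZT.leaf [Int.ofNat 709, Int.ofNat 360, Int.negSucc 167, Int.ofNat 61, Int.ofNat 2, Int.ofNat 102, Int.ofNat 12, Int.negSucc 25, Int.negSucc 1, Int.ofNat 0, Int.ofNat 0, Int.ofNat 0, Int.ofNat 1, Int.ofNat 2, Int.negSucc 114, Int.negSucc 1, Int.ofNat 13, Int.ofNat 0, Int.ofNat 89]) (ZT.leaf [Int.ofNat 562, Int.ofNat 238, Int.negSucc 148, Int.ofNat 49, Int.ofNat 2, Int.ofNat 89, Int.ofNat 9, Int.negSucc 22, Int.ofNat 1, Int.ofNat 0, Int.ofNat 0, Int.ofNat 0, Int.negSucc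 2, Int.ofNat 2, Int.negSucc 68, Int.negSucc 1, Int.ofNat 8, Int.ofNat 0, Int.ofNat 72]))))) (ZT.node 2851 (ZT.node 2848 (ZT.node 2847 (ZT.leaf [Int.negSucc 5, Int.ofNat 15, Int.ofNat 5, Int.ofNat 3, Int.ofNat 0, Int.ofNat 0, Int.ofNat 2, Int.negSucc 0, Int.ofNat 0, Int.ofNat 1, Int.ofNat 0, Int.ofNat 0, Int.ofNat 0, Int.ofNat 0, Int.negSucc 7, Int.ofNat 0, Int.negSucc 0, Int.ofNat 0, Int.ofNat 0]) (ZT.leaf [Int.negSucc 445, Int.negSucc 430, Int.ofNat 152, Int.negSucc 89, Int.negSucc 2, Int.negSucc 120, Int.negSucc 7, Int.ofNat 30, Int.ofNat 1, Int.ofNat 0, Int.ofNat 0, Int.ofNat 0, Int.ofNat 3, Int.negSucc 3, Int.ofNat 133, Int.ofNat 4, Int.negSucc 9, Int.ofNat 0, Int.negSucc 98])) (ZT.node 2849 (ZT.leaf [Int.ofNat 4, Int.negSucc 15, Int.negSucc 4, Int.negSucc 2, Int.ofNat 0, Int.ofNat 0, Int.negSucc 1, Int.ofNat 1, Int.ofNat 0, Int.negSucc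 0, Int.ofNat 0, Int.ofNat 0, Int.ofNat 0, Int.ofNat 0, Int.ofNat 8, Int.ofNat 0, Int.ofNat 1, Int.ofNat 0, Int.ofNat 0]) (ZT.node 2850 (ZT.leaf [Int.ofNat 12, Int.ofNat 1, Int.negSucc 2, Int.ofNat 0, Int.ofNat 0, Int.ofNat 1, Int.ofNat 0, Int.ofNat 0, Int.ofNat 0, Int.ofNat 0, Int.ofNat 0, Int.ofNat 0, Int.ofNat 0, Int.ofNat 0, Int.ofNat 0, Int.ofNat 0, Int.ofNat 0, Int.ofNat 0, Int.ofNat 1]) (ZT.leaf [Int.negSucc 137, Int.negSucc 118, Int.ofNat 30, Int.negSucc 17, Int.ofNat 0, Int.negSucc 21, Int.negSucc 4, Int.ofNat 8, Int.ofNat 3, Int.ofNat 1, Int.ofNat 0, Int.ofNat 0, Int.negSucc 0, Int.negSucc 0, Int.ofNat 40, Int.ofNat 1, Int.negSucc 3, Int.ofNat 0, Int.negSucc 23])))) (ZT.node 2854 (ZT.node 2852 (ZT.leaf [Int.ofNat 95, Int.ofNat 132, Int.ofNat 42, Int.negSucc 9, Int.negSucc 3, Int.negSucc 10, Int.ofNat 12, Int.ofNat 7, Int.negSucc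 1, Int.negSucc 0, Int.ofNat 1, Int.ofNat 0, Int.ofNat 9, Int.ofNat 6, Int.negSucc 47, Int.negSucc 2, Int.negSucc 2, Int.ofNat 0, Int.ofNat 6]) (ZT.node 2853 (ZT.leaf [Int.ofNat 1064, Int.ofNat 515, Int.negSucc 227, Int.ofNat 67, Int.ofNat 1, Int.ofNat 121, Int.ofNat 17, Int.negSucc 30, Int.negSucc 3, Int.ofNat 0, Int.ofNat 0, Int.ofNat 0, Int.ofNat 8, Int.ofNat 5, Int.negSucc 157, Int.negSucc 2, Int.ofNat 19, Int.ofNat 0, Int.ofNat 120]) (ZT.leaf [Int.ofNat 2015, Int.ofNat 10, Int.negSucc 484, Int.ofNat 24, Int.ofNat 4, Int.ofNat 152, Int.negSucc 4, Int.ofNat 21, Int.ofNat 24, Int.ofNat 1, Int.ofNat 0, Int.ofNat 0, Int.ofNat 3, Int.negSucc 5, Int.negSucc 33, Int.ofNat 9, Int.ofNat 2, Int.ofNat 0, Int.ofNat 100]))) (ZT.node 2855 (ZT.leaf [Int.ofNat 187, Int.ofNat 319, Int.negSucc 70, Int.ofNat 66, Int.ofNat 2, Int.ofNat 69, Int.ofNat 6,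 Int.negSucc 13, Int.negSucc 1, Int.ofNat 0, Int.ofNat 0, Int.ofNat 0, Int.ofNat 1, Int.ofNat 4, Int.negSucc 102, Int.negSucc 3, Int.ofNat 2, Int.ofNat 0, Int.ofNat 60]) (ZT.node 2856 (ZT.leaf []) (ZT.leaf [Int.ofNat 451, Int.ofNat 541, Int.negSucc 108, Int.ofNat 86, Int.ofNat 2, Int.ofNat 101, Int.ofNat 19, Int.negSucc 34, Int.negSucc 9, Int.ofNat 0, Int.ofNat 0, Int.ofNat 0, Int.ofNat 4, Int.ofNat 4, Int.negSucc 194, Int.negSucc 2, Int.ofNat 13, Int.ofNat 0, Int.ofNat 101])))))) (ZT.node 2868 (ZT.node 2862 (ZT.node 2859 (ZT.node 2858 (ZT.leaf [Int.negSucc 172, Int.negSucc 315, Int.ofNat 68, Int.negSucc 65, Int.negSucc 1, Int.negSucc 67, Int.negSucc 5, Int.ofNat 14, Int.ofNat 2, Int.ofNat 0, Int.ofNat 0, Int.ofNat 0, Int.negSucc 0, Int.negSucc 3, Int.ofNat 102, Int.ofNat 4, Int.negSucc 1, Int.ofNat 0, Int.negSucc 59]) (ZT.leaf [Int.negSucc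 130, Int.ofNat 38, Int.ofNat 32, Int.ofNat 6, Int.ofNat 0, Int.negSucc 3, Int.ofNat 4, Int.negSucc 6, Int.negSucc 3, Int.ofNat 0, Int.ofNat 0, Int.ofNat 0, Int.negSucc 0, Int.ofNat 0, Int.negSucc 16, Int.ofNat 0, Int.ofNat 0, Int.ofNat 0, Int.negSucc 0])) (ZT.node 2860 (ZT.leaf [Int.negSucc 467, Int.negSucc 264, Int.ofNat 105, Int.negSucc 41, Int.negSucc 0, Int.negSucc 62, Int.negSucc 10, Int.ofNat 18, Int.ofNat 3, Int.ofNat 0, Int.negSucc 0, Int.ofNat 0, Int.negSucc 1, Int.negSucc 1, Int.ofNat 85, Int.ofNat 2, Int.negSucc 9, Int.ofNat 0, Int.negSucc 60]) (ZT.node 2861 (ZT.leaf [Int.negSucc 183, Int.negSucc 9, Int.ofNat 50, Int.negSucc 2, Int.negSucc 0, Int.negSucc 20, Int.ofNat 2, Int.ofNat 2, Int.negSucc 2, Int.ofNat 0, Int.ofNat 0, Int.ofNat 0, Int.ofNat 1, Int.ofNat 0, Int.ofNat 0, Int.ofNat 0, Int.negSucc 1, Int.ofNat 0, Int.negSucc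 12]) (ZT.leaf [Int.negSucc 2, Int.negSucc 2, Int.ofNat 0, Int.ofNat 0, Int.ofNat 0, Int.ofNat 0, Int.ofNat 0, Int.ofNat 0, Int.ofNat 0, Int.ofNat 0, Int.ofNat 0, Int.ofNat 0, Int.ofNat 0, Int.ofNat 0, Int.ofNat 1])))) (ZT.node 2865 (ZT.node 2863 (ZT.leaf [Int.ofNat 3210, Int.ofNat 2156, Int.negSucc 734, Int.ofNat 341, Int.ofNat 6, Int.ofNat 525, Int.ofNat 81, Int.negSucc 170, Int.negSucc 29, Int.ofNat 0, Int.ofNat 0, Int.ofNat 1, Int.ofNat 8, Int.ofNat 10, Int.negSucc 721, Int.negSucc 10, Int.ofNat 89, Int.ofNat 0, Int.ofNat 481]) (ZT.node 2864 (ZT.leaf [Int.negSucc 0]) (ZT.leaf [Int.ofNat 13, Int.negSucc 4, Int.negSucc 1, Int.negSucc 0, Int.ofNat 0, Int.ofNat 0, Int.ofNat 0, Int.ofNat 1, Int.ofNat 1, Int.ofNat 1, Int.ofNat 0, Int.ofNat 0, Int.ofNat 0, Int.ofNat 0, Int.ofNat 6, Int.ofNat 0, Int.ofNat 0, Int.ofNat 0, Int.ofNat 0]))) (ZT.node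 2866 (ZT.leaf [Int.ofNat 18, Int.ofNat 4, Int.negSucc 3, Int.ofNat 0, Int.ofNat 0, Int.ofNat 2, Int.ofNat 0, Int.ofNat 1, Int.ofNat 1, Int.ofNat 0, Int.ofNat 0, Int.ofNat 0, Int.ofNat 0, Int.ofNat 0, Int.negSucc 1, Int.ofNat 0, Int.negSucc 0, Int.ofNat 0, Int.ofNat 1]) (ZT.node 2867 (ZT.leaf [Int.negSucc 0]) (ZT.leaf [Int.negSucc 1, Int.ofNat 2, Int.ofNat 0, Int.ofNat 0, Int.ofNat 0, Int.ofNat 0, Int.ofNat 0, Int.ofNat 0, Int.ofNat 0, Int.ofNat 0, Int.ofNat 0, Int.ofNat 0, Int.ofNat 0, Int.ofNat 0, Int.negSucc 0, Int.ofNat 0, Int.ofNat 0, Int.ofNat 0, Int.ofNat 0]))))) (ZT.node 2874 (ZT.node 2871 (ZT.node 2869 (ZT.leaf []) (ZT.node 2870 (ZT.leaf []) (ZT.leaf []))) (ZT.node 2872 (ZT.leaf [Int.ofNat 3, Int.ofNat 3, Int.ofNat 0, Int.ofNat 0, Int.ofNat 0, Int.ofNat 0, Int.ofNat 0, Int.ofNat 0, Int.ofNat 0, Int.ofNat 0, Int.ofNat 0, Int.ofNat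 0, Int.ofNat 0, Int.ofNat 0, Int.negSucc 0]) (ZT.node 2873 (ZT.leaf [Int.negSucc 0]) (ZT.leaf [Int.ofNat 3, Int.negSucc 0, Int.ofNat 0, Int.ofNat 0, Int.ofNat 0, Int.ofNat 0, Int.ofNat 0, Int.ofNat 0, Int.ofNat 0, Int.ofNat 0, Int.ofNat 0, Int.ofNat 0, Int.ofNat 0, Int.ofNat 0, Int.ofNat 1, Int.ofNat 0, Int.ofNat 0, Int.ofNat 0, Int.ofNat 0])))) (ZT.node 2877 (ZT.node 2875 (ZT.leaf [Int.ofNat 2]) (ZT.node 2876 (ZT.leaf []) (ZT.leaf []))) (ZT.node 2878 (ZT.leaf [Int.ofNat 2]) (ZT.node 2879 (ZT.leaf [Int.negSucc 0, Int.ofNat 3, Int.ofNat 0, Int.ofNat 0, Int.ofNat 0, Int.ofNat 0, Int.ofNat 0, Int.ofNat 0, Int.ofNat 0, Int.ofNat 0, Int.ofNat 0, Int.ofNat 0, Int.ofNat 0, Int.ofNat 0, Int.negSucc 0, Int.ofNat 0, Int.ofNat 0, Int.ofNat 0, Int.ofNat 0]) (ZT.leaf []))))))))))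

noncomputable def labT_8 : ZT := (ZT.node 4276 (ZT.node 4186 (ZT.node 4141 (ZT.node 4118 (ZT.node 4107 (ZT.node 4101 (ZT.node 4098 (ZT.node 4097 (ZT.leaf [Int.ofNat 3327, Int.ofNat 2326, Int.negSucc 879, Int.ofNat 440, Int.ofNat 12, Int.ofNat 624, Int.ofNat 60, Int.negSucc 156, Int.negSucc 7, Int.ofNat 0, Int.ofNat 0, Int.ofNat 0, Int.negSucc 0, Int.ofNat 15, Int.negSucc 714, Int.negSucc 20, Int.ofNat 86, Int.ofNat 0, Int.ofNat 531]) (ZT.leaf [])) (ZT.node 4099 (ZT.leaf [Int.negSucc 1077, Int.ofNat 117, Int.ofNat 197, Int.ofNat 52, Int.ofNat 4, Int.negSucc 18, Int.negSucc 5, Int.negSucc 7, Int.negSucc 1, Int.ofNat 0, Int.ofNat 0, Int.ofNat 0, Int.negSucc 8, Int.ofNat 2, Int.negSucc 5, Int.negSucc 6, Int.negSucc 3, Int.ofNat 0, Int.negSucc 30]) (ZT.node 4100 (ZT.leaf [Int.negSucc 6091, Int.negSucc 4560, Int.ofNat 1600, Int.negSucc 846,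 Int.negSucc 24, Int.negSucc 1187, Int.negSucc 126, Int.ofNat 327, Int.ofNat 29, Int.ofNat 1, Int.ofNat 0, Int.ofNat 0, Int.ofNat 3, Int.negSucc 26, Int.ofNat 1448, Int.ofNat 39, Int.negSucc 172, Int.ofNat 0, Int.negSucc 1015]) (ZT.leaf [])))) (ZT.node 4104 (ZT.node 4102 (ZT.leaf [Int.ofNat 3326, Int.ofNat 2326, Int.negSucc 879, Int.ofNat 440, Int.ofNat 12, Int.ofNat 624, Int.ofNat 60, Int.negSucc 156, Int.negSucc 7, Int.ofNat 0, Int.ofNat 0, Int.ofNat 0, Int.negSucc 0, Int.ofNat 15, Int.negSucc 714, Int.negSucc 20, Int.ofNat 86, Int.ofNat 0, Int.ofNat 531]) (ZT.node 4103 (ZT.leaf [Int.ofNat 3843, Int.ofNat 2118, Int.negSucc 916, Int.ofNat 355, Int.ofNat 9, Int.ofNat 583, Int.ofNat 73, Int.negSucc 161, Int.negSucc 18, Int.negSucc 0, Int.ofNat 0, Int.ofNat 0, Int.ofNat 7, Int.ofNat 10, Int.negSucc 726, Int.negSucc 10, Int.ofNat 91, Int.ofNat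 0, Int.ofNat 516]) (ZT.leaf [Int.ofNat 789, Int.ofNat 2824, Int.negSucc 247, Int.ofNat 506, Int.ofNat 15, Int.ofNat 506, Int.ofNat 91, Int.negSucc 224, Int.negSucc 52, Int.negSucc 0, Int.ofNat 0, Int.ofNat 0, Int.negSucc 8, Int.ofNat 19, Int.negSucc 885, Int.negSucc 31, Int.ofNat 78, Int.ofNat 0, Int.ofNat 452]))) (ZT.node 4105 (ZT.leaf []) (ZT.node 4106 (ZT.leaf [Int.negSucc 2945, Int.negSucc 1577, Int.ofNat 752, Int.negSucc 289, Int.negSucc 5, Int.negSucc 478, Int.negSucc 45, Int.ofNat 118, Int.ofNat 5, Int.ofNat 0, Int.ofNat 0, Int.ofNat 0, Int.negSucc 1, Int.negSucc 9, Int.ofNat 531, Int.ofNat 9, Int.negSucc 71, Int.ofNat 0, Int.negSucc 405]) (ZT.leaf [Int.negSucc 4733, Int.negSucc 3498, Int.ofNat 1178, Int.negSucc 608, Int.negSucc 15, Int.negSucc 877, Int.negSucc 107, Int.ofNat 262, Int.ofNat 33, Int.ofNat 1, Int.ofNat 0, Int.ofNat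 0, Int.negSucc 1, Int.negSucc 21, Int.ofNat 1154, Int.ofNat 25, Int.negSucc 140, Int.ofNat 0, Int.negSucc 771]))))) (ZT.node 4112 (ZT.node 4109 (ZT.node 4108 (ZT.leaf [Int.ofNat 5127, Int.ofNat 3740, Int.negSucc 1242, Int.ofNat 637, Int.ofNat 17, Int.ofNat 917, Int.ofNat 127, Int.negSucc 288, Int.negSucc 43, Int.negSucc 0, Int.ofNat 0, Int.ofNat 0, Int.ofNat 4, Int.ofNat 21, Int.negSucc 1246, Int.negSucc 24, Int.ofNat 150, Int.ofNat 0, Int.ofNat 820]) (ZT.leaf [Int.negSucc 234, Int.negSucc 1435, Int.ofNat 99, Int.negSucc 261, Int.negSucc 5, Int.negSucc 250, Int.negSucc 47, Int.ofNat 115, Int.ofNat 28, Int.ofNat 0, Int.ofNat 0, Int.ofNat 0, Int.ofNat 5, Int.negSucc 9, Int.ofNat 451, Int.ofNat 18, Int.negSucc 33, Int.ofNat 0, Int.negSucc 225])) (ZT.node 4110 (ZT.leaf []) (ZT.node 4111 (ZT.leaf []) (ZT.leaf [Int.ofNat 1])))) (ZT.node 4115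 (ZT.node 4113 (ZT.leaf [Int.ofNat 2851, Int.ofNat 1636, Int.negSucc 699, Int.ofNat 284, Int.ofNat 7, Int.ofNat 458, Int.ofNat 58, Int.negSucc 135, Int.negSucc 16, Int.negSucc 0, Int.ofNat 0, Int.ofNat 0, Int.ofNat 2, Int.ofNat 7, Int.negSucc 572, Int.negSucc 7, Int.ofNat 70, Int.ofNat 0, Int.ofNat 402]) (ZT.node 4114 (ZT.leaf []) (ZT.leaf []))) (ZT.node 4116 (ZT.leaf [Int.ofNat 1356, Int.ofNat 736, Int.negSucc 304, Int.ofNat 118, Int.ofNat 4, Int.ofNat 192, Int.ofNat 43, Int.negSucc 70, Int.negSucc 15, Int.ofNat 0, Int.ofNat 0, Int.negSucc 0, Int.ofNat 3, Int.ofNat 1, Int.negSucc 301, Int.negSucc 2, Int.ofNat 35, Int.negSucc 0, Int.ofNat 183]) (ZT.node 4117 (ZT.leaf [Int.ofNat 1]) (ZT.leaf [Int.ofNat 769, Int.ofNat 394, Int.negSucc 160, Int.ofNat 54, Int.ofNat 1, Int.ofNat 97, Int.ofNat 18, Int.negSucc 29, Int.negSucc 2, Int.ofNat 0, Int.ofNat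 0, Int.ofNat 0, Int.ofNat 2, Int.ofNat 2, Int.negSucc 125, Int.negSucc 1, Int.ofNat 11, Int.ofNat 0, Int.ofNat 91])))))) (ZT.node 4129 (ZT.node 4123 (ZT.node 4120 (ZT.node 4119 (ZT.leaf [Int.negSucc 3841, Int.negSucc 2117, Int.ofNat 917, Int.negSucc 354, Int.negSucc 8, Int.negSucc 582, Int.negSucc 72, Int.ofNat 162, Int.ofNat 19, Int.ofNat 1, Int.ofNat 0, Int.ofNat 0, Int.negSucc 6, Int.negSucc 9, Int.ofNat 727, Int.ofNat 11, Int.negSucc 90, Int.ofNat 0, Int.negSucc 515]) (ZT.leaf [Int.ofNat 2945, Int.ofNat 1578, Int.negSucc 751, Int.ofNat 290, Int.ofNat 6, Int.ofNat 479, Int.ofNat 46, Int.negSucc 117, Int.negSucc 4, Int.ofNat 0, Int.ofNat 0, Int.ofNat 0, Int.ofNat 2, Int.ofNat 10, Int.negSucc 530, Int.negSucc 8, Int.ofNat 72, Int.ofNat 0, Int.ofNat 406])) (ZT.node 4121 (ZT.leaf []) (ZT.node 4122 (ZT.leaf []) (ZT.leaf [Int.negSucc 392,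 Int.negSucc 239, Int.ofNat 65, Int.negSucc 27, Int.negSucc 0, Int.negSucc 38, Int.negSucc 18, Int.ofNat 27, Int.ofNat 11, Int.ofNat 0, Int.ofNat 0, Int.ofNat 0, Int.negSucc 1, Int.ofNat 1, Int.ofNat 93, Int.ofNat 0, Int.negSucc 8, Int.ofNat 0, Int.negSucc 47])))) (ZT.node 4126 (ZT.node 4124 (ZT.leaf [Int.negSucc 256, Int.negSucc 85, Int.ofNat 58, Int.negSucc 13, Int.negSucc 0, Int.negSucc 20, Int.negSucc 0, Int.ofNat 4, Int.ofNat 1, Int.ofNat 0, Int.ofNat 0, Int.ofNat 0, Int.negSucc 1, Int.ofNat 0, Int.ofNat 34, Int.ofNat 0, Int.negSucc 5, Int.ofNat 0, Int.negSucc 21]) (ZT.node 4125 (ZT.leaf [Int.ofNat 1994, Int.ofNat 1162, Int.negSucc 449, Int.ofNat 185, Int.ofNat 5, Int.ofNat 286, Int.ofNat 62, Int.negSucc 113, Int.negSucc 25, Int.ofNat 0, Int.ofNat 0, Int.ofNat 0, Int.ofNat 2, Int.ofNat 3, Int.negSucc 422, Int.negSucc 2, Int.ofNat 53,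 Int.ofNat 0, Int.ofNat 273]) (ZT.leaf [Int.ofNat 0, Int.negSucc 0]))) (ZT.node 4127 (ZT.leaf []) (ZT.node 4128 (ZT.leaf []) (ZT.leaf [Int.negSucc 3325, Int.negSucc 2325, Int.ofNat 880, Int.negSucc 439, Int.negSucc 11, Int.negSucc 623, Int.negSucc 59, Int.ofNat 157, Int.ofNat 8, Int.ofNat 0, Int.ofNat 0, Int.ofNat 0, Int.ofNat 1, Int.negSucc 14, Int.ofNat 715, Int.ofNat 21, Int.negSucc 85, Int.ofNat 0, Int.negSucc 530]))))) (ZT.node 4135 (ZT.node 4132 (ZT.node 4130 (ZT.leaf []) (ZT.node 4131 (ZT.leaf [Int.negSucc 2786, Int.negSucc 1661, Int.ofNat 636, Int.negSucc 265, Int.negSucc 7, Int.negSucc 410, Int.negSucc 60, Int.ofNat 127, Int.ofNat 22, Int.ofNat 1, Int.ofNat 0, Int.ofNat 0, Int.negSucc 7, Int.negSucc 7, Int.ofNat 560, Int.ofNat 8, Int.negSucc 65, Int.ofNat 0, Int.negSucc 376]) (ZT.leaf [Int.ofNat 2398, Int.ofNat 1516, Int.negSucc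 547, Int.ofNat 243, Int.ofNat 7, Int.ofNat 367, Int.ofNat 57, Int.negSucc 119, Int.negSucc 21, Int.negSucc 0, Int.ofNat 0, Int.ofNat 0, Int.ofNat 6, Int.ofNat 7, Int.negSucc 512, Int.negSucc 7, Int.ofNat 60, Int.ofNat 0, Int.ofNat 338]))) (ZT.node 4133 (ZT.leaf [Int.ofNat 1790, Int.ofNat 2700, Int.negSucc 425, Int.ofNat 453, Int.ofNat 11, Int.ofNat 518, Int.ofNat 97, Int.negSucc 216, Int.negSucc 51, Int.negSucc 0, Int.ofNat 0, Int.ofNat 0, Int.ofNat 0, Int.ofNat 17, Int.negSucc 880, Int.negSucc 24, Int.ofNat 82, Int.ofNat 0, Int.ofNat 478]) (ZT.node 4134 (ZT.leaf []) (ZT.leaf [])))) (ZT.node 4138 (ZT.node 4136 (ZT.leaf []) (ZT.node 4137 (ZT.leaf [Int.negSucc 788, Int.negSucc 2823, Int.ofNat 248, Int.negSucc 505, Int.negSucc 14, Int.negSucc 505, Int.negSucc 90, Int.ofNat 225, Int.ofNat 53, Int.ofNat 1, Int.ofNat 0, Int.ofNat 0, Int.ofNat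 9, Int.negSucc 18, Int.ofNat 886, Int.ofNat 32, Int.negSucc 77, Int.ofNat 0, Int.negSucc 451]) (ZT.leaf [Int.ofNat 3327, Int.ofNat 2326, Int.negSucc 879, Int.ofNat 440, Int.ofNat 12, Int.ofNat 624, Int.ofNat 60, Int.negSucc 156, Int.negSucc 7, Int.ofNat 0, Int.ofNat 0, Int.ofNat 0, Int.negSucc 0, Int.ofNat 15, Int.negSucc 714, Int.negSucc 20, Int.ofNat 86, Int.ofNat 0, Int.ofNat 531]))) (ZT.node 4139 (ZT.leaf []) (ZT.node 4140 (ZT.leaf [Int.ofNat 3026, Int.ofNat 920, Int.negSucc 644, Int.ofNat 120, Int.ofNat 2, Int.ofNat 306, Int.ofNat 59, Int.negSucc 73, Int.negSucc 10, Int.ofNat 0, Int.ofNat 0, Int.negSucc 0, Int.ofNat 13, Int.ofNat 2, Int.negSucc 377, Int.ofNat 0, Int.ofNat 38, Int.negSucc 0, Int.ofNat 286]) (ZT.leaf []))))))) (ZT.node 4163 (ZT.node 4152 (ZT.node 4146 (ZT.node 4143 (ZT.node 4142 (ZT.leaf [Int.ofNat 437, Int.ofNat 597,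 Int.negSucc 157, Int.ofNat 125, Int.ofNat 6, Int.ofNat 147, Int.ofNat 7, Int.negSucc 44, Int.negSucc 4, Int.ofNat 0, Int.ofNat 0, Int.ofNat 0, Int.negSucc 5, Int.ofNat 7, Int.negSucc 180, Int.negSucc 6, Int.ofNat 31, Int.ofNat 0, Int.ofNat 122]) (ZT.leaf [Int.ofNat 1])) (ZT.node 4144 (ZT.leaf [Int.negSucc 988, Int.negSucc 480, Int.ofNat 217, Int.negSucc 70, Int.negSucc 1, Int.negSucc 124, Int.negSucc 14, Int.ofNat 26, Int.ofNat 2, Int.ofNat 0, Int.ofNat 0, Int.ofNat 0, Int.negSucc 4, Int.negSucc 2, Int.ofNat 154, Int.ofNat 3, Int.negSucc 20, Int.ofNat 0, Int.negSucc 113]) (ZT.node 4145 (ZT.leaf []) (ZT.leaf [Int.negSucc 770, Int.negSucc 393, Int.ofNat 161, Int.negSucc 53, Int.negSucc 0, Int.negSucc 96, Int.negSucc 17, Int.ofNat 30, Int.ofNat 3, Int.ofNat 0, Int.ofNat 0, Int.ofNat 0, Int.negSucc 1, Int.negSucc 1, Int.ofNat 126, Int.ofNat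 2, Int.negSucc 10, Int.ofNat 0, Int.negSucc 90])))) (ZT.node 4149 (ZT.node 4147 (ZT.leaf [Int.negSucc 3515, Int.negSucc 1840, Int.ofNat 874, Int.negSucc 325, Int.negSucc 6, Int.negSucc 547, Int.negSucc 57, Int.ofNat 138, Int.ofNat 7, Int.ofNat 0, Int.ofNat 0, Int.ofNat 0, Int.negSucc 2, Int.negSucc 11, Int.ofNat 615, Int.ofNat 10, Int.negSucc 80, Int.ofNat 0, Int.negSucc 471]) (ZT.node 4148 (ZT.leaf [Int.ofNat 1282, Int.ofNat 631, Int.negSucc 320, Int.ofNat 114, Int.ofNat 3, Int.ofNat 199, Int.ofNat 21, Int.negSucc 48, Int.negSucc 1, Int.ofNat 0, Int.ofNat 0, Int.ofNat 0, Int.ofNat 0, Int.ofNat 3, Int.negSucc 222, Int.negSucc 3, Int.ofNat 27, Int.ofNat 0, Int.ofNat 168]) (ZT.leaf []))) (ZT.node 4150 (ZT.leaf [Int.ofNat 1]) (ZT.node 4151 (ZT.leaf [Int.negSucc 5128, Int.negSucc 3740, Int.ofNat 1243, Int.negSucc 636, Int.negSucc 16, Int.negSucc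 916, Int.negSucc 126, Int.ofNat 289, Int.ofNat 44, Int.ofNat 1, Int.ofNat 0, Int.ofNat 0, Int.negSucc 3, Int.negSucc 20, Int.ofNat 1247, Int.ofNat 25, Int.negSucc 149, Int.ofNat 0, Int.negSucc 819]) (ZT.leaf []))))) (ZT.node 4157 (ZT.node 4154 (ZT.node 4153 (ZT.leaf [Int.ofNat 934, Int.ofNat 345, Int.negSucc 226, Int.ofNat 62, Int.ofNat 2, Int.ofNat 124, Int.ofNat 11, Int.negSucc 27, Int.ofNat 1, Int.ofNat 0, Int.ofNat 0, Int.ofNat 0, Int.ofNat 0, Int.ofNat 1, Int.negSucc 97, Int.negSucc 1, Int.ofNat 22, Int.ofNat 0, Int.ofNat 102]) (ZT.leaf [])) (ZT.node 4155 (ZT.leaf [Int.ofNat 235, Int.ofNat 1436, Int.negSucc 98, Int.ofNat 262, Int.ofNat 6, Int.ofNat 251, Int.ofNat 48, Int.negSucc 114, Int.negSucc 27, Int.ofNat 0, Int.ofNat 0, Int.ofNat 0, Int.negSucc 4, Int.ofNat 10, Int.negSucc 450, Int.negSucc 17, Int.ofNat 34, Int.ofNat 0, Int.ofNat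 226]) (ZT.node 4156 (ZT.leaf [Int.ofNat 1010, Int.ofNat 223, Int.negSucc 268, Int.ofNat 50, Int.ofNat 1, Int.ofNat 117, Int.ofNat 3, Int.negSucc 10, Int.ofNat 7, Int.ofNat 0, Int.ofNat 0, Int.ofNat 0, Int.ofNat 2, Int.ofNat 0, Int.negSucc 73, Int.ofNat 0, Int.ofNat 16, Int.ofNat 0, Int.ofNat 96]) (ZT.leaf [])))) (ZT.node 4160 (ZT.node 4158 (ZT.leaf [Int.negSucc 797, Int.negSucc 349, Int.ofNat 174, Int.negSucc 48, Int.negSucc 0, Int.negSucc 97, Int.negSucc 15, Int.ofNat 28, Int.ofNat 5, Int.ofNat 0, Int.ofNat 0, Int.ofNat 0, Int.negSucc 1, Int.negSucc 0, Int.ofNat 121, Int.ofNat 0, Int.negSucc 13, Int.ofNat 0, Int.negSucc 91]) (ZT.node 4159 (ZT.leaf [Int.ofNat 1]) (ZT.leaf [Int.ofNat 394, Int.ofNat 240, Int.negSucc 64, Int.ofNat 28, Int.ofNat 1, Int.ofNat 39, Int.ofNat 19, Int.negSucc 26, Int.negSucc 10, Int.ofNat 0, Int.ofNat 0, Int.ofNat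 0, Int.ofNat 2, Int.negSucc 0, Int.negSucc 92, Int.ofNat 0, Int.ofNat 9, Int.ofNat 0, Int.ofNat 48]))) (ZT.node 4161 (ZT.leaf [Int.negSucc 6618, Int.negSucc 5493, Int.ofNat 1555, Int.negSucc 914, Int.negSucc 25, Int.negSucc 1244, Int.negSucc 257, Int.ofNat 494, Int.ofNat 112, Int.ofNat 1, Int.ofNat 0, Int.ofNat 1, Int.negSucc 5, Int.negSucc 18, Int.ofNat 1988, Int.ofNat 36, Int.negSucc 206, Int.ofNat 1, Int.negSucc 1163]) (ZT.node 4162 (ZT.leaf []) (ZT.leaf [Int.negSucc 112, Int.ofNat 32, Int.ofNat 24, Int.ofNat 8, Int.ofNat 1, Int.ofNat 2, Int.ofNat 5, Int.negSucc 12, Int.negSucc 2, Int.ofNat 0, Int.ofNat 0, Int.ofNat 0, Int.negSucc 3, Int.ofNat 0, Int.negSucc 22, Int.ofNat 0, Int.negSucc 0, Int.ofNat 0, Int.negSucc 1])))))) (ZT.node 4174 (ZT.node 4168 (ZT.node 4165 (ZT.node 4164 (ZT.leaf [Int.ofNat 4932, Int.ofNat 3326, Int.negSucc 1243,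 Int.ofNat 594, Int.ofNat 16, Int.ofNat 873, Int.ofNat 97, Int.negSucc 241, Int.negSucc 24, Int.negSucc 0, Int.ofNat 0, Int.ofNat 0, Int.ofNat 2, Int.ofNat 21, Int.negSucc 1097, Int.negSucc 22, Int.ofNat 143, Int.ofNat 0, Int.ofNat 762]) (ZT.leaf [Int.ofNat 791, Int.ofNat 2824, Int.negSucc 247, Int.ofNat 506, Int.ofNat 15, Int.ofNat 506, Int.ofNat 91, Int.negSucc 224, Int.negSucc 52, Int.negSucc 0, Int.ofNat 0, Int.ofNat 0, Int.negSucc 8, Int.ofNat 19, Int.negSucc 885, Int.negSucc 31, Int.ofNat 78, Int.ofNat 0, Int.ofNat 452])) (ZT.node 4166 (ZT.leaf []) (ZT.node 4167 (ZT.leaf [Int.ofNat 3351, Int.ofNat 1899, Int.negSucc 754, Int.ofNat 303, Int.ofNat 9, Int.ofNat 478, Int.ofNat 105, Int.negSucc 184, Int.negSucc 41, Int.ofNat 0, Int.ofNat 0, Int.negSucc 0, Int.ofNat 5, Int.ofNat 4, Int.negSucc 724, Int.negSucc 5, Int.ofNat 88, Int.negSucc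 0, Int.ofNat 456]) (ZT.leaf [Int.ofNat 388, Int.ofNat 146, Int.negSucc 87, Int.ofNat 23, Int.ofNat 1, Int.ofNat 44, Int.ofNat 4, Int.negSucc 6, Int.ofNat 0, Int.ofNat 0, Int.ofNat 0, Int.ofNat 0, Int.ofNat 2, Int.ofNat 1, Int.negSucc 46, Int.ofNat 0, Int.ofNat 6, Int.ofNat 0, Int.ofNat 39])))) (ZT.node 4171 (ZT.node 4169 (ZT.leaf [Int.ofNat 1327, Int.ofNat 736, Int.negSucc 317, Int.ofNat 122, Int.ofNat 3, Int.ofNat 200, Int.ofNat 28, Int.negSucc 66, Int.negSucc 9, Int.ofNat 0, Int.ofNat 0, Int.ofNat 0, Int.ofNat 0, Int.ofNat 3, Int.negSucc 253, Int.negSucc 1, Int.ofNat 37, Int.ofNat 0, Int.ofNat 183]) (ZT.node 4170 (ZT.leaf [Int.negSucc 215, Int.ofNat 641, Int.negSucc 8, Int.ofNat 139, Int.ofNat 6, Int.ofNat 116, Int.ofNat 15, Int.negSucc 61, Int.negSucc 11, Int.ofNat 0, Int.ofNat 0, Int.ofNat 0, Int.negSucc 9, Int.ofNat 4, Int.negSucc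 192, Int.negSucc 7, Int.ofNat 25, Int.ofNat 0, Int.ofNat 96]) (ZT.leaf []))) (ZT.node 4172 (ZT.leaf [Int.ofNat 2686, Int.ofNat 1512, Int.negSucc 634, Int.ofNat 250, Int.ofNat 6, Int.ofNat 404, Int.ofNat 54, Int.negSucc 114, Int.negSucc 14, Int.negSucc 0, Int.ofNat 0, Int.ofNat 0, Int.ofNat 6, Int.ofNat 7, Int.negSucc 501, Int.negSucc 6, Int.ofNat 62, Int.ofNat 0, Int.ofNat 363]) (ZT.node 4173 (ZT.leaf []) (ZT.leaf [Int.ofNat 4237, Int.ofNat 2608, Int.negSucc 982, Int.ofNat 424, Int.ofNat 9, Int.ofNat 659, Int.ofNat 93, Int.negSucc 191, Int.negSucc 29, Int.negSucc 0, Int.ofNat 0, Int.ofNat 0, Int.ofNat 12, Int.ofNat 14, Int.negSucc 895, Int.negSucc 14, Int.ofNat 106, Int.ofNat 0, Int.ofNat 595]))))) (ZT.node 4180 (ZT.node 4177 (ZT.node 4175 (ZT.leaf []) (ZT.node 4176 (ZT.leaf [Int.ofNat 8075, Int.ofNat 5319, Int.negSucc 1994, Int.ofNat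 927, Int.ofNat 23, Int.ofNat 1396, Int.ofNat 173, Int.negSucc 406, Int.negSucc 48, Int.negSucc 0, Int.ofNat 0, Int.ofNat 0, Int.ofNat 6, Int.ofNat 31, Int.negSucc 1777, Int.negSucc 33, Int.ofNat 222, Int.ofNat 0, Int.ofNat 1226]) (ZT.leaf [Int.negSucc 2850, Int.negSucc 1635, Int.ofNat 700, Int.negSucc 283, Int.negSucc 6, Int.negSucc 457, Int.negSucc 57, Int.ofNat 136, Int.ofNat 17, Int.ofNat 1, Int.ofNat 0, Int.ofNat 0, Int.negSucc 1, Int.negSucc 6, Int.ofNat 573, Int.ofNat 8, Int.negSucc 69, Int.ofNat 0, Int.negSucc 401]))) (ZT.node 4178 (ZT.leaf [Int.ofNat 990, Int.ofNat 481, Int.negSucc 216, Int.ofNat 71, Int.ofNat 2, Int.ofNat 125, Int.ofNat 15, Int.negSucc 25, Int.negSucc 1, Int.ofNat 0, Int.ofNat 0, Int.ofNat 0, Int.ofNat 5, Int.ofNat 3, Int.negSucc 153, Int.negSucc 2, Int.ofNat 21, Int.ofNat 0, Int.ofNat 114]) (ZT.node 4179 (ZT.leaf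 [Int.negSucc 142, Int.ofNat 63, Int.ofNat 82, Int.negSucc 16, Int.negSucc 0, Int.negSucc 38, Int.ofNat 8, Int.negSucc 1, Int.negSucc 7, Int.ofNat 0, Int.ofNat 0, Int.ofNat 0, Int.ofNat 5, Int.ofNat 0, Int.negSucc 18, Int.ofNat 0, Int.negSucc 0, Int.ofNat 0, Int.negSucc 16]) (ZT.leaf [Int.ofNat 2560, Int.ofNat 1487, Int.negSucc 595, Int.ofNat 241, Int.ofNat 6, Int.ofNat 384, Int.ofNat 52, Int.negSucc 112, Int.negSucc 16, Int.negSucc 0, Int.ofNat 0, Int.ofNat 0, Int.ofNat 7, Int.ofNat 7, Int.negSucc 503, Int.negSucc 6, Int.ofNat 64, Int.ofNat 0, Int.ofNat 348])))) (ZT.node 4183 (ZT.node 4181 (ZT.leaf [Int.ofNat 1]) (ZT.node 4182 (ZT.leaf [Int.ofNat 0, Int.negSucc 0]) (ZT.leaf [Int.ofNat 518, Int.ofNat 213, Int.negSucc 113, Int.ofNat 31, Int.ofNat 0, Int.ofNat 64, Int.ofNat 9, Int.negSucc 9, Int.negSucc 1, Int.ofNat 1, Int.ofNat 0, Int.ofNat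 0, Int.ofNat 4, Int.ofNat 1, Int.negSucc 79, Int.ofNat 2, Int.ofNat 10, Int.ofNat 0, Int.ofNat 57]))) (ZT.node 4184 (ZT.leaf [Int.negSucc 5931, Int.negSucc 3810, Int.ofNat 1493, Int.negSucc 685, Int.negSucc 17, Int.negSucc 1017, Int.negSucc 113, Int.ofNat 271, Int.ofNat 23, Int.ofNat 0, Int.ofNat 0, Int.ofNat 0, Int.negSucc 4, Int.negSucc 21, Int.ofNat 1206, Int.ofNat 28, Int.negSucc 145, Int.ofNat 0, Int.negSucc 884]) (ZT.node 4185 (ZT.leaf [Int.ofNat 1]) (ZT.leaf [Int.negSucc 12, Int.ofNat 13, Int.ofNat 9, Int.negSucc 0, Int.ofNat 0, Int.negSucc 2, Int.ofNat 1, Int.ofNat 1, Int.negSucc 0, Int.ofNat 0, Int.ofNat 0, Int.ofNat 0, Int.ofNat 1, Int.ofNat 0, Int.negSucc 3, Int.ofNat 0, Int.negSucc 0, Int.ofNat 0, Int.negSucc 1])))))))) (ZT.node 4231 (ZT.node 4208 (ZT.node 4197 (ZT.node 4191 (ZT.node 4188 (ZT.node 4187 (ZT.leaf [Int.negSucc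 3349, Int.negSucc 1898, Int.ofNat 755, Int.negSucc 302, Int.negSucc 8, Int.negSucc 477, Int.negSucc 104, Int.ofNat 185, Int.ofNat 42, Int.ofNat 0, Int.ofNat 0, Int.ofNat 1, Int.negSucc 4, Int.negSucc 3, Int.ofNat 725, Int.ofNat 6, Int.negSucc 87, Int.ofNat 1, Int.negSucc 455]) (ZT.leaf [Int.ofNat 0, Int.negSucc 0])) (ZT.node 4189 (ZT.leaf []) (ZT.node 4190 (ZT.leaf [Int.negSucc 3582, Int.negSucc 4032, Int.ofNat 889, Int.negSucc 695, Int.negSucc 20, Int.negSucc 856, Int.negSucc 146, Int.ofNat 333, Int.ofNat 73, Int.ofNat 1, Int.ofNat 0, Int.ofNat 1, Int.ofNat 3, Int.negSucc 24, Int.ofNat 1364, Int.ofNat 35, Int.negSucc 147, Int.ofNat 1, Int.negSucc 782]) (ZT.leaf [Int.ofNat 1])))) (ZT.node 4194 (ZT.node 4192 (ZT.leaf [Int.ofNat 1]) (ZT.node 4193 (ZT.leaf [Int.ofNat 5, Int.negSucc 97, Int.ofNat 13, Int.negSucc 23, Int.negSucc 1, Int.negSucc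 21, Int.negSucc 0, Int.ofNat 8, Int.ofNat 2, Int.ofNat 0, Int.ofNat 0, Int.ofNat 0, Int.ofNat 2, Int.ofNat 0, Int.ofNat 23, Int.ofNat 2, Int.ofNat 0, Int.ofNat 0, Int.negSucc 14]) (ZT.leaf [Int.ofNat 467, Int.ofNat 135, Int.negSucc 150, Int.ofNat 44, Int.ofNat 2, Int.ofNat 84, Int.negSucc 0, Int.negSucc 9, Int.ofNat 5, Int.ofNat 0, Int.ofNat 0, Int.ofNat 0, Int.negSucc 2, Int.ofNat 1, Int.negSucc 48, Int.negSucc 0, Int.ofNat 9, Int.ofNat 0, Int.ofNat 59]))) (ZT.node 4195 (ZT.leaf []) (ZT.node 4196 (ZT.leaf [Int.ofNat 5270, Int.ofNat 530, Int.negSucc 1135, Int.negSucc 0, Int.negSucc 7, Int.ofNat 406, Int.ofNat 41, Int.negSucc 3, Int.ofNat 28, Int.ofNat 0, Int.ofNat 0, Int.ofNat 0, Int.ofNat 29, Int.ofNat 7, Int.negSucc 258, Int.ofNat 15, Int.ofNat 55, Int.ofNat 0, Int.ofNat 362]) (ZT.leaf [Int.negSucc 72, Int.ofNat 202, Int.ofNat 54, Int.ofNat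 15, Int.negSucc 0, Int.negSucc 4, Int.ofNat 15, Int.negSucc 20, Int.negSucc 10, Int.ofNat 0, Int.ofNat 0, Int.ofNat 0, Int.ofNat 2, Int.ofNat 1, Int.negSucc 63, Int.negSucc 0, Int.ofNat 3, Int.ofNat 0, Int.ofNat 13]))))) (ZT.node 4202 (ZT.node 4199 (ZT.node 4198 (ZT.leaf [Int.ofNat 884, Int.negSucc 344, Int.negSucc 179, Int.negSucc 78, Int.negSucc 3, Int.ofNat 0, Int.negSucc 6, Int.ofNat 25, Int.ofNat 13, Int.ofNat 1, Int.ofNat 0, Int.ofNat 0, Int.ofNat 3, Int.negSucc 3, Int.ofNat 47, Int.ofNat 11, Int.ofNat 17, Int.ofNat 0, Int.ofNat 4]) (ZT.leaf [Int.ofNat 525, Int.ofNat 336, Int.negSucc 98, Int.ofNat 44, Int.ofNat 1, Int.ofNat 56, Int.ofNat 31, Int.negSucc 48, Int.negSucc 18, Int.ofNat 0, Int.ofNat 0, Int.ofNat 0, Int.ofNat 2, Int.negSucc 1, Int.negSucc 153, Int.ofNat 2, Int.ofNat 25, Int.ofNat 0, Int.ofNat 74])) (ZT.node 4200 (ZT.leaf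 [Int.ofNat 111, Int.ofNat 101, Int.ofNat 9, Int.negSucc 5, Int.negSucc 0, Int.ofNat 0, Int.ofNat 5, Int.negSucc 3, Int.negSucc 4, Int.ofNat 0, Int.ofNat 0, Int.ofNat 0, Int.ofNat 3, Int.ofNat 1, Int.negSucc 51, Int.ofNat 1, Int.ofNat 6, Int.ofNat 0, Int.ofNat 10]) (ZT.node 4201 (ZT.leaf []) (ZT.leaf [])))) (ZT.node 4205 (ZT.node 4203 (ZT.leaf [Int.ofNat 1283, Int.ofNat 632, Int.negSucc 320, Int.ofNat 114, Int.ofNat 3, Int.ofNat 199, Int.ofNat 21, Int.negSucc 48, Int.negSucc 1, Int.ofNat 0, Int.ofNat 0, Int.ofNat 0, Int.ofNat 0, Int.ofNat 3, Int.negSucc 222, Int.negSucc 3, Int.ofNat 27, Int.ofNat 0, Int.ofNat 168]) (ZT.node 4204 (ZT.leaf [Int.negSucc 566, Int.negSucc 161, Int.ofNat 132, Int.negSucc 24, Int.ofNat 0, Int.negSucc 63, Int.negSucc 1, Int.ofNat 7, Int.negSucc 2, Int.ofNat 0, Int.ofNat 0, Int.ofNat 0, Int.negSucc 1, Int.negSucc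 0, Int.ofNat 46, Int.ofNat 0, Int.negSucc 9, Int.ofNat 0, Int.negSucc 53]) (ZT.leaf []))) (ZT.node 4206 (ZT.leaf []) (ZT.node 4207 (ZT.leaf [Int.ofNat 1]) (ZT.leaf [Int.ofNat 196, Int.ofNat 415, Int.ofNat 1, Int.ofNat 43, Int.ofNat 1, Int.ofNat 44, Int.ofNat 30, Int.negSucc 46, Int.negSucc 18, Int.ofNat 0, Int.ofNat 0, Int.ofNat 0, Int.ofNat 2, Int.ofNat 0, Int.negSucc 148, Int.negSucc 1, Int.ofNat 7, Int.ofNat 0, Int.ofNat 58])))))) (ZT.node 4219 (ZT.node 4213 (ZT.node 4210 (ZT.node 4209 (ZT.leaf []) (ZT.leaf [Int.ofNat 1050, Int.ofNat 435, Int.negSucc 230, Int.ofNat 63, Int.ofNat 2, Int.ofNat 119, Int.ofNat 17, Int.negSucc 30, Int.negSucc 5, Int.ofNat 0, Int.ofNat 0, Int.ofNat 0, Int.ofNat 4, Int.ofNat 1, Int.negSucc 154, Int.ofNat 0, Int.ofNat 20, Int.ofNat 0, Int.ofNat 114])) (ZT.node 4211 (ZT.leaf [Int.ofNat 180, Int.ofNat 8, Int.negSucc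 57, Int.ofNat 9, Int.negSucc 1, Int.ofNat 22, Int.negSucc 11, Int.ofNat 19, Int.ofNat 9, Int.ofNat 0, Int.ofNat 0, Int.ofNat 0, Int.ofNat 3, Int.ofNat 2, Int.ofNat 41, Int.ofNat 0, Int.negSucc 5, Int.ofNat 0, Int.ofNat 13]) (ZT.node 4212 (ZT.leaf [Int.negSucc 28, Int.ofNat 197, Int.ofNat 29, Int.ofNat 23, Int.ofNat 2, Int.ofNat 13, Int.ofNat 20, Int.negSucc 30, Int.negSucc 15, Int.ofNat 0, Int.ofNat 0, Int.ofNat 0, Int.ofNat 2, Int.negSucc 1, Int.negSucc 129, Int.ofNat 1, Int.ofNat 15, Int.ofNat 0, Int.ofNat 29]) (ZT.leaf [Int.negSucc 1535, Int.negSucc 1051, Int.ofNat 438, Int.negSucc 218, Int.negSucc 6, Int.negSucc 303, Int.negSucc 27, Int.ofNat 85, Int.ofNat 5, Int.ofNat 0, Int.ofNat 0, Int.ofNat 0, Int.ofNat 6, Int.negSucc 1, Int.ofNat 356, Int.ofNat 6, Int.negSucc 45, Int.ofNat 0, Int.negSucc 252])))) (ZT.node 4216 (ZT.node 4214 (ZT.leaf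 [Int.ofNat 251, Int.ofNat 84, Int.negSucc 56, Int.ofNat 14, Int.ofNat 1, Int.ofNat 21, Int.ofNat 1, Int.negSucc 2, Int.negSucc 0, Int.ofNat 0, Int.ofNat 0, Int.ofNat 0, Int.ofNat 2, Int.ofNat 0, Int.negSucc 33, Int.ofNat 0, Int.ofNat 6, Int.ofNat 0, Int.ofNat 22]) (ZT.node 4215 (ZT.leaf []) (ZT.leaf []))) (ZT.node 4217 (ZT.leaf [Int.negSucc 21164, Int.negSucc 6509, Int.ofNat 4491, Int.negSucc 828, Int.negSucc 26, Int.negSucc 2038, Int.negSucc 382, Int.ofNat 532, Int.ofNat 98, Int.negSucc 2, Int.ofNat 3, Int.ofNat 1, Int.negSucc 91, Int.negSucc 3, Int.ofNat 3126, Int.negSucc 36, Int.negSucc 417, Int.ofNat 2, Int.negSucc 1999]) (ZT.node 4218 (ZT.leaf []) (ZT.leaf [Int.ofNat 1]))))) (ZT.node 4225 (ZT.node 4222 (ZT.node 4220 (ZT.leaf [Int.ofNat 1, Int.ofNat 1]) (ZT.node 4221 (ZT.leaf []) (ZT.leaf [Int.ofNat 0, Int.negSucc 0]))) (ZT.node 4223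 (ZT.leaf [Int.ofNat 5, Int.ofNat 2, Int.negSucc 0, Int.ofNat 0, Int.ofNat 0, Int.ofNat 0, Int.ofNat 0, Int.negSucc 0, Int.ofNat 0, Int.ofNat 0, Int.ofNat 0, Int.ofNat 0, Int.ofNat 0, Int.ofNat 0, Int.ofNat 0, Int.ofNat 0, Int.ofNat 0, Int.ofNat 0, Int.ofNat 0]) (ZT.node 4224 (ZT.leaf [Int.negSucc 4, Int.negSucc 2, Int.ofNat 1, Int.ofNat 0, Int.ofNat 0, Int.ofNat 0, Int.ofNat 0, Int.ofNat 1, Int.ofNat 0, Int.ofNat 0, Int.ofNat 0, Int.ofNat 0, Int.ofNat 0, Int.ofNat 0, Int.ofNat 0, Int.ofNat 0, Int.ofNat 0, Int.ofNat 0, Int.ofNat 0]) (ZT.leaf [Int.ofNat 1])))) (ZT.node 4228 (ZT.node 4226 (ZT.leaf []) (ZT.node 4227 (ZT.leaf []) (ZT.leaf [Int.ofNat 3720, Int.ofNat 3790, Int.negSucc 906, Int.ofNat 645, Int.ofNat 17, Int.ofNat 822, Int.ofNat 165, Int.negSucc 320, Int.negSucc 70, Int.negSucc 0, Int.ofNat 0, Int.negSucc 0, Int.ofNat 2, Int.ofNat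 17, Int.negSucc 1336, Int.negSucc 31, Int.ofNat 117, Int.negSucc 0, Int.ofNat 760]))) (ZT.node 4229 (ZT.leaf [Int.negSucc 6732, Int.negSucc 5515, Int.ofNat 1583, Int.negSucc 918, Int.negSucc 25, Int.negSucc 1255, Int.negSucc 257, Int.ofNat 495, Int.ofNat 111, Int.ofNat 1, Int.ofNat 0, Int.ofNat 1, Int.negSucc 5, Int.negSucc 18, Int.ofNat 1992, Int.ofNat 36, Int.negSucc 207, Int.ofNat 1, Int.negSucc 1172]) (ZT.node 4230 (ZT.leaf []) (ZT.leaf [Int.negSucc 5126, Int.negSucc 3739, Int.ofNat 1243, Int.negSucc 636, Int.negSucc 16, Int.negSucc 916, Int.negSucc 126, Int.ofNat 289, Int.ofNat 44, Int.ofNat 1, Int.ofNat 0, Int.ofNat 0, Int.negSucc 3, Int.negSucc 20, Int.ofNat 1247, Int.ofNat 25, Int.negSucc 149, Int.ofNat 0, Int.negSucc 819]))))))) (ZT.node 4253 (ZT.node 4242 (ZT.node 4236 (ZT.node 4233 (ZT.node 4232 (ZT.leaf []) (ZT.leaf [Int.negSucc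 269, Int.negSucc 75, Int.ofNat 66, Int.negSucc 14, Int.negSucc 0, Int.negSucc 23, Int.negSucc 0, Int.ofNat 5, Int.ofNat 0, Int.ofNat 0, Int.ofNat 0, Int.ofNat 0, Int.negSucc 0, Int.ofNat 0, Int.ofNat 30, Int.ofNat 0, Int.negSucc 7, Int.ofNat 0, Int.negSucc 23])) (ZT.node 4234 (ZT.leaf [Int.ofNat 1]) (ZT.node 4235 (ZT.leaf []) (ZT.leaf [])))) (ZT.node 4239 (ZT.node 4237 (ZT.leaf [Int.negSucc 7876, Int.negSucc 5143, Int.ofNat 1946, Int.negSucc 889, Int.negSucc 20, Int.negSucc 1345, Int.negSucc 152, Int.ofNat 378, Int.ofNat 45, Int.ofNat 0, Int.ofNat 0, Int.ofNat 0, Int.negSucc 7, Int.negSucc 22, Int.ofNat 1667, Int.ofNat 28, Int.negSucc 197, Int.ofNat 0, Int.negSucc 1169]) (ZT.node 4238 (ZT.leaf []) (ZT.leaf [Int.negSucc 3420, Int.negSucc 3624, Int.ofNat 839, Int.negSucc 617, Int.negSucc 15, Int.negSucc 781, Int.negSucc 153, Int.ofNat 312,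 Int.ofNat 69, Int.ofNat 1, Int.ofNat 0, Int.ofNat 0, Int.negSucc 0, Int.negSucc 14, Int.ofNat 1271, Int.ofNat 30, Int.negSucc 120, Int.ofNat 0, Int.negSucc 720]))) (ZT.node 4240 (ZT.leaf [Int.ofNat 3422, Int.ofNat 3626, Int.negSucc 838, Int.ofNat 618, Int.ofNat 16, Int.ofNat 782, Int.ofNat 154, Int.negSucc 311, Int.negSucc 68, Int.negSucc 0, Int.ofNat 0, Int.ofNat 0, Int.ofNat 1, Int.ofNat 15, Int.negSucc 1270, Int.negSucc 29, Int.ofNat 121, Int.ofNat 0, Int.ofNat 721]) (ZT.node 4241 (ZT.leaf []) (ZT.leaf []))))) (ZT.node 4247 (ZT.node 4244 (ZT.node 4243 (ZT.leaf [Int.negSucc 218, Int.negSucc 82, Int.ofNat 44, Int.negSucc 9, Int.ofNat 0, Int.negSucc 21, Int.negSucc 1, Int.ofNat 5, Int.ofNat 1, Int.ofNat 0, Int.ofNat 0, Int.ofNat 0, Int.negSucc 0, Int.ofNat 0, Int.ofNat 28, Int.ofNat 0, Int.negSucc 4, Int.ofNat 0, Int.negSucc 20]) (ZT.leaf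 [Int.negSucc 1328, Int.negSucc 735, Int.ofNat 318, Int.negSucc 121, Int.negSucc 2, Int.negSucc 198, Int.negSucc 27, Int.ofNat 67, Int.ofNat 10, Int.ofNat 0, Int.ofNat 0, Int.ofNat 0, Int.ofNat 0, Int.negSucc 2, Int.ofNat 254, Int.ofNat 2, Int.negSucc 36, Int.ofNat 0, Int.negSucc 182])) (ZT.node 4245 (ZT.leaf [Int.negSucc 386, Int.negSucc 145, Int.ofNat 88, Int.negSucc 22, Int.negSucc 0, Int.negSucc 43, Int.negSucc 3, Int.ofNat 7, Int.ofNat 0, Int.ofNat 0, Int.ofNat 0, Int.ofNat 0, Int.negSucc 1, Int.negSucc 0, Int.ofNat 47, Int.ofNat 0, Int.negSucc 5, Int.ofNat 0, Int.negSucc 38]) (ZT.node 4246 (ZT.leaf [Int.negSucc 1100, Int.ofNat 147, Int.ofNat 229, Int.ofNat 40, Int.ofNat 4, Int.negSucc 43, Int.negSucc 1, Int.negSucc 15, Int.negSucc 12, Int.ofNat 0, Int.ofNat 0, Int.ofNat 0, Int.negSucc 4, Int.ofNat 4, Int.negSucc 65, Int.negSucc 4,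 Int.ofNat 11, Int.ofNat 0, Int.negSucc 33]) (ZT.leaf [Int.ofNat 1])))) (ZT.node 4250 (ZT.node 4248 (ZT.leaf [Int.ofNat 1, Int.ofNat 1]) (ZT.node 4249 (ZT.leaf [Int.ofNat 109, Int.negSucc 95, Int.negSucc 26, Int.negSucc 18, Int.negSucc 0, Int.ofNat 9, Int.ofNat 2, Int.ofNat 4, Int.ofNat 3, Int.ofNat 0, Int.ofNat 0, Int.ofNat 0, Int.ofNat 0, Int.negSucc 1, Int.ofNat 17, Int.ofNat 2, Int.negSucc 4, Int.ofNat 0, Int.negSucc 0]) (ZT.leaf [Int.ofNat 1]))) (ZT.node 4251 (ZT.leaf [Int.ofNat 2084, Int.ofNat 1353, Int.negSucc 491, Int.ofNat 227, Int.ofNat 6, Int.ofNat 339, Int.ofNat 53, Int.negSucc 108, Int.negSucc 17, Int.negSucc 0, Int.ofNat 0, Int.ofNat 0, Int.ofNat 4, Int.ofNat 6, Int.negSucc 455, Int.negSucc 6, Int.ofNat 49, Int.ofNat 0, Int.ofNat 307]) (ZT.node 4252 (ZT.leaf [Int.ofNat 6360, Int.ofNat 4320, Int.negSucc 1528, Int.ofNat 727,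 Int.ofNat 18, Int.ofNat 1074, Int.ofNat 140, Int.negSucc 328, Int.negSucc 49, Int.negSucc 0, Int.ofNat 0, Int.ofNat 0, Int.ofNat 10, Int.ofNat 24, Int.negSucc 1430, Int.negSucc 25, Int.ofNat 181, Int.ofNat 0, Int.ofNat 964]) (ZT.leaf [Int.ofNat 5583, Int.ofNat 3349, Int.negSucc 1305, Int.ofNat 547, Int.ofNat 12, Int.ofNat 862, Int.ofNat 121, Int.negSucc 259, Int.negSucc 39, Int.negSucc 0, Int.ofNat 0, Int.ofNat 0, Int.ofNat 12, Int.ofNat 17, Int.negSucc 1152, Int.negSucc 16, Int.ofNat 144, Int.ofNat 0, Int.ofNat 781])))))) (ZT.node 4264 (ZT.node 4258 (ZT.node 4255 (ZT.node 4254 (ZT.leaf [Int.negSucc 4454, Int.negSucc 2681, Int.ofNat 1044, Int.negSucc 440, Int.negSucc 8, Int.negSucc 694, Int.negSucc 98, Int.ofNat 206, Int.ofNat 31, Int.ofNat 0, Int.ofNat 0, Int.ofNat 0, Int.negSucc 10, Int.negSucc 12, Int.ofNat 936, Int.ofNat 14, Int.negSucc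 113, Int.ofNat 0, Int.negSucc 625]) (ZT.leaf [Int.negSucc 882, Int.ofNat 345, Int.ofNat 180, Int.ofNat 79, Int.ofNat 4, Int.ofNat 0, Int.ofNat 7, Int.negSucc 24, Int.negSucc 12, Int.negSucc 0, Int.ofNat 0, Int.ofNat 0, Int.negSucc 2, Int.ofNat 4, Int.negSucc 46, Int.negSucc 10, Int.negSucc 16, Int.ofNat 0, Int.negSucc 3])) (ZT.node 4256 (ZT.leaf [Int.negSucc 1302, Int.ofNat 106, Int.ofNat 288, Int.ofNat 36, Int.ofNat 1, Int.negSucc 77, Int.negSucc 1, Int.negSucc 0, Int.negSucc 11, Int.negSucc 0, Int.ofNat 0, Int.ofNat 0, Int.ofNat 0, Int.ofNat 2, Int.ofNat 24, Int.negSucc 7, Int.negSucc 22, Int.ofNat 0, Int.negSucc 63]) (ZT.node 4257 (ZT.leaf [Int.negSucc 1483, Int.negSucc 2500, Int.ofNat 359, Int.negSucc 420, Int.negSucc 10, Int.negSucc 469, Int.negSucc 84, Int.ofNat 199, Int.ofNat 49, Int.ofNat 1, Int.ofNat 0, Int.ofNat 0, Int.ofNat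 0, Int.negSucc 16, Int.ofNat 824, Int.ofNat 24, Int.negSucc 79, Int.ofNat 0, Int.negSucc 431]) (ZT.leaf [Int.ofNat 1])))) (ZT.node 4261 (ZT.node 4259 (ZT.leaf []) (ZT.node 4260 (ZT.leaf [Int.negSucc 6649, Int.negSucc 3603, Int.ofNat 1569, Int.negSucc 594, Int.negSucc 15, Int.negSucc 992, Int.negSucc 142, Int.ofNat 292, Int.ofNat 40, Int.ofNat 0, Int.ofNat 0, Int.ofNat 0, Int.negSucc 11, Int.negSucc 12, Int.ofNat 1302, Int.ofNat 20, Int.negSucc 158, Int.ofNat 0, Int.negSucc 892]) (ZT.leaf [Int.ofNat 2850, Int.ofNat 1635, Int.negSucc 699, Int.ofNat 284, Int.ofNat 7, Int.ofNat 458, Int.ofNat 58, Int.negSucc 135, Int.negSucc 16, Int.negSucc 0, Int.ofNat 0, Int.ofNat 0, Int.ofNat 2, Int.ofNat 7, Int.negSucc 572, Int.negSucc 7, Int.ofNat 70, Int.ofNat 0, Int.ofNat 402]))) (ZT.node 4262 (ZT.leaf [Int.negSucc 2849, Int.negSucc 1635, Int.ofNat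 700, Int.negSucc 283, Int.negSucc 6, Int.negSucc 457, Int.negSucc 57, Int.ofNat 136, Int.ofNat 17, Int.ofNat 1, Int.ofNat 0, Int.ofNat 0, Int.negSucc 1, Int.negSucc 6, Int.ofNat 573, Int.ofNat 8, Int.negSucc 69, Int.ofNat 0, Int.negSucc 401]) (ZT.node 4263 (ZT.leaf [Int.ofNat 664, Int.ofNat 283, Int.negSucc 147, Int.ofNat 44, Int.ofNat 1, Int.ofNat 80, Int.ofNat 8, Int.negSucc 13, Int.ofNat 1, Int.ofNat 0, Int.ofNat 0, Int.ofNat 0, Int.ofNat 3, Int.ofNat 2, Int.negSucc 85, Int.negSucc 1, Int.ofNat 13, Int.ofNat 0, Int.ofNat 72]) (ZT.leaf [Int.negSucc 1783, Int.negSucc 1210, Int.ofNat 467, Int.negSucc 222, Int.negSucc 3, Int.negSucc 334, Int.negSucc 37, Int.ofNat 100, Int.ofNat 11, Int.ofNat 0, Int.ofNat 0, Int.ofNat 0, Int.ofNat 1, Int.negSucc 5, Int.ofNat 400, Int.ofNat 7, Int.negSucc 50, Int.ofNat 0, Int.negSucc 286]))))) (ZT.node 4270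 (ZT.node 4267 (ZT.node 4265 (ZT.leaf []) (ZT.node 4266 (ZT.leaf [Int.ofNat 29, Int.ofNat 7, Int.negSucc 4, Int.ofNat 1, Int.ofNat 0, Int.ofNat 1, Int.ofNat 0, Int.ofNat 0, Int.ofNat 0, Int.ofNat 0, Int.ofNat 0, Int.ofNat 0, Int.ofNat 0, Int.ofNat 1, Int.negSucc 4, Int.ofNat 0, Int.ofNat 0, Int.ofNat 0, Int.ofNat 2]) (ZT.leaf [Int.ofNat 1004, Int.ofNat 522, Int.negSucc 198, Int.ofNat 65, Int.ofNat 3, Int.ofNat 116, Int.ofNat 27, Int.negSucc 40, Int.negSucc 11, Int.negSucc 0, Int.ofNat 0, Int.ofNat 0, Int.ofNat 5, Int.ofNat 2, Int.negSucc 199, Int.negSucc 1, Int.ofNat 17, Int.ofNat 0, Int.ofNat 116]))) (ZT.node 4268 (ZT.leaf [Int.negSucc 1019, Int.negSucc 360, Int.ofNat 235, Int.negSucc 52, Int.ofNat 0, Int.negSucc 128, Int.negSucc 14, Int.ofNat 27, Int.negSucc 0, Int.ofNat 0, Int.ofNat 0, Int.ofNat 0, Int.negSucc 1, Int.negSucc 0, Int.ofNat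 117, Int.negSucc 0, Int.negSucc 12, Int.ofNat 0, Int.negSucc 108]) (ZT.node 4269 (ZT.leaf []) (ZT.leaf [Int.negSucc 518, Int.negSucc 208, Int.ofNat 115, Int.negSucc 30, Int.ofNat 0, Int.negSucc 63, Int.negSucc 7, Int.ofNat 10, Int.ofNat 2, Int.negSucc 0, Int.ofNat 0, Int.ofNat 0, Int.negSucc 3, Int.negSucc 0, Int.ofNat 80, Int.negSucc 1, Int.negSucc 9, Int.ofNat 0, Int.negSucc 56])))) (ZT.node 4273 (ZT.node 4271 (ZT.leaf [Int.negSucc 81, Int.negSucc 26, Int.ofNat 22, Int.negSucc 3, Int.ofNat 0, Int.negSucc 9, Int.ofNat 0, Int.ofNat 1, Int.ofNat 0, Int.ofNat 1, Int.ofNat 0, Int.ofNat 0, Int.ofNat 0, Int.ofNat 0, Int.ofNat 11, Int.ofNat 0, Int.negSucc 1, Int.ofNat 0, Int.negSucc 8]) (ZT.node 4272 (ZT.leaf []) (ZT.leaf [Int.ofNat 218, Int.ofNat 83, Int.negSucc 43, Int.ofNat 10, Int.ofNat 0, Int.ofNat 22, Int.ofNat 2, Int.negSucc 4, Int.negSucc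 0, Int.ofNat 0, Int.ofNat 0, Int.ofNat 0, Int.ofNat 1, Int.ofNat 0, Int.negSucc 27, Int.ofNat 0, Int.ofNat 5, Int.ofNat 0, Int.ofNat 21]))) (ZT.node 4274 (ZT.leaf [Int.negSucc 75, Int.negSucc 6, Int.ofNat 19, Int.negSucc 0, Int.ofNat 0, Int.negSucc 6, Int.ofNat 0, Int.ofNat 0, Int.negSucc 0, Int.ofNat 0, Int.ofNat 0, Int.ofNat 0, Int.ofNat 0, Int.ofNat 0, Int.negSucc 0, Int.ofNat 0, Int.ofNat 0, Int.ofNat 0, Int.negSucc 4]) (ZT.node 4275 (ZT.leaf [Int.ofNat 1]) (ZT.leaf [Int.ofNat 2, Int.ofNat 1, Int.ofNat 0, Int.ofNat 0, Int.ofNat 0, Int.ofNat 0, Int.ofNat 1]))))))))) (ZT.node 4366 (ZT.node 4321 (ZT.node 4298 (ZT.node 4287 (ZT.node 4281 (ZT.node 4278 (ZT.node 4277 (ZT.leaf [Int.ofNat 1641, Int.ofNat 191, Int.negSucc 329, Int.ofNat 4, Int.negSucc 2, Int.ofNat 100, Int.ofNat 33, Int.negSucc 32, Int.negSucc 5, Int.ofNat 0, Int.ofNat 0, Int.ofNat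 0, Int.ofNat 7, Int.negSucc 5, Int.negSucc 87, Int.ofNat 7, Int.ofNat 14, Int.ofNat 0, Int.ofNat 108]) (ZT.leaf [Int.negSucc 1992, Int.negSucc 1161, Int.ofNat 450, Int.negSucc 184, Int.negSucc 4, Int.negSucc 285, Int.negSucc 61, Int.ofNat 114, Int.ofNat 26, Int.ofNat 0, Int.ofNat 0, Int.ofNat 0, Int.negSucc 1, Int.negSucc 2, Int.ofNat 423, Int.ofNat 3, Int.negSucc 52, Int.ofNat 0, Int.negSucc 272])) (ZT.node 4279 (ZT.leaf [Int.ofNat 2, Int.ofNat 1, Int.ofNat 0, Int.ofNat 0, Int.ofNat 0, Int.negSucc 0]) (ZT.node 4280 (ZT.leaf [Int.ofNat 1]) (ZT.leaf [])))) (ZT.node 4284 (ZT.node 4282 (ZT.leaf [Int.ofNat 74, Int.ofNat 7, Int.negSucc 18, Int.ofNat 1, Int.ofNat 0, Int.ofNat 7, Int.ofNat 0, Int.ofNat 0, Int.ofNat 1, Int.ofNat 0, Int.ofNat 0, Int.ofNat 0, Int.ofNat 0, Int.ofNat 0, Int.ofNat 1, Int.ofNat 0, Int.ofNat 0, Int.ofNat 0, Int.ofNat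 5]) (ZT.node 4283 (ZT.leaf [Int.ofNat 1804, Int.ofNat 1207, Int.negSucc 436, Int.ofNat 206, Int.ofNat 5, Int.ofNat 313, Int.ofNat 43, Int.negSucc 81, Int.negSucc 11, Int.ofNat 0, Int.ofNat 0, Int.ofNat 0, Int.ofNat 6, Int.ofNat 7, Int.negSucc 411, Int.negSucc 3, Int.ofNat 39, Int.ofNat 0, Int.ofNat 273]) (ZT.leaf [Int.ofNat 1759, Int.ofNat 178, Int.negSucc 356, Int.ofNat 0, Int.negSucc 2, Int.ofNat 136, Int.ofNat 36, Int.negSucc 33, Int.ofNat 1, Int.ofNat 0, Int.ofNat 0, Int.ofNat 0, Int.ofNat 5, Int.negSucc 5, Int.negSucc 150, Int.ofNat 9, Int.ofNat 16, Int.ofNat 0, Int.ofNat 124]))) (ZT.node 4285 (ZT.leaf [Int.ofNat 1]) (ZT.node 4286 (ZT.leaf [Int.negSucc 1103, Int.negSucc 689, Int.ofNat 201, Int.negSucc 82, Int.negSucc 1, Int.negSucc 127, Int.negSucc 47, Int.ofNat 76, Int.ofNat 24, Int.ofNat 0, Int.ofNat 0, Int.ofNat 0, Int.negSucc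 3, Int.ofNat 0, Int.ofNat 264, Int.ofNat 0, Int.negSucc 34, Int.ofNat 0, Int.negSucc 143]) (ZT.leaf [Int.ofNat 772, Int.ofNat 394, Int.negSucc 160, Int.ofNat 54, Int.ofNat 1, Int.ofNat 97, Int.ofNat 18, Int.negSucc 29, Int.negSucc 2, Int.ofNat 0, Int.ofNat 0, Int.ofNat 0, Int.ofNat 2, Int.ofNat 2, Int.negSucc 125, Int.negSucc 1, Int.ofNat 11, Int.ofNat 0, Int.ofNat 91]))))) (ZT.node 4292 (ZT.node 4289 (ZT.node 4288 (ZT.leaf [Int.negSucc 488, Int.negSucc 281, Int.ofNat 104, Int.negSucc 39, Int.ofNat 0, Int.negSucc 68, Int.negSucc 13, Int.ofNat 26, Int.ofNat 4, Int.ofNat 0, Int.ofNat 0, Int.ofNat 0, Int.negSucc 0, Int.negSucc 1, Int.ofNat 105, Int.ofNat 1, Int.negSucc 11, Int.ofNat 0, Int.negSucc 65]) (ZT.leaf [Int.negSucc 3, Int.negSucc 11, Int.negSucc 4, Int.ofNat 1, Int.ofNat 0, Int.ofNat 3, Int.negSucc 0, Int.negSucc 0, Int.ofNat 1,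 Int.ofNat 0, Int.ofNat 0, Int.ofNat 0, Int.negSucc 0, Int.ofNat 0, Int.ofNat 4, Int.ofNat 0, Int.ofNat 1, Int.ofNat 0, Int.ofNat 1])) (ZT.node 4290 (ZT.leaf [Int.ofNat 1]) (ZT.node 4291 (ZT.leaf [Int.negSucc 273, Int.negSucc 135, Int.ofNat 44, Int.negSucc 10, Int.ofNat 0, Int.negSucc 23, Int.negSucc 2, Int.ofNat 4, Int.ofNat 1, Int.ofNat 0, Int.ofNat 0, Int.ofNat 0, Int.negSucc 2, Int.ofNat 0, Int.ofNat 34, Int.ofNat 1, Int.negSucc 2, Int.ofNat 0, Int.negSucc 23]) (ZT.leaf [Int.ofNat 46, Int.ofNat 38, Int.negSucc 10, Int.ofNat 8, Int.ofNat 0, Int.ofNat 8, Int.ofNat 1, Int.negSucc 2, Int.negSucc 0, Int.ofNat 0, Int.ofNat 0, Int.ofNat 0, Int.ofNat 0, Int.ofNat 0, Int.negSucc 13, Int.ofNat 0, Int.ofNat 2, Int.ofNat 0, Int.ofNat 7])))) (ZT.node 4295 (ZT.node 4293 (ZT.leaf []) (ZT.node 4294 (ZT.leaf [Int.negSucc 465, Int.negSucc 134, Int.ofNat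 151, Int.negSucc 43, Int.negSucc 1, Int.negSucc 83, Int.ofNat 1, Int.ofNat 10, Int.negSucc 4, Int.ofNat 0, Int.ofNat 0, Int.ofNat 0, Int.ofNat 3, Int.negSucc 0, Int.ofNat 49, Int.ofNat 1, Int.negSucc 8, Int.ofNat 0, Int.negSucc 58]) (ZT.leaf [Int.negSucc 9109, Int.negSucc 2645, Int.ofNat 2053, Int.negSucc 353, Int.negSucc 0, Int.negSucc 988, Int.negSucc 113, Int.ofNat 166, Int.negSucc 8, Int.ofNat 1, Int.ofNat 0, Int.ofNat 0, Int.negSucc 35, Int.negSucc 16, Int.ofNat 986, Int.negSucc 3, Int.negSucc 145, Int.ofNat 0, Int.negSucc 877]))) (ZT.node 4296 (ZT.leaf [Int.negSucc 1281, Int.negSucc 631, Int.ofNat 321, Int.negSucc 113, Int.negSucc 2, Int.negSucc 198, Int.negSucc 20, Int.ofNat 49, Int.ofNat 2, Int.ofNat 0, Int.ofNat 0, Int.ofNat 0, Int.ofNat 0, Int.negSucc 2, Int.ofNat 223, Int.ofNat 4, Int.negSucc 26, Int.ofNat 0, Int.negSucc 167])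 (ZT.node 4297 (ZT.leaf [Int.ofNat 6421, Int.ofNat 3356, Int.negSucc 1495, Int.ofNat 540, Int.ofNat 12, Int.ofNat 923, Int.ofNat 123, Int.negSucc 251, Int.negSucc 28, Int.ofNat 0, Int.ofNat 0, Int.ofNat 0, Int.ofNat 16, Int.ofNat 16, Int.negSucc 1156, Int.negSucc 16, Int.ofNat 140, Int.ofNat 0, Int.ofNat 833]) (ZT.leaf [Int.negSucc 159, Int.negSucc 20, Int.ofNat 45, Int.negSucc 6, Int.ofNat 0, Int.negSucc 22, Int.ofNat 0, Int.negSucc 0, Int.negSucc 2, Int.ofNat 0, Int.ofNat 0, Int.ofNat 0, Int.ofNat 0, Int.ofNat 0, Int.ofNat 1, Int.ofNat 0, Int.ofNat 0, Int.ofNat 0, Int.negSucc 14])))))) (ZT.node 4309 (ZT.node 4303 (ZT.node 4300 (ZT.node 4299 (ZT.leaf [Int.ofNat 1]) (ZT.leaf [Int.ofNat 419, Int.ofNat 239, Int.negSucc 107, Int.ofNat 43, Int.ofNat 3, Int.ofNat 78, Int.ofNat 9, Int.negSucc 23, Int.negSucc 0, Int.ofNat 0, Int.ofNat 0, Int.ofNat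 0, Int.negSucc 2, Int.ofNat 2, Int.negSucc 70, Int.negSucc 2, Int.ofNat 6, Int.ofNat 0, Int.ofNat 60])) (ZT.node 4301 (ZT.leaf [Int.negSucc 6, Int.negSucc 0, Int.ofNat 1, Int.ofNat 0, Int.ofNat 0, Int.ofNat 0, Int.ofNat 0, Int.ofNat 0, Int.ofNat 0, Int.ofNat 0, Int.ofNat 0, Int.ofNat 0, Int.ofNat 0, Int.ofNat 0, Int.negSucc 1, Int.ofNat 0, Int.ofNat 0, Int.ofNat 0, Int.ofNat 1]) (ZT.node 4302 (ZT.leaf []) (ZT.leaf [Int.ofNat 2298, Int.ofNat 783, Int.negSucc 532, Int.ofNat 125, Int.ofNat 2, Int.ofNat 254, Int.ofNat 29, Int.negSucc 54, Int.negSucc 3, Int.ofNat 0, Int.ofNat 0, Int.ofNat 0, Int.ofNat 8, Int.ofNat 0, Int.negSucc 330, Int.ofNat 4, Int.ofNat 56, Int.ofNat 0, Int.ofNat 236])))) (ZT.node 4306 (ZT.node 4304 (ZT.leaf [Int.negSucc 3185, Int.negSucc 1077, Int.ofNat 753, Int.negSucc 173, Int.negSucc 3, Int.negSucc 377, Int.negSucc 34,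 Int.ofNat 74, Int.negSucc 1, Int.ofNat 0, Int.ofNat 0, Int.ofNat 0, Int.negSucc 5, Int.negSucc 2, Int.ofNat 391, Int.negSucc 0, Int.negSucc 66, Int.ofNat 0, Int.negSucc 331]) (ZT.node 4305 (ZT.leaf [Int.ofNat 1]) (ZT.leaf [Int.negSucc 11, Int.ofNat 8, Int.ofNat 6, Int.ofNat 0, Int.ofNat 0, Int.negSucc 0, Int.ofNat 0, Int.negSucc 0, Int.negSucc 0, Int.ofNat 0, Int.ofNat 0, Int.ofNat 0, Int.ofNat 0, Int.ofNat 0, Int.negSucc 1, Int.ofNat 0, Int.ofNat 0, Int.ofNat 0, Int.negSucc 0]))) (ZT.node 4307 (ZT.leaf [Int.ofNat 4, Int.ofNat 0, Int.negSucc 0, Int.ofNat 0, Int.ofNat 0, Int.ofNat 0, Int.ofNat 0, Int.ofNat 0, Int.ofNat 0, Int.ofNat 0, Int.ofNat 0, Int.ofNat 0, Int.ofNat 0, Int.ofNat 0, Int.ofNat 2, Int.ofNat 0, Int.ofNat 0, Int.ofNat 0, Int.negSucc 0]) (ZT.node 4308 (ZT.leaf [Int.ofNat 6554, Int.ofNat 1163, Int.negSucc 1456, Int.ofNat 113,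 Int.negSucc 4, Int.ofNat 605, Int.ofNat 62, Int.negSucc 52, Int.ofNat 26, Int.ofNat 0, Int.ofNat 0, Int.ofNat 0, Int.ofNat 29, Int.ofNat 10, Int.negSucc 481, Int.ofNat 11, Int.ofNat 82, Int.ofNat 0, Int.ofNat 530]) (ZT.leaf [Int.ofNat 713, Int.ofNat 379, Int.negSucc 204, Int.ofNat 80, Int.ofNat 1, Int.ofNat 131, Int.ofNat 5, Int.negSucc 20, Int.ofNat 4, Int.ofNat 0, Int.ofNat 0, Int.ofNat 0, Int.negSucc 0, Int.ofNat 4, Int.negSucc 105, Int.negSucc 2, Int.ofNat 12, Int.ofNat 0, Int.ofNat 103]))))) (ZT.node 4315 (ZT.node 4312 (ZT.node 4310 (ZT.leaf [Int.negSucc 709, Int.negSucc 374, Int.ofNat 205, Int.negSucc 79, Int.negSucc 0, Int.negSucc 130, Int.negSucc 4, Int.ofNat 21, Int.negSucc 3, Int.ofNat 0, Int.ofNat 0, Int.ofNat 0, Int.ofNat 1, Int.negSucc 3, Int.ofNat 106, Int.ofNat 3, Int.negSucc 11, Int.ofNat 0, Int.negSucc 102]) (ZT.node 4311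 (ZT.leaf [Int.ofNat 1]) (ZT.leaf [Int.ofNat 504, Int.ofNat 132, Int.negSucc 122, Int.ofNat 23, Int.ofNat 0, Int.ofNat 57, Int.ofNat 2, Int.negSucc 7, Int.ofNat 2, Int.ofNat 0, Int.ofNat 0, Int.ofNat 0, Int.ofNat 1, Int.ofNat 1, Int.negSucc 37, Int.ofNat 0, Int.ofNat 10, Int.ofNat 0, Int.ofNat 49]))) (ZT.node 4313 (ZT.leaf [Int.ofNat 233, Int.negSucc 180, Int.negSucc 98, Int.negSucc 7, Int.ofNat 1, Int.ofNat 28, Int.negSucc 14, Int.ofNat 22, Int.ofNat 14, Int.ofNat 0, Int.ofNat 0, Int.ofNat 0, Int.negSucc 1, Int.negSucc 0, Int.ofNat 63, Int.ofNat 1, Int.negSucc 2, Int.ofNat 0, Int.ofNat 2]) (ZT.node 4314 (ZT.leaf []) (ZT.leaf [Int.ofNat 1])))) (ZT.node 4318 (ZT.node 4316 (ZT.leaf [Int.ofNat 1]) (ZT.node 4317 (ZT.leaf [Int.ofNat 610, Int.ofNat 225, Int.negSucc 142, Int.ofNat 35, Int.ofNat 0, Int.ofNat 75, Int.ofNat 8, Int.negSucc 9, Int.negSucc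 0, Int.ofNat 0, Int.ofNat 0, Int.ofNat 0, Int.ofNat 4, Int.ofNat 1, Int.negSucc 88, Int.ofNat 2, Int.ofNat 12, Int.ofNat 0, Int.ofNat 67]) (ZT.leaf [Int.negSucc 573, Int.negSucc 262, Int.ofNat 122, Int.negSucc 35, Int.negSucc 0, Int.negSucc 68, Int.negSucc 11, Int.ofNat 20, Int.ofNat 2, Int.ofNat 0, Int.ofNat 0, Int.ofNat 0, Int.negSucc 0, Int.negSucc 1, Int.ofNat 84, Int.ofNat 1, Int.negSucc 8, Int.ofNat 0, Int.negSucc 65]))) (ZT.node 4319 (ZT.leaf [Int.ofNat 400, Int.ofNat 196, Int.negSucc 81, Int.ofNat 27, Int.ofNat 1, Int.ofNat 47, Int.ofNat 8, Int.negSucc 13, Int.negSucc 1, Int.ofNat 0, Int.ofNat 0, Int.ofNat 0, Int.ofNat 1, Int.ofNat 1, Int.negSucc 54, Int.negSucc 0, Int.ofNat 6, Int.ofNat 0, Int.ofNat 44]) (ZT.node 4320 (ZT.leaf [Int.negSucc 156, Int.negSucc 11, Int.ofNat 45, Int.negSucc 4, Int.ofNat 0, Int.negSucc 17, Int.ofNat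 2, Int.ofNat 1, Int.negSucc 1, Int.ofNat 0, Int.ofNat 0, Int.ofNat 0, Int.ofNat 0, Int.ofNat 0, Int.ofNat 6, Int.ofNat 0, Int.negSucc 5, Int.ofNat 0, Int.negSucc 13]) (ZT.leaf [Int.ofNat 573, Int.ofNat 263, Int.negSucc 121, Int.ofNat 36, Int.ofNat 1, Int.ofNat 69, Int.ofNat 12, Int.negSucc 19, Int.negSucc 1, Int.ofNat 0, Int.ofNat 0, Int.ofNat 0, Int.ofNat 1, Int.ofNat 2, Int.negSucc 83, Int.negSucc 0, Int.ofNat 9, Int.ofNat 0, Int.ofNat 66]))))))) (ZT.node 4343 (ZT.node 4332 (ZT.node 4326 (ZT.node 4323 (ZT.node 4322 (ZT.leaf []) (ZT.leaf [])) (ZT.node 4324 (ZT.leaf [Int.ofNat 331, Int.ofNat 236, Int.negSucc 58, Int.ofNat 29, Int.ofNat 2, Int.ofNat 48, Int.ofNat 19, Int.negSucc 33, Int.negSucc 9, Int.ofNat 0, Int.ofNat 0, Int.ofNat 0, Int.negSucc 0, Int.negSucc 0, Int.negSucc 118, Int.negSucc 0, Int.ofNat 14, Int.ofNat 0, Int.ofNat 48])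 (ZT.node 4325 (ZT.leaf [Int.negSucc 636, Int.negSucc 342, Int.ofNat 182, Int.negSucc 66, Int.ofNat 0, Int.negSucc 116, Int.negSucc 13, Int.ofNat 35, Int.ofNat 3, Int.ofNat 0, Int.ofNat 0, Int.ofNat 0, Int.ofNat 1, Int.ofNat 0, Int.ofNat 117, Int.ofNat 1, Int.negSucc 15, Int.ofNat 0, Int.negSucc 99]) (ZT.leaf [Int.negSucc 394, Int.negSucc 92, Int.ofNat 96, Int.negSucc 17, Int.ofNat 0, Int.negSucc 34, Int.ofNat 10, Int.negSucc 13, Int.negSucc 8, Int.ofNat 0, Int.ofNat 0, Int.ofNat 0, Int.negSucc 2, Int.negSucc 2, Int.negSucc 16, Int.ofNat 3, Int.ofNat 0, Int.ofNat 0, Int.negSucc 23])))) (ZT.node 4329 (ZT.node 4327 (ZT.leaf [Int.ofNat 1, Int.ofNat 0, Int.ofNat 0, Int.ofNat 0, Int.ofNat 0, Int.ofNat 0, Int.ofNat 0, Int.ofNat 0, Int.ofNat 0, Int.ofNat 0, Int.ofNat 0, Int.ofNat 0, Int.ofNat 0, Int.ofNat 0, Int.ofNat 0, Int.ofNat 0, Int.ofNat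 0, Int.ofNat 0, Int.ofNat 0]) (ZT.node 4328 (ZT.leaf [Int.ofNat 1990, Int.ofNat 1636, Int.negSucc 508, Int.ofNat 296, Int.ofNat 8, Int.ofNat 398, Int.ofNat 56, Int.negSucc 141, Int.negSucc 23, Int.ofNat 0, Int.ofNat 0, Int.ofNat 0, Int.negSucc 3, Int.ofNat 4, Int.negSucc 567, Int.negSucc 7, Int.ofNat 69, Int.ofNat 0, Int.ofNat 353]) (ZT.leaf [Int.negSucc 2]))) (ZT.node 4330 (ZT.leaf [Int.ofNat 1]) (ZT.node 4331 (ZT.leaf []) (ZT.leaf [Int.negSucc 329, Int.negSucc 235, Int.ofNat 59, Int.negSucc 28, Int.negSucc 1, Int.negSucc 47, Int.negSucc 18, Int.ofNat 34, Int.ofNat 10, Int.ofNat 0, Int.ofNat 0, Int.ofNat 0, Int.ofNat 1, Int.ofNat 1, Int.ofNat 119, Int.ofNat 1, Int.negSucc 13, Int.ofNat 0, Int.negSucc 47]))))) (ZT.node 4337 (ZT.node 4334 (ZT.node 4333 (ZT.leaf []) (ZT.leaf [Int.ofNat 502, Int.ofNat 112, Int.negSucc 123, Int.ofNat 23, Int.ofNat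 0, Int.ofNat 48, Int.negSucc 9, Int.ofNat 13, Int.ofNat 10, Int.ofNat 0, Int.ofNat 0, Int.ofNat 0, Int.ofNat 3, Int.ofNat 3, Int.ofNat 10, Int.negSucc 2, Int.ofNat 3, Int.ofNat 0, Int.ofNat 35])) (ZT.node 4335 (ZT.leaf [Int.ofNat 14247, Int.ofNat 1471, Int.negSucc 2743, Int.negSucc 72, Int.ofNat 6, Int.ofNat 774, Int.ofNat 234, Int.negSucc 130, Int.negSucc 45, Int.ofNat 3, Int.negSucc 2, Int.negSucc 0, Int.ofNat 96, Int.negSucc 17, Int.negSucc 1463, Int.ofNat 71, Int.ofNat 213, Int.negSucc 1, Int.ofNat 885]) (ZT.node 4336 (ZT.leaf []) (ZT.leaf [Int.negSucc 1463, Int.negSucc 806, Int.ofNat 340, Int.negSucc 126, Int.negSucc 1, Int.negSucc 210, Int.negSucc 30, Int.ofNat 68, Int.ofNat 12, Int.ofNat 0, Int.ofNat 0, Int.ofNat 0, Int.negSucc 3, Int.negSucc 1, Int.ofNat 286, Int.ofNat 2, Int.negSucc 38, Int.ofNat 0, Int.negSucc 195])))) (ZT.node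 4340 (ZT.node 4338 (ZT.leaf [Int.negSucc 313, Int.negSucc 163, Int.ofNat 34, Int.negSucc 8, Int.negSucc 0, Int.negSucc 14, Int.negSucc 13, Int.ofNat 15, Int.ofNat 8, Int.ofNat 0, Int.ofNat 0, Int.ofNat 0, Int.negSucc 3, Int.ofNat 1, Int.ofNat 65, Int.ofNat 0, Int.negSucc 5, Int.ofNat 0, Int.negSucc 26]) (ZT.node 4339 (ZT.leaf [Int.negSucc 511, Int.negSucc 243, Int.ofNat 117, Int.negSucc 37, Int.ofNat 0, Int.negSucc 69, Int.negSucc 6, Int.ofNat 15, Int.ofNat 1, Int.ofNat 0, Int.ofNat 0, Int.ofNat 0, Int.negSucc 1, Int.negSucc 0, Int.ofNat 78, Int.ofNat 1, Int.negSucc 7, Int.ofNat 0, Int.negSucc 60]) (ZT.leaf [Int.ofNat 30, Int.ofNat 41, Int.ofNat 6, Int.negSucc 1, Int.negSucc 0, Int.negSucc 0, Int.ofNat 0, Int.ofNat 2, Int.ofNat 0, Int.ofNat 0, Int.ofNat 0, Int.ofNat 0, Int.ofNat 2, Int.ofNat 0, Int.negSucc 2, Int.negSucc 0, Int.negSucc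 2, Int.ofNat 0, Int.ofNat 0]))) (ZT.node 4341 (ZT.leaf [Int.ofNat 23, Int.ofNat 13, Int.negSucc 23, Int.ofNat 12, Int.ofNat 1, Int.ofNat 22, Int.ofNat 2, Int.negSucc 3, Int.ofNat 3, Int.ofNat 0, Int.ofNat 0, Int.ofNat 0, Int.negSucc 3, Int.ofNat 1, Int.ofNat 2, Int.negSucc 0, Int.negSucc 3, Int.ofNat 0, Int.ofNat 11]) (ZT.node 4342 (ZT.leaf [Int.ofNat 1]) (ZT.leaf [])))))) (ZT.node 4354 (ZT.node 4348 (ZT.node 4345 (ZT.node 4344 (ZT.leaf [Int.negSucc 251, Int.negSucc 84, Int.ofNat 57, Int.negSucc 13, Int.negSucc 0, Int.negSucc 20, Int.negSucc 0, Int.ofNat 3, Int.ofNat 1, Int.ofNat 0, Int.ofNat 0, Int.ofNat 0, Int.negSucc 1, Int.ofNat 0, Int.ofNat 34, Int.ofNat 0, Int.negSucc 5, Int.ofNat 0, Int.negSucc 21]) (ZT.leaf [Int.ofNat 6, Int.ofNat 3, Int.negSucc 0, Int.ofNat 0, Int.ofNat 0, Int.ofNat 0, Int.ofNat 0, Int.negSucc 0, Int.ofNat 0,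 Int.ofNat 0, Int.ofNat 0, Int.ofNat 0, Int.ofNat 0, Int.ofNat 0, Int.ofNat 0, Int.ofNat 0, Int.ofNat 0, Int.ofNat 0, Int.ofNat 0])) (ZT.node 4346 (ZT.leaf [Int.ofNat 5, Int.ofNat 3, Int.negSucc 0, Int.ofNat 0, Int.ofNat 0, Int.ofNat 0, Int.ofNat 0, Int.negSucc 0, Int.ofNat 0, Int.ofNat 0, Int.ofNat 0, Int.ofNat 0, Int.ofNat 0, Int.ofNat 0, Int.ofNat 0, Int.ofNat 0, Int.ofNat 0, Int.ofNat 0, Int.ofNat 0]) (ZT.node 4347 (ZT.leaf [Int.negSucc 2, Int.negSucc 2, Int.negSucc 0, Int.negSucc 0, Int.ofNat 0, Int.ofNat 1, Int.negSucc 0, Int.negSucc 0, Int.ofNat 0, Int.ofNat 0, Int.ofNat 0, Int.ofNat 0, Int.ofNat 0, Int.ofNat 0, Int.ofNat 0, Int.ofNat 0, Int.ofNat 0, Int.ofNat 0, Int.ofNat 0]) (ZT.leaf [])))) (ZT.node 4351 (ZT.node 4349 (ZT.leaf [Int.ofNat 1]) (ZT.node 4350 (ZT.leaf []) (ZT.leaf [Int.negSucc 3, Int.negSucc 1, Int.ofNat 1, Int.ofNat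 0, Int.ofNat 0, Int.ofNat 0, Int.ofNat 0, Int.ofNat 1, Int.ofNat 0, Int.ofNat 0, Int.ofNat 0, Int.ofNat 0, Int.ofNat 0, Int.ofNat 0, Int.ofNat 0, Int.ofNat 0, Int.ofNat 0, Int.ofNat 0, Int.ofNat 0]))) (ZT.node 4352 (ZT.leaf [Int.ofNat 1, Int.ofNat 0, Int.ofNat 0, Int.ofNat 0, Int.negSucc 0]) (ZT.node 4353 (ZT.leaf []) (ZT.leaf [Int.negSucc 390, Int.negSucc 235, Int.ofNat 66, Int.negSucc 26, Int.negSucc 0, Int.negSucc 39, Int.negSucc 17, Int.ofNat 28, Int.ofNat 11, Int.ofNat 0, Int.ofNat 0, Int.ofNat 0, Int.negSucc 1, Int.ofNat 1, Int.ofNat 93, Int.ofNat 0, Int.negSucc 8, Int.ofNat 0, Int.negSucc 47]))))) (ZT.node 4360 (ZT.node 4357 (ZT.node 4355 (ZT.leaf [Int.ofNat 2, Int.ofNat 1, Int.ofNat 0, Int.ofNat 0, Int.negSucc 0]) (ZT.node 4356 (ZT.leaf [Int.negSucc 3671, Int.negSucc 1344, Int.ofNat 878, Int.negSucc 225, Int.negSucc 7, Int.negSucc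 450, Int.negSucc 50, Int.ofNat 116, Int.ofNat 8, Int.ofNat 0, Int.ofNat 0, Int.ofNat 0, Int.negSucc 1, Int.negSucc 1, Int.ofNat 460, Int.ofNat 2, Int.negSucc 78, Int.ofNat 1, Int.negSucc 398]) (ZT.leaf [Int.negSucc 435, Int.negSucc 596, Int.ofNat 158, Int.negSucc 124, Int.negSucc 5, Int.negSucc 146, Int.negSucc 6, Int.ofNat 45, Int.ofNat 5, Int.ofNat 0, Int.ofNat 0, Int.ofNat 0, Int.ofNat 6, Int.negSucc 6, Int.ofNat 181, Int.ofNat 7, Int.negSucc 30, Int.ofNat 0, Int.negSucc 121]))) (ZT.node 4358 (ZT.leaf [Int.ofNat 3269, Int.ofNat 3593, Int.negSucc 793, Int.ofNat 608, Int.ofNat 16, Int.ofNat 761, Int.ofNat 154, Int.negSucc 308, Int.negSucc 70, Int.negSucc 0, Int.ofNat 0, Int.ofNat 0, Int.ofNat 1, Int.ofNat 15, Int.negSucc 1259, Int.negSucc 29, Int.ofNat 119, Int.ofNat 0, Int.ofNat 705]) (ZT.node 4359 (ZT.leaf []) (ZT.leaf [Int.ofNat 32,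 Int.ofNat 1, Int.negSucc 4, Int.negSucc 1, Int.ofNat 1, Int.ofNat 1, Int.negSucc 0, Int.ofNat 3, Int.ofNat 1, Int.ofNat 0, Int.ofNat 0, Int.ofNat 0, Int.ofNat 0, Int.ofNat 1, Int.ofNat 5, Int.ofNat 0, Int.negSucc 1, Int.ofNat 0, Int.ofNat 0])))) (ZT.node 4363 (ZT.node 4361 (ZT.leaf []) (ZT.node 4362 (ZT.leaf [Int.negSucc 610, Int.negSucc 224, Int.ofNat 143, Int.negSucc 34, Int.ofNat 0, Int.negSucc 74, Int.negSucc 7, Int.ofNat 10, Int.ofNat 1, Int.ofNat 0, Int.ofNat 0, Int.ofNat 0, Int.negSucc 3, Int.negSucc 0, Int.ofNat 89, Int.negSucc 1, Int.negSucc 11, Int.ofNat 0, Int.negSucc 66]) (ZT.leaf []))) (ZT.node 4364 (ZT.leaf [Int.negSucc 8665, Int.negSucc 2699, Int.ofNat 1990, Int.negSucc 387, Int.negSucc 5, Int.negSucc 935, Int.negSucc 88, Int.ofNat 194, Int.ofNat 7, Int.ofNat 0, Int.ofNat 1, Int.ofNat 0, Int.negSucc 29, Int.negSucc 5, Int.ofNat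 963, Int.negSucc 7, Int.negSucc 180, Int.ofNat 0, Int.negSucc 851]) (ZT.node 4365 (ZT.leaf []) (ZT.leaf [Int.ofNat 1296, Int.ofNat 1051, Int.negSucc 496, Int.ofNat 275, Int.negSucc 1, Int.ofNat 346, Int.negSucc 22, Int.negSucc 30, Int.ofNat 19, Int.ofNat 0, Int.ofNat 0, Int.negSucc 0, Int.negSucc 1, Int.ofNat 6, Int.negSucc 193, Int.negSucc 14, Int.ofNat 3, Int.negSucc 0, Int.ofNat 251])))))))) (ZT.node 4411 (ZT.node 4388 (ZT.node 4377 (ZT.node 4371 (ZT.node 4368 (ZT.node 4367 (ZT.leaf [Int.ofNat 112, Int.negSucc 31, Int.negSucc 23, Int.negSucc 7, Int.negSucc 0, Int.negSucc 1, Int.negSucc 4, Int.ofNat 13, Int.ofNat 3, Int.ofNat 0, Int.ofNat 0, Int.ofNat 0, Int.ofNat 4, Int.ofNat 0, Int.ofNat 23, Int.ofNat 0, Int.ofNat 1, Int.ofNat 0, Int.ofNat 2]) (ZT.leaf [Int.ofNat 1866, Int.ofNat 589, Int.negSucc 428, Int.ofNat 89, Int.ofNat 2, Int.ofNat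 215, Int.ofNat 30, Int.negSucc 50, Int.negSucc 2, Int.ofNat 0, Int.ofNat 0, Int.ofNat 0, Int.ofNat 5, Int.ofNat 0, Int.negSucc 242, Int.ofNat 2, Int.ofNat 44, Int.ofNat 0, Int.ofNat 193])) (ZT.node 4369 (ZT.leaf []) (ZT.node 4370 (ZT.leaf []) (ZT.leaf [])))) (ZT.node 4374 (ZT.node 4372 (ZT.leaf [Int.ofNat 469, Int.ofNat 56, Int.negSucc 70, Int.negSucc 12, Int.negSucc 1, Int.ofNat 34, Int.ofNat 20, Int.negSucc 6, Int.negSucc 0, Int.ofNat 0, Int.ofNat 0, Int.ofNat 0, Int.ofNat 3, Int.ofNat 1, Int.negSucc 40, Int.ofNat 3, Int.negSucc 4, Int.ofNat 0, Int.ofNat 34]) (ZT.node 4373 (ZT.leaf [Int.ofNat 98, Int.ofNat 9, Int.negSucc 24, Int.ofNat 3, Int.ofNat 0, Int.ofNat 10, Int.ofNat 0, Int.ofNat 1, Int.ofNat 2, Int.ofNat 1, Int.ofNat 0, Int.ofNat 0, Int.ofNat 0, Int.ofNat 0, Int.ofNat 0, Int.ofNat 0, Int.ofNat 2, Int.ofNat 0, Int.ofNat 8]) (ZT.leaf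 [Int.ofNat 2577, Int.ofNat 819, Int.negSucc 595, Int.ofNat 120, Int.ofNat 1, Int.ofNat 284, Int.ofNat 21, Int.negSucc 47, Int.ofNat 2, Int.negSucc 0, Int.ofNat 0, Int.ofNat 0, Int.ofNat 9, Int.ofNat 2, Int.negSucc 278, Int.ofNat 2, Int.ofNat 53, Int.ofNat 0, Int.ofNat 256]))) (ZT.node 4375 (ZT.leaf [Int.negSucc 45, Int.negSucc 0, Int.ofNat 13, Int.negSucc 0, Int.ofNat 0, Int.negSucc 3, Int.ofNat 0, Int.ofNat 0, Int.negSucc 0, Int.ofNat 0, Int.ofNat 0, Int.ofNat 0, Int.ofNat 0, Int.ofNat 0, Int.negSucc 2, Int.ofNat 0, Int.ofNat 1, Int.ofNat 0, Int.negSucc 2]) (ZT.node 4376 (ZT.leaf [Int.negSucc 15, Int.ofNat 11, Int.ofNat 8, Int.ofNat 0, Int.ofNat 0, Int.negSucc 0, Int.ofNat 0, Int.ofNat 0, Int.negSucc 0, Int.ofNat 1, Int.ofNat 0, Int.ofNat 0, Int.ofNat 0, Int.ofNat 0, Int.negSucc 6, Int.ofNat 0, Int.ofNat 2, Int.ofNat 0, Int.ofNat 1])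 (ZT.leaf [Int.ofNat 12213, Int.ofNat 6060, Int.negSucc 2940, Int.ofNat 1021, Int.ofNat 23, Int.ofNat 1757, Int.ofNat 189, Int.negSucc 441, Int.negSucc 35, Int.ofNat 0, Int.ofNat 0, Int.ofNat 0, Int.ofNat 21, Int.ofNat 25, Int.negSucc 2027, Int.negSucc 20, Int.ofNat 270, Int.ofNat 0, Int.ofNat 1538]))))) (ZT.node 4382 (ZT.node 4379 (ZT.node 4378 (ZT.leaf [Int.ofNat 4, Int.ofNat 1, Int.ofNat 0, Int.ofNat 0, Int.ofNat 0, Int.ofNat 0, Int.ofNat 1]) (ZT.leaf [Int.ofNat 6685, Int.ofNat 4820, Int.negSucc 1704, Int.ofNat 871, Int.ofNat 20, Int.ofNat 1221, Int.ofNat 128, Int.negSucc 368, Int.negSucc 39, Int.ofNat 1, Int.negSucc 0, Int.ofNat 0, Int.negSucc 3, Int.ofNat 23, Int.negSucc 1547, Int.negSucc 34, Int.ofNat 196, Int.ofNat 0, Int.ofNat 1064])) (ZT.node 4380 (ZT.leaf [Int.negSucc 628, Int.negSucc 1528, Int.ofNat 195, Int.negSucc 279, Int.negSucc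 5, Int.negSucc 285, Int.negSucc 37, Int.ofNat 101, Int.ofNat 19, Int.ofNat 0, Int.ofNat 0, Int.ofNat 0, Int.ofNat 2, Int.negSucc 12, Int.ofNat 434, Int.ofNat 21, Int.negSucc 33, Int.ofNat 0, Int.negSucc 249]) (ZT.node 4381 (ZT.leaf [Int.ofNat 151, Int.ofNat 32, Int.negSucc 44, Int.ofNat 10, Int.ofNat 0, Int.ofNat 21, Int.ofNat 0, Int.negSucc 2, Int.ofNat 2, Int.ofNat 0, Int.ofNat 0, Int.ofNat 0, Int.ofNat 0, Int.ofNat 0, Int.negSucc 10, Int.ofNat 0, Int.ofNat 2, Int.ofNat 0, Int.ofNat 16]) (ZT.leaf [Int.ofNat 98, Int.ofNat 7, Int.negSucc 24, Int.ofNat 0, Int.ofNat 0, Int.ofNat 6, Int.ofNat 0, Int.ofNat 2, Int.ofNat 2, Int.ofNat 0, Int.ofNat 0, Int.ofNat 0, Int.ofNat 0, Int.ofNat 2, Int.ofNat 3, Int.ofNat 0, Int.ofNat 0, Int.ofNat 0, Int.ofNat 5])))) (ZT.node 4385 (ZT.node 4383 (ZT.leaf [Int.negSucc 71, Int.negSucc 9, Int.ofNat 16, Int.ofNat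 0, Int.ofNat 0, Int.negSucc 4, Int.ofNat 0, Int.negSucc 0, Int.negSucc 0, Int.ofNat 0, Int.ofNat 0, Int.ofNat 0, Int.ofNat 0, Int.negSucc 0, Int.negSucc 0, Int.ofNat 0, Int.ofNat 1, Int.ofNat 0, Int.negSucc 3]) (ZT.node 4384 (ZT.leaf [Int.ofNat 2, Int.ofNat 2]) (ZT.leaf [Int.negSucc 417, Int.negSucc 270, Int.ofNat 90, Int.negSucc 40, Int.negSucc 0, Int.negSucc 58, Int.negSucc 10, Int.ofNat 18, Int.ofNat 4, Int.ofNat 0, Int.ofNat 0, Int.ofNat 0, Int.negSucc 1, Int.negSucc 1, Int.ofNat 88, Int.ofNat 2, Int.negSucc 8, Int.ofNat 0, Int.negSucc 57]))) (ZT.node 4386 (ZT.leaf [Int.negSucc 100, Int.negSucc 6, Int.ofNat 24, Int.ofNat 0, Int.ofNat 0, Int.negSucc 5, Int.ofNat 0, Int.negSucc 1, Int.negSucc 1, Int.ofNat 0, Int.ofNat 0, Int.ofNat 0, Int.ofNat 0, Int.negSucc 1, Int.negSucc 2, Int.ofNat 0, Int.ofNat 1, Int.ofNat 0, Int.negSucc 4]) (ZT.node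 4387 (ZT.leaf [Int.ofNat 12, Int.negSucc 12, Int.negSucc 8, Int.ofNat 1, Int.ofNat 0, Int.ofNat 3, Int.negSucc 0, Int.negSucc 0, Int.ofNat 1, Int.ofNat 0, Int.ofNat 0, Int.ofNat 0, Int.negSucc 0, Int.ofNat 0, Int.ofNat 4, Int.ofNat 0, Int.ofNat 1, Int.ofNat 0, Int.ofNat 2]) (ZT.leaf [])))))) (ZT.node 4399 (ZT.node 4393 (ZT.node 4390 (ZT.node 4389 (ZT.leaf []) (ZT.leaf [])) (ZT.node 4391 (ZT.leaf [Int.negSucc 2, Int.negSucc 1, Int.ofNat 0, Int.ofNat 0, Int.ofNat 0, Int.ofNat 1]) (ZT.node 4392 (ZT.leaf [Int.negSucc 1330, Int.negSucc 736, Int.ofNat 318, Int.negSucc 121, Int.negSucc 2, Int.negSucc 198, Int.negSucc 27, Int.ofNat 67, Int.ofNat 10, Int.ofNat 0, Int.ofNat 0, Int.ofNat 0, Int.ofNat 0, Int.negSucc 2, Int.ofNat 254, Int.ofNat 2, Int.negSucc 36, Int.ofNat 0, Int.negSucc 182]) (ZT.leaf [Int.ofNat 1])))) (ZT.node 4396 (ZT.node 4394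 (ZT.leaf [Int.ofNat 1330, Int.ofNat 736, Int.negSucc 317, Int.ofNat 122, Int.ofNat 3, Int.ofNat 199, Int.ofNat 28, Int.negSucc 66, Int.negSucc 9, Int.ofNat 0, Int.ofNat 0, Int.ofNat 0, Int.ofNat 0, Int.ofNat 3, Int.negSucc 253, Int.negSucc 1, Int.ofNat 37, Int.ofNat 0, Int.ofNat 183]) (ZT.node 4395 (ZT.leaf [Int.negSucc 6358, Int.negSucc 4319, Int.ofNat 1529, Int.negSucc 726, Int.negSucc 17, Int.negSucc 1073, Int.negSucc 139, Int.ofNat 329, Int.ofNat 50, Int.ofNat 1, Int.ofNat 0, Int.ofNat 0, Int.negSucc 9, Int.negSucc 23, Int.ofNat 1431, Int.ofNat 26, Int.negSucc 180, Int.ofNat 0, Int.negSucc 963]) (ZT.leaf [Int.negSucc 2414, Int.negSucc 2137, Int.ofNat 631, Int.negSucc 383, Int.negSucc 9, Int.negSucc 511, Int.negSucc 61, Int.ofNat 169, Int.ofNat 27, Int.ofNat 0, Int.ofNat 0, Int.ofNat 0, Int.ofNat 2, Int.negSucc 12, Int.ofNat 693, Int.ofNat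 16, Int.negSucc 90, Int.ofNat 0, Int.negSucc 451]))) (ZT.node 4397 (ZT.leaf [Int.ofNat 217, Int.ofNat 74, Int.negSucc 60, Int.ofNat 17, Int.ofNat 0, Int.ofNat 36, Int.ofNat 6, Int.negSucc 13, Int.negSucc 0, Int.ofNat 1, Int.ofNat 0, Int.ofNat 0, Int.negSucc 0, Int.negSucc 0, Int.negSucc 39, Int.ofNat 1, Int.ofNat 8, Int.ofNat 0, Int.ofNat 31]) (ZT.node 4398 (ZT.leaf []) (ZT.leaf [Int.ofNat 0, Int.negSucc 4, Int.negSucc 0, Int.ofNat 0, Int.ofNat 0, Int.ofNat 0, Int.negSucc 0]))))) (ZT.node 4405 (ZT.node 4402 (ZT.node 4400 (ZT.leaf [Int.negSucc 2396, Int.negSucc 1515, Int.ofNat 548, Int.negSucc 242, Int.negSucc 6, Int.negSucc 366, Int.negSucc 56, Int.ofNat 120, Int.ofNat 22, Int.ofNat 1, Int.ofNat 0, Int.ofNat 0, Int.negSucc 5, Int.negSucc 6, Int.ofNat 513, Int.ofNat 8, Int.negSucc 59, Int.ofNat 0, Int.negSucc 337]) (ZT.node 4401 (ZT.leaf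 [Int.negSucc 410, Int.negSucc 147, Int.ofNat 107, Int.negSucc 26, Int.ofNat 0, Int.negSucc 59, Int.negSucc 6, Int.ofNat 17, Int.ofNat 1, Int.ofNat 0, Int.ofNat 0, Int.ofNat 0, Int.ofNat 0, Int.ofNat 0, Int.ofNat 65, Int.negSucc 0, Int.negSucc 11, Int.ofNat 0, Int.negSucc 52]) (ZT.leaf [Int.negSucc 553, Int.negSucc 202, Int.ofNat 128, Int.negSucc 31, Int.negSucc 0, Int.negSucc 64, Int.negSucc 4, Int.ofNat 15, Int.ofNat 0, Int.ofNat 0, Int.ofNat 0, Int.ofNat 0, Int.negSucc 0, Int.negSucc 0, Int.ofNat 61, Int.ofNat 1, Int.negSucc 11, Int.ofNat 0, Int.negSucc 57]))) (ZT.node 4403 (ZT.leaf [Int.negSucc 457, Int.negSucc 147, Int.ofNat 108, Int.negSucc 20, Int.ofNat 0, Int.negSucc 53, Int.negSucc 2, Int.ofNat 9, Int.negSucc 0, Int.ofNat 0, Int.ofNat 0, Int.ofNat 0, Int.negSucc 0, Int.negSucc 0, Int.ofNat 52, Int.ofNat 0, Int.negSucc 11, Int.ofNat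 0, Int.negSucc 47]) (ZT.node 4404 (ZT.leaf [Int.ofNat 1]) (ZT.leaf [])))) (ZT.node 4408 (ZT.node 4406 (ZT.leaf []) (ZT.node 4407 (ZT.leaf [Int.ofNat 3585, Int.ofNat 4033, Int.negSucc 888, Int.ofNat 696, Int.ofNat 21, Int.ofNat 857, Int.ofNat 147, Int.negSucc 332, Int.negSucc 72, Int.negSucc 0, Int.ofNat 0, Int.negSucc 0, Int.negSucc 2, Int.ofNat 25, Int.negSucc 1363, Int.negSucc 34, Int.ofNat 148, Int.negSucc 0, Int.ofNat 783]) (ZT.leaf [Int.ofNat 69, Int.ofNat 16, Int.negSucc 7, Int.negSucc 0, Int.ofNat 0, Int.ofNat 2, Int.ofNat 1, Int.ofNat 1, Int.ofNat 0, Int.ofNat 1, Int.ofNat 0, Int.ofNat 0, Int.ofNat 1, Int.ofNat 0, Int.negSucc 0, Int.ofNat 0, Int.ofNat 0, Int.ofNat 0, Int.ofNat 3]))) (ZT.node 4409 (ZT.leaf []) (ZT.node 4410 (ZT.leaf [Int.negSucc 68, Int.negSucc 16, Int.ofNat 8, Int.ofNat 1, Int.ofNat 0, Int.negSucc 1, Int.negSucc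 0, Int.negSucc 0, Int.ofNat 0, Int.negSucc 0, Int.ofNat 0, Int.ofNat 0, Int.negSucc 0, Int.ofNat 0, Int.ofNat 1, Int.ofNat 0, Int.ofNat 0, Int.ofNat 0, Int.negSucc 2]) (ZT.leaf [Int.ofNat 8112, Int.ofNat 3615, Int.negSucc 1850, Int.ofNat 555, Int.ofNat 13, Int.ofNat 1065, Int.ofNat 153, Int.negSucc 293, Int.negSucc 31, Int.ofNat 1, Int.ofNat 0, Int.ofNat 0, Int.ofNat 17, Int.ofNat 11, Int.negSucc 1364, Int.negSucc 10, Int.ofNat 186, Int.ofNat 0, Int.ofNat 967]))))))) (ZT.node 4433 (ZT.node 4422 (ZT.node 4416 (ZT.node 4413 (ZT.node 4412 (ZT.leaf [Int.ofNat 2562, Int.ofNat 1853, Int.negSucc 569, Int.ofNat 295, Int.ofNat 6, Int.ofNat 419, Int.ofNat 75, Int.negSucc 140, Int.negSucc 28, Int.negSucc 0, Int.ofNat 0, Int.ofNat 0, Int.ofNat 9, Int.ofNat 8, Int.negSucc 616, Int.negSucc 9, Int.ofNat 54, Int.ofNat 0, Int.ofNat 391]) (ZT.leaf []))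 (ZT.node 4414 (ZT.leaf [Int.ofNat 2683, Int.ofNat 1512, Int.negSucc 634, Int.ofNat 250, Int.ofNat 6, Int.ofNat 404, Int.ofNat 54, Int.negSucc 114, Int.negSucc 14, Int.negSucc 0, Int.ofNat 0, Int.ofNat 0, Int.ofNat 6, Int.ofNat 7, Int.negSucc 501, Int.negSucc 6, Int.ofNat 62, Int.ofNat 0, Int.ofNat 363]) (ZT.node 4415 (ZT.leaf [Int.ofNat 677, Int.ofNat 195, Int.negSucc 124, Int.ofNat 13, Int.negSucc 0, Int.ofNat 54, Int.ofNat 14, Int.negSucc 2, Int.negSucc 0, Int.ofNat 0, Int.ofNat 0, Int.ofNat 0, Int.ofNat 6, Int.ofNat 2, Int.negSucc 72, Int.ofNat 2, Int.ofNat 3, Int.ofNat 0, Int.ofNat 56]) (ZT.leaf [Int.ofNat 1, Int.ofNat 2, Int.ofNat 1])))) (ZT.node 4419 (ZT.node 4417 (ZT.leaf [Int.negSucc 2684, Int.negSucc 1511, Int.ofNat 635, Int.negSucc 249, Int.negSucc 5, Int.negSucc 403, Int.negSucc 53, Int.ofNat 115, Int.ofNat 15, Int.ofNat 1,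 Int.ofNat 0, Int.ofNat 0, Int.negSucc 5, Int.negSucc 6, Int.ofNat 502, Int.ofNat 7, Int.negSucc 61, Int.ofNat 0, Int.negSucc 362]) (ZT.node 4418 (ZT.leaf [Int.ofNat 1025, Int.ofNat 687, Int.negSucc 263, Int.ofNat 124, Int.ofNat 4, Int.ofNat 185, Int.ofNat 21, Int.negSucc 61, Int.negSucc 7, Int.ofNat 0, Int.ofNat 0, Int.ofNat 0, Int.negSucc 1, Int.ofNat 3, Int.negSucc 231, Int.negSucc 3, Int.ofNat 31, Int.ofNat 0, Int.ofNat 161]) (ZT.leaf [Int.ofNat 1]))) (ZT.node 4420 (ZT.leaf [Int.ofNat 7754, Int.ofNat 4295, Int.negSucc 1769, Int.ofNat 678, Int.ofNat 18, Int.ofNat 1121, Int.ofNat 191, Int.negSucc 367, Int.negSucc 63, Int.ofNat 0, Int.ofNat 0, Int.ofNat 0, Int.ofNat 16, Int.ofNat 13, Int.negSucc 1565, Int.negSucc 19, Int.ofNat 194, Int.ofNat 0, Int.ofNat 1037]) (ZT.node 4421 (ZT.leaf [Int.negSucc 660, Int.negSucc 367, Int.ofNat 129, Int.negSucc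 48, Int.negSucc 0, Int.negSucc 78, Int.negSucc 10, Int.ofNat 19, Int.ofNat 4, Int.ofNat 0, Int.ofNat 0, Int.ofNat 0, Int.negSucc 4, Int.negSucc 0, Int.ofNat 113, Int.ofNat 2, Int.negSucc 11, Int.ofNat 0, Int.negSucc 74]) (ZT.leaf [Int.ofNat 1769, Int.ofNat 1996, Int.negSucc 470, Int.ofNat 359, Int.ofNat 10, Int.ofNat 444, Int.ofNat 61, Int.negSucc 162, Int.negSucc 30, Int.ofNat 0, Int.ofNat 0, Int.ofNat 0, Int.negSucc 3, Int.ofNat 12, Int.negSucc 659, Int.negSucc 15, Int.ofNat 81, Int.ofNat 0, Int.ofNat 395]))))) (ZT.node 4427 (ZT.node 4424 (ZT.node 4423 (ZT.leaf []) (ZT.leaf [Int.ofNat 1845, Int.ofNat 1114, Int.negSucc 500, Int.ofNat 219, Int.ofNat 4, Int.ofNat 342, Int.ofNat 31, Int.negSucc 94, Int.negSucc 4, Int.ofNat 0, Int.ofNat 0, Int.ofNat 0, Int.negSucc 2, Int.ofNat 5, Int.negSucc 372, Int.negSucc 5, Int.ofNat 53, Int.ofNat 0,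 Int.ofNat 286])) (ZT.node 4425 (ZT.leaf [Int.negSucc 4616, Int.negSucc 3630, Int.ofNat 1171, Int.negSucc 642, Int.negSucc 16, Int.negSucc 901, Int.negSucc 118, Int.ofNat 299, Int.ofNat 48, Int.ofNat 1, Int.ofNat 0, Int.ofNat 0, Int.ofNat 2, Int.negSucc 18, Int.ofNat 1233, Int.ofNat 24, Int.negSucc 150, Int.ofNat 0, Int.negSucc 796]) (ZT.node 4426 (ZT.leaf [Int.negSucc 1314, Int.negSucc 959, Int.ofNat 374, Int.negSucc 184, Int.negSucc 6, Int.negSucc 276, Int.negSucc 24, Int.ofNat 83, Int.ofNat 8, Int.ofNat 0, Int.ofNat 0, Int.ofNat 0, Int.ofNat 6, Int.negSucc 5, Int.ofNat 324, Int.ofNat 7, Int.negSucc 45, Int.ofNat 0, Int.negSucc 229]) (ZT.leaf [Int.negSucc 431, Int.negSucc 721, Int.ofNat 163, Int.negSucc 147, Int.negSucc 6, Int.negSucc 166, Int.negSucc 15, Int.ofNat 62, Int.ofNat 12, Int.ofNat 0, Int.ofNat 0, Int.ofNat 0, Int.ofNat 6,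 Int.negSucc 5, Int.ofNat 244, Int.ofNat 9, Int.negSucc 35, Int.ofNat 0, Int.negSucc 141])))) (ZT.node 4430 (ZT.node 4428 (ZT.leaf [Int.negSucc 2343, Int.negSucc 967, Int.ofNat 550, Int.negSucc 157, Int.negSucc 4, Int.negSucc 300, Int.negSucc 31, Int.ofNat 73, Int.ofNat 4, Int.ofNat 0, Int.ofNat 0, Int.ofNat 0, Int.negSucc 3, Int.negSucc 2, Int.ofNat 337, Int.ofNat 2, Int.negSucc 46, Int.ofNat 0, Int.negSucc 264]) (ZT.node 4429 (ZT.leaf [Int.negSucc 1843, Int.negSucc 1113, Int.ofNat 501, Int.negSucc 218, Int.negSucc 3, Int.negSucc 341, Int.negSucc 30, Int.ofNat 95, Int.ofNat 5, Int.ofNat 0, Int.ofNat 0, Int.ofNat 0, Int.ofNat 3, Int.negSucc 4, Int.ofNat 373, Int.ofNat 6, Int.negSucc 52, Int.ofNat 0, Int.negSucc 285]) (ZT.leaf [Int.ofNat 70, Int.ofNat 17, Int.negSucc 7, Int.negSucc 0, Int.ofNat 0, Int.ofNat 2, Int.ofNat 1, Int.ofNat 1, Int.ofNat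 0, Int.ofNat 1, Int.ofNat 0, Int.ofNat 0, Int.ofNat 1, Int.ofNat 0, Int.negSucc 0, Int.ofNat 0, Int.ofNat 0, Int.ofNat 0, Int.ofNat 3]))) (ZT.node 4431 (ZT.leaf [Int.negSucc 7310, Int.negSucc 2969, Int.ofNat 1727, Int.negSucc 494, Int.negSucc 9, Int.negSucc 956, Int.negSucc 114, Int.ofNat 235, Int.ofNat 14, Int.ofNat 0, Int.ofNat 0, Int.ofNat 0, Int.negSucc 12, Int.negSucc 7, Int.ofNat 1046, Int.ofNat 2, Int.negSucc 139, Int.ofNat 0, Int.negSucc 834]) (ZT.node 4432 (ZT.leaf [Int.negSucc 58, Int.negSucc 13, Int.ofNat 6, Int.ofNat 1, Int.ofNat 0, Int.negSucc 0, Int.negSucc 0, Int.negSucc 1, Int.ofNat 0, Int.negSucc 0, Int.ofNat 0, Int.ofNat 0, Int.negSucc 0, Int.ofNat 0, Int.ofNat 1, Int.ofNat 0, Int.ofNat 0, Int.ofNat 0, Int.negSucc 2]) (ZT.leaf [])))))) (ZT.node 4444 (ZT.node 4438 (ZT.node 4435 (ZT.node 4434 (ZT.leaf [Int.ofNat 10779,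 Int.ofNat 3005, Int.negSucc 2357, Int.ofNat 365, Int.ofNat 0, Int.ofNat 1086, Int.ofNat 150, Int.negSucc 222, Int.negSucc 6, Int.negSucc 0, Int.ofNat 0, Int.ofNat 0, Int.ofNat 43, Int.ofNat 15, Int.negSucc 1181, Int.ofNat 12, Int.ofNat 195, Int.ofNat 0, Int.ofNat 1002]) (ZT.leaf [Int.ofNat 1322, Int.ofNat 606, Int.negSucc 314, Int.ofNat 99, Int.ofNat 1, Int.ofNat 180, Int.ofNat 20, Int.negSucc 47, Int.negSucc 2, Int.ofNat 0, Int.ofNat 0, Int.ofNat 0, Int.ofNat 2, Int.ofNat 3, Int.negSucc 198, Int.ofNat 0, Int.ofNat 30, Int.ofNat 0, Int.ofNat 163])) (ZT.node 4436 (ZT.leaf [Int.negSucc 1030, Int.negSucc 346, Int.ofNat 244, Int.negSucc 53, Int.ofNat 0, Int.negSucc 131, Int.negSucc 13, Int.ofNat 28, Int.negSucc 1, Int.ofNat 0, Int.ofNat 0, Int.ofNat 0, Int.negSucc 0, Int.negSucc 0, Int.ofNat 113, Int.negSucc 0, Int.negSucc 13, Int.ofNat 0,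 Int.negSucc 110]) (ZT.node 4437 (ZT.leaf [Int.ofNat 1527, Int.ofNat 534, Int.negSucc 392, Int.ofNat 109, Int.ofNat 5, Int.ofNat 216, Int.ofNat 28, Int.negSucc 54, Int.negSucc 0, Int.ofNat 1, Int.ofNat 0, Int.ofNat 0, Int.negSucc 1, Int.ofNat 0, Int.negSucc 213, Int.negSucc 0, Int.ofNat 32, Int.ofNat 0, Int.ofNat 181]) (ZT.leaf [Int.negSucc 2, Int.negSucc 0, Int.ofNat 0, Int.ofNat 0, Int.ofNat 0, Int.ofNat 0, Int.negSucc 0])))) (ZT.node 4441 (ZT.node 4439 (ZT.leaf [Int.ofNat 1020, Int.ofNat 361, Int.negSucc 234, Int.ofNat 53, Int.ofNat 0, Int.ofNat 129, Int.ofNat 15, Int.negSucc 26, Int.ofNat 1, Int.ofNat 0, Int.ofNat 0, Int.ofNat 0, Int.ofNat 2, Int.ofNat 1, Int.negSucc 116, Int.ofNat 1, Int.ofNat 13, Int.ofNat 0, Int.ofNat 109]) (ZT.node 4440 (ZT.leaf []) (ZT.leaf [Int.negSucc 1170, Int.negSucc 628, Int.ofNat 307, Int.negSucc 114, Int.ofNat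 3, Int.negSucc 193, Int.negSucc 14, Int.ofNat 33, Int.negSucc 4, Int.negSucc 0, Int.ofNat 0, Int.ofNat 0, Int.negSucc 2, Int.negSucc 7, Int.ofNat 177, Int.ofNat 7, Int.negSucc 13, Int.ofNat 0, Int.negSucc 158]))) (ZT.node 4442 (ZT.leaf [Int.ofNat 8, Int.negSucc 9, Int.negSucc 5, Int.ofNat 0, Int.ofNat 0, Int.ofNat 1, Int.ofNat 0, Int.ofNat 1, Int.ofNat 1, Int.ofNat 0, Int.ofNat 0, Int.ofNat 0, Int.ofNat 0, Int.ofNat 0, Int.ofNat 2, Int.ofNat 0, Int.ofNat 0, Int.ofNat 0, Int.ofNat 1]) (ZT.node 4443 (ZT.leaf [Int.negSucc 82, Int.negSucc 27, Int.ofNat 22, Int.negSucc 3, Int.ofNat 0, Int.negSucc 9, Int.ofNat 0, Int.ofNat 1, Int.ofNat 0, Int.ofNat 1, Int.ofNat 0, Int.ofNat 0, Int.ofNat 0, Int.ofNat 0, Int.ofNat 11, Int.ofNat 0, Int.negSucc 1, Int.ofNat 0, Int.negSucc 8]) (ZT.leaf []))))) (ZT.node 4450 (ZT.node 4447 (ZT.node 4445 (ZT.leaf [Int.ofNat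 83, Int.ofNat 27, Int.negSucc 21, Int.ofNat 4, Int.ofNat 0, Int.ofNat 10, Int.ofNat 0, Int.negSucc 0, Int.ofNat 0, Int.negSucc 0, Int.ofNat 0, Int.ofNat 0, Int.ofNat 0, Int.ofNat 0, Int.negSucc 10, Int.ofNat 0, Int.ofNat 2, Int.ofNat 0, Int.ofNat 9]) (ZT.node 4446 (ZT.leaf []) (ZT.leaf []))) (ZT.node 4448 (ZT.leaf [Int.negSucc 27, Int.ofNat 0, Int.ofNat 9, Int.negSucc 0, Int.ofNat 0, Int.negSucc 1, Int.ofNat 0, Int.ofNat 0, Int.negSucc 0, Int.ofNat 0, Int.ofNat 0, Int.ofNat 0, Int.ofNat 0, Int.ofNat 0, Int.negSucc 3, Int.ofNat 0, Int.ofNat 0, Int.ofNat 0, Int.negSucc 1]) (ZT.node 4449 (ZT.leaf [Int.ofNat 1]) (ZT.leaf [Int.negSucc 216, Int.negSucc 82, Int.ofNat 44, Int.negSucc 9, Int.ofNat 0, Int.negSucc 21, Int.negSucc 1, Int.ofNat 5, Int.ofNat 1, Int.ofNat 0, Int.ofNat 0, Int.ofNat 0, Int.negSucc 0, Int.ofNat 0, Int.ofNat 28, Int.ofNat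 0, Int.negSucc 4, Int.ofNat 0, Int.negSucc 20])))) (ZT.node 4453 (ZT.node 4451 (ZT.leaf []) (ZT.node 4452 (ZT.leaf [Int.ofNat 1032, Int.ofNat 347, Int.negSucc 243, Int.ofNat 54, Int.ofNat 0, Int.ofNat 132, Int.ofNat 14, Int.negSucc 27, Int.ofNat 2, Int.ofNat 0, Int.ofNat 0, Int.ofNat 0, Int.ofNat 1, Int.ofNat 1, Int.negSucc 112, Int.ofNat 1, Int.ofNat 14, Int.ofNat 0, Int.ofNat 111]) (ZT.leaf [Int.ofNat 1]))) (ZT.node 4454 (ZT.leaf [Int.ofNat 1]) (ZT.node 4455 (ZT.leaf []) (ZT.leaf []))))))))))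

noncomputable def labT_9 : ZT := (ZT.node 4636 (ZT.node 4546 (ZT.node 4501 (ZT.node 4478 (ZT.node 4467 (ZT.node 4461 (ZT.node 4458 (ZT.node 4457 (ZT.leaf [Int.negSucc 782, Int.negSucc 1085, Int.ofNat 238, Int.negSucc 202, Int.negSucc 7, Int.negSucc 246, Int.negSucc 23, Int.ofNat 80, Int.ofNat 12, Int.ofNat 0, Int.ofNat 0, Int.ofNat 0, Int.ofNat 5, Int.negSucc 11, Int.ofNat 363, Int.ofNat 10, Int.negSucc 45, Int.ofNat 0, Int.negSucc 209]) (ZT.leaf [])) (ZT.node 4459 (ZT.leaf []) (ZT.node 4460 (ZT.leaf []) (ZT.leaf [Int.ofNat 1])))) (ZT.node 4464 (ZT.node 4462 (ZT.leaf [Int.ofNat 713, Int.ofNat 411, Int.negSucc 182, Int.ofNat 74, Int.ofNat 2, Int.ofNat 112, Int.ofNat 11, Int.negSucc 33, Int.negSucc 3, Int.ofNat 0, Int.ofNat 0, Int.ofNat 0, Int.ofNat 0, Int.ofNat 2, Int.negSucc 129, Int.negSucc 1, Int.ofNat 23, Int.ofNat 0, Int.ofNat 101])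 (ZT.node 4463 (ZT.leaf [Int.ofNat 1]) (ZT.leaf [Int.ofNat 1]))) (ZT.node 4465 (ZT.leaf [Int.ofNat 70, Int.ofNat 7, Int.negSucc 15, Int.ofNat 0, Int.ofNat 0, Int.ofNat 5, Int.ofNat 0, Int.ofNat 1, Int.ofNat 1, Int.ofNat 0, Int.ofNat 0, Int.ofNat 0, Int.ofNat 0, Int.ofNat 1, Int.ofNat 1, Int.ofNat 0, Int.negSucc 0, Int.ofNat 0, Int.ofNat 4]) (ZT.node 4466 (ZT.leaf [Int.ofNat 69, Int.ofNat 473, Int.negSucc 63, Int.ofNat 100, Int.ofNat 6, Int.ofNat 97, Int.ofNat 4, Int.negSucc 35, Int.negSucc 5, Int.ofNat 0, Int.ofNat 0, Int.ofNat 0, Int.negSucc 5, Int.ofNat 7, Int.negSucc 142, Int.negSucc 6, Int.ofNat 25, Int.ofNat 0, Int.ofNat 82]) (ZT.leaf [Int.negSucc 2487, Int.negSucc 1183, Int.ofNat 539, Int.negSucc 172, Int.negSucc 6, Int.negSucc 321, Int.negSucc 71, Int.ofNat 126, Int.ofNat 26, Int.ofNat 0, Int.ofNat 0, Int.ofNat 0, Int.negSucc 2,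 Int.ofNat 0, Int.ofNat 539, Int.negSucc 1, Int.negSucc 67, Int.ofNat 0, Int.negSucc 307]))))) (ZT.node 4472 (ZT.node 4469 (ZT.node 4468 (ZT.leaf []) (ZT.leaf [Int.ofNat 1991, Int.ofNat 1162, Int.negSucc 449, Int.ofNat 185, Int.ofNat 5, Int.ofNat 286, Int.ofNat 62, Int.negSucc 113, Int.negSucc 25, Int.ofNat 0, Int.ofNat 0, Int.ofNat 0, Int.ofNat 2, Int.ofNat 3, Int.negSucc 422, Int.negSucc 2, Int.ofNat 53, Int.ofNat 0, Int.ofNat 273])) (ZT.node 4470 (ZT.leaf [Int.ofNat 978, Int.ofNat 600, Int.negSucc 228, Int.ofNat 100, Int.ofNat 2, Int.ofNat 152, Int.ofNat 23, Int.negSucc 44, Int.negSucc 7, Int.ofNat 0, Int.ofNat 0, Int.ofNat 0, Int.ofNat 2, Int.ofNat 3, Int.negSucc 194, Int.negSucc 2, Int.ofNat 20, Int.ofNat 0, Int.ofNat 137]) (ZT.node 4471 (ZT.leaf [Int.negSucc 0, Int.negSucc 0]) (ZT.leaf [])))) (ZT.node 4475 (ZT.node 4473 (ZT.leaf [Int.negSucc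 423, Int.negSucc 170, Int.ofNat 153, Int.negSucc 55, Int.negSucc 2, Int.negSucc 90, Int.ofNat 3, Int.ofNat 19, Int.negSucc 2, Int.ofNat 0, Int.ofNat 0, Int.ofNat 0, Int.ofNat 5, Int.negSucc 0, Int.ofNat 60, Int.ofNat 1, Int.negSucc 15, Int.ofNat 0, Int.negSucc 64]) (ZT.node 4474 (ZT.leaf [Int.negSucc 118, Int.negSucc 132, Int.negSucc 11, Int.ofNat 0, Int.ofNat 1, Int.ofNat 3, Int.negSucc 8, Int.ofNat 8, Int.ofNat 6, Int.ofNat 0, Int.ofNat 0, Int.ofNat 0, Int.negSucc 3, Int.ofNat 0, Int.ofNat 41, Int.ofNat 0, Int.negSucc 2, Int.ofNat 0, Int.negSucc 10]) (ZT.leaf []))) (ZT.node 4476 (ZT.leaf [Int.negSucc 540, Int.negSucc 306, Int.ofNat 147, Int.negSucc 59, Int.negSucc 1, Int.negSucc 93, Int.negSucc 5, Int.ofNat 28, Int.ofNat 2, Int.ofNat 0, Int.ofNat 0, Int.ofNat 0, Int.ofNat 1, Int.negSucc 0, Int.ofNat 104, Int.ofNat 1, Int.negSucc 18,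 Int.ofNat 0, Int.negSucc 79]) (ZT.node 4477 (ZT.leaf [Int.ofNat 275, Int.ofNat 136, Int.negSucc 43, Int.ofNat 11, Int.ofNat 0, Int.ofNat 24, Int.ofNat 3, Int.negSucc 3, Int.negSucc 0, Int.ofNat 0, Int.ofNat 0, Int.ofNat 0, Int.ofNat 3, Int.ofNat 0, Int.negSucc 33, Int.negSucc 0, Int.ofNat 3, Int.ofNat 0, Int.ofNat 24]) (ZT.leaf [Int.ofNat 1])))))) (ZT.node 4489 (ZT.node 4483 (ZT.node 4480 (ZT.node 4479 (ZT.leaf [Int.ofNat 3, Int.ofNat 12, Int.ofNat 5, Int.negSucc 0, Int.ofNat 0, Int.negSucc 2, Int.ofNat 1, Int.ofNat 1, Int.negSucc 0, Int.ofNat 0, Int.ofNat 0, Int.ofNat 0, Int.ofNat 1, Int.ofNat 0, Int.negSucc 3, Int.ofNat 0, Int.negSucc 0, Int.ofNat 0, Int.negSucc 0]) (ZT.leaf [Int.ofNat 120, Int.ofNat 133, Int.ofNat 12, Int.ofNat 0, Int.negSucc 0, Int.negSucc 2, Int.ofNat 9, Int.negSucc 7, Int.negSucc 5, Int.ofNat 0, Int.ofNat 0, Int.ofNat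 0, Int.ofNat 4, Int.ofNat 0, Int.negSucc 40, Int.ofNat 0, Int.ofNat 3, Int.ofNat 0, Int.ofNat 11])) (ZT.node 4481 (ZT.leaf [Int.ofNat 1011, Int.ofNat 535, Int.negSucc 222, Int.ofNat 82, Int.ofNat 3, Int.ofNat 141, Int.ofNat 28, Int.negSucc 48, Int.negSucc 10, Int.ofNat 0, Int.ofNat 0, Int.ofNat 0, Int.ofNat 2, Int.ofNat 0, Int.negSucc 205, Int.negSucc 0, Int.ofNat 21, Int.ofNat 0, Int.ofNat 130]) (ZT.node 4482 (ZT.leaf [Int.ofNat 486, Int.ofNat 309, Int.negSucc 122, Int.ofNat 58, Int.ofNat 2, Int.ofNat 88, Int.ofNat 13, Int.negSucc 28, Int.negSucc 3, Int.ofNat 0, Int.ofNat 0, Int.ofNat 0, Int.negSucc 1, Int.ofNat 1, Int.negSucc 105, Int.negSucc 0, Int.ofNat 5, Int.ofNat 0, Int.ofNat 73]) (ZT.leaf [])))) (ZT.node 4486 (ZT.node 4484 (ZT.leaf [Int.ofNat 2, Int.ofNat 14, Int.ofNat 6, Int.negSucc 0, Int.ofNat 0, Int.negSucc 2, Int.ofNat 1,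 Int.ofNat 1, Int.negSucc 0, Int.ofNat 0, Int.ofNat 0, Int.ofNat 0, Int.ofNat 1, Int.ofNat 0, Int.negSucc 3, Int.ofNat 0, Int.negSucc 0, Int.ofNat 0, Int.negSucc 0]) (ZT.node 4485 (ZT.leaf []) (ZT.leaf [Int.ofNat 1]))) (ZT.node 4487 (ZT.leaf []) (ZT.node 4488 (ZT.leaf [Int.ofNat 1]) (ZT.leaf [Int.ofNat 74, Int.negSucc 201, Int.negSucc 53, Int.negSucc 14, Int.ofNat 1, Int.ofNat 5, Int.negSucc 14, Int.ofNat 21, Int.ofNat 11, Int.ofNat 0, Int.ofNat 0, Int.ofNat 0, Int.negSucc 1, Int.negSucc 0, Int.ofNat 64, Int.ofNat 1, Int.negSucc 2, Int.ofNat 0, Int.negSucc 12]))))) (ZT.node 4495 (ZT.node 4492 (ZT.node 4490 (ZT.leaf [Int.negSucc 6552, Int.negSucc 1162, Int.ofNat 1457, Int.negSucc 112, Int.ofNat 5, Int.negSucc 604, Int.negSucc 61, Int.ofNat 53, Int.negSucc 25, Int.ofNat 0, Int.ofNat 0, Int.ofNat 0, Int.negSucc 28, Int.negSucc 9, Int.ofNat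 482, Int.negSucc 10, Int.negSucc 81, Int.ofNat 0, Int.negSucc 529]) (ZT.node 4491 (ZT.leaf [Int.negSucc 1691, Int.negSucc 526, Int.ofNat 391, Int.negSucc 71, Int.ofNat 1, Int.negSucc 193, Int.negSucc 13, Int.ofNat 32, Int.negSucc 1, Int.ofNat 0, Int.ofNat 0, Int.ofNat 0, Int.negSucc 4, Int.negSucc 0, Int.ofNat 181, Int.negSucc 1, Int.negSucc 37, Int.ofNat 0, Int.negSucc 172]) (ZT.leaf [Int.ofNat 1344, Int.ofNat 662, Int.negSucc 329, Int.ofNat 116, Int.ofNat 3, Int.ofNat 206, Int.ofNat 21, Int.negSucc 47, Int.negSucc 0, Int.ofNat 0, Int.ofNat 0, Int.ofNat 0, Int.ofNat 1, Int.ofNat 3, Int.negSucc 230, Int.negSucc 3, Int.ofNat 27, Int.ofNat 0, Int.ofNat 173]))) (ZT.node 4493 (ZT.leaf [Int.ofNat 1344, Int.ofNat 662, Int.negSucc 329, Int.ofNat 116, Int.ofNat 3, Int.ofNat 206, Int.ofNat 21, Int.negSucc 47, Int.negSucc 0, Int.ofNat 0, Int.ofNat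 0, Int.ofNat 0, Int.ofNat 1, Int.ofNat 3, Int.negSucc 230, Int.negSucc 3, Int.ofNat 27, Int.ofNat 0, Int.ofNat 173]) (ZT.node 4494 (ZT.leaf []) (ZT.leaf [Int.ofNat 6801, Int.ofNat 4605, Int.negSucc 1622, Int.ofNat 781, Int.ofNat 23, Int.ofNat 1117, Int.ofNat 135, Int.negSucc 349, Int.negSucc 54, Int.ofNat 0, Int.ofNat 0, Int.ofNat 0, Int.ofNat 10, Int.ofNat 17, Int.negSucc 1526, Int.negSucc 28, Int.ofNat 194, Int.ofNat 0, Int.ofNat 1010])))) (ZT.node 4498 (ZT.node 4496 (ZT.leaf [Int.negSucc 2826, Int.negSucc 884, Int.ofNat 688, Int.negSucc 155, Int.negSucc 3, Int.negSucc 362, Int.negSucc 40, Int.ofNat 71, Int.negSucc 4, Int.ofNat 0, Int.ofNat 0, Int.ofNat 0, Int.negSucc 1, Int.negSucc 1, Int.ofNat 332, Int.negSucc 1, Int.negSucc 43, Int.ofNat 0, Int.negSucc 299]) (ZT.node 4497 (ZT.leaf []) (ZT.leaf [Int.negSucc 164, Int.negSucc 154, Int.ofNat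 25, Int.negSucc 19, Int.negSucc 0, Int.negSucc 19, Int.negSucc 5, Int.ofNat 9, Int.ofNat 5, Int.ofNat 0, Int.ofNat 0, Int.ofNat 0, Int.negSucc 2, Int.ofNat 0, Int.ofNat 62, Int.ofNat 1, Int.negSucc 7, Int.ofNat 0, Int.negSucc 24]))) (ZT.node 4499 (ZT.leaf []) (ZT.node 4500 (ZT.leaf []) (ZT.leaf [Int.ofNat 19, Int.ofNat 7, Int.negSucc 5, Int.ofNat 3, Int.ofNat 0, Int.ofNat 3, Int.ofNat 0, Int.negSucc 0, Int.ofNat 0, Int.ofNat 0, Int.ofNat 0, Int.ofNat 0, Int.ofNat 0, Int.ofNat 0, Int.negSucc 6, Int.ofNat 0, Int.ofNat 1, Int.ofNat 0, Int.ofNat 2]))))))) (ZT.node 4523 (ZT.node 4512 (ZT.node 4506 (ZT.node 4503 (ZT.node 4502 (ZT.leaf [Int.ofNat 1]) (ZT.leaf [Int.negSucc 417, Int.negSucc 238, Int.ofNat 108, Int.negSucc 42, Int.negSucc 2, Int.negSucc 77, Int.negSucc 8, Int.ofNat 24, Int.ofNat 1, Int.ofNat 0, Int.ofNat 0, Int.ofNat 0, Int.ofNat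 3, Int.negSucc 1, Int.ofNat 71, Int.ofNat 3, Int.negSucc 5, Int.ofNat 0, Int.negSucc 59])) (ZT.node 4504 (ZT.leaf [Int.negSucc 7753, Int.negSucc 4295, Int.ofNat 1770, Int.negSucc 677, Int.negSucc 17, Int.negSucc 1120, Int.negSucc 190, Int.ofNat 368, Int.ofNat 64, Int.ofNat 0, Int.ofNat 0, Int.ofNat 0, Int.negSucc 15, Int.negSucc 12, Int.ofNat 1566, Int.ofNat 20, Int.negSucc 193, Int.ofNat 0, Int.negSucc 1036]) (ZT.node 4505 (ZT.leaf [Int.negSucc 119, Int.negSucc 131, Int.negSucc 11, Int.ofNat 0, Int.ofNat 1, Int.ofNat 3, Int.negSucc 8, Int.ofNat 8, Int.ofNat 6, Int.ofNat 0, Int.ofNat 0, Int.ofNat 0, Int.negSucc 3, Int.ofNat 0, Int.ofNat 41, Int.ofNat 0, Int.negSucc 2, Int.ofNat 0, Int.negSucc 10]) (ZT.leaf [Int.negSucc 6734, Int.negSucc 5515, Int.ofNat 1583, Int.negSucc 918, Int.negSucc 25, Int.negSucc 1255, Int.negSucc 257, Int.ofNat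 495, Int.ofNat 111, Int.ofNat 1, Int.ofNat 0, Int.ofNat 1, Int.negSucc 5, Int.negSucc 18, Int.ofNat 1992, Int.ofNat 36, Int.negSucc 207, Int.ofNat 1, Int.negSucc 1172])))) (ZT.node 4509 (ZT.node 4507 (ZT.leaf [Int.negSucc 2800, Int.negSucc 1011, Int.ofNat 661, Int.negSucc 168, Int.negSucc 3, Int.negSucc 332, Int.negSucc 37, Int.ofNat 74, Int.ofNat 3, Int.ofNat 0, Int.ofNat 0, Int.ofNat 0, Int.negSucc 5, Int.negSucc 1, Int.ofNat 405, Int.negSucc 1, Int.negSucc 61, Int.ofNat 0, Int.negSucc 299]) (ZT.node 4508 (ZT.leaf []) (ZT.leaf [Int.ofNat 733, Int.ofNat 263, Int.negSucc 182, Int.ofNat 48, Int.ofNat 1, Int.ofNat 91, Int.ofNat 9, Int.negSucc 15, Int.negSucc 0, Int.ofNat 0, Int.ofNat 0, Int.ofNat 0, Int.ofNat 3, Int.ofNat 1, Int.negSucc 92, Int.ofNat 1, Int.ofNat 15, Int.ofNat 0, Int.ofNat 79]))) (ZT.node 4510 (ZT.leaf [Int.negSucc 2492,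 Int.negSucc 891, Int.ofNat 587, Int.negSucc 145, Int.negSucc 3, Int.negSucc 299, Int.negSucc 33, Int.ofNat 66, Int.ofNat 2, Int.ofNat 0, Int.ofNat 0, Int.ofNat 0, Int.negSucc 3, Int.negSucc 0, Int.ofNat 340, Int.negSucc 0, Int.negSucc 51, Int.ofNat 0, Int.negSucc 264]) (ZT.node 4511 (ZT.leaf [Int.ofNat 1, Int.ofNat 1]) (ZT.leaf [Int.ofNat 2, Int.ofNat 1]))))) (ZT.node 4517 (ZT.node 4514 (ZT.node 4513 (ZT.leaf [Int.negSucc 183, Int.negSucc 73, Int.ofNat 53, Int.negSucc 15, Int.negSucc 0, Int.negSucc 28, Int.ofNat 0, Int.ofNat 7, Int.ofNat 0, Int.ofNat 0, Int.ofNat 0, Int.ofNat 0, Int.ofNat 0, Int.negSucc 0, Int.ofNat 24, Int.ofNat 1, Int.negSucc 8, Int.ofNat 0, Int.negSucc 23]) (ZT.leaf [Int.ofNat 2, Int.ofNat 1])) (ZT.node 4515 (ZT.leaf [Int.ofNat 1]) (ZT.node 4516 (ZT.leaf [Int.negSucc 7691, Int.negSucc 1882, Int.ofNat 1674, Int.negSucc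 212, Int.ofNat 3, Int.negSucc 776, Int.negSucc 124, Int.ofNat 134, Int.negSucc 7, Int.negSucc 0, Int.ofNat 0, Int.ofNat 0, Int.negSucc 27, Int.negSucc 13, Int.ofNat 797, Int.negSucc 12, Int.negSucc 88, Int.ofNat 0, Int.negSucc 695]) (ZT.leaf [Int.ofNat 24996, Int.ofNat 8413, Int.negSucc 5682, Int.ofNat 1240, Int.ofNat 8, Int.ofNat 2883, Int.ofNat 344, Int.negSucc 588, Int.negSucc 3, Int.ofNat 0, Int.ofNat 1, Int.ofNat 0, Int.ofNat 82, Int.ofNat 40, Int.negSucc 3054, Int.negSucc 1, Int.ofNat 445, Int.ofNat 0, Int.ofNat 2567])))) (ZT.node 4520 (ZT.node 4518 (ZT.leaf [Int.ofNat 6993, Int.ofNat 3611, Int.negSucc 1611, Int.ofNat 574, Int.ofNat 14, Int.ofNat 991, Int.ofNat 139, Int.negSucc 279, Int.negSucc 34, Int.ofNat 0, Int.ofNat 0, Int.ofNat 0, Int.ofNat 17, Int.ofNat 15, Int.negSucc 1273, Int.negSucc 17, Int.ofNat 155, Int.ofNat 0, Int.ofNat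 898]) (ZT.node 4519 (ZT.leaf [Int.negSucc 315, Int.negSucc 163, Int.ofNat 34, Int.negSucc 8, Int.negSucc 0, Int.negSucc 14, Int.negSucc 13, Int.ofNat 15, Int.ofNat 8, Int.ofNat 0, Int.ofNat 0, Int.ofNat 0, Int.negSucc 3, Int.ofNat 1, Int.ofNat 65, Int.ofNat 0, Int.negSucc 5, Int.ofNat 0, Int.negSucc 26]) (ZT.leaf [Int.negSucc 6993, Int.negSucc 3612, Int.ofNat 1612, Int.negSucc 573, Int.negSucc 13, Int.negSucc 990, Int.negSucc 138, Int.ofNat 280, Int.ofNat 35, Int.ofNat 0, Int.ofNat 0, Int.ofNat 0, Int.negSucc 16, Int.negSucc 14, Int.ofNat 1274, Int.ofNat 18, Int.negSucc 154, Int.ofNat 0, Int.negSucc 897]))) (ZT.node 4521 (ZT.leaf []) (ZT.node 4522 (ZT.leaf []) (ZT.leaf [Int.ofNat 315, Int.ofNat 164, Int.negSucc 33, Int.ofNat 9, Int.ofNat 1, Int.ofNat 15, Int.ofNat 14, Int.negSucc 14, Int.negSucc 7, Int.ofNat 0, Int.ofNat 0, Int.ofNat 0,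 Int.ofNat 4, Int.negSucc 0, Int.negSucc 64, Int.ofNat 0, Int.ofNat 6, Int.ofNat 0, Int.ofNat 27])))))) (ZT.node 4534 (ZT.node 4528 (ZT.node 4525 (ZT.node 4524 (ZT.leaf [Int.negSucc 315, Int.negSucc 164, Int.ofNat 34, Int.negSucc 8, Int.negSucc 0, Int.negSucc 14, Int.negSucc 13, Int.ofNat 15, Int.ofNat 8, Int.ofNat 0, Int.ofNat 0, Int.ofNat 0, Int.negSucc 3, Int.ofNat 1, Int.ofNat 65, Int.ofNat 0, Int.negSucc 5, Int.ofNat 0, Int.negSucc 26]) (ZT.leaf [Int.ofNat 1])) (ZT.node 4526 (ZT.leaf [Int.ofNat 103, Int.ofNat 19, Int.negSucc 27, Int.ofNat 5, Int.ofNat 0, Int.ofNat 13, Int.ofNat 0, Int.negSucc 0, Int.ofNat 1, Int.ofNat 0, Int.ofNat 0, Int.ofNat 0, Int.ofNat 0, Int.ofNat 0, Int.negSucc 6, Int.ofNat 0, Int.ofNat 3, Int.ofNat 0, Int.ofNat 11]) (ZT.node 4527 (ZT.leaf [Int.ofNat 2210, Int.ofNat 966, Int.negSucc 556, Int.ofNat 183, Int.ofNat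 7, Int.ofNat 320, Int.ofNat 33, Int.negSucc 74, Int.negSucc 3, Int.ofNat 0, Int.ofNat 0, Int.ofNat 0, Int.ofNat 1, Int.ofNat 2, Int.negSucc 358, Int.negSucc 1, Int.ofNat 38, Int.ofNat 0, Int.ofNat 272]) (ZT.leaf [Int.ofNat 15619, Int.ofNat 4368, Int.negSucc 3500, Int.ofNat 605, Int.ofNat 18, Int.ofNat 1631, Int.ofNat 201, Int.negSucc 358, Int.negSucc 15, Int.ofNat 1, Int.negSucc 0, Int.ofNat 0, Int.ofNat 41, Int.ofNat 3, Int.negSucc 1719, Int.ofNat 22, Int.ofNat 306, Int.ofNat 0, Int.ofNat 1471])))) (ZT.node 4531 (ZT.node 4529 (ZT.leaf [Int.negSucc 103, Int.negSucc 18, Int.ofNat 28, Int.negSucc 4, Int.ofNat 0, Int.negSucc 12, Int.ofNat 0, Int.ofNat 1, Int.negSucc 0, Int.ofNat 0, Int.ofNat 0, Int.ofNat 0, Int.ofNat 0, Int.ofNat 0, Int.ofNat 7, Int.ofNat 0, Int.negSucc 2, Int.ofNat 0, Int.negSucc 10]) (ZT.node 4530 (ZT.leaf []) (ZT.leaf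 []))) (ZT.node 4532 (ZT.leaf [Int.negSucc 127, Int.ofNat 9, Int.ofNat 30, Int.ofNat 1, Int.ofNat 0, Int.negSucc 4, Int.ofNat 2, Int.negSucc 4, Int.negSucc 1, Int.ofNat 0, Int.ofNat 0, Int.ofNat 0, Int.negSucc 0, Int.ofNat 0, Int.negSucc 16, Int.ofNat 0, Int.ofNat 2, Int.ofNat 0, Int.negSucc 3]) (ZT.node 4533 (ZT.leaf [Int.ofNat 143, Int.ofNat 8, Int.negSucc 35, Int.ofNat 2, Int.ofNat 0, Int.ofNat 11, Int.negSucc 1, Int.ofNat 3, Int.ofNat 2, Int.ofNat 0, Int.ofNat 0, Int.ofNat 0, Int.ofNat 1, Int.ofNat 0, Int.ofNat 6, Int.ofNat 0, Int.ofNat 1, Int.ofNat 0, Int.ofNat 8]) (ZT.leaf []))))) (ZT.node 4540 (ZT.node 4537 (ZT.node 4535 (ZT.leaf [Int.negSucc 398, Int.negSucc 195, Int.ofNat 82, Int.negSucc 26, Int.negSucc 0, Int.negSucc 46, Int.negSucc 7, Int.ofNat 14, Int.ofNat 2, Int.ofNat 0, Int.ofNat 0, Int.ofNat 0, Int.negSucc 0, Int.negSucc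 0, Int.ofNat 55, Int.ofNat 1, Int.negSucc 5, Int.ofNat 0, Int.negSucc 43]) (ZT.node 4536 (ZT.leaf [Int.ofNat 2092, Int.ofNat 696, Int.negSucc 504, Int.ofNat 119, Int.ofNat 3, Int.ofNat 253, Int.ofNat 26, Int.negSucc 51, Int.ofNat 0, Int.ofNat 0, Int.ofNat 0, Int.ofNat 0, Int.ofNat 3, Int.ofNat 0, Int.negSucc 284, Int.ofNat 2, Int.ofNat 46, Int.ofNat 0, Int.ofNat 221]) (ZT.leaf [Int.ofNat 1]))) (ZT.node 4538 (ZT.leaf [Int.negSucc 141, Int.negSucc 7, Int.ofNat 36, Int.negSucc 1, Int.ofNat 0, Int.negSucc 10, Int.ofNat 2, Int.negSucc 2, Int.negSucc 1, Int.ofNat 0, Int.ofNat 0, Int.ofNat 0, Int.negSucc 0, Int.ofNat 0, Int.negSucc 5, Int.ofNat 0, Int.negSucc 0, Int.ofNat 0, Int.negSucc 7]) (ZT.node 4539 (ZT.leaf [Int.ofNat 1]) (ZT.leaf [])))) (ZT.node 4543 (ZT.node 4541 (ZT.leaf []) (ZT.node 4542 (ZT.leaf []) (ZT.leaf [Int.ofNat 0, Int.negSucc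 0]))) (ZT.node 4544 (ZT.leaf []) (ZT.node 4545 (ZT.leaf [Int.negSucc 2207, Int.negSucc 4332, Int.ofNat 656, Int.negSucc 829, Int.negSucc 31, Int.negSucc 813, Int.negSucc 103, Int.ofNat 370, Int.ofNat 81, Int.ofNat 0, Int.ofNat 0, Int.ofNat 0, Int.ofNat 21, Int.negSucc 10, Int.ofNat 1332, Int.ofNat 46, Int.negSucc 154, Int.ofNat 0, Int.negSucc 727]) (ZT.leaf [Int.ofNat 330, Int.ofNat 236, Int.negSucc 58, Int.ofNat 29, Int.ofNat 2, Int.ofNat 48, Int.ofNat 19, Int.negSucc 33, Int.negSucc 9, Int.ofNat 0, Int.ofNat 0, Int.ofNat 0, Int.negSucc 0, Int.negSucc 0, Int.negSucc 118, Int.negSucc 0, Int.ofNat 14, Int.ofNat 0, Int.ofNat 48])))))))) (ZT.node 4591 (ZT.node 4568 (ZT.node 4557 (ZT.node 4551 (ZT.node 4548 (ZT.node 4547 (ZT.leaf []) (ZT.leaf [])) (ZT.node 4549 (ZT.leaf [Int.negSucc 6419, Int.negSucc 3355, Int.ofNat 1496, Int.negSucc 539,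 Int.negSucc 11, Int.negSucc 922, Int.negSucc 122, Int.ofNat 252, Int.ofNat 29, Int.ofNat 0, Int.ofNat 0, Int.ofNat 0, Int.negSucc 15, Int.negSucc 15, Int.ofNat 1157, Int.ofNat 17, Int.negSucc 139, Int.ofNat 0, Int.negSucc 832]) (ZT.node 4550 (ZT.leaf []) (ZT.leaf [Int.negSucc 4231, Int.negSucc 1510, Int.ofNat 979, Int.negSucc 232, Int.negSucc 5, Int.negSucc 523, Int.negSucc 70, Int.ofNat 136, Int.ofNat 7, Int.ofNat 0, Int.ofNat 0, Int.ofNat 0, Int.negSucc 2, Int.negSucc 1, Int.ofNat 580, Int.ofNat 0, Int.negSucc 92, Int.ofNat 0, Int.negSucc 456])))) (ZT.node 4554 (ZT.node 4552 (ZT.leaf [Int.ofNat 1]) (ZT.node 4553 (ZT.leaf [Int.ofNat 645, Int.ofNat 332, Int.negSucc 178, Int.ofNat 63, Int.ofNat 0, Int.ofNat 111, Int.ofNat 14, Int.negSucc 31, Int.negSucc 2, Int.ofNat 0, Int.ofNat 0, Int.ofNat 0, Int.negSucc 0, Int.ofNat 0, Int.negSucc 106,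 Int.negSucc 0, Int.ofNat 13, Int.ofNat 0, Int.ofNat 96]) (ZT.leaf [Int.negSucc 502, Int.negSucc 111, Int.ofNat 124, Int.negSucc 22, Int.ofNat 0, Int.negSucc 47, Int.ofNat 10, Int.negSucc 12, Int.negSucc 9, Int.ofNat 0, Int.ofNat 0, Int.ofNat 0, Int.negSucc 2, Int.negSucc 2, Int.negSucc 9, Int.ofNat 3, Int.negSucc 2, Int.ofNat 0, Int.negSucc 34]))) (ZT.node 4555 (ZT.leaf []) (ZT.node 4556 (ZT.leaf []) (ZT.leaf [Int.negSucc 1513, Int.negSucc 913, Int.ofNat 349, Int.negSucc 146, Int.negSucc 1, Int.negSucc 227, Int.negSucc 37, Int.ofNat 79, Int.ofNat 15, Int.ofNat 0, Int.ofNat 0, Int.ofNat 0, Int.negSucc 1, Int.negSucc 1, Int.ofNat 319, Int.ofNat 3, Int.negSucc 34, Int.ofNat 0, Int.negSucc 210]))))) (ZT.node 4562 (ZT.node 4559 (ZT.node 4558 (ZT.leaf [Int.ofNat 1]) (ZT.leaf [Int.ofNat 675, Int.ofNat 258, Int.negSucc 168, Int.ofNat 48, Int.ofNat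 1, Int.ofNat 103, Int.ofNat 10, Int.negSucc 23, Int.ofNat 2, Int.ofNat 0, Int.ofNat 0, Int.ofNat 0, Int.negSucc 1, Int.ofNat 1, Int.negSucc 63, Int.negSucc 1, Int.ofNat 16, Int.ofNat 0, Int.ofNat 80])) (ZT.node 4560 (ZT.leaf [Int.negSucc 674, Int.negSucc 258, Int.ofNat 169, Int.negSucc 47, Int.negSucc 0, Int.negSucc 102, Int.negSucc 9, Int.ofNat 24, Int.negSucc 1, Int.ofNat 0, Int.ofNat 0, Int.ofNat 0, Int.ofNat 2, Int.negSucc 0, Int.ofNat 64, Int.ofNat 2, Int.negSucc 15, Int.ofNat 0, Int.negSucc 79]) (ZT.node 4561 (ZT.leaf [Int.ofNat 1, Int.ofNat 0, Int.ofNat 0, Int.ofNat 0, Int.ofNat 0, Int.ofNat 1]) (ZT.leaf [Int.ofNat 311, Int.ofNat 80, Int.negSucc 65, Int.ofNat 10, Int.ofNat 0, Int.ofNat 21, Int.ofNat 0, Int.ofNat 2, Int.ofNat 1, Int.ofNat 1, Int.ofNat 0, Int.ofNat 0, Int.ofNat 3, Int.ofNat 0, Int.negSucc 33, Int.ofNat 1, Int.ofNat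 5, Int.ofNat 0, Int.ofNat 23])))) (ZT.node 4565 (ZT.node 4563 (ZT.leaf []) (ZT.node 4564 (ZT.leaf []) (ZT.leaf [Int.negSucc 442, Int.negSucc 204, Int.ofNat 83, Int.negSucc 20, Int.negSucc 0, Int.negSucc 45, Int.negSucc 13, Int.ofNat 21, Int.ofNat 7, Int.ofNat 0, Int.ofNat 0, Int.ofNat 0, Int.negSucc 2, Int.ofNat 1, Int.ofNat 96, Int.ofNat 1, Int.negSucc 14, Int.ofNat 0, Int.negSucc 49]))) (ZT.node 4566 (ZT.leaf [Int.negSucc 1781, Int.negSucc 1412, Int.ofNat 417, Int.negSucc 233, Int.negSucc 8, Int.negSucc 313, Int.negSucc 45, Int.ofNat 122, Int.ofNat 24, Int.ofNat 0, Int.ofNat 0, Int.ofNat 0, Int.ofNat 1, Int.negSucc 3, Int.ofNat 489, Int.ofNat 7, Int.negSucc 70, Int.ofNat 0, Int.negSucc 292]) (ZT.node 4567 (ZT.leaf []) (ZT.leaf [Int.ofNat 568, Int.ofNat 162, Int.negSucc 131, Int.ofNat 25, Int.ofNat 0, Int.ofNat 64, Int.ofNat 2, Int.negSucc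 6, Int.ofNat 3, Int.ofNat 0, Int.ofNat 0, Int.ofNat 0, Int.ofNat 2, Int.ofNat 1, Int.negSucc 45, Int.ofNat 0, Int.ofNat 10, Int.ofNat 0, Int.ofNat 54])))))) (ZT.node 4579 (ZT.node 4573 (ZT.node 4570 (ZT.node 4569 (ZT.leaf [Int.ofNat 7312, Int.ofNat 5132, Int.negSucc 1842, Int.ofNat 920, Int.ofNat 21, Int.ofNat 1300, Int.ofNat 139, Int.negSucc 386, Int.negSucc 42, Int.ofNat 0, Int.ofNat 0, Int.ofNat 0, Int.negSucc 0, Int.ofNat 25, Int.negSucc 1644, Int.negSucc 36, Int.ofNat 205, Int.ofNat 0, Int.ofNat 1139]) (ZT.leaf [Int.ofNat 25086, Int.ofNat 12676, Int.negSucc 5798, Int.ofNat 2035, Int.ofNat 60, Int.ofNat 3505, Int.ofNat 467, Int.negSucc 1045, Int.negSucc 142, Int.ofNat 1, Int.negSucc 0, Int.ofNat 1, Int.ofNat 41, Int.ofNat 40, Int.negSucc 4418, Int.negSucc 30, Int.ofNat 661, Int.ofNat 1, Int.ofNat 3169])) (ZT.node 4571 (ZT.leaf [])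 (ZT.node 4572 (ZT.leaf [Int.negSucc 2122, Int.negSucc 2475, Int.ofNat 535, Int.negSucc 430, Int.negSucc 13, Int.negSucc 527, Int.negSucc 89, Int.ofNat 205, Int.ofNat 46, Int.ofNat 1, Int.ofNat 0, Int.ofNat 0, Int.ofNat 3, Int.negSucc 15, Int.ofNat 827, Int.ofNat 18, Int.negSucc 88, Int.ofNat 0, Int.negSucc 475]) (ZT.leaf [Int.negSucc 567, Int.negSucc 162, Int.ofNat 132, Int.negSucc 24, Int.ofNat 0, Int.negSucc 63, Int.negSucc 1, Int.ofNat 7, Int.negSucc 2, Int.ofNat 0, Int.ofNat 0, Int.ofNat 0, Int.negSucc 1, Int.negSucc 0, Int.ofNat 46, Int.ofNat 0, Int.negSucc 9, Int.ofNat 0, Int.negSucc 53])))) (ZT.node 4576 (ZT.node 4574 (ZT.leaf [Int.negSucc 415, Int.negSucc 143, Int.ofNat 92, Int.negSucc 19, Int.ofNat 0, Int.negSucc 47, Int.negSucc 2, Int.ofNat 7, Int.negSucc 0, Int.ofNat 0, Int.ofNat 0, Int.ofNat 0, Int.negSucc 1, Int.negSucc 0,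 Int.ofNat 38, Int.ofNat 0, Int.negSucc 4, Int.ofNat 0, Int.negSucc 40]) (ZT.node 4575 (ZT.leaf [Int.ofNat 2, Int.ofNat 2]) (ZT.leaf []))) (ZT.node 4577 (ZT.leaf [Int.ofNat 243, Int.ofNat 95, Int.negSucc 49, Int.ofNat 13, Int.ofNat 1, Int.ofNat 25, Int.ofNat 3, Int.negSucc 5, Int.negSucc 0, Int.ofNat 0, Int.ofNat 0, Int.ofNat 0, Int.ofNat 1, Int.ofNat 0, Int.negSucc 30, Int.ofNat 0, Int.ofNat 6, Int.ofNat 0, Int.ofNat 24]) (ZT.node 4578 (ZT.leaf [Int.ofNat 513, Int.ofNat 244, Int.negSucc 116, Int.ofNat 38, Int.ofNat 0, Int.ofNat 70, Int.ofNat 7, Int.negSucc 14, Int.negSucc 0, Int.ofNat 0, Int.ofNat 0, Int.ofNat 0, Int.ofNat 2, Int.ofNat 1, Int.negSucc 77, Int.negSucc 0, Int.ofNat 8, Int.ofNat 0, Int.ofNat 61]) (ZT.leaf [Int.negSucc 2315, Int.negSucc 1861, Int.ofNat 603, Int.negSucc 328, Int.negSucc 6, Int.negSucc 476, Int.negSucc 61, Int.ofNat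 154, Int.ofNat 22, Int.ofNat 0, Int.ofNat 0, Int.ofNat 0, Int.ofNat 3, Int.negSucc 9, Int.ofNat 618, Int.ofNat 12, Int.negSucc 75, Int.ofNat 0, Int.negSucc 412]))))) (ZT.node 4585 (ZT.node 4582 (ZT.node 4580 (ZT.leaf [Int.negSucc 509, Int.negSucc 160, Int.ofNat 121, Int.negSucc 26, Int.ofNat 0, Int.negSucc 61, Int.negSucc 3, Int.ofNat 10, Int.negSucc 1, Int.ofNat 0, Int.ofNat 0, Int.ofNat 0, Int.negSucc 0, Int.negSucc 0, Int.ofNat 45, Int.ofNat 0, Int.negSucc 6, Int.ofNat 0, Int.negSucc 51]) (ZT.node 4581 (ZT.leaf [Int.ofNat 268, Int.ofNat 75, Int.negSucc 65, Int.ofNat 15, Int.ofNat 1, Int.ofNat 24, Int.ofNat 1, Int.negSucc 4, Int.ofNat 0, Int.ofNat 0, Int.ofNat 0, Int.ofNat 0, Int.ofNat 1, Int.ofNat 0, Int.negSucc 29, Int.ofNat 0, Int.ofNat 8, Int.ofNat 0, Int.ofNat 24]) (ZT.leaf [Int.negSucc 32, Int.negSucc 4, Int.ofNat 12, Int.negSucc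 1, Int.ofNat 0, Int.negSucc 3, Int.ofNat 0, Int.ofNat 1, Int.ofNat 0, Int.ofNat 0, Int.ofNat 0, Int.ofNat 0, Int.ofNat 0, Int.ofNat 0, Int.ofNat 4, Int.ofNat 0, Int.negSucc 0, Int.ofNat 0, Int.negSucc 3]))) (ZT.node 4583 (ZT.leaf [Int.negSucc 0, Int.negSucc 1]) (ZT.node 4584 (ZT.leaf [Int.ofNat 1, Int.ofNat 1]) (ZT.leaf [])))) (ZT.node 4588 (ZT.node 4586 (ZT.leaf [Int.negSucc 102, Int.negSucc 21, Int.ofNat 28, Int.negSucc 4, Int.ofNat 0, Int.negSucc 12, Int.ofNat 0, Int.ofNat 1, Int.negSucc 0, Int.ofNat 0, Int.ofNat 0, Int.ofNat 0, Int.ofNat 0, Int.ofNat 0, Int.ofNat 7, Int.ofNat 0, Int.negSucc 2, Int.ofNat 0, Int.negSucc 10]) (ZT.node 4587 (ZT.leaf []) (ZT.leaf []))) (ZT.node 4589 (ZT.leaf []) (ZT.node 4590 (ZT.leaf [Int.negSucc 15, Int.ofNat 8, Int.ofNat 6, Int.ofNat 0, Int.ofNat 0, Int.negSucc 0, Int.ofNat 0, Int.negSucc 0, Int.negSucc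 0, Int.ofNat 0, Int.ofNat 0, Int.ofNat 0, Int.ofNat 0, Int.ofNat 0, Int.negSucc 1, Int.ofNat 0, Int.ofNat 0, Int.ofNat 0, Int.negSucc 0]) (ZT.leaf []))))))) (ZT.node 4613 (ZT.node 4602 (ZT.node 4596 (ZT.node 4593 (ZT.node 4592 (ZT.leaf [Int.negSucc 66, Int.negSucc 123, Int.ofNat 11, Int.negSucc 18, Int.negSucc 0, Int.negSucc 19, Int.negSucc 6, Int.ofNat 14, Int.ofNat 5, Int.ofNat 0, Int.ofNat 0, Int.ofNat 0, Int.ofNat 1, Int.ofNat 0, Int.ofNat 55, Int.ofNat 1, Int.negSucc 6, Int.ofNat 0, Int.negSucc 20]) (ZT.leaf [])) (ZT.node 4594 (ZT.leaf [Int.negSucc 2, Int.negSucc 1, Int.negSucc 0, Int.ofNat 0, Int.ofNat 0, Int.ofNat 0, Int.ofNat 0, Int.ofNat 0, Int.ofNat 0, Int.negSucc 0, Int.ofNat 0, Int.ofNat 0, Int.ofNat 0, Int.ofNat 0, Int.ofNat 0, Int.ofNat 0, Int.ofNat 0, Int.ofNat 0, Int.ofNat 0]) (ZT.node 4595 (ZT.leaf [Int.negSucc 249, Int.negSucc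 83, Int.ofNat 57, Int.negSucc 13, Int.negSucc 0, Int.negSucc 20, Int.negSucc 0, Int.ofNat 3, Int.ofNat 1, Int.ofNat 0, Int.ofNat 0, Int.ofNat 0, Int.negSucc 1, Int.ofNat 0, Int.ofNat 34, Int.ofNat 0, Int.negSucc 5, Int.ofNat 0, Int.negSucc 21]) (ZT.leaf [Int.ofNat 1])))) (ZT.node 4599 (ZT.node 4597 (ZT.leaf []) (ZT.node 4598 (ZT.leaf [Int.ofNat 1]) (ZT.leaf [Int.negSucc 7, Int.negSucc 2, Int.ofNat 1, Int.ofNat 0, Int.ofNat 1, Int.ofNat 0, Int.ofNat 0, Int.ofNat 1, Int.ofNat 0, Int.ofNat 0, Int.ofNat 0, Int.ofNat 0, Int.ofNat 0, Int.ofNat 0, Int.ofNat 0, Int.ofNat 0, Int.ofNat 0, Int.ofNat 0, Int.ofNat 0]))) (ZT.node 4600 (ZT.leaf [Int.negSucc 0, Int.negSucc 0]) (ZT.node 4601 (ZT.leaf []) (ZT.leaf [Int.ofNat 1]))))) (ZT.node 4607 (ZT.node 4604 (ZT.node 4603 (ZT.leaf []) (ZT.leaf [Int.negSucc 253, Int.negSucc 139, Int.ofNat 59, Int.negSucc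 21, Int.negSucc 1, Int.negSucc 37, Int.negSucc 3, Int.ofNat 11, Int.ofNat 2, Int.ofNat 0, Int.ofNat 0, Int.ofNat 0, Int.ofNat 0, Int.ofNat 0, Int.ofNat 47, Int.ofNat 1, Int.negSucc 6, Int.ofNat 0, Int.negSucc 32])) (ZT.node 4605 (ZT.leaf [Int.ofNat 1]) (ZT.node 4606 (ZT.leaf [Int.negSucc 974, Int.negSucc 598, Int.ofNat 229, Int.negSucc 99, Int.negSucc 1, Int.negSucc 151, Int.negSucc 22, Int.ofNat 45, Int.ofNat 8, Int.ofNat 0, Int.ofNat 0, Int.ofNat 0, Int.negSucc 1, Int.negSucc 2, Int.ofNat 195, Int.ofNat 3, Int.negSucc 19, Int.ofNat 0, Int.negSucc 136]) (ZT.leaf [Int.ofNat 392, Int.ofNat 236, Int.negSucc 65, Int.ofNat 27, Int.ofNat 1, Int.ofNat 40, Int.ofNat 18, Int.negSucc 27, Int.negSucc 10, Int.ofNat 0, Int.ofNat 0, Int.ofNat 0, Int.ofNat 2, Int.negSucc 0, Int.negSucc 92, Int.ofNat 0, Int.ofNat 9, Int.ofNat 0, Int.ofNat 48])))) (ZT.node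 4610 (ZT.node 4608 (ZT.leaf [Int.ofNat 3673, Int.ofNat 1346, Int.negSucc 877, Int.ofNat 226, Int.ofNat 8, Int.ofNat 451, Int.ofNat 51, Int.negSucc 115, Int.negSucc 7, Int.ofNat 0, Int.ofNat 0, Int.ofNat 0, Int.ofNat 2, Int.ofNat 2, Int.negSucc 459, Int.negSucc 1, Int.ofNat 79, Int.negSucc 0, Int.ofNat 399]) (ZT.node 4609 (ZT.leaf [Int.ofNat 435, Int.ofNat 597, Int.negSucc 157, Int.ofNat 125, Int.ofNat 6, Int.ofNat 147, Int.ofNat 7, Int.negSucc 44, Int.negSucc 4, Int.ofNat 0, Int.ofNat 0, Int.ofNat 0, Int.negSucc 5, Int.ofNat 7, Int.negSucc 180, Int.negSucc 6, Int.ofNat 31, Int.ofNat 0, Int.ofNat 122]) (ZT.leaf [Int.negSucc 67, Int.negSucc 472, Int.ofNat 64, Int.negSucc 99, Int.negSucc 5, Int.negSucc 96, Int.negSucc 3, Int.ofNat 36, Int.ofNat 6, Int.ofNat 0, Int.ofNat 0, Int.ofNat 0, Int.ofNat 6, Int.negSucc 6, Int.ofNat 143, Int.ofNat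 7, Int.negSucc 24, Int.ofNat 0, Int.negSucc 81]))) (ZT.node 4611 (ZT.leaf []) (ZT.node 4612 (ZT.leaf [Int.ofNat 6620, Int.ofNat 5494, Int.negSucc 1554, Int.ofNat 915, Int.ofNat 26, Int.ofNat 1245, Int.ofNat 258, Int.negSucc 493, Int.negSucc 111, Int.negSucc 0, Int.ofNat 0, Int.negSucc 0, Int.ofNat 6, Int.ofNat 19, Int.negSucc 1987, Int.negSucc 35, Int.ofNat 207, Int.negSucc 0, Int.ofNat 1164]) (ZT.leaf [Int.negSucc 7312, Int.negSucc 5132, Int.ofNat 1843, Int.negSucc 919, Int.negSucc 20, Int.negSucc 1299, Int.negSucc 138, Int.ofNat 387, Int.ofNat 43, Int.ofNat 0, Int.ofNat 0, Int.ofNat 0, Int.ofNat 1, Int.negSucc 24, Int.ofNat 1645, Int.ofNat 37, Int.negSucc 204, Int.ofNat 0, Int.negSucc 1138])))))) (ZT.node 4624 (ZT.node 4618 (ZT.node 4615 (ZT.node 4614 (ZT.leaf []) (ZT.leaf [Int.ofNat 113, Int.ofNat 21, Int.negSucc 27, Int.ofNat 4, Int.ofNat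 0, Int.ofNat 11, Int.ofNat 0, Int.negSucc 0, Int.ofNat 1, Int.ofNat 0, Int.ofNat 0, Int.ofNat 0, Int.ofNat 0, Int.ofNat 0, Int.negSucc 3, Int.ofNat 0, Int.ofNat 1, Int.ofNat 0, Int.ofNat 9])) (ZT.node 4616 (ZT.leaf []) (ZT.node 4617 (ZT.leaf [Int.negSucc 8387, Int.negSucc 6334, Int.ofNat 1980, Int.negSucc 1054, Int.negSucc 27, Int.negSucc 1488, Int.negSucc 288, Int.ofNat 564, Int.ofNat 120, Int.ofNat 1, Int.ofNat 0, Int.ofNat 1, Int.negSucc 7, Int.negSucc 21, Int.ofNat 2274, Int.ofNat 38, Int.negSucc 245, Int.ofNat 1, Int.negSucc 1385]) (ZT.leaf [Int.ofNat 1641, Int.ofNat 191, Int.negSucc 329, Int.ofNat 4, Int.negSucc 2, Int.ofNat 100, Int.ofNat 33, Int.negSucc 32, Int.negSucc 5, Int.ofNat 0, Int.ofNat 0, Int.ofNat 0, Int.ofNat 7, Int.negSucc 5, Int.negSucc 87, Int.ofNat 7, Int.ofNat 14, Int.ofNat 0, Int.ofNat 108])))) (ZT.node 4621 (ZT.node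 4619 (ZT.leaf [Int.negSucc 467, Int.negSucc 55, Int.ofNat 71, Int.ofNat 13, Int.ofNat 2, Int.negSucc 33, Int.negSucc 19, Int.ofNat 7, Int.ofNat 1, Int.ofNat 0, Int.ofNat 0, Int.ofNat 0, Int.negSucc 2, Int.negSucc 0, Int.ofNat 41, Int.negSucc 2, Int.ofNat 5, Int.ofNat 0, Int.negSucc 33]) (ZT.node 4620 (ZT.leaf [Int.ofNat 4290, Int.ofNat 872, Int.negSucc 988, Int.ofNat 114, Int.ofNat 0, Int.ofNat 399, Int.ofNat 15, Int.negSucc 41, Int.ofNat 14, Int.ofNat 0, Int.ofNat 0, Int.ofNat 0, Int.ofNat 19, Int.ofNat 1, Int.negSucc 304, Int.ofNat 6, Int.ofNat 79, Int.ofNat 0, Int.ofNat 356]) (ZT.leaf [Int.negSucc 3244, Int.negSucc 1109, Int.ofNat 689, Int.negSucc 143, Int.ofNat 0, Int.negSucc 341, Int.negSucc 42, Int.ofNat 66, Int.ofNat 0, Int.ofNat 1, Int.negSucc 0, Int.ofNat 0, Int.negSucc 12, Int.negSucc 5, Int.ofNat 418, Int.negSucc 0, Int.negSucc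 64, Int.ofNat 0, Int.negSucc 316]))) (ZT.node 4622 (ZT.leaf []) (ZT.node 4623 (ZT.leaf [Int.negSucc 5902, Int.ofNat 538, Int.ofNat 1209, Int.ofNat 201, Int.ofNat 17, Int.negSucc 253, Int.ofNat 32, Int.negSucc 91, Int.negSucc 57, Int.negSucc 0, Int.ofNat 0, Int.negSucc 0, Int.negSucc 44, Int.ofNat 13, Int.ofNat 8, Int.negSucc 40, Int.negSucc 66, Int.negSucc 0, Int.negSucc 217]) (ZT.leaf [Int.ofNat 689, Int.ofNat 280, Int.negSucc 100, Int.ofNat 24, Int.negSucc 0, Int.ofNat 59, Int.ofNat 22, Int.negSucc 17, Int.negSucc 0, Int.negSucc 0, Int.ofNat 1, Int.ofNat 0, Int.ofNat 4, Int.ofNat 4, Int.negSucc 131, Int.negSucc 0, Int.ofNat 10, Int.ofNat 0, Int.ofNat 60]))))) (ZT.node 4630 (ZT.node 4627 (ZT.node 4625 (ZT.leaf [Int.negSucc 6839, Int.negSucc 3150, Int.ofNat 1630, Int.negSucc 520, Int.negSucc 9, Int.negSucc 937, Int.negSucc 99, Int.ofNat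 223, Int.ofNat 15, Int.ofNat 0, Int.ofNat 0, Int.ofNat 0, Int.negSucc 13, Int.negSucc 10, Int.ofNat 1075, Int.ofNat 7, Int.negSucc 142, Int.ofNat 0, Int.negSucc 823]) (ZT.node 4626 (ZT.leaf [Int.negSucc 995, Int.negSucc 1411, Int.ofNat 307, Int.negSucc 270, Int.negSucc 4, Int.negSucc 313, Int.negSucc 27, Int.ofNat 97, Int.ofNat 15, Int.ofNat 0, Int.ofNat 0, Int.ofNat 0, Int.ofNat 1, Int.negSucc 10, Int.ofNat 424, Int.ofNat 13, Int.negSucc 58, Int.ofNat 0, Int.negSucc 267]) (ZT.leaf [Int.ofNat 412, Int.ofNat 133, Int.negSucc 86, Int.ofNat 20, Int.ofNat 1, Int.ofNat 32, Int.ofNat 4, Int.negSucc 3, Int.negSucc 1, Int.ofNat 0, Int.ofNat 0, Int.ofNat 0, Int.ofNat 4, Int.ofNat 0, Int.negSucc 52, Int.ofNat 1, Int.ofNat 9, Int.ofNat 0, Int.ofNat 34]))) (ZT.node 4628 (ZT.leaf [Int.ofNat 444, Int.ofNat 205, Int.negSucc 82, Int.ofNat 21, Int.ofNat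 1, Int.ofNat 46, Int.ofNat 14, Int.negSucc 20, Int.negSucc 6, Int.ofNat 0, Int.ofNat 0, Int.ofNat 0, Int.ofNat 3, Int.negSucc 0, Int.negSucc 95, Int.negSucc 0, Int.ofNat 15, Int.ofNat 0, Int.ofNat 50]) (ZT.node 4629 (ZT.leaf []) (ZT.leaf [Int.ofNat 427, Int.ofNat 1260, Int.negSucc 149, Int.ofNat 228, Int.ofNat 4, Int.ofNat 240, Int.ofNat 30, Int.negSucc 98, Int.negSucc 21, Int.ofNat 0, Int.ofNat 0, Int.ofNat 0, Int.negSucc 3, Int.ofNat 9, Int.negSucc 376, Int.negSucc 12, Int.ofNat 36, Int.ofNat 0, Int.ofNat 209])))) (ZT.node 4633 (ZT.node 4631 (ZT.leaf [Int.ofNat 115, Int.negSucc 31, Int.negSucc 23, Int.negSucc 7, Int.negSucc 0, Int.negSucc 1, Int.negSucc 4, Int.ofNat 13, Int.ofNat 3, Int.ofNat 0, Int.ofNat 0, Int.ofNat 0, Int.ofNat 4, Int.ofNat 0, Int.ofNat 23, Int.ofNat 0, Int.ofNat 1, Int.ofNat 0, Int.ofNat 2]) (ZT.node 4632 (ZT.leaf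 [Int.negSucc 238, Int.ofNat 87, Int.ofNat 63, Int.ofNat 12, Int.ofNat 1, Int.negSucc 11, Int.ofNat 7, Int.negSucc 11, Int.negSucc 7, Int.ofNat 0, Int.ofNat 0, Int.ofNat 0, Int.negSucc 0, Int.ofNat 0, Int.negSucc 30, Int.negSucc 0, Int.ofNat 0, Int.ofNat 0, Int.negSucc 2]) (ZT.leaf []))) (ZT.node 4634 (ZT.leaf [Int.negSucc 17, Int.ofNat 8, Int.ofNat 8, Int.negSucc 0, Int.ofNat 0, Int.negSucc 2, Int.ofNat 1, Int.ofNat 1, Int.negSucc 0, Int.ofNat 0, Int.ofNat 0, Int.ofNat 0, Int.ofNat 1, Int.ofNat 0, Int.negSucc 3, Int.ofNat 0, Int.negSucc 0, Int.ofNat 0, Int.negSucc 1]) (ZT.node 4635 (ZT.leaf [Int.negSucc 114, Int.ofNat 32, Int.ofNat 24, Int.ofNat 8, Int.ofNat 1, Int.ofNat 2, Int.ofNat 5, Int.negSucc 12, Int.negSucc 2, Int.ofNat 0, Int.ofNat 0, Int.ofNat 0, Int.negSucc 3, Int.ofNat 0, Int.negSucc 22, Int.ofNat 0, Int.negSucc 0, Int.ofNat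 0, Int.negSucc 1]) (ZT.leaf [Int.negSucc 120, Int.negSucc 13, Int.ofNat 35, Int.negSucc 4, Int.ofNat 0, Int.negSucc 13, Int.ofNat 0, Int.ofNat 1, Int.negSucc 1, Int.ofNat 0, Int.ofNat 0, Int.ofNat 0, Int.ofNat 0, Int.ofNat 0, Int.ofNat 0, Int.ofNat 0, Int.negSucc 0, Int.ofNat 0, Int.negSucc 9]))))))))) (ZT.node 4726 (ZT.node 4681 (ZT.node 4658 (ZT.node 4647 (ZT.node 4641 (ZT.node 4638 (ZT.node 4637 (ZT.leaf [Int.ofNat 121, Int.ofNat 13, Int.negSucc 34, Int.ofNat 5, Int.ofNat 0, Int.ofNat 14, Int.ofNat 0, Int.negSucc 0, Int.ofNat 2, Int.ofNat 0, Int.ofNat 0, Int.ofNat 0, Int.ofNat 0, Int.ofNat 0, Int.ofNat 0, Int.ofNat 0, Int.ofNat 1, Int.ofNat 0, Int.ofNat 10]) (ZT.leaf [Int.ofNat 1])) (ZT.node 4639 (ZT.leaf []) (ZT.node 4640 (ZT.leaf [Int.ofNat 11992, Int.ofNat 1343, Int.negSucc 2602, Int.ofNat 67, Int.negSucc 11, Int.ofNat 906, Int.ofNat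 36, Int.negSucc 53, Int.ofNat 49, Int.ofNat 2, Int.negSucc 0, Int.ofNat 1, Int.ofNat 66, Int.negSucc 8, Int.negSucc 691, Int.ofNat 47, Int.ofNat 195, Int.ofNat 1, Int.ofNat 814]) (ZT.leaf [Int.negSucc 515, Int.negSucc 212, Int.ofNat 114, Int.negSucc 30, Int.ofNat 0, Int.negSucc 63, Int.negSucc 8, Int.ofNat 10, Int.ofNat 2, Int.negSucc 0, Int.ofNat 0, Int.ofNat 0, Int.negSucc 3, Int.negSucc 0, Int.ofNat 80, Int.negSucc 1, Int.negSucc 9, Int.ofNat 0, Int.negSucc 56])))) (ZT.node 4644 (ZT.node 4642 (ZT.leaf [Int.ofNat 3291, Int.ofNat 1111, Int.negSucc 701, Int.ofNat 145, Int.ofNat 0, Int.ofNat 346, Int.ofNat 43, Int.negSucc 65, Int.ofNat 1, Int.negSucc 0, Int.ofNat 1, Int.ofNat 0, Int.ofNat 13, Int.ofNat 6, Int.negSucc 414, Int.ofNat 1, Int.ofNat 64, Int.ofNat 0, Int.ofNat 320]) (ZT.node 4643 (ZT.leaf []) (ZT.leaf [Int.negSucc 49, Int.negSucc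 2, Int.ofNat 13, Int.negSucc 0, Int.ofNat 0, Int.negSucc 3, Int.ofNat 0, Int.ofNat 0, Int.negSucc 0, Int.ofNat 0, Int.ofNat 0, Int.ofNat 0, Int.ofNat 0, Int.ofNat 0, Int.negSucc 2, Int.ofNat 0, Int.ofNat 1, Int.ofNat 0, Int.negSucc 2]))) (ZT.node 4645 (ZT.leaf [Int.ofNat 4464, Int.ofNat 5523, Int.negSucc 1183, Int.ofNat 985, Int.ofNat 26, Int.ofNat 1183, Int.ofNat 229, Int.negSucc 481, Int.negSucc 112, Int.negSucc 0, Int.ofNat 0, Int.negSucc 0, Int.negSucc 6, Int.ofNat 28, Int.negSucc 1771, Int.negSucc 50, Int.ofNat 135, Int.negSucc 0, Int.ofNat 1060]) (ZT.node 4646 (ZT.leaf [Int.ofNat 143, Int.ofNat 675, Int.negSucc 50, Int.ofNat 127, Int.ofNat 4, Int.ofNat 131, Int.ofNat 35, Int.negSucc 58, Int.negSucc 16, Int.ofNat 0, Int.ofNat 0, Int.ofNat 0, Int.ofNat 0, Int.ofNat 5, Int.negSucc 254, Int.negSucc 8, Int.negSucc 2, Int.ofNat 0, Int.ofNat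 112]) (ZT.leaf []))))) (ZT.node 4652 (ZT.node 4649 (ZT.node 4648 (ZT.leaf [Int.ofNat 628, Int.ofNat 313, Int.negSucc 137, Int.ofNat 49, Int.ofNat 1, Int.ofNat 79, Int.ofNat 11, Int.negSucc 17, Int.negSucc 2, Int.negSucc 0, Int.ofNat 1, Int.ofNat 0, Int.ofNat 3, Int.ofNat 2, Int.negSucc 96, Int.negSucc 1, Int.ofNat 9, Int.ofNat 0, Int.ofNat 75]) (ZT.leaf [Int.negSucc 25059, Int.negSucc 12680, Int.ofNat 5787, Int.negSucc 2030, Int.negSucc 59, Int.negSucc 3494, Int.negSucc 465, Int.ofNat 1046, Int.ofNat 145, Int.negSucc 0, Int.ofNat 1, Int.negSucc 0, Int.negSucc 41, Int.negSucc 39, Int.ofNat 4426, Int.ofNat 31, Int.negSucc 664, Int.negSucc 0, Int.negSucc 3165])) (ZT.node 4650 (ZT.leaf [Int.negSucc 14782, Int.negSucc 10830, Int.ofNat 3714, Int.negSucc 1913, Int.negSucc 56, Int.negSucc 2809, Int.negSucc 302, Int.ofNat 943, Int.ofNat 116, Int.ofNat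 1, Int.negSucc 0, Int.negSucc 1, Int.ofNat 34, Int.negSucc 38, Int.ofNat 3043, Int.ofNat 64, Int.negSucc 512, Int.negSucc 2, Int.negSucc 2407]) (ZT.node 4651 (ZT.leaf [Int.ofNat 1361, Int.ofNat 3272, Int.negSucc 426, Int.ofNat 606, Int.ofNat 14, Int.ofNat 627, Int.ofNat 82, Int.negSucc 210, Int.negSucc 44, Int.ofNat 0, Int.ofNat 0, Int.ofNat 0, Int.negSucc 3, Int.ofNat 29, Int.negSucc 966, Int.negSucc 35, Int.ofNat 64, Int.ofNat 1, Int.ofNat 540]) (ZT.leaf [Int.ofNat 70, Int.ofNat 2, Int.negSucc 20, Int.ofNat 1, Int.ofNat 0, Int.ofNat 6, Int.ofNat 0, Int.ofNat 1, Int.ofNat 2, Int.ofNat 0, Int.ofNat 0, Int.ofNat 0, Int.negSucc 0, Int.ofNat 2, Int.ofNat 5, Int.ofNat 0, Int.ofNat 0, Int.ofNat 0, Int.ofNat 4])))) (ZT.node 4655 (ZT.node 4653 (ZT.leaf [Int.ofNat 1]) (ZT.node 4654 (ZT.leaf [Int.negSucc 0, Int.negSucc 1]) (ZT.leaf []))) (ZT.node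 4656 (ZT.leaf [Int.ofNat 1]) (ZT.node 4657 (ZT.leaf [Int.negSucc 3505, Int.negSucc 3657, Int.ofNat 907, Int.negSucc 635, Int.negSucc 12, Int.negSucc 840, Int.negSucc 150, Int.ofNat 330, Int.ofNat 66, Int.ofNat 1, Int.ofNat 0, Int.ofNat 0, Int.ofNat 7, Int.negSucc 15, Int.ofNat 1255, Int.ofNat 28, Int.negSucc 132, Int.ofNat 0, Int.negSucc 758]) (ZT.leaf [])))))) (ZT.node 4669 (ZT.node 4663 (ZT.node 4660 (ZT.node 4659 (ZT.leaf []) (ZT.leaf [Int.ofNat 1])) (ZT.node 4661 (ZT.leaf [Int.ofNat 71, Int.ofNat 10, Int.negSucc 15, Int.ofNat 0, Int.ofNat 0, Int.ofNat 5, Int.ofNat 0, Int.ofNat 1, Int.ofNat 1, Int.ofNat 0, Int.ofNat 0, Int.ofNat 0, Int.ofNat 0, Int.ofNat 1, Int.ofNat 1, Int.ofNat 0, Int.negSucc 0, Int.ofNat 0, Int.ofNat 4]) (ZT.node 4662 (ZT.leaf [Int.ofNat 3, Int.ofNat 1]) (ZT.leaf [Int.ofNat 2, Int.ofNat 0, Int.ofNat 1, Int.ofNat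 0, Int.ofNat 0, Int.ofNat 0, Int.ofNat 0, Int.ofNat 0, Int.ofNat 0, Int.ofNat 0, Int.ofNat 0, Int.ofNat 0, Int.ofNat 0, Int.ofNat 0, Int.ofNat 0, Int.ofNat 0, Int.negSucc 0, Int.ofNat 0, Int.ofNat 0])))) (ZT.node 4666 (ZT.node 4664 (ZT.leaf [Int.negSucc 49, Int.negSucc 0, Int.ofNat 13, Int.negSucc 0, Int.ofNat 0, Int.negSucc 4, Int.ofNat 0, Int.negSucc 0, Int.negSucc 0, Int.ofNat 0, Int.ofNat 0, Int.ofNat 0, Int.ofNat 0, Int.ofNat 0, Int.negSucc 0, Int.ofNat 0, Int.negSucc 0, Int.ofNat 0, Int.negSucc 3]) (ZT.node 4665 (ZT.leaf [Int.ofNat 411, Int.ofNat 147, Int.negSucc 106, Int.ofNat 27, Int.ofNat 0, Int.ofNat 60, Int.ofNat 7, Int.negSucc 16, Int.negSucc 0, Int.ofNat 0, Int.ofNat 0, Int.ofNat 0, Int.ofNat 0, Int.ofNat 0, Int.negSucc 64, Int.ofNat 1, Int.ofNat 12, Int.ofNat 0, Int.ofNat 53]) (ZT.leaf [Int.negSucc 251, Int.ofNat 100, Int.ofNat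 46, Int.ofNat 18, Int.negSucc 0, Int.ofNat 3, Int.ofNat 7, Int.negSucc 14, Int.negSucc 5, Int.ofNat 0, Int.ofNat 0, Int.ofNat 0, Int.negSucc 0, Int.ofNat 2, Int.negSucc 31, Int.negSucc 1, Int.ofNat 1, Int.ofNat 0, Int.ofNat 8]))) (ZT.node 4667 (ZT.leaf [Int.ofNat 251, Int.ofNat 182, Int.negSucc 70, Int.ofNat 35, Int.ofNat 1, Int.ofNat 49, Int.ofNat 0, Int.negSucc 11, Int.negSucc 1, Int.ofNat 0, Int.ofNat 0, Int.ofNat 0, Int.ofNat 0, Int.ofNat 0, Int.negSucc 33, Int.negSucc 1, Int.ofNat 11, Int.ofNat 0, Int.ofNat 41]) (ZT.node 4668 (ZT.leaf [Int.negSucc 11, Int.ofNat 13, Int.ofNat 9, Int.negSucc 0, Int.ofNat 0, Int.negSucc 2, Int.ofNat 1, Int.ofNat 1, Int.negSucc 0, Int.ofNat 0, Int.ofNat 0, Int.ofNat 0, Int.ofNat 1, Int.ofNat 0, Int.negSucc 3, Int.ofNat 0, Int.negSucc 0, Int.ofNat 0, Int.negSucc 1]) (ZT.leaf []))))) (ZT.node 4675 (ZT.node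 4672 (ZT.node 4670 (ZT.leaf [Int.ofNat 540, Int.ofNat 161, Int.negSucc 126, Int.ofNat 26, Int.ofNat 0, Int.ofNat 59, Int.ofNat 3, Int.negSucc 9, Int.ofNat 2, Int.ofNat 1, Int.ofNat 0, Int.ofNat 0, Int.ofNat 1, Int.ofNat 1, Int.negSucc 46, Int.ofNat 0, Int.ofNat 12, Int.ofNat 0, Int.ofNat 51]) (ZT.node 4671 (ZT.leaf [Int.ofNat 386, Int.ofNat 146, Int.negSucc 87, Int.ofNat 23, Int.ofNat 1, Int.ofNat 44, Int.ofNat 4, Int.negSucc 6, Int.ofNat 0, Int.ofNat 0, Int.ofNat 0, Int.ofNat 0, Int.ofNat 2, Int.ofNat 1, Int.negSucc 46, Int.ofNat 0, Int.ofNat 6, Int.ofNat 0, Int.ofNat 39]) (ZT.leaf [Int.negSucc 249, Int.negSucc 181, Int.ofNat 71, Int.negSucc 34, Int.negSucc 0, Int.negSucc 48, Int.ofNat 0, Int.ofNat 12, Int.ofNat 2, Int.ofNat 0, Int.ofNat 0, Int.ofNat 0, Int.ofNat 0, Int.ofNat 0, Int.ofNat 34, Int.ofNat 2, Int.negSucc 10, Int.ofNat 0,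 Int.negSucc 40]))) (ZT.node 4673 (ZT.leaf []) (ZT.node 4674 (ZT.leaf [Int.negSucc 0, Int.negSucc 0, Int.ofNat 0, Int.ofNat 0, Int.ofNat 0, Int.ofNat 1]) (ZT.leaf [Int.ofNat 5510, Int.ofNat 966, Int.negSucc 1250, Int.ofNat 135, Int.ofNat 0, Int.ofNat 512, Int.ofNat 54, Int.negSucc 71, Int.ofNat 17, Int.ofNat 0, Int.ofNat 0, Int.ofNat 0, Int.ofNat 17, Int.negSucc 4, Int.negSucc 380, Int.ofNat 14, Int.ofNat 59, Int.ofNat 0, Int.ofNat 438])))) (ZT.node 4678 (ZT.node 4676 (ZT.leaf [Int.ofNat 75, Int.negSucc 6, Int.negSucc 12, Int.negSucc 3, Int.negSucc 0, Int.ofNat 2, Int.negSucc 0, Int.ofNat 4, Int.ofNat 1, Int.ofNat 0, Int.ofNat 0, Int.ofNat 0, Int.ofNat 1, Int.ofNat 0, Int.ofNat 1, Int.ofNat 1, Int.ofNat 0, Int.ofNat 0, Int.ofNat 2]) (ZT.node 4677 (ZT.leaf []) (ZT.leaf [Int.ofNat 1]))) (ZT.node 4679 (ZT.leaf [Int.ofNat 2]) (ZT.node 4680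 (ZT.leaf []) (ZT.leaf [Int.ofNat 38, Int.ofNat 729, Int.negSucc 63, Int.ofNat 150, Int.ofNat 5, Int.ofNat 140, Int.ofNat 18, Int.negSucc 63, Int.negSucc 11, Int.ofNat 0, Int.ofNat 0, Int.ofNat 0, Int.negSucc 6, Int.ofNat 5, Int.negSucc 229, Int.negSucc 7, Int.ofNat 28, Int.ofNat 0, Int.ofNat 120]))))))) (ZT.node 4703 (ZT.node 4692 (ZT.node 4686 (ZT.node 4683 (ZT.node 4682 (ZT.leaf [Int.ofNat 217, Int.negSucc 640, Int.ofNat 9, Int.negSucc 138, Int.negSucc 5, Int.negSucc 115, Int.negSucc 14, Int.ofNat 62, Int.ofNat 12, Int.ofNat 0, Int.ofNat 0, Int.ofNat 0, Int.ofNat 10, Int.negSucc 3, Int.ofNat 193, Int.ofNat 8, Int.negSucc 24, Int.ofNat 0, Int.negSucc 95]) (ZT.leaf [Int.ofNat 6481, Int.ofNat 611, Int.negSucc 1383, Int.negSucc 6, Int.negSucc 2, Int.ofNat 468, Int.ofNat 54, Int.negSucc 46, Int.ofNat 22, Int.ofNat 0, Int.ofNat 0, Int.ofNat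 0, Int.ofNat 26, Int.ofNat 6, Int.negSucc 351, Int.ofNat 20, Int.ofNat 112, Int.ofNat 0, Int.ofNat 439])) (ZT.node 4684 (ZT.leaf [Int.ofNat 440, Int.negSucc 6, Int.negSucc 95, Int.negSucc 0, Int.ofNat 1, Int.ofNat 30, Int.ofNat 0, Int.ofNat 1, Int.ofNat 3, Int.ofNat 0, Int.ofNat 0, Int.ofNat 0, Int.ofNat 1, Int.negSucc 2, Int.negSucc 18, Int.ofNat 3, Int.ofNat 6, Int.ofNat 0, Int.ofNat 22]) (ZT.node 4685 (ZT.leaf []) (ZT.leaf [Int.ofNat 191, Int.ofNat 92, Int.negSucc 50, Int.ofNat 17, Int.ofNat 0, Int.ofNat 33, Int.ofNat 7, Int.negSucc 13, Int.negSucc 2, Int.ofNat 0, Int.ofNat 0, Int.ofNat 0, Int.ofNat 0, Int.negSucc 0, Int.negSucc 50, Int.ofNat 1, Int.ofNat 7, Int.ofNat 0, Int.ofNat 30])))) (ZT.node 4689 (ZT.node 4687 (ZT.leaf [Int.ofNat 1]) (ZT.node 4688 (ZT.leaf [Int.negSucc 149, Int.negSucc 76, Int.ofNat 35, Int.negSucc 13, Int.ofNat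 0, Int.negSucc 20, Int.negSucc 4, Int.ofNat 1, Int.ofNat 2, Int.ofNat 0, Int.ofNat 0, Int.ofNat 0, Int.negSucc 2, Int.ofNat 0, Int.ofNat 37, Int.negSucc 1, Int.ofNat 0, Int.ofNat 0, Int.negSucc 18]) (ZT.leaf []))) (ZT.node 4690 (ZT.leaf [Int.ofNat 273, Int.ofNat 151, Int.negSucc 46, Int.ofNat 14, Int.ofNat 1, Int.ofNat 24, Int.ofNat 4, Int.negSucc 9, Int.negSucc 3, Int.ofNat 0, Int.ofNat 0, Int.ofNat 0, Int.ofNat 2, Int.ofNat 1, Int.negSucc 52, Int.negSucc 0, Int.ofNat 10, Int.ofNat 0, Int.ofNat 28]) (ZT.node 4691 (ZT.leaf [Int.ofNat 1, Int.ofNat 5, Int.ofNat 1, Int.ofNat 0, Int.ofNat 0, Int.ofNat 0, Int.ofNat 1]) (ZT.leaf [Int.negSucc 409, Int.negSucc 146, Int.ofNat 107, Int.negSucc 26, Int.ofNat 0, Int.negSucc 59, Int.negSucc 6, Int.ofNat 17, Int.ofNat 1, Int.ofNat 0, Int.ofNat 0, Int.ofNat 0, Int.ofNat 0, Int.ofNat 0, Int.ofNat 65,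 Int.negSucc 0, Int.negSucc 11, Int.ofNat 0, Int.negSucc 52]))))) (ZT.node 4697 (ZT.node 4694 (ZT.node 4693 (ZT.leaf [Int.ofNat 903, Int.ofNat 580, Int.negSucc 211, Int.ofNat 95, Int.ofNat 2, Int.ofNat 140, Int.ofNat 22, Int.negSucc 47, Int.negSucc 8, Int.ofNat 0, Int.ofNat 0, Int.ofNat 0, Int.ofNat 2, Int.ofNat 2, Int.negSucc 196, Int.negSucc 2, Int.ofNat 23, Int.ofNat 0, Int.ofNat 130]) (ZT.leaf [Int.ofNat 303, Int.ofNat 21, Int.negSucc 56, Int.negSucc 2, Int.ofNat 0, Int.ofNat 16, Int.ofNat 5, Int.negSucc 2, Int.ofNat 2, Int.ofNat 0, Int.ofNat 0, Int.ofNat 0, Int.ofNat 1, Int.ofNat 1, Int.negSucc 26, Int.ofNat 1, Int.ofNat 1, Int.ofNat 0, Int.ofNat 17])) (ZT.node 4695 (ZT.leaf [Int.negSucc 271, Int.negSucc 150, Int.ofNat 47, Int.negSucc 13, Int.negSucc 0, Int.negSucc 23, Int.negSucc 3, Int.ofNat 10, Int.ofNat 4, Int.ofNat 0, Int.ofNat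 0, Int.ofNat 0, Int.negSucc 1, Int.negSucc 0, Int.ofNat 53, Int.ofNat 1, Int.negSucc 9, Int.ofNat 0, Int.negSucc 27]) (ZT.node 4696 (ZT.leaf [Int.ofNat 600, Int.ofNat 156, Int.negSucc 143, Int.ofNat 23, Int.ofNat 0, Int.ofNat 65, Int.ofNat 1, Int.negSucc 5, Int.ofNat 3, Int.ofNat 0, Int.ofNat 0, Int.ofNat 0, Int.ofNat 2, Int.ofNat 1, Int.negSucc 45, Int.ofNat 0, Int.ofNat 13, Int.ofNat 0, Int.ofNat 56]) (ZT.leaf [Int.negSucc 583, Int.negSucc 185, Int.ofNat 148, Int.negSucc 33, Int.negSucc 0, Int.negSucc 69, Int.negSucc 3, Int.ofNat 15, Int.negSucc 0, Int.ofNat 0, Int.ofNat 0, Int.ofNat 0, Int.ofNat 0, Int.negSucc 0, Int.ofNat 56, Int.ofNat 1, Int.negSucc 14, Int.ofNat 0, Int.negSucc 59])))) (ZT.node 4700 (ZT.node 4698 (ZT.leaf []) (ZT.node 4699 (ZT.leaf [Int.ofNat 40, Int.ofNat 12, Int.negSucc 8, Int.ofNat 2, Int.ofNat 0, Int.ofNat 4,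 Int.ofNat 0, Int.negSucc 0, Int.ofNat 0, Int.ofNat 0, Int.ofNat 0, Int.ofNat 0, Int.ofNat 0, Int.ofNat 0, Int.negSucc 3, Int.ofNat 0, Int.ofNat 1, Int.ofNat 0, Int.ofNat 3]) (ZT.leaf [Int.ofNat 1]))) (ZT.node 4701 (ZT.leaf [Int.negSucc 10425, Int.negSucc 2792, Int.ofNat 2282, Int.negSucc 335, Int.negSucc 4, Int.negSucc 1029, Int.negSucc 131, Int.ofNat 207, Int.ofNat 1, Int.ofNat 1, Int.ofNat 0, Int.ofNat 0, Int.negSucc 37, Int.negSucc 16, Int.ofNat 1090, Int.negSucc 9, Int.negSucc 201, Int.ofNat 0, Int.negSucc 950]) (ZT.node 4702 (ZT.leaf []) (ZT.leaf [Int.ofNat 0, Int.negSucc 0])))))) (ZT.node 4714 (ZT.node 4708 (ZT.node 4705 (ZT.node 4704 (ZT.leaf []) (ZT.leaf [])) (ZT.node 4706 (ZT.leaf [Int.ofNat 669, Int.ofNat 226, Int.negSucc 150, Int.ofNat 31, Int.ofNat 1, Int.ofNat 70, Int.ofNat 0, Int.negSucc 5, Int.ofNat 2, Int.negSucc 0, Int.ofNat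 0, Int.ofNat 0, Int.ofNat 4, Int.ofNat 2, Int.negSucc 46, Int.negSucc 0, Int.ofNat 9, Int.ofNat 0, Int.ofNat 60]) (ZT.node 4707 (ZT.leaf [Int.ofNat 8, Int.ofNat 3, Int.negSucc 1, Int.ofNat 0, Int.ofNat 0, Int.ofNat 1, Int.ofNat 0, Int.negSucc 0, Int.ofNat 0, Int.ofNat 0, Int.ofNat 0, Int.ofNat 0, Int.ofNat 0, Int.ofNat 0, Int.ofNat 0, Int.ofNat 0, Int.ofNat 0, Int.ofNat 0, Int.ofNat 0]) (ZT.leaf [Int.negSucc 2018, Int.negSucc 1101, Int.ofNat 433, Int.negSucc 155, Int.negSucc 1, Int.negSucc 257, Int.negSucc 36, Int.ofNat 72, Int.ofNat 11, Int.ofNat 0, Int.ofNat 0, Int.ofNat 0, Int.negSucc 10, Int.negSucc 6, Int.ofNat 341, Int.ofNat 6, Int.negSucc 38, Int.ofNat 0, Int.negSucc 244])))) (ZT.node 4711 (ZT.node 4709 (ZT.leaf [Int.ofNat 92, Int.ofNat 27, Int.negSucc 22, Int.ofNat 4, Int.ofNat 0, Int.ofNat 10, Int.ofNat 0, Int.negSucc 0, Int.ofNat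 0, Int.negSucc 0, Int.ofNat 0, Int.ofNat 0, Int.ofNat 1, Int.ofNat 0, Int.negSucc 10, Int.ofNat 0, Int.ofNat 1, Int.ofNat 0, Int.ofNat 9]) (ZT.node 4710 (ZT.leaf [Int.ofNat 60, Int.ofNat 14, Int.negSucc 5, Int.negSucc 0, Int.ofNat 0, Int.ofNat 1, Int.ofNat 1, Int.ofNat 2, Int.ofNat 0, Int.ofNat 1, Int.ofNat 0, Int.ofNat 0, Int.ofNat 1, Int.ofNat 0, Int.negSucc 0, Int.ofNat 0, Int.ofNat 0, Int.ofNat 0, Int.ofNat 3]) (ZT.leaf [Int.ofNat 1]))) (ZT.node 4712 (ZT.leaf []) (ZT.node 4713 (ZT.leaf [Int.ofNat 0, Int.negSucc 0]) (ZT.leaf []))))) (ZT.node 4720 (ZT.node 4717 (ZT.node 4715 (ZT.leaf []) (ZT.node 4716 (ZT.leaf []) (ZT.leaf []))) (ZT.node 4718 (ZT.leaf [Int.ofNat 1]) (ZT.node 4719 (ZT.leaf [Int.negSucc 307, Int.negSucc 147, Int.ofNat 79, Int.negSucc 28, Int.negSucc 0, Int.negSucc 29, Int.ofNat 6, Int.negSucc 4, Int.negSucc 1, Int.negSucc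 0, Int.ofNat 0, Int.ofNat 0, Int.negSucc 2, Int.negSucc 0, Int.ofNat 32, Int.ofNat 1, Int.negSucc 9, Int.ofNat 0, Int.negSucc 29]) (ZT.leaf [Int.ofNat 3187, Int.ofNat 1078, Int.negSucc 752, Int.ofNat 174, Int.ofNat 4, Int.ofNat 378, Int.ofNat 35, Int.negSucc 73, Int.ofNat 2, Int.ofNat 0, Int.ofNat 0, Int.ofNat 0, Int.ofNat 6, Int.ofNat 3, Int.negSucc 390, Int.ofNat 1, Int.ofNat 67, Int.ofNat 0, Int.ofNat 332])))) (ZT.node 4723 (ZT.node 4721 (ZT.leaf [Int.ofNat 1]) (ZT.node 4722 (ZT.leaf [Int.ofNat 1]) (ZT.leaf [Int.negSucc 598, Int.negSucc 155, Int.ofNat 144, Int.negSucc 22, Int.ofNat 0, Int.negSucc 64, Int.negSucc 0, Int.ofNat 6, Int.negSucc 2, Int.ofNat 0, Int.ofNat 0, Int.ofNat 0, Int.negSucc 1, Int.negSucc 0, Int.ofNat 46, Int.ofNat 0, Int.negSucc 12, Int.ofNat 0, Int.negSucc 55]))) (ZT.node 4724 (ZT.leaf [Int.ofNat 1316, Int.ofNat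 960, Int.negSucc 373, Int.ofNat 185, Int.ofNat 7, Int.ofNat 277, Int.ofNat 25, Int.negSucc 82, Int.negSucc 7, Int.ofNat 0, Int.ofNat 0, Int.ofNat 0, Int.negSucc 5, Int.ofNat 6, Int.negSucc 323, Int.negSucc 6, Int.ofNat 46, Int.ofNat 0, Int.ofNat 230]) (ZT.node 4725 (ZT.leaf [Int.negSucc 1360, Int.negSucc 1039, Int.ofNat 315, Int.negSucc 166, Int.negSucc 0, Int.negSucc 243, Int.negSucc 40, Int.ofNat 81, Int.ofNat 14, Int.ofNat 0, Int.ofNat 0, Int.ofNat 0, Int.negSucc 3, Int.negSucc 4, Int.ofNat 340, Int.ofNat 6, Int.negSucc 34, Int.ofNat 0, Int.negSucc 221]) (ZT.leaf [Int.ofNat 2385, Int.ofNat 1726, Int.negSucc 578, Int.ofNat 291, Int.ofNat 5, Int.ofNat 429, Int.ofNat 62, Int.negSucc 142, Int.negSucc 21, Int.ofNat 0, Int.ofNat 0, Int.ofNat 0, Int.ofNat 2, Int.ofNat 8, Int.negSucc 571, Int.negSucc 9, Int.ofNat 66, Int.ofNat 0, Int.ofNat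 383])))))))) (ZT.node 4771 (ZT.node 4748 (ZT.node 4737 (ZT.node 4731 (ZT.node 4728 (ZT.node 4727 (ZT.leaf [Int.negSucc 1023, Int.negSucc 686, Int.ofNat 264, Int.negSucc 123, Int.negSucc 3, Int.negSucc 184, Int.negSucc 20, Int.ofNat 62, Int.ofNat 8, Int.ofNat 0, Int.ofNat 0, Int.ofNat 0, Int.ofNat 2, Int.negSucc 2, Int.ofNat 232, Int.ofNat 4, Int.negSucc 30, Int.ofNat 0, Int.negSucc 160]) (ZT.leaf [Int.negSucc 1112, Int.negSucc 952, Int.ofNat 258, Int.negSucc 157, Int.negSucc 2, Int.negSucc 218, Int.negSucc 43, Int.ofNat 84, Int.ofNat 16, Int.ofNat 1, Int.ofNat 0, Int.ofNat 0, Int.ofNat 0, Int.negSucc 4, Int.ofNat 315, Int.ofNat 6, Int.negSucc 26, Int.ofNat 0, Int.negSucc 198])) (ZT.node 4729 (ZT.leaf [Int.ofNat 5094, Int.ofNat 5325, Int.negSucc 1252, Int.ofNat 915, Int.ofNat 29, Int.ofNat 1156, Int.ofNat 225, Int.negSucc 461, Int.negSucc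 104, Int.negSucc 0, Int.ofNat 0, Int.negSucc 0, Int.negSucc 0, Int.ofNat 25, Int.negSucc 1903, Int.negSucc 42, Int.ofNat 194, Int.negSucc 0, Int.ofNat 1065]) (ZT.node 4730 (ZT.leaf []) (ZT.leaf [Int.negSucc 2383, Int.negSucc 1725, Int.ofNat 579, Int.negSucc 290, Int.negSucc 4, Int.negSucc 428, Int.negSucc 61, Int.ofNat 143, Int.ofNat 22, Int.ofNat 0, Int.ofNat 0, Int.ofNat 0, Int.negSucc 1, Int.negSucc 7, Int.ofNat 572, Int.ofNat 10, Int.negSucc 65, Int.ofNat 0, Int.negSucc 382])))) (ZT.node 4734 (ZT.node 4732 (ZT.leaf [Int.ofNat 5513, Int.ofNat 967, Int.negSucc 1250, Int.ofNat 135, Int.ofNat 0, Int.ofNat 512, Int.ofNat 54, Int.negSucc 71, Int.ofNat 17, Int.ofNat 0, Int.ofNat 0, Int.ofNat 0, Int.ofNat 17, Int.negSucc 4, Int.negSucc 380, Int.ofNat 14, Int.ofNat 59, Int.ofNat 0, Int.ofNat 438]) (ZT.node 4733 (ZT.leaf [Int.negSucc 4178, Int.negSucc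 228, Int.ofNat 933, Int.negSucc 12, Int.ofNat 3, Int.negSucc 312, Int.negSucc 25, Int.ofNat 5, Int.negSucc 26, Int.ofNat 0, Int.ofNat 0, Int.ofNat 0, Int.negSucc 16, Int.ofNat 8, Int.ofNat 127, Int.negSucc 15, Int.negSucc 21, Int.ofNat 0, Int.negSucc 254]) (ZT.leaf [Int.ofNat 607, Int.ofNat 147, Int.negSucc 145, Int.ofNat 24, Int.ofNat 0, Int.ofNat 64, Int.ofNat 1, Int.negSucc 5, Int.ofNat 3, Int.ofNat 0, Int.ofNat 0, Int.ofNat 0, Int.ofNat 2, Int.ofNat 1, Int.negSucc 35, Int.ofNat 0, Int.ofNat 9, Int.ofNat 0, Int.ofNat 54]))) (ZT.node 4735 (ZT.leaf []) (ZT.node 4736 (ZT.leaf [Int.ofNat 833, Int.ofNat 502, Int.negSucc 159, Int.ofNat 70, Int.negSucc 1, Int.ofNat 103, Int.ofNat 20, Int.negSucc 39, Int.negSucc 8, Int.ofNat 0, Int.ofNat 0, Int.ofNat 0, Int.ofNat 7, Int.negSucc 0, Int.negSucc 162, Int.ofNat 0, Int.ofNat 24, Int.ofNat 0, Int.ofNat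 106]) (ZT.leaf [Int.ofNat 1]))))) (ZT.node 4742 (ZT.node 4739 (ZT.node 4738 (ZT.leaf []) (ZT.leaf [Int.ofNat 358, Int.ofNat 138, Int.negSucc 85, Int.ofNat 23, Int.ofNat 1, Int.ofNat 44, Int.ofNat 4, Int.negSucc 9, Int.ofNat 0, Int.ofNat 0, Int.ofNat 0, Int.ofNat 0, Int.ofNat 1, Int.ofNat 1, Int.negSucc 45, Int.negSucc 0, Int.ofNat 5, Int.ofNat 0, Int.ofNat 39])) (ZT.node 4740 (ZT.leaf [Int.ofNat 144, Int.negSucc 62, Int.negSucc 81, Int.ofNat 17, Int.ofNat 1, Int.ofNat 39, Int.negSucc 7, Int.ofNat 2, Int.ofNat 8, Int.ofNat 0, Int.ofNat 0, Int.ofNat 0, Int.negSucc 4, Int.ofNat 0, Int.ofNat 19, Int.ofNat 0, Int.ofNat 1, Int.ofNat 0, Int.ofNat 17]) (ZT.node 4741 (ZT.leaf [Int.ofNat 1]) (ZT.leaf [Int.ofNat 1742, Int.ofNat 453, Int.negSucc 437, Int.ofNat 90, Int.ofNat 4, Int.ofNat 207, Int.ofNat 8, Int.negSucc 29, Int.ofNat 7, Int.ofNat 0, Int.ofNat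 0, Int.ofNat 0, Int.ofNat 1, Int.ofNat 1, Int.negSucc 164, Int.ofNat 1, Int.ofNat 32, Int.ofNat 0, Int.ofNat 169])))) (ZT.node 4745 (ZT.node 4743 (ZT.leaf [Int.negSucc 356, Int.negSucc 136, Int.ofNat 86, Int.negSucc 22, Int.negSucc 0, Int.negSucc 43, Int.negSucc 3, Int.ofNat 10, Int.ofNat 0, Int.ofNat 0, Int.ofNat 0, Int.ofNat 0, Int.negSucc 0, Int.negSucc 0, Int.ofNat 46, Int.ofNat 1, Int.negSucc 4, Int.ofNat 0, Int.negSucc 38]) (ZT.node 4744 (ZT.leaf []) (ZT.leaf [Int.ofNat 2605, Int.ofNat 1757, Int.negSucc 627, Int.ofNat 297, Int.ofNat 5, Int.ofNat 446, Int.ofNat 62, Int.negSucc 139, Int.negSucc 20, Int.ofNat 0, Int.ofNat 0, Int.ofNat 0, Int.ofNat 4, Int.ofNat 8, Int.negSucc 579, Int.negSucc 8, Int.ofNat 70, Int.ofNat 0, Int.ofNat 399]))) (ZT.node 4746 (ZT.leaf [Int.negSucc 676, Int.negSucc 163, Int.ofNat 154, Int.negSucc 22, Int.ofNat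 0, Int.negSucc 65, Int.negSucc 1, Int.ofNat 5, Int.negSucc 2, Int.negSucc 0, Int.ofNat 0, Int.ofNat 0, Int.negSucc 2, Int.negSucc 0, Int.ofNat 37, Int.ofNat 0, Int.negSucc 8, Int.ofNat 0, Int.negSucc 56]) (ZT.node 4747 (ZT.leaf [Int.negSucc 5581, Int.negSucc 3348, Int.ofNat 1306, Int.negSucc 546, Int.negSucc 11, Int.negSucc 861, Int.negSucc 120, Int.ofNat 260, Int.ofNat 40, Int.ofNat 1, Int.ofNat 0, Int.ofNat 0, Int.negSucc 11, Int.negSucc 16, Int.ofNat 1153, Int.ofNat 17, Int.negSucc 143, Int.ofNat 0, Int.negSucc 780]) (ZT.leaf [])))))) (ZT.node 4759 (ZT.node 4753 (ZT.node 4750 (ZT.node 4749 (ZT.leaf [Int.ofNat 152, Int.negSucc 59, Int.negSucc 34, Int.negSucc 10, Int.negSucc 0, Int.negSucc 3, Int.negSucc 5, Int.ofNat 11, Int.ofNat 4, Int.negSucc 0, Int.ofNat 0, Int.ofNat 0, Int.ofNat 2, Int.ofNat 0, Int.ofNat 20, Int.ofNat 1, Int.ofNat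 1, Int.ofNat 0, Int.negSucc 2]) (ZT.leaf [Int.ofNat 1])) (ZT.node 4751 (ZT.leaf []) (ZT.node 4752 (ZT.leaf [Int.negSucc 2518, Int.negSucc 881, Int.ofNat 616, Int.negSucc 153, Int.negSucc 5, Int.negSucc 321, Int.negSucc 23, Int.ofNat 56, Int.negSucc 3, Int.ofNat 0, Int.ofNat 0, Int.ofNat 0, Int.negSucc 3, Int.negSucc 2, Int.ofNat 301, Int.ofNat 2, Int.negSucc 41, Int.ofNat 0, Int.negSucc 267]) (ZT.leaf [])))) (ZT.node 4756 (ZT.node 4754 (ZT.leaf [Int.negSucc 5151, Int.ofNat 346, Int.ofNat 1038, Int.ofNat 183, Int.ofNat 12, Int.negSucc 218, Int.negSucc 28, Int.negSucc 36, Int.negSucc 31, Int.ofNat 0, Int.ofNat 0, Int.ofNat 0, Int.negSucc 30, Int.ofNat 2, Int.ofNat 31, Int.negSucc 28, Int.negSucc 49, Int.ofNat 0, Int.negSucc 216]) (ZT.node 4755 (ZT.leaf []) (ZT.leaf [Int.ofNat 528, Int.ofNat 160, Int.negSucc 135, Int.ofNat 31, Int.ofNat 0,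 Int.ofNat 60, Int.negSucc 1, Int.negSucc 7, Int.ofNat 4, Int.ofNat 0, Int.ofNat 0, Int.ofNat 0, Int.ofNat 1, Int.ofNat 2, Int.negSucc 45, Int.ofNat 0, Int.ofNat 16, Int.ofNat 0, Int.ofNat 54]))) (ZT.node 4757 (ZT.leaf [Int.negSucc 1320, Int.negSucc 605, Int.ofNat 315, Int.negSucc 98, Int.negSucc 0, Int.negSucc 179, Int.negSucc 19, Int.ofNat 48, Int.ofNat 3, Int.ofNat 0, Int.ofNat 0, Int.ofNat 0, Int.negSucc 1, Int.negSucc 2, Int.ofNat 199, Int.ofNat 0, Int.negSucc 29, Int.ofNat 0, Int.negSucc 162]) (ZT.node 4758 (ZT.leaf [Int.negSucc 2540, Int.negSucc 890, Int.ofNat 628, Int.negSucc 161, Int.negSucc 4, Int.negSucc 344, Int.negSucc 41, Int.ofNat 82, Int.ofNat 0, Int.negSucc 0, Int.ofNat 0, Int.ofNat 0, Int.ofNat 0, Int.negSucc 0, Int.ofNat 331, Int.ofNat 0, Int.negSucc 44, Int.ofNat 0, Int.negSucc 289]) (ZT.leaf [Int.ofNat 69, Int.ofNat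 125, Int.negSucc 10, Int.ofNat 19, Int.ofNat 1, Int.ofNat 20, Int.ofNat 7, Int.negSucc 13, Int.negSucc 4, Int.ofNat 0, Int.ofNat 0, Int.ofNat 0, Int.negSucc 0, Int.ofNat 0, Int.negSucc 54, Int.negSucc 0, Int.ofNat 7, Int.ofNat 0, Int.ofNat 21]))))) (ZT.node 4765 (ZT.node 4762 (ZT.node 4760 (ZT.leaf []) (ZT.node 4761 (ZT.leaf [Int.ofNat 23241, Int.ofNat 8146, Int.negSucc 5333, Int.ofNat 1238, Int.ofNat 28, Int.ofNat 2744, Int.ofNat 323, Int.negSucc 624, Int.negSucc 27, Int.ofNat 2, Int.negSucc 0, Int.ofNat 0, Int.ofNat 58, Int.ofNat 26, Int.negSucc 2943, Int.ofNat 3, Int.ofNat 472, Int.ofNat 0, Int.ofNat 2438]) (ZT.leaf [Int.ofNat 7314, Int.ofNat 5133, Int.negSucc 1842, Int.ofNat 920, Int.ofNat 21, Int.ofNat 1300, Int.ofNat 139, Int.negSucc 386, Int.negSucc 42, Int.ofNat 0, Int.ofNat 0, Int.ofNat 0, Int.negSucc 0, Int.ofNat 25, Int.negSucc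 1644, Int.negSucc 36, Int.ofNat 205, Int.ofNat 0, Int.ofNat 1139]))) (ZT.node 4763 (ZT.leaf []) (ZT.node 4764 (ZT.leaf [Int.negSucc 6, Int.ofNat 10, Int.ofNat 6, Int.ofNat 0, Int.ofNat 0, Int.negSucc 0, Int.ofNat 0, Int.negSucc 0, Int.negSucc 0, Int.ofNat 0, Int.ofNat 0, Int.ofNat 0, Int.ofNat 0, Int.ofNat 0, Int.negSucc 1, Int.ofNat 0, Int.ofNat 0, Int.ofNat 0, Int.negSucc 0]) (ZT.leaf [Int.ofNat 49, Int.ofNat 2, Int.negSucc 13, Int.ofNat 1, Int.ofNat 0, Int.ofNat 6, Int.ofNat 0, Int.ofNat 0, Int.ofNat 1, Int.ofNat 1, Int.ofNat 0, Int.ofNat 0, Int.ofNat 0, Int.ofNat 0, Int.ofNat 2, Int.ofNat 0, Int.ofNat 1, Int.ofNat 0, Int.ofNat 4])))) (ZT.node 4768 (ZT.node 4766 (ZT.leaf [Int.ofNat 100, Int.ofNat 22, Int.negSucc 33, Int.ofNat 7, Int.ofNat 0, Int.ofNat 14, Int.ofNat 0, Int.negSucc 0, Int.ofNat 1, Int.negSucc 0, Int.ofNat 0, Int.ofNat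 0, Int.ofNat 0, Int.ofNat 0, Int.negSucc 15, Int.ofNat 0, Int.ofNat 3, Int.ofNat 0, Int.ofNat 12]) (ZT.node 4767 (ZT.leaf [Int.ofNat 2, Int.ofNat 1]) (ZT.leaf []))) (ZT.node 4769 (ZT.leaf []) (ZT.node 4770 (ZT.leaf [Int.negSucc 68, Int.negSucc 37, Int.ofNat 14, Int.negSucc 3, Int.ofNat 0, Int.negSucc 8, Int.ofNat 0, Int.ofNat 1, Int.ofNat 1, Int.ofNat 0, Int.ofNat 0, Int.ofNat 0, Int.ofNat 0, Int.ofNat 0, Int.ofNat 18, Int.ofNat 0, Int.negSucc 3, Int.ofNat 0, Int.negSucc 9]) (ZT.leaf [Int.ofNat 1122, Int.ofNat 627, Int.negSucc 292, Int.ofNat 114, Int.negSucc 2, Int.ofNat 188, Int.ofNat 15, Int.negSucc 32, Int.ofNat 4, Int.ofNat 0, Int.ofNat 0, Int.ofNat 0, Int.ofNat 3, Int.ofNat 8, Int.negSucc 178, Int.negSucc 6, Int.ofNat 13, Int.ofNat 0, Int.ofNat 155]))))))) (ZT.node 4793 (ZT.node 4782 (ZT.node 4776 (ZT.node 4773 (ZT.node 4772 (ZT.leaf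 [Int.ofNat 1]) (ZT.leaf [Int.negSucc 536, Int.negSucc 158, Int.ofNat 127, Int.negSucc 25, Int.ofNat 0, Int.negSucc 59, Int.negSucc 2, Int.ofNat 10, Int.negSucc 1, Int.negSucc 0, Int.ofNat 0, Int.ofNat 0, Int.negSucc 0, Int.negSucc 0, Int.ofNat 47, Int.ofNat 0, Int.negSucc 11, Int.ofNat 0, Int.negSucc 50])) (ZT.node 4774 (ZT.leaf [Int.negSucc 15, Int.ofNat 11, Int.ofNat 8, Int.ofNat 0, Int.ofNat 0, Int.negSucc 0, Int.ofNat 0, Int.ofNat 0, Int.negSucc 0, Int.ofNat 1, Int.ofNat 0, Int.ofNat 0, Int.ofNat 0, Int.ofNat 0, Int.negSucc 6, Int.ofNat 0, Int.ofNat 2, Int.ofNat 0, Int.ofNat 1]) (ZT.node 4775 (ZT.leaf [Int.ofNat 1]) (ZT.leaf [])))) (ZT.node 4779 (ZT.node 4777 (ZT.leaf [Int.ofNat 1]) (ZT.node 4778 (ZT.leaf []) (ZT.leaf [Int.ofNat 219, Int.ofNat 84, Int.negSucc 44, Int.ofNat 10, Int.ofNat 0, Int.ofNat 22, Int.ofNat 3, Int.negSucc 4,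 Int.negSucc 0, Int.ofNat 0, Int.ofNat 0, Int.ofNat 0, Int.ofNat 1, Int.ofNat 0, Int.negSucc 27, Int.ofNat 0, Int.ofNat 6, Int.ofNat 0, Int.ofNat 21]))) (ZT.node 4780 (ZT.leaf []) (ZT.node 4781 (ZT.leaf [Int.ofNat 0, Int.ofNat 0, Int.ofNat 0, Int.ofNat 0, Int.ofNat 0, Int.ofNat 0, Int.ofNat 1]) (ZT.leaf [Int.negSucc 0, Int.negSucc 0, Int.ofNat 0, Int.ofNat 0, Int.ofNat 0, Int.ofNat 0, Int.negSucc 0]))))) (ZT.node 4787 (ZT.node 4784 (ZT.node 4783 (ZT.leaf [Int.ofNat 1]) (ZT.leaf [Int.ofNat 1])) (ZT.node 4785 (ZT.leaf [Int.ofNat 14, Int.negSucc 12, Int.negSucc 8, Int.ofNat 1, Int.ofNat 0, Int.ofNat 3, Int.negSucc 0, Int.negSucc 0, Int.ofNat 1, Int.ofNat 0, Int.ofNat 0, Int.ofNat 0, Int.negSucc 0, Int.ofNat 0, Int.ofNat 4, Int.ofNat 0, Int.ofNat 1, Int.ofNat 0, Int.ofNat 2]) (ZT.node 4786 (ZT.leaf [Int.ofNat 146, Int.ofNat 109, Int.negSucc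 32, Int.ofNat 17, Int.ofNat 0, Int.ofNat 22, Int.ofNat 5, Int.negSucc 6, Int.negSucc 1, Int.ofNat 0, Int.ofNat 0, Int.ofNat 0, Int.ofNat 1, Int.ofNat 1, Int.negSucc 32, Int.negSucc 0, Int.ofNat 4, Int.ofNat 0, Int.ofNat 23]) (ZT.leaf [Int.ofNat 1])))) (ZT.node 4790 (ZT.node 4788 (ZT.leaf [Int.negSucc 16, Int.ofNat 11, Int.ofNat 9, Int.negSucc 0, Int.ofNat 0, Int.negSucc 2, Int.ofNat 0, Int.ofNat 1, Int.negSucc 0, Int.ofNat 0, Int.ofNat 0, Int.ofNat 0, Int.ofNat 1, Int.ofNat 0, Int.negSucc 3, Int.ofNat 0, Int.negSucc 0, Int.ofNat 0, Int.negSucc 1]) (ZT.node 4789 (ZT.leaf [Int.ofNat 97, Int.ofNat 35, Int.negSucc 20, Int.ofNat 4, Int.ofNat 0, Int.ofNat 10, Int.ofNat 0, Int.negSucc 0, Int.ofNat 0, Int.ofNat 0, Int.ofNat 0, Int.ofNat 0, Int.ofNat 1, Int.ofNat 0, Int.negSucc 10, Int.ofNat 0, Int.ofNat 2, Int.ofNat 0, Int.ofNat 9]) (ZT.leaf [Int.ofNat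 9, Int.negSucc 5, Int.negSucc 0, Int.negSucc 0, Int.ofNat 0, Int.ofNat 0, Int.ofNat 0, Int.ofNat 1, Int.ofNat 1, Int.ofNat 1, Int.ofNat 0, Int.ofNat 0, Int.ofNat 0, Int.ofNat 0, Int.ofNat 7, Int.ofNat 0, Int.ofNat 0, Int.ofNat 0, Int.negSucc 0]))) (ZT.node 4791 (ZT.leaf [Int.ofNat 1313, Int.ofNat 2284, Int.negSucc 401, Int.ofNat 424, Int.ofNat 14, Int.ofNat 468, Int.ofNat 60, Int.negSucc 184, Int.negSucc 39, Int.ofNat 0, Int.ofNat 0, Int.ofNat 0, Int.negSucc 6, Int.ofNat 17, Int.negSucc 758, Int.negSucc 20, Int.ofNat 102, Int.ofNat 0, Int.ofNat 418]) (ZT.node 4792 (ZT.leaf []) (ZT.leaf [Int.negSucc 1090, Int.negSucc 593, Int.ofNat 263, Int.negSucc 102, Int.negSucc 2, Int.negSucc 162, Int.negSucc 22, Int.ofNat 38, Int.ofNat 6, Int.ofNat 0, Int.ofNat 0, Int.ofNat 0, Int.negSucc 4, Int.negSucc 1, Int.ofNat 192, Int.ofNat 1, Int.negSucc 17,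 Int.ofNat 0, Int.negSucc 144])))))) (ZT.node 4804 (ZT.node 4798 (ZT.node 4795 (ZT.node 4794 (ZT.leaf [Int.negSucc 1310, Int.negSucc 2283, Int.ofNat 402, Int.negSucc 423, Int.negSucc 13, Int.negSucc 467, Int.negSucc 59, Int.ofNat 185, Int.ofNat 40, Int.ofNat 0, Int.ofNat 0, Int.ofNat 0, Int.ofNat 7, Int.negSucc 16, Int.ofNat 759, Int.ofNat 21, Int.negSucc 101, Int.ofNat 0, Int.negSucc 417]) (ZT.leaf [Int.negSucc 649, Int.negSucc 244, Int.ofNat 209, Int.negSucc 66, Int.negSucc 2, Int.negSucc 118, Int.ofNat 1, Int.ofNat 24, Int.negSucc 1, Int.ofNat 0, Int.ofNat 0, Int.ofNat 0, Int.ofNat 4, Int.negSucc 0, Int.ofNat 89, Int.ofNat 0, Int.negSucc 21, Int.ofNat 0, Int.negSucc 88])) (ZT.node 4796 (ZT.leaf [Int.ofNat 2, Int.ofNat 1]) (ZT.node 4797 (ZT.leaf [Int.negSucc 1638, Int.negSucc 190, Int.ofNat 330, Int.negSucc 3, Int.ofNat 3, Int.negSucc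 99, Int.negSucc 32, Int.ofNat 33, Int.ofNat 6, Int.ofNat 0, Int.ofNat 0, Int.ofNat 0, Int.negSucc 6, Int.ofNat 6, Int.ofNat 88, Int.negSucc 6, Int.negSucc 13, Int.ofNat 0, Int.negSucc 107]) (ZT.leaf [Int.ofNat 1, Int.ofNat 1])))) (ZT.node 4801 (ZT.node 4799 (ZT.leaf [Int.ofNat 6, Int.ofNat 2, Int.ofNat 1, Int.ofNat 0, Int.ofNat 0, Int.ofNat 0, Int.ofNat 0, Int.ofNat 0, Int.ofNat 0, Int.ofNat 1, Int.ofNat 0, Int.ofNat 0, Int.ofNat 0, Int.ofNat 0, Int.ofNat 0, Int.ofNat 0, Int.ofNat 1, Int.ofNat 0, Int.ofNat 0]) (ZT.node 4800 (ZT.leaf [Int.negSucc 685, Int.negSucc 410, Int.ofNat 174, Int.negSucc 72, Int.negSucc 1, Int.negSucc 109, Int.negSucc 10, Int.ofNat 34, Int.ofNat 5, Int.ofNat 0, Int.ofNat 0, Int.ofNat 0, Int.ofNat 0, Int.negSucc 1, Int.ofNat 134, Int.ofNat 2, Int.negSucc 22, Int.ofNat 0, Int.negSucc 98]) (ZT.leaf [Int.ofNat 419, Int.ofNat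 271, Int.negSucc 89, Int.ofNat 41, Int.ofNat 1, Int.ofNat 59, Int.ofNat 11, Int.negSucc 17, Int.negSucc 3, Int.ofNat 0, Int.ofNat 0, Int.ofNat 0, Int.ofNat 2, Int.ofNat 2, Int.negSucc 87, Int.negSucc 1, Int.ofNat 9, Int.ofNat 0, Int.ofNat 58]))) (ZT.node 4802 (ZT.leaf []) (ZT.node 4803 (ZT.leaf [Int.negSucc 0, Int.ofNat 0, Int.negSucc 0, Int.ofNat 0, Int.ofNat 0, Int.ofNat 0, Int.ofNat 0, Int.ofNat 0, Int.ofNat 0, Int.ofNat 0, Int.ofNat 0, Int.ofNat 0, Int.ofNat 0, Int.ofNat 0, Int.ofNat 0, Int.ofNat 0, Int.ofNat 1, Int.ofNat 0, Int.ofNat 0]) (ZT.leaf [Int.negSucc 539, Int.negSucc 301, Int.ofNat 141, Int.negSucc 55, Int.negSucc 1, Int.negSucc 87, Int.negSucc 5, Int.ofNat 27, Int.ofNat 3, Int.ofNat 0, Int.ofNat 0, Int.ofNat 0, Int.ofNat 1, Int.negSucc 0, Int.ofNat 101, Int.ofNat 1, Int.negSucc 18, Int.ofNat 0, Int.negSucc 75]))))) (ZT.node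 4810 (ZT.node 4807 (ZT.node 4805 (ZT.leaf [Int.negSucc 1, Int.negSucc 0]) (ZT.node 4806 (ZT.leaf [Int.negSucc 2163, Int.negSucc 1121, Int.ofNat 507, Int.negSucc 183, Int.negSucc 3, Int.negSucc 314, Int.negSucc 42, Int.ofNat 84, Int.ofNat 10, Int.ofNat 0, Int.ofNat 0, Int.ofNat 0, Int.negSucc 4, Int.negSucc 5, Int.ofNat 395, Int.ofNat 5, Int.negSucc 44, Int.ofNat 0, Int.negSucc 279]) (ZT.leaf []))) (ZT.node 4808 (ZT.leaf [Int.ofNat 1]) (ZT.node 4809 (ZT.leaf [Int.negSucc 575, Int.negSucc 412, Int.ofNat 128, Int.negSucc 64, Int.ofNat 0, Int.negSucc 84, Int.negSucc 15, Int.ofNat 26, Int.ofNat 7, Int.ofNat 0, Int.ofNat 0, Int.ofNat 0, Int.negSucc 3, Int.negSucc 2, Int.ofNat 146, Int.ofNat 1, Int.negSucc 6, Int.ofNat 0, Int.negSucc 84]) (ZT.leaf [Int.negSucc 583, Int.negSucc 1277, Int.ofNat 220, Int.negSucc 250, Int.negSucc 3, Int.negSucc 281,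 Int.negSucc 23, Int.ofNat 93, Int.ofNat 13, Int.ofNat 0, Int.ofNat 0, Int.ofNat 0, Int.ofNat 5, Int.negSucc 10, Int.ofNat 371, Int.ofNat 14, Int.negSucc 49, Int.ofNat 0, Int.negSucc 233])))) (ZT.node 4813 (ZT.node 4811 (ZT.leaf [Int.ofNat 3430, Int.ofNat 1354, Int.negSucc 820, Int.ofNat 238, Int.ofNat 4, Int.ofNat 450, Int.ofNat 44, Int.negSucc 88, Int.ofNat 0, Int.ofNat 0, Int.ofNat 0, Int.ofNat 0, Int.ofNat 10, Int.ofNat 3, Int.negSucc 415, Int.negSucc 2, Int.ofNat 50, Int.ofNat 0, Int.ofNat 378]) (ZT.node 4812 (ZT.leaf []) (ZT.leaf [Int.ofNat 1]))) (ZT.node 4814 (ZT.leaf [Int.negSucc 433, Int.negSucc 596, Int.ofNat 158, Int.negSucc 124, Int.negSucc 5, Int.negSucc 146, Int.negSucc 6, Int.ofNat 45, Int.ofNat 5, Int.ofNat 0, Int.ofNat 0, Int.ofNat 0, Int.ofNat 6, Int.negSucc 6, Int.ofNat 181, Int.ofNat 7, Int.negSucc 30, Int.ofNat 0, Int.negSucc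 121]) (ZT.node 4815 (ZT.leaf [Int.ofNat 72, Int.ofNat 125, Int.negSucc 11, Int.ofNat 19, Int.ofNat 0, Int.ofNat 20, Int.ofNat 7, Int.negSucc 13, Int.negSucc 4, Int.ofNat 0, Int.ofNat 0, Int.ofNat 0, Int.negSucc 0, Int.ofNat 0, Int.negSucc 54, Int.negSucc 0, Int.ofNat 7, Int.ofNat 0, Int.ofNat 21]) (ZT.leaf []))))))))))

noncomputable def labT_10 : ZT := (ZT.node 4996 (ZT.node 4906 (ZT.node 4861 (ZT.node 4838 (ZT.node 4827 (ZT.node 4821 (ZT.node 4818 (ZT.node 4817 (ZT.leaf [Int.negSucc 148, Int.negSucc 46, Int.ofNat 42, Int.negSucc 12, Int.ofNat 0, Int.negSucc 28, Int.negSucc 2, Int.ofNat 8, Int.negSucc 0, Int.ofNat 0, Int.ofNat 0, Int.ofNat 0, Int.ofNat 2, Int.ofNat 0, Int.ofNat 2, Int.ofNat 1, Int.negSucc 5, Int.ofNat 0, Int.negSucc 18]) (ZT.leaf [Int.ofNat 976, Int.ofNat 599, Int.negSucc 228, Int.ofNat 100, Int.ofNat 2, Int.ofNat 152,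 Int.ofNat 23, Int.negSucc 44, Int.negSucc 7, Int.ofNat 0, Int.ofNat 0, Int.ofNat 0, Int.ofNat 2, Int.ofNat 3, Int.negSucc 194, Int.negSucc 2, Int.ofNat 20, Int.ofNat 0, Int.ofNat 137])) (ZT.node 4819 (ZT.leaf []) (ZT.node 4820 (ZT.leaf [Int.negSucc 6517, Int.negSucc 2011, Int.ofNat 1444, Int.negSucc 270, Int.negSucc 4, Int.negSucc 684, Int.negSucc 71, Int.ofNat 147, Int.ofNat 1, Int.negSucc 0, Int.ofNat 0, Int.negSucc 0, Int.negSucc 20, Int.negSucc 5, Int.ofNat 737, Int.ofNat 1, Int.negSucc 126, Int.negSucc 0, Int.negSucc 622]) (ZT.leaf [Int.ofNat 543, Int.ofNat 303, Int.negSucc 140, Int.ofNat 56, Int.ofNat 2, Int.ofNat 88, Int.ofNat 6, Int.negSucc 26, Int.negSucc 2, Int.ofNat 0, Int.ofNat 0, Int.ofNat 0, Int.negSucc 0, Int.ofNat 1, Int.negSucc 100, Int.negSucc 0, Int.ofNat 19, Int.ofNat 0, Int.ofNat 76])))) (ZT.node 4824 (ZT.node 4822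 (ZT.leaf [Int.negSucc 426, Int.negSucc 171, Int.ofNat 153, Int.negSucc 55, Int.negSucc 2, Int.negSucc 90, Int.ofNat 3, Int.ofNat 19, Int.negSucc 2, Int.ofNat 0, Int.ofNat 0, Int.ofNat 0, Int.ofNat 5, Int.negSucc 0, Int.ofNat 60, Int.ofNat 1, Int.negSucc 15, Int.ofNat 0, Int.negSucc 64]) (ZT.node 4823 (ZT.leaf [Int.negSucc 149, Int.negSucc 31, Int.ofNat 45, Int.negSucc 9, Int.ofNat 0, Int.negSucc 20, Int.ofNat 0, Int.ofNat 3, Int.negSucc 1, Int.ofNat 0, Int.ofNat 0, Int.ofNat 0, Int.ofNat 0, Int.ofNat 0, Int.ofNat 11, Int.ofNat 0, Int.negSucc 1, Int.ofNat 0, Int.negSucc 15]) (ZT.leaf [Int.ofNat 816, Int.negSucc 210, Int.negSucc 131, Int.negSucc 63, Int.negSucc 2, Int.negSucc 10, Int.ofNat 5, Int.ofNat 23, Int.ofNat 7, Int.ofNat 0, Int.ofNat 0, Int.ofNat 0, Int.ofNat 11, Int.negSucc 4, Int.ofNat 48, Int.ofNat 6, Int.negSucc 11, Int.negSucc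 0, Int.negSucc 0]))) (ZT.node 4825 (ZT.leaf [Int.negSucc 840, Int.negSucc 338, Int.ofNat 148, Int.negSucc 30, Int.negSucc 0, Int.negSucc 63, Int.negSucc 14, Int.ofNat 15, Int.ofNat 4, Int.ofNat 0, Int.ofNat 0, Int.ofNat 0, Int.negSucc 8, Int.negSucc 0, Int.ofNat 122, Int.ofNat 1, Int.negSucc 11, Int.ofNat 0, Int.negSucc 72]) (ZT.node 4826 (ZT.leaf [Int.negSucc 1009, Int.negSucc 534, Int.ofNat 223, Int.negSucc 81, Int.negSucc 2, Int.negSucc 140, Int.negSucc 27, Int.ofNat 49, Int.ofNat 11, Int.ofNat 0, Int.ofNat 0, Int.ofNat 0, Int.negSucc 1, Int.ofNat 0, Int.ofNat 206, Int.ofNat 1, Int.negSucc 20, Int.ofNat 0, Int.negSucc 129]) (ZT.leaf [Int.negSucc 1539, Int.negSucc 694, Int.ofNat 359, Int.negSucc 112, Int.negSucc 2, Int.negSucc 200, Int.negSucc 25, Int.ofNat 57, Int.ofNat 7, Int.ofNat 0, Int.ofNat 0, Int.ofNat 0, Int.negSucc 2, Int.negSucc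 1, Int.ofNat 252, Int.ofNat 1, Int.negSucc 36, Int.ofNat 0, Int.negSucc 183]))))) (ZT.node 4832 (ZT.node 4829 (ZT.node 4828 (ZT.leaf [Int.negSucc 342, Int.negSucc 177, Int.ofNat 58, Int.negSucc 18, Int.ofNat 0, Int.negSucc 31, Int.negSucc 4, Int.ofNat 7, Int.ofNat 2, Int.ofNat 0, Int.ofNat 0, Int.ofNat 0, Int.negSucc 2, Int.ofNat 0, Int.ofNat 48, Int.ofNat 1, Int.negSucc 4, Int.ofNat 0, Int.negSucc 31]) (ZT.leaf [Int.negSucc 3, Int.ofNat 98, Int.negSucc 12, Int.ofNat 24, Int.ofNat 2, Int.ofNat 22, Int.ofNat 1, Int.negSucc 7, Int.negSucc 1, Int.ofNat 0, Int.ofNat 0, Int.ofNat 0, Int.negSucc 1, Int.ofNat 0, Int.negSucc 22, Int.negSucc 1, Int.ofNat 0, Int.ofNat 0, Int.ofNat 15])) (ZT.node 4830 (ZT.leaf [Int.ofNat 0, Int.negSucc 0]) (ZT.node 4831 (ZT.leaf [Int.negSucc 320, Int.negSucc 187, Int.ofNat 72, Int.negSucc 29, Int.negSucc 0, Int.negSucc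 46, Int.negSucc 5, Int.ofNat 12, Int.ofNat 2, Int.ofNat 0, Int.ofNat 0, Int.ofNat 0, Int.negSucc 1, Int.negSucc 0, Int.ofNat 65, Int.ofNat 1, Int.negSucc 6, Int.ofNat 0, Int.negSucc 42]) (ZT.leaf [])))) (ZT.node 4835 (ZT.node 4833 (ZT.leaf [Int.negSucc 1308, Int.negSucc 754, Int.ofNat 279, Int.negSucc 107, Int.negSucc 1, Int.negSucc 181, Int.negSucc 29, Int.ofNat 55, Int.ofNat 10, Int.ofNat 0, Int.ofNat 0, Int.ofNat 0, Int.negSucc 4, Int.negSucc 2, Int.ofNat 264, Int.ofNat 4, Int.negSucc 27, Int.ofNat 0, Int.negSucc 168]) (ZT.node 4834 (ZT.leaf [Int.negSucc 662, Int.negSucc 282, Int.ofNat 148, Int.negSucc 43, Int.negSucc 0, Int.negSucc 79, Int.negSucc 7, Int.ofNat 14, Int.negSucc 0, Int.ofNat 0, Int.ofNat 0, Int.ofNat 0, Int.negSucc 2, Int.negSucc 1, Int.ofNat 86, Int.ofNat 2, Int.negSucc 12, Int.ofNat 0, Int.negSucc 71]) (ZT.leaf [Int.ofNat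 56, Int.ofNat 184, Int.negSucc 8, Int.ofNat 29, Int.ofNat 1, Int.ofNat 28, Int.ofNat 11, Int.negSucc 16, Int.negSucc 6, Int.ofNat 0, Int.ofNat 0, Int.ofNat 0, Int.ofNat 0, Int.ofNat 0, Int.negSucc 65, Int.negSucc 0, Int.ofNat 3, Int.ofNat 0, Int.ofNat 28]))) (ZT.node 4836 (ZT.leaf [Int.negSucc 378, Int.negSucc 259, Int.ofNat 91, Int.negSucc 44, Int.negSucc 0, Int.negSucc 65, Int.negSucc 10, Int.ofNat 22, Int.ofNat 4, Int.negSucc 0, Int.ofNat 0, Int.ofNat 0, Int.ofNat 0, Int.negSucc 0, Int.ofNat 85, Int.ofNat 1, Int.negSucc 8, Int.ofNat 0, Int.negSucc 57]) (ZT.node 4837 (ZT.leaf []) (ZT.leaf [Int.ofNat 20, Int.negSucc 9, Int.negSucc 8, Int.ofNat 1, Int.ofNat 0, Int.ofNat 3, Int.ofNat 0, Int.negSucc 0, Int.ofNat 1, Int.ofNat 0, Int.ofNat 0, Int.ofNat 0, Int.negSucc 0, Int.ofNat 0, Int.ofNat 4, Int.ofNat 0, Int.ofNat 1, Int.ofNat 0, Int.ofNat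 2])))))) (ZT.node 4849 (ZT.node 4843 (ZT.node 4840 (ZT.node 4839 (ZT.leaf [Int.ofNat 1]) (ZT.leaf [])) (ZT.node 4841 (ZT.leaf [Int.ofNat 480, Int.ofNat 368, Int.negSucc 109, Int.ofNat 61, Int.ofNat 1, Int.ofNat 83, Int.ofNat 16, Int.negSucc 28, Int.negSucc 6, Int.ofNat 0, Int.ofNat 0, Int.ofNat 0, Int.ofNat 1, Int.ofNat 2, Int.negSucc 120, Int.negSucc 1, Int.ofNat 12, Int.ofNat 0, Int.ofNat 78]) (ZT.node 4842 (ZT.leaf [Int.ofNat 380, Int.ofNat 260, Int.negSucc 90, Int.ofNat 45, Int.ofNat 1, Int.ofNat 66, Int.ofNat 11, Int.negSucc 21, Int.negSucc 3, Int.ofNat 1, Int.ofNat 0, Int.ofNat 0, Int.ofNat 0, Int.ofNat 1, Int.negSucc 84, Int.negSucc 0, Int.ofNat 9, Int.ofNat 0, Int.ofNat 58]) (ZT.leaf [Int.negSucc 0, Int.ofNat 10, Int.ofNat 6, Int.negSucc 0, Int.ofNat 0, Int.negSucc 2, Int.ofNat 1, Int.ofNat 1, Int.negSucc 0, Int.ofNat 0, Int.ofNat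 0, Int.ofNat 0, Int.ofNat 1, Int.ofNat 0, Int.negSucc 3, Int.ofNat 0, Int.negSucc 0, Int.ofNat 0, Int.negSucc 0])))) (ZT.node 4846 (ZT.node 4844 (ZT.leaf [Int.ofNat 0, Int.negSucc 0]) (ZT.node 4845 (ZT.leaf []) (ZT.leaf []))) (ZT.node 4847 (ZT.leaf []) (ZT.node 4848 (ZT.leaf [Int.negSucc 87, Int.negSucc 30, Int.ofNat 13, Int.negSucc 1, Int.ofNat 0, Int.negSucc 3, Int.negSucc 1, Int.negSucc 1, Int.ofNat 1, Int.ofNat 0, Int.ofNat 0, Int.ofNat 0, Int.negSucc 1, Int.ofNat 0, Int.ofNat 8, Int.ofNat 0, Int.ofNat 0, Int.ofNat 0, Int.negSucc 5]) (ZT.leaf []))))) (ZT.node 4855 (ZT.node 4852 (ZT.node 4850 (ZT.leaf [Int.negSucc 1152, Int.negSucc 2826, Int.ofNat 360, Int.negSucc 540, Int.negSucc 19, Int.negSucc 516, Int.negSucc 81, Int.ofNat 248, Int.ofNat 57, Int.ofNat 0, Int.ofNat 0, Int.ofNat 0, Int.ofNat 13, Int.negSucc 8, Int.ofNat 898, Int.ofNat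 32, Int.negSucc 84, Int.ofNat 0, Int.negSucc 470]) (ZT.node 4851 (ZT.leaf [Int.negSucc 5268, Int.negSucc 529, Int.ofNat 1136, Int.ofNat 1, Int.ofNat 8, Int.negSucc 405, Int.negSucc 40, Int.ofNat 4, Int.negSucc 27, Int.ofNat 0, Int.ofNat 0, Int.ofNat 0, Int.negSucc 28, Int.negSucc 6, Int.ofNat 259, Int.negSucc 14, Int.negSucc 54, Int.ofNat 0, Int.negSucc 361]) (ZT.leaf [Int.ofNat 534, Int.negSucc 535, Int.negSucc 83, Int.negSucc 116, Int.negSucc 4, Int.negSucc 38, Int.ofNat 2, Int.ofNat 28, Int.ofNat 13, Int.ofNat 1, Int.ofNat 0, Int.ofNat 0, Int.negSucc 1, Int.negSucc 2, Int.ofNat 96, Int.ofNat 14, Int.negSucc 2, Int.ofNat 0, Int.negSucc 34]))) (ZT.node 4853 (ZT.leaf []) (ZT.node 4854 (ZT.leaf [Int.ofNat 2828, Int.ofNat 885, Int.negSucc 687, Int.ofNat 156, Int.ofNat 4, Int.ofNat 363, Int.ofNat 41, Int.negSucc 70, Int.ofNat 5, Int.ofNat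 0, Int.ofNat 0, Int.ofNat 0, Int.ofNat 2, Int.ofNat 2, Int.negSucc 331, Int.ofNat 2, Int.ofNat 44, Int.ofNat 0, Int.ofNat 300]) (ZT.leaf [Int.ofNat 7664, Int.ofNat 5896, Int.negSucc 1827, Int.ofNat 990, Int.ofNat 26, Int.ofNat 1394, Int.ofNat 264, Int.negSucc 516, Int.negSucc 105, Int.negSucc 0, Int.ofNat 0, Int.negSucc 0, Int.ofNat 3, Int.ofNat 23, Int.negSucc 2050, Int.negSucc 39, Int.ofNat 212, Int.negSucc 0, Int.ofNat 1280])))) (ZT.node 4858 (ZT.node 4856 (ZT.leaf [Int.ofNat 727, Int.ofNat 438, Int.negSucc 151, Int.ofNat 65, Int.ofNat 2, Int.ofNat 95, Int.ofNat 25, Int.negSucc 46, Int.negSucc 13, Int.ofNat 0, Int.ofNat 0, Int.ofNat 0, Int.ofNat 5, Int.negSucc 0, Int.negSucc 222, Int.ofNat 2, Int.ofNat 34, Int.ofNat 0, Int.ofNat 106]) (ZT.node 4857 (ZT.leaf []) (ZT.leaf [Int.ofNat 2387, Int.ofNat 962, Int.negSucc 550, Int.ofNat 152,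 Int.ofNat 4, Int.ofNat 293, Int.ofNat 40, Int.negSucc 77, Int.negSucc 7, Int.ofNat 0, Int.ofNat 0, Int.ofNat 0, Int.ofNat 4, Int.ofNat 1, Int.negSucc 397, Int.ofNat 2, Int.ofNat 62, Int.ofNat 0, Int.ofNat 265]))) (ZT.node 4859 (ZT.leaf [Int.ofNat 6307, Int.ofNat 3372, Int.negSucc 1470, Int.ofNat 543, Int.ofNat 12, Int.ofNat 921, Int.ofNat 125, Int.negSucc 257, Int.negSucc 30, Int.ofNat 0, Int.ofNat 0, Int.ofNat 0, Int.ofNat 16, Int.ofNat 16, Int.negSucc 1176, Int.negSucc 16, Int.ofNat 143, Int.ofNat 0, Int.ofNat 831]) (ZT.node 4860 (ZT.leaf [Int.ofNat 1]) (ZT.leaf [Int.negSucc 3326, Int.negSucc 1023, Int.ofNat 810, Int.negSucc 180, Int.negSucc 3, Int.negSucc 420, Int.negSucc 42, Int.ofNat 81, Int.negSucc 6, Int.ofNat 0, Int.ofNat 0, Int.ofNat 0, Int.negSucc 2, Int.negSucc 3, Int.ofNat 368, Int.negSucc 1, Int.negSucc 52, Int.ofNat 0, Int.negSucc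 347]))))))) (ZT.node 4883 (ZT.node 4872 (ZT.node 4866 (ZT.node 4863 (ZT.node 4862 (ZT.leaf []) (ZT.leaf [Int.negSucc 1906, Int.negSucc 944, Int.ofNat 457, Int.negSucc 160, Int.negSucc 3, Int.negSucc 280, Int.negSucc 39, Int.ofNat 86, Int.ofNat 10, Int.ofNat 0, Int.ofNat 0, Int.ofNat 0, Int.negSucc 2, Int.negSucc 1, Int.ofNat 392, Int.ofNat 1, Int.negSucc 52, Int.ofNat 0, Int.negSucc 253])) (ZT.node 4864 (ZT.leaf [Int.negSucc 321, Int.negSucc 187, Int.ofNat 72, Int.negSucc 29, Int.negSucc 0, Int.negSucc 46, Int.negSucc 5, Int.ofNat 12, Int.ofNat 2, Int.ofNat 0, Int.ofNat 0, Int.ofNat 0, Int.negSucc 1, Int.negSucc 0, Int.ofNat 65, Int.ofNat 1, Int.negSucc 6, Int.ofNat 0, Int.negSucc 42]) (ZT.node 4865 (ZT.leaf []) (ZT.leaf [Int.ofNat 1])))) (ZT.node 4869 (ZT.node 4867 (ZT.leaf [Int.negSucc 3, Int.negSucc 2]) (ZT.node 4868 (ZT.leaf [Int.negSucc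 2386, Int.negSucc 961, Int.ofNat 551, Int.negSucc 151, Int.negSucc 3, Int.negSucc 292, Int.negSucc 39, Int.ofNat 78, Int.ofNat 8, Int.ofNat 0, Int.ofNat 0, Int.ofNat 0, Int.negSucc 3, Int.negSucc 0, Int.ofNat 398, Int.negSucc 1, Int.negSucc 61, Int.ofNat 0, Int.negSucc 264]) (ZT.leaf []))) (ZT.node 4870 (ZT.leaf [Int.ofNat 1]) (ZT.node 4871 (ZT.leaf [Int.ofNat 5498, Int.ofNat 3234, Int.negSucc 1256, Int.ofNat 512, Int.ofNat 13, Int.ofNat 820, Int.ofNat 139, Int.negSucc 273, Int.negSucc 47, Int.ofNat 0, Int.ofNat 0, Int.ofNat 0, Int.ofNat 11, Int.ofNat 12, Int.negSucc 1162, Int.negSucc 16, Int.ofNat 141, Int.ofNat 0, Int.ofNat 759]) (ZT.leaf []))))) (ZT.node 4877 (ZT.node 4874 (ZT.node 4873 (ZT.leaf [Int.ofNat 460, Int.ofNat 222, Int.negSucc 113, Int.ofNat 39, Int.ofNat 2, Int.ofNat 75, Int.ofNat 8, Int.negSucc 18, Int.ofNat 1, Int.ofNat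 0, Int.ofNat 0, Int.ofNat 0, Int.negSucc 1, Int.ofNat 2, Int.negSucc 68, Int.negSucc 1, Int.ofNat 7, Int.ofNat 0, Int.ofNat 59]) (ZT.leaf [Int.ofNat 126, Int.negSucc 1470, Int.negSucc 46, Int.negSucc 238, Int.negSucc 11, Int.negSucc 123, Int.negSucc 19, Int.ofNat 101, Int.ofNat 43, Int.ofNat 0, Int.ofNat 0, Int.ofNat 0, Int.negSucc 0, Int.negSucc 8, Int.ofNat 492, Int.ofNat 16, Int.negSucc 56, Int.ofNat 0, Int.negSucc 160])) (ZT.node 4875 (ZT.leaf [Int.negSucc 2757, Int.negSucc 1005, Int.ofNat 647, Int.negSucc 163, Int.negSucc 3, Int.negSucc 328, Int.negSucc 36, Int.ofNat 74, Int.ofNat 3, Int.ofNat 0, Int.ofNat 0, Int.ofNat 0, Int.negSucc 5, Int.negSucc 1, Int.ofNat 400, Int.negSucc 1, Int.negSucc 62, Int.ofNat 0, Int.negSucc 294]) (ZT.node 4876 (ZT.leaf []) (ZT.leaf [Int.negSucc 450, Int.negSucc 865, Int.ofNat 149, Int.negSucc 163, Int.negSucc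 6, Int.negSucc 167, Int.negSucc 14, Int.ofNat 67, Int.ofNat 14, Int.ofNat 0, Int.ofNat 0, Int.ofNat 0, Int.ofNat 5, Int.negSucc 7, Int.ofNat 285, Int.ofNat 10, Int.negSucc 40, Int.ofNat 0, Int.negSucc 152])))) (ZT.node 4880 (ZT.node 4878 (ZT.leaf []) (ZT.node 4879 (ZT.leaf []) (ZT.leaf []))) (ZT.node 4881 (ZT.leaf [Int.ofNat 2547, Int.ofNat 348, Int.negSucc 531, Int.ofNat 5, Int.negSucc 3, Int.ofNat 176, Int.ofNat 8, Int.negSucc 5, Int.ofNat 8, Int.ofNat 0, Int.ofNat 0, Int.ofNat 0, Int.ofNat 18, Int.ofNat 3, Int.negSucc 106, Int.ofNat 6, Int.ofNat 40, Int.ofNat 0, Int.ofNat 171]) (ZT.node 4882 (ZT.leaf [Int.negSucc 20, Int.negSucc 7, Int.ofNat 6, Int.negSucc 2, Int.ofNat 0, Int.negSucc 2, Int.ofNat 0, Int.ofNat 1, Int.ofNat 0, Int.ofNat 0, Int.ofNat 0, Int.ofNat 0, Int.ofNat 0, Int.ofNat 0, Int.ofNat 7, Int.ofNat 0, Int.negSucc 0, Int.ofNat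 0, Int.negSucc 1]) (ZT.leaf [Int.ofNat 158, Int.ofNat 12, Int.negSucc 44, Int.ofNat 5, Int.ofNat 0, Int.ofNat 18, Int.negSucc 1, Int.negSucc 0, Int.ofNat 2, Int.ofNat 0, Int.ofNat 0, Int.ofNat 0, Int.ofNat 0, Int.ofNat 0, Int.negSucc 5, Int.ofNat 0, Int.ofNat 6, Int.ofNat 0, Int.ofNat 14])))))) (ZT.node 4894 (ZT.node 4888 (ZT.node 4885 (ZT.node 4884 (ZT.leaf [Int.ofNat 1]) (ZT.leaf [])) (ZT.node 4886 (ZT.leaf [Int.negSucc 26, Int.ofNat 8, Int.negSucc 0, Int.ofNat 5, Int.ofNat 1, Int.ofNat 4, Int.ofNat 1, Int.negSucc 3, Int.ofNat 0, Int.ofNat 1, Int.ofNat 0, Int.ofNat 0, Int.negSucc 0, Int.ofNat 0, Int.ofNat 1, Int.negSucc 0, Int.ofNat 1, Int.ofNat 0, Int.ofNat 2]) (ZT.node 4887 (ZT.leaf []) (ZT.leaf [Int.negSucc 3, Int.negSucc 4, Int.ofNat 0, Int.ofNat 0, Int.ofNat 0, Int.ofNat 0, Int.ofNat 0, Int.ofNat 0, Int.ofNat 0, Int.ofNat 0, Int.ofNat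 0, Int.ofNat 0, Int.ofNat 0, Int.ofNat 0, Int.ofNat 0])))) (ZT.node 4891 (ZT.node 4889 (ZT.leaf []) (ZT.node 4890 (ZT.leaf [Int.negSucc 136, Int.negSucc 27, Int.ofNat 32, Int.negSucc 2, Int.ofNat 0, Int.negSucc 12, Int.ofNat 1, Int.negSucc 0, Int.negSucc 0, Int.ofNat 0, Int.ofNat 0, Int.ofNat 0, Int.negSucc 0, Int.ofNat 0, Int.ofNat 8, Int.ofNat 0, Int.negSucc 3, Int.ofNat 0, Int.negSucc 11]) (ZT.leaf []))) (ZT.node 4892 (ZT.leaf [Int.ofNat 2296, Int.ofNat 1783, Int.negSucc 523, Int.ofNat 289, Int.ofNat 6, Int.ofNat 405, Int.ofNat 75, Int.negSucc 140, Int.negSucc 28, Int.ofNat 0, Int.ofNat 0, Int.ofNat 0, Int.ofNat 6, Int.ofNat 8, Int.negSucc 591, Int.negSucc 9, Int.ofNat 48, Int.ofNat 0, Int.ofNat 374]) (ZT.node 4893 (ZT.leaf []) (ZT.leaf []))))) (ZT.node 4900 (ZT.node 4897 (ZT.node 4895 (ZT.leaf [Int.negSucc 19408, Int.negSucc 5275,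 Int.ofNat 4362, Int.negSucc 727, Int.ofNat 1, Int.negSucc 2034, Int.negSucc 247, Int.ofNat 363, Int.negSucc 19, Int.ofNat 1, Int.negSucc 0, Int.ofNat 0, Int.negSucc 69, Int.negSucc 20, Int.ofNat 2055, Int.negSucc 14, Int.negSucc 297, Int.ofNat 0, Int.negSucc 1815]) (ZT.node 4896 (ZT.leaf [Int.ofNat 19409, Int.ofNat 5275, Int.negSucc 4361, Int.ofNat 728, Int.negSucc 0, Int.ofNat 2035, Int.ofNat 248, Int.negSucc 362, Int.ofNat 20, Int.negSucc 0, Int.ofNat 1, Int.ofNat 0, Int.ofNat 70, Int.ofNat 21, Int.negSucc 2054, Int.ofNat 15, Int.ofNat 298, Int.ofNat 0, Int.ofNat 1816]) (ZT.leaf []))) (ZT.node 4898 (ZT.leaf []) (ZT.node 4899 (ZT.leaf [Int.ofNat 9864, Int.ofNat 5938, Int.negSucc 2378, Int.ofNat 1004, Int.ofNat 27, Int.ofNat 1596, Int.ofNat 208, Int.negSucc 466, Int.negSucc 59, Int.ofNat 0, Int.ofNat 0, Int.ofNat 0, Int.ofNat 10, Int.ofNat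 28, Int.negSucc 2025, Int.negSucc 34, Int.ofNat 254, Int.ofNat 0, Int.ofNat 1411]) (ZT.leaf [])))) (ZT.node 4903 (ZT.node 4901 (ZT.leaf [Int.ofNat 25672, Int.ofNat 10142, Int.negSucc 5908, Int.ofNat 1567, Int.ofNat 16, Int.ofNat 3223, Int.ofNat 387, Int.negSucc 700, Int.negSucc 29, Int.negSucc 0, Int.ofNat 1, Int.ofNat 0, Int.ofNat 79, Int.ofNat 56, Int.negSucc 3586, Int.negSucc 16, Int.ofNat 475, Int.ofNat 1, Int.ofNat 2854]) (ZT.node 4902 (ZT.leaf [Int.ofNat 2386, Int.ofNat 960, Int.negSucc 550, Int.ofNat 152, Int.ofNat 4, Int.ofNat 293, Int.ofNat 40, Int.negSucc 77, Int.negSucc 7, Int.ofNat 0, Int.ofNat 0, Int.ofNat 0, Int.ofNat 4, Int.ofNat 1, Int.negSucc 397, Int.ofNat 2, Int.ofNat 62, Int.ofNat 0, Int.ofNat 265]) (ZT.leaf [Int.negSucc 631, Int.negSucc 101, Int.ofNat 164, Int.negSucc 23, Int.ofNat 0, Int.negSucc 66, Int.ofNat 2, Int.ofNat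 0, Int.negSucc 6, Int.ofNat 0, Int.ofNat 0, Int.ofNat 0, Int.negSucc 1, Int.negSucc 0, Int.ofNat 19, Int.ofNat 0, Int.negSucc 3, Int.ofNat 0, Int.negSucc 54]))) (ZT.node 4904 (ZT.leaf [Int.negSucc 9864, Int.negSucc 5937, Int.ofNat 2379, Int.negSucc 1003, Int.negSucc 26, Int.negSucc 1595, Int.negSucc 207, Int.ofNat 467, Int.ofNat 60, Int.ofNat 0, Int.ofNat 0, Int.ofNat 0, Int.negSucc 9, Int.negSucc 27, Int.ofNat 2026, Int.ofNat 35, Int.negSucc 253, Int.ofNat 0, Int.negSucc 1410]) (ZT.node 4905 (ZT.leaf [Int.ofNat 6995, Int.ofNat 3613, Int.negSucc 1611, Int.ofNat 574, Int.ofNat 14, Int.ofNat 991, Int.ofNat 139, Int.negSucc 279, Int.negSucc 34, Int.ofNat 0, Int.ofNat 0, Int.ofNat 0, Int.ofNat 17, Int.ofNat 15, Int.negSucc 1273, Int.negSucc 17, Int.ofNat 155, Int.ofNat 0, Int.ofNat 898]) (ZT.leaf [Int.negSucc 356, Int.negSucc 137, Int.ofNat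 86, Int.negSucc 22, Int.negSucc 0, Int.negSucc 43, Int.negSucc 3, Int.ofNat 10, Int.ofNat 0, Int.ofNat 0, Int.ofNat 0, Int.ofNat 0, Int.negSucc 0, Int.negSucc 0, Int.ofNat 46, Int.ofNat 1, Int.negSucc 4, Int.ofNat 0, Int.negSucc 38])))))))) (ZT.node 4951 (ZT.node 4928 (ZT.node 4917 (ZT.node 4911 (ZT.node 4908 (ZT.node 4907 (ZT.leaf [Int.ofNat 338, Int.ofNat 57, Int.negSucc 51, Int.negSucc 2, Int.ofNat 0, Int.ofNat 9, Int.ofNat 8, Int.negSucc 3, Int.negSucc 1, Int.ofNat 0, Int.ofNat 0, Int.ofNat 0, Int.ofNat 4, Int.negSucc 0, Int.negSucc 16, Int.ofNat 1, Int.ofNat 1, Int.ofNat 0, Int.ofNat 17]) (ZT.leaf [])) (ZT.node 4909 (ZT.leaf []) (ZT.node 4910 (ZT.leaf [Int.ofNat 1]) (ZT.leaf [Int.ofNat 1])))) (ZT.node 4914 (ZT.node 4912 (ZT.leaf [Int.negSucc 2208, Int.negSucc 965, Int.ofNat 557, Int.negSucc 182, Int.negSucc 6, Int.negSucc 319, Int.negSucc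 32, Int.ofNat 75, Int.ofNat 4, Int.ofNat 0, Int.ofNat 0, Int.ofNat 0, Int.negSucc 0, Int.negSucc 1, Int.ofNat 359, Int.ofNat 2, Int.negSucc 37, Int.ofNat 0, Int.negSucc 271]) (ZT.node 4913 (ZT.leaf [Int.ofNat 44, Int.ofNat 39, Int.negSucc 2, Int.ofNat 4, Int.ofNat 0, Int.ofNat 3, Int.ofNat 2, Int.ofNat 2, Int.negSucc 0, Int.ofNat 0, Int.ofNat 0, Int.ofNat 0, Int.ofNat 2, Int.ofNat 0, Int.negSucc 14, Int.ofNat 1, Int.ofNat 0, Int.ofNat 0, Int.ofNat 5]) (ZT.leaf [Int.ofNat 1]))) (ZT.node 4915 (ZT.leaf [Int.ofNat 101, Int.ofNat 18, Int.negSucc 27, Int.ofNat 5, Int.ofNat 0, Int.ofNat 13, Int.ofNat 0, Int.negSucc 0, Int.ofNat 1, Int.ofNat 0, Int.ofNat 0, Int.ofNat 0, Int.ofNat 0, Int.ofNat 0, Int.negSucc 6, Int.ofNat 0, Int.ofNat 3, Int.ofNat 0, Int.ofNat 11]) (ZT.node 4916 (ZT.leaf [Int.negSucc 2521, Int.negSucc 882, Int.ofNat 616, Int.negSucc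 153, Int.negSucc 5, Int.negSucc 321, Int.negSucc 23, Int.ofNat 56, Int.negSucc 3, Int.ofNat 0, Int.ofNat 0, Int.ofNat 0, Int.negSucc 3, Int.negSucc 2, Int.ofNat 301, Int.ofNat 2, Int.negSucc 41, Int.ofNat 0, Int.negSucc 267]) (ZT.leaf [Int.negSucc 13421, Int.negSucc 3407, Int.ofNat 2946, Int.negSucc 421, Int.negSucc 10, Int.negSucc 1311, Int.negSucc 167, Int.ofNat 285, Int.ofNat 13, Int.negSucc 0, Int.ofNat 1, Int.ofNat 0, Int.negSucc 39, Int.negSucc 0, Int.ofNat 1361, Int.negSucc 23, Int.negSucc 267, Int.ofNat 0, Int.negSucc 1199]))))) (ZT.node 4922 (ZT.node 4919 (ZT.node 4918 (ZT.leaf [Int.ofNat 1520, Int.ofNat 361, Int.negSucc 416, Int.ofNat 89, Int.ofNat 3, Int.ofNat 206, Int.negSucc 2, Int.negSucc 14, Int.ofNat 16, Int.ofNat 1, Int.ofNat 0, Int.ofNat 0, Int.negSucc 0, Int.ofNat 1, Int.negSucc 100, Int.ofNat 0, Int.ofNat 25, Int.ofNat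 0, Int.ofNat 152]) (ZT.leaf [])) (ZT.node 4920 (ZT.leaf [Int.ofNat 7599, Int.ofNat 3249, Int.negSucc 1761, Int.ofNat 523, Int.ofNat 12, Int.ofNat 992, Int.ofNat 122, Int.negSucc 269, Int.negSucc 27, Int.ofNat 2, Int.negSucc 0, Int.ofNat 0, Int.ofNat 11, Int.ofNat 3, Int.negSucc 1123, Int.negSucc 3, Int.ofNat 169, Int.ofNat 0, Int.ofNat 876]) (ZT.node 4921 (ZT.leaf [Int.negSucc 863, Int.negSucc 3156, Int.ofNat 312, Int.negSucc 594, Int.negSucc 5, Int.negSucc 579, Int.negSucc 134, Int.ofNat 238, Int.ofNat 60, Int.ofNat 4, Int.negSucc 0, Int.ofNat 1, Int.negSucc 4, Int.negSucc 25, Int.ofNat 1010, Int.ofNat 37, Int.negSucc 18, Int.ofNat 1, Int.negSucc 516]) (ZT.leaf [Int.negSucc 3446, Int.negSucc 2054, Int.ofNat 873, Int.negSucc 361, Int.negSucc 10, Int.negSucc 551, Int.negSucc 19, Int.ofNat 110, Int.negSucc 0, Int.negSucc 0, Int.ofNat 0,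 Int.negSucc 0, Int.negSucc 5, Int.negSucc 17, Int.ofNat 535, Int.ofNat 19, Int.negSucc 96, Int.negSucc 0, Int.negSucc 477])))) (ZT.node 4925 (ZT.node 4923 (ZT.leaf [Int.ofNat 113, Int.negSucc 15, Int.negSucc 24, Int.negSucc 2, Int.ofNat 0, Int.ofNat 2, Int.negSucc 1, Int.ofNat 6, Int.ofNat 2, Int.ofNat 0, Int.ofNat 0, Int.ofNat 0, Int.ofNat 0, Int.ofNat 0, Int.ofNat 20, Int.ofNat 0, Int.negSucc 2, Int.ofNat 0, Int.ofNat 2]) (ZT.node 4924 (ZT.leaf [Int.negSucc 231, Int.negSucc 26, Int.ofNat 57, Int.negSucc 4, Int.ofNat 0, Int.negSucc 20, Int.ofNat 3, Int.negSucc 4, Int.negSucc 2, Int.ofNat 0, Int.ofNat 0, Int.ofNat 0, Int.negSucc 1, Int.ofNat 0, Int.negSucc 1, Int.ofNat 0, Int.negSucc 0, Int.ofNat 0, Int.negSucc 16]) (ZT.leaf [Int.negSucc 516, Int.negSucc 340, Int.ofNat 149, Int.negSucc 63, Int.ofNat 0, Int.negSucc 105, Int.negSucc 15,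 Int.ofNat 37, Int.ofNat 5, Int.ofNat 0, Int.ofNat 0, Int.ofNat 0, Int.ofNat 2, Int.ofNat 0, Int.ofNat 124, Int.ofNat 1, Int.negSucc 14, Int.ofNat 0, Int.negSucc 91]))) (ZT.node 4926 (ZT.leaf [Int.negSucc 129, Int.ofNat 7, Int.ofNat 30, Int.ofNat 1, Int.ofNat 0, Int.negSucc 4, Int.ofNat 2, Int.negSucc 4, Int.negSucc 1, Int.ofNat 0, Int.ofNat 0, Int.ofNat 0, Int.negSucc 0, Int.ofNat 0, Int.negSucc 16, Int.ofNat 0, Int.ofNat 2, Int.ofNat 0, Int.negSucc 3]) (ZT.node 4927 (ZT.leaf [Int.ofNat 493, Int.ofNat 335, Int.negSucc 145, Int.ofNat 65, Int.ofNat 0, Int.ofNat 106, Int.ofNat 16, Int.negSucc 37, Int.negSucc 4, Int.ofNat 0, Int.ofNat 0, Int.ofNat 0, Int.negSucc 1, Int.ofNat 0, Int.negSucc 122, Int.negSucc 0, Int.ofNat 15, Int.ofNat 0, Int.ofNat 92]) (ZT.leaf [Int.ofNat 24, Int.ofNat 5, Int.negSucc 2, Int.negSucc 0, Int.ofNat 0, Int.ofNat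 0, Int.ofNat 0, Int.ofNat 1, Int.ofNat 0, Int.ofNat 0, Int.ofNat 0, Int.ofNat 0, Int.ofNat 0, Int.ofNat 0, Int.negSucc 0, Int.ofNat 0, Int.ofNat 0, Int.ofNat 0, Int.ofNat 0])))))) (ZT.node 4939 (ZT.node 4933 (ZT.node 4930 (ZT.node 4929 (ZT.leaf [Int.ofNat 1, Int.negSucc 0, Int.negSucc 0]) (ZT.leaf [Int.ofNat 575, Int.ofNat 263, Int.negSucc 121, Int.ofNat 36, Int.ofNat 1, Int.ofNat 69, Int.ofNat 12, Int.negSucc 19, Int.negSucc 1, Int.ofNat 0, Int.ofNat 0, Int.ofNat 0, Int.ofNat 1, Int.ofNat 2, Int.negSucc 83, Int.negSucc 0, Int.ofNat 9, Int.ofNat 0, Int.ofNat 66])) (ZT.node 4931 (ZT.leaf [Int.negSucc 0, Int.negSucc 1]) (ZT.node 4932 (ZT.leaf []) (ZT.leaf [Int.negSucc 122, Int.negSucc 46, Int.ofNat 32, Int.negSucc 6, Int.ofNat 0, Int.negSucc 16, Int.ofNat 0, Int.ofNat 4, Int.ofNat 0, Int.ofNat 1, Int.ofNat 0, Int.ofNat 0, Int.ofNat 0, Int.negSucc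 0, Int.ofNat 14, Int.ofNat 0, Int.negSucc 2, Int.ofNat 0, Int.negSucc 14])))) (ZT.node 4936 (ZT.node 4934 (ZT.leaf [Int.ofNat 1]) (ZT.node 4935 (ZT.leaf []) (ZT.leaf [Int.ofNat 555, Int.ofNat 203, Int.negSucc 127, Int.ofNat 32, Int.ofNat 1, Int.ofNat 65, Int.ofNat 5, Int.negSucc 14, Int.ofNat 0, Int.ofNat 0, Int.ofNat 0, Int.ofNat 0, Int.ofNat 1, Int.ofNat 1, Int.negSucc 60, Int.negSucc 0, Int.ofNat 12, Int.ofNat 0, Int.ofNat 58]))) (ZT.node 4937 (ZT.leaf [Int.negSucc 531, Int.negSucc 227, Int.ofNat 128, Int.negSucc 37, Int.negSucc 0, Int.negSucc 72, Int.negSucc 6, Int.ofNat 15, Int.ofNat 0, Int.ofNat 0, Int.ofNat 0, Int.ofNat 0, Int.negSucc 0, Int.negSucc 0, Int.ofNat 74, Int.ofNat 1, Int.negSucc 9, Int.ofNat 0, Int.negSucc 62]) (ZT.node 4938 (ZT.leaf [Int.ofNat 1]) (ZT.leaf [Int.ofNat 1]))))) (ZT.node 4945 (ZT.node 4942 (ZT.node 4940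 (ZT.leaf [Int.ofNat 185, Int.ofNat 74, Int.negSucc 52, Int.ofNat 16, Int.ofNat 1, Int.ofNat 29, Int.ofNat 0, Int.negSucc 6, Int.ofNat 0, Int.ofNat 0, Int.ofNat 0, Int.ofNat 0, Int.ofNat 0, Int.ofNat 1, Int.negSucc 23, Int.negSucc 0, Int.ofNat 9, Int.ofNat 0, Int.ofNat 24]) (ZT.node 4941 (ZT.leaf [Int.negSucc 0, Int.ofNat 0, Int.ofNat 0, Int.ofNat 0, Int.ofNat 0, Int.negSucc 0]) (ZT.leaf []))) (ZT.node 4943 (ZT.leaf []) (ZT.node 4944 (ZT.leaf [Int.negSucc 1117, Int.negSucc 4169, Int.ofNat 486, Int.negSucc 837, Int.negSucc 29, Int.negSucc 764, Int.negSucc 103, Int.ofNat 333, Int.ofNat 75, Int.negSucc 0, Int.ofNat 1, Int.ofNat 0, Int.ofNat 21, Int.negSucc 19, Int.ofNat 1306, Int.ofNat 54, Int.negSucc 88, Int.ofNat 0, Int.negSucc 668]) (ZT.leaf [Int.ofNat 19134, Int.ofNat 6436, Int.negSucc 4383, Int.ofNat 966, Int.ofNat 21, Int.ofNat 2225,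 Int.ofNat 253, Int.negSucc 492, Int.negSucc 16, Int.ofNat 1, Int.negSucc 0, Int.ofNat 0, Int.ofNat 46, Int.ofNat 20, Int.negSucc 2352, Int.ofNat 7, Int.ofNat 399, Int.ofNat 0, Int.ofNat 1972])))) (ZT.node 4948 (ZT.node 4946 (ZT.leaf [Int.ofNat 10817, Int.ofNat 2626, Int.negSucc 2390, Int.ofNat 320, Int.ofNat 9, Int.ofNat 1044, Int.ofNat 127, Int.negSucc 206, Int.ofNat 1, Int.ofNat 0, Int.ofNat 0, Int.ofNat 0, Int.ofNat 30, Int.ofNat 10, Int.negSucc 1110, Int.ofNat 20, Int.ofNat 240, Int.ofNat 0, Int.ofNat 962]) (ZT.node 4947 (ZT.leaf [Int.ofNat 8879, Int.ofNat 4751, Int.negSucc 2102, Int.ofNat 800, Int.ofNat 20, Int.ofNat 1367, Int.ofNat 153, Int.negSucc 414, Int.negSucc 45, Int.ofNat 0, Int.ofNat 0, Int.ofNat 0, Int.negSucc 0, Int.ofNat 5, Int.negSucc 1546, Int.negSucc 14, Int.ofNat 260, Int.ofNat 0, Int.ofNat 1184]) (ZT.leaf [Int.ofNat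 1939, Int.ofNat 97, Int.negSucc 401, Int.negSucc 11, Int.negSucc 2, Int.ofNat 125, Int.ofNat 25, Int.negSucc 10, Int.ofNat 6, Int.ofNat 0, Int.ofNat 0, Int.ofNat 0, Int.ofNat 9, Int.negSucc 6, Int.negSucc 112, Int.ofNat 12, Int.ofNat 21, Int.ofNat 0, Int.ofNat 112]))) (ZT.node 4949 (ZT.leaf [Int.ofNat 1]) (ZT.node 4950 (ZT.leaf []) (ZT.leaf [Int.ofNat 1990, Int.ofNat 1636, Int.negSucc 508, Int.ofNat 296, Int.ofNat 8, Int.ofNat 398, Int.ofNat 56, Int.negSucc 141, Int.negSucc 23, Int.ofNat 0, Int.ofNat 0, Int.ofNat 0, Int.negSucc 3, Int.ofNat 4, Int.negSucc 567, Int.negSucc 7, Int.ofNat 69, Int.ofNat 0, Int.ofNat 353]))))))) (ZT.node 4973 (ZT.node 4962 (ZT.node 4956 (ZT.node 4953 (ZT.node 4952 (ZT.leaf [Int.negSucc 235, Int.negSucc 119, Int.ofNat 49, Int.negSucc 16, Int.negSucc 0, Int.negSucc 26, Int.ofNat 0, Int.ofNat 0, Int.negSucc 1,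 Int.ofNat 0, Int.ofNat 0, Int.ofNat 0, Int.negSucc 0, Int.negSucc 1, Int.ofNat 16, Int.ofNat 2, Int.ofNat 0, Int.ofNat 0, Int.negSucc 21]) (ZT.leaf [Int.ofNat 1])) (ZT.node 4954 (ZT.leaf [Int.ofNat 518, Int.ofNat 341, Int.negSucc 148, Int.ofNat 64, Int.ofNat 0, Int.ofNat 106, Int.ofNat 16, Int.negSucc 36, Int.negSucc 4, Int.ofNat 0, Int.ofNat 0, Int.ofNat 0, Int.negSucc 1, Int.ofNat 0, Int.negSucc 123, Int.negSucc 0, Int.ofNat 15, Int.ofNat 0, Int.ofNat 92]) (ZT.node 4955 (ZT.leaf [Int.ofNat 236, Int.ofNat 120, Int.negSucc 48, Int.ofNat 17, Int.ofNat 1, Int.ofNat 27, Int.ofNat 0, Int.ofNat 0, Int.ofNat 2, Int.ofNat 0, Int.ofNat 0, Int.ofNat 0, Int.ofNat 1, Int.ofNat 2, Int.negSucc 15, Int.negSucc 1, Int.ofNat 0, Int.ofNat 0, Int.ofNat 22]) (ZT.leaf [Int.ofNat 1465, Int.ofNat 807, Int.negSucc 339, Int.ofNat 127, Int.ofNat 2, Int.ofNat 211,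 Int.ofNat 31, Int.negSucc 67, Int.negSucc 11, Int.ofNat 0, Int.ofNat 0, Int.ofNat 0, Int.ofNat 4, Int.ofNat 2, Int.negSucc 285, Int.negSucc 1, Int.ofNat 39, Int.ofNat 0, Int.ofNat 196])))) (ZT.node 4959 (ZT.node 4957 (ZT.leaf []) (ZT.node 4958 (ZT.leaf [Int.ofNat 1]) (ZT.leaf [Int.negSucc 751, Int.negSucc 336, Int.ofNat 167, Int.negSucc 50, Int.ofNat 0, Int.negSucc 94, Int.negSucc 9, Int.ofNat 22, Int.ofNat 2, Int.ofNat 0, Int.ofNat 0, Int.ofNat 0, Int.negSucc 2, Int.negSucc 0, Int.ofNat 109, Int.ofNat 1, Int.negSucc 13, Int.ofNat 0, Int.negSucc 84]))) (ZT.node 4960 (ZT.leaf [Int.negSucc 50, Int.negSucc 1013, Int.ofNat 68, Int.negSucc 211, Int.negSucc 8, Int.negSucc 145, Int.ofNat 7, Int.ofNat 64, Int.ofNat 16, Int.ofNat 0, Int.ofNat 0, Int.ofNat 0, Int.ofNat 5, Int.negSucc 1, Int.ofNat 251, Int.ofNat 11, Int.negSucc 39, Int.ofNat 0, Int.negSucc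 128]) (ZT.node 4961 (ZT.leaf [Int.negSucc 3289, Int.negSucc 1110, Int.ofNat 702, Int.negSucc 144, Int.ofNat 0, Int.negSucc 345, Int.negSucc 42, Int.ofNat 66, Int.negSucc 0, Int.ofNat 1, Int.negSucc 0, Int.ofNat 0, Int.negSucc 12, Int.negSucc 5, Int.ofNat 415, Int.negSucc 0, Int.negSucc 63, Int.ofNat 0, Int.negSucc 319]) (ZT.leaf [Int.ofNat 5641, Int.ofNat 3020, Int.negSucc 1325, Int.ofNat 503, Int.ofNat 15, Int.ofNat 811, Int.ofNat 88, Int.negSucc 225, Int.negSucc 25, Int.ofNat 0, Int.ofNat 0, Int.ofNat 0, Int.ofNat 7, Int.ofNat 9, Int.negSucc 995, Int.negSucc 10, Int.ofNat 155, Int.ofNat 0, Int.ofNat 725]))))) (ZT.node 4967 (ZT.node 4964 (ZT.node 4963 (ZT.leaf [Int.negSucc 673, Int.negSucc 257, Int.ofNat 169, Int.negSucc 47, Int.negSucc 0, Int.negSucc 102, Int.negSucc 9, Int.ofNat 24, Int.negSucc 1, Int.ofNat 0, Int.ofNat 0, Int.ofNat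 0, Int.ofNat 2, Int.negSucc 0, Int.ofNat 64, Int.ofNat 2, Int.negSucc 15, Int.ofNat 0, Int.negSucc 79]) (ZT.leaf [Int.ofNat 538, Int.ofNat 159, Int.negSucc 126, Int.ofNat 26, Int.ofNat 0, Int.ofNat 60, Int.ofNat 3, Int.negSucc 9, Int.ofNat 2, Int.ofNat 1, Int.ofNat 0, Int.ofNat 0, Int.ofNat 1, Int.ofNat 1, Int.negSucc 46, Int.ofNat 0, Int.ofNat 12, Int.ofNat 0, Int.ofNat 51])) (ZT.node 4965 (ZT.leaf []) (ZT.node 4966 (ZT.leaf [Int.ofNat 2493, Int.ofNat 865, Int.negSucc 576, Int.ofNat 134, Int.ofNat 3, Int.ofNat 303, Int.ofNat 43, Int.negSucc 76, Int.negSucc 3, Int.ofNat 0, Int.ofNat 0, Int.ofNat 0, Int.ofNat 3, Int.ofNat 1, Int.negSucc 367, Int.ofNat 3, Int.ofNat 52, Int.ofNat 0, Int.ofNat 269]) (ZT.leaf [])))) (ZT.node 4970 (ZT.node 4968 (ZT.leaf [Int.negSucc 3183, Int.negSucc 1347, Int.ofNat 740, Int.negSucc 220, Int.negSucc 4, Int.negSucc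 393, Int.negSucc 31, Int.ofNat 80, Int.ofNat 4, Int.ofNat 0, Int.ofNat 0, Int.ofNat 0, Int.negSucc 9, Int.negSucc 3, Int.ofNat 443, Int.ofNat 2, Int.negSucc 67, Int.ofNat 0, Int.negSucc 351]) (ZT.node 4969 (ZT.leaf [Int.negSucc 367, Int.negSucc 788, Int.ofNat 127, Int.negSucc 158, Int.negSucc 5, Int.negSucc 163, Int.negSucc 24, Int.ofNat 70, Int.ofNat 14, Int.ofNat 0, Int.ofNat 0, Int.ofNat 0, Int.ofNat 7, Int.negSucc 0, Int.ofNat 274, Int.ofNat 6, Int.negSucc 26, Int.ofNat 0, Int.negSucc 138]) (ZT.leaf [Int.ofNat 65, Int.ofNat 51, Int.negSucc 7, Int.ofNat 2, Int.ofNat 0, Int.ofNat 16, Int.ofNat 12, Int.negSucc 19, Int.negSucc 6, Int.ofNat 0, Int.ofNat 0, Int.ofNat 0, Int.negSucc 0, Int.negSucc 1, Int.negSucc 55, Int.ofNat 3, Int.ofNat 7, Int.ofNat 0, Int.ofNat 19]))) (ZT.node 4971 (ZT.leaf [Int.ofNat 569, Int.ofNat 166, Int.negSucc 131,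 Int.ofNat 25, Int.ofNat 0, Int.ofNat 64, Int.ofNat 2, Int.negSucc 6, Int.ofNat 3, Int.ofNat 0, Int.ofNat 0, Int.ofNat 0, Int.ofNat 2, Int.ofNat 1, Int.negSucc 45, Int.ofNat 0, Int.ofNat 10, Int.ofNat 0, Int.ofNat 54]) (ZT.node 4972 (ZT.leaf [Int.ofNat 101, Int.ofNat 108, Int.ofNat 11, Int.ofNat 3, Int.ofNat 2, Int.negSucc 14, Int.ofNat 13, Int.negSucc 13, Int.negSucc 10, Int.ofNat 0, Int.ofNat 0, Int.ofNat 0, Int.ofNat 4, Int.negSucc 1, Int.negSucc 59, Int.ofNat 0, Int.ofNat 6, Int.ofNat 0, Int.ofNat 6]) (ZT.leaf [Int.ofNat 1])))))) (ZT.node 4984 (ZT.node 4978 (ZT.node 4975 (ZT.node 4974 (ZT.leaf [Int.negSucc 7485, Int.ofNat 1760, Int.ofNat 1532, Int.ofNat 420, Int.ofNat 29, Int.negSucc 184, Int.negSucc 1, Int.negSucc 173, Int.negSucc 88, Int.ofNat 1, Int.ofNat 0, Int.ofNat 2, Int.negSucc 52, Int.ofNat 17, Int.negSucc 329, Int.negSucc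 50, Int.ofNat 5, Int.ofNat 3, Int.negSucc 153]) (ZT.leaf [Int.ofNat 512, Int.ofNat 212, Int.negSucc 113, Int.ofNat 31, Int.ofNat 0, Int.ofNat 64, Int.ofNat 8, Int.negSucc 9, Int.negSucc 1, Int.ofNat 1, Int.ofNat 0, Int.ofNat 0, Int.ofNat 4, Int.ofNat 1, Int.negSucc 79, Int.ofNat 2, Int.ofNat 10, Int.ofNat 0, Int.ofNat 57])) (ZT.node 4976 (ZT.leaf [Int.negSucc 9255, Int.negSucc 891, Int.ofNat 1842, Int.ofNat 36, Int.ofNat 1, Int.negSucc 479, Int.negSucc 119, Int.ofNat 20, Int.ofNat 10, Int.negSucc 2, Int.ofNat 2, Int.ofNat 1, Int.negSucc 74, Int.ofNat 4, Int.ofNat 1058, Int.negSucc 38, Int.negSucc 121, Int.ofNat 2, Int.negSucc 564]) (ZT.node 4977 (ZT.leaf []) (ZT.leaf [Int.ofNat 6830, Int.ofNat 707, Int.negSucc 1289, Int.negSucc 43, Int.ofNat 0, Int.ofNat 276, Int.ofNat 118, Int.negSucc 16, Int.negSucc 31, Int.ofNat 2, Int.negSucc 0, Int.negSucc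 0, Int.ofNat 70, Int.negSucc 4, Int.negSucc 937, Int.ofNat 31, Int.ofNat 84, Int.negSucc 1, Int.ofNat 397])))) (ZT.node 4981 (ZT.node 4979 (ZT.leaf [Int.ofNat 1391, Int.ofNat 733, Int.negSucc 302, Int.ofNat 105, Int.ofNat 6, Int.ofNat 187, Int.ofNat 46, Int.negSucc 94, Int.negSucc 19, Int.negSucc 0, Int.ofNat 0, Int.ofNat 0, Int.negSucc 0, Int.ofNat 0, Int.negSucc 293, Int.negSucc 2, Int.ofNat 59, Int.negSucc 0, Int.ofNat 186]) (ZT.node 4980 (ZT.leaf [Int.ofNat 537, Int.negSucc 967, Int.negSucc 96, Int.negSucc 179, Int.negSucc 7, Int.negSucc 123, Int.negSucc 35, Int.ofNat 89, Int.ofNat 31, Int.ofNat 0, Int.ofNat 0, Int.ofNat 0, Int.ofNat 9, Int.negSucc 8, Int.ofNat 326, Int.ofNat 11, Int.negSucc 26, Int.ofNat 0, Int.negSucc 113]) (ZT.leaf [Int.ofNat 1]))) (ZT.node 4982 (ZT.leaf [Int.ofNat 323, Int.ofNat 188, Int.negSucc 71, Int.ofNat 30,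 Int.ofNat 1, Int.ofNat 47, Int.ofNat 6, Int.negSucc 11, Int.negSucc 1, Int.ofNat 0, Int.ofNat 0, Int.ofNat 0, Int.ofNat 2, Int.ofNat 1, Int.negSucc 64, Int.negSucc 0, Int.ofNat 7, Int.ofNat 0, Int.ofNat 43]) (ZT.node 4983 (ZT.leaf [Int.ofNat 57, Int.ofNat 10, Int.negSucc 17, Int.ofNat 5, Int.ofNat 0, Int.ofNat 10, Int.ofNat 0, Int.negSucc 1, Int.ofNat 1, Int.ofNat 0, Int.ofNat 0, Int.ofNat 0, Int.negSucc 0, Int.ofNat 0, Int.negSucc 1, Int.ofNat 0, Int.ofNat 1, Int.ofNat 0, Int.ofNat 7]) (ZT.leaf [Int.negSucc 356, Int.negSucc 107, Int.ofNat 87, Int.negSucc 18, Int.negSucc 0, Int.negSucc 33, Int.negSucc 0, Int.ofNat 6, Int.ofNat 0, Int.ofNat 0, Int.ofNat 0, Int.ofNat 0, Int.negSucc 1, Int.ofNat 0, Int.ofNat 41, Int.ofNat 0, Int.negSucc 9, Int.ofNat 0, Int.negSucc 32]))))) (ZT.node 4990 (ZT.node 4987 (ZT.node 4985 (ZT.leaf []) (ZT.node 4986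 (ZT.leaf [Int.ofNat 80, Int.ofNat 21, Int.negSucc 16, Int.ofNat 3, Int.ofNat 0, Int.ofNat 7, Int.ofNat 1, Int.ofNat 1, Int.ofNat 0, Int.ofNat 0, Int.ofNat 0, Int.ofNat 0, Int.ofNat 1, Int.ofNat 0, Int.negSucc 3, Int.ofNat 1, Int.ofNat 1, Int.ofNat 0, Int.ofNat 7]) (ZT.leaf [Int.negSucc 489, Int.negSucc 161, Int.ofNat 115, Int.negSucc 25, Int.ofNat 0, Int.negSucc 53, Int.negSucc 3, Int.ofNat 8, Int.negSucc 0, Int.ofNat 0, Int.ofNat 0, Int.ofNat 0, Int.negSucc 1, Int.negSucc 0, Int.ofNat 51, Int.ofNat 0, Int.negSucc 7, Int.ofNat 0, Int.negSucc 47]))) (ZT.node 4988 (ZT.leaf [Int.ofNat 1, Int.ofNat 0, Int.ofNat 0, Int.ofNat 0, Int.ofNat 0, Int.ofNat 0, Int.ofNat 0, Int.ofNat 1]) (ZT.node 4989 (ZT.leaf [Int.ofNat 241, Int.ofNat 94, Int.negSucc 49, Int.ofNat 13, Int.ofNat 0, Int.ofNat 25, Int.ofNat 3, Int.negSucc 6, Int.negSucc 0, Int.ofNat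 0, Int.ofNat 0, Int.ofNat 0, Int.ofNat 1, Int.ofNat 0, Int.negSucc 30, Int.ofNat 0, Int.ofNat 6, Int.ofNat 0, Int.ofNat 24]) (ZT.leaf [Int.negSucc 241, Int.negSucc 94, Int.ofNat 50, Int.negSucc 12, Int.ofNat 0, Int.negSucc 24, Int.negSucc 2, Int.ofNat 6, Int.ofNat 1, Int.ofNat 0, Int.ofNat 0, Int.ofNat 0, Int.negSucc 0, Int.ofNat 0, Int.ofNat 31, Int.ofNat 0, Int.negSucc 5, Int.ofNat 0, Int.negSucc 23])))) (ZT.node 4993 (ZT.node 4991 (ZT.leaf []) (ZT.node 4992 (ZT.leaf [Int.ofNat 34, Int.ofNat 5, Int.negSucc 11, Int.ofNat 2, Int.ofNat 0, Int.ofNat 4, Int.ofNat 0, Int.negSucc 0, Int.ofNat 0, Int.ofNat 0, Int.ofNat 0, Int.ofNat 0, Int.ofNat 0, Int.ofNat 0, Int.negSucc 3, Int.ofNat 0, Int.ofNat 1, Int.ofNat 0, Int.ofNat 4]) (ZT.leaf [Int.ofNat 439, Int.ofNat 206, Int.negSucc 100, Int.ofNat 34, Int.ofNat 1, Int.ofNat 60, Int.ofNat 6, Int.negSucc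 13, Int.negSucc 0, Int.ofNat 0, Int.ofNat 0, Int.ofNat 0, Int.ofNat 1, Int.ofNat 1, Int.negSucc 65, Int.negSucc 0, Int.ofNat 7, Int.ofNat 0, Int.ofNat 52]))) (ZT.node 4994 (ZT.leaf [Int.ofNat 417, Int.ofNat 144, Int.negSucc 91, Int.ofNat 20, Int.ofNat 0, Int.ofNat 48, Int.ofNat 3, Int.negSucc 6, Int.ofNat 1, Int.ofNat 0, Int.ofNat 0, Int.ofNat 0, Int.ofNat 2, Int.ofNat 1, Int.negSucc 37, Int.ofNat 0, Int.ofNat 5, Int.ofNat 0, Int.ofNat 41]) (ZT.node 4995 (ZT.leaf [Int.negSucc 239, Int.negSucc 93, Int.ofNat 50, Int.negSucc 12, Int.ofNat 0, Int.negSucc 24, Int.negSucc 2, Int.ofNat 7, Int.ofNat 1, Int.ofNat 0, Int.ofNat 0, Int.ofNat 0, Int.negSucc 0, Int.ofNat 0, Int.ofNat 31, Int.ofNat 0, Int.negSucc 5, Int.ofNat 0, Int.negSucc 23]) (ZT.leaf [Int.ofNat 1921, Int.ofNat 758, Int.negSucc 449, Int.ofNat 124, Int.ofNat 4, Int.ofNat 241, Int.ofNat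 25, Int.negSucc 58, Int.negSucc 2, Int.ofNat 0, Int.ofNat 0, Int.ofNat 0, Int.ofNat 3, Int.ofNat 2, Int.negSucc 269, Int.negSucc 0, Int.ofNat 40, Int.ofNat 0, Int.ofNat 213]))))))))) (ZT.node 5086 (ZT.node 5041 (ZT.node 5018 (ZT.node 5007 (ZT.node 5001 (ZT.node 4998 (ZT.node 4997 (ZT.leaf []) (ZT.leaf [])) (ZT.node 4999 (ZT.leaf [Int.negSucc 267, Int.negSucc 74, Int.ofNat 66, Int.negSucc 14, Int.negSucc 0, Int.negSucc 23, Int.negSucc 0, Int.ofNat 5, Int.ofNat 0, Int.ofNat 0, Int.ofNat 0, Int.ofNat 0, Int.negSucc 0, Int.ofNat 0, Int.ofNat 30, Int.ofNat 0, Int.negSucc 7, Int.ofNat 0, Int.negSucc 23]) (ZT.node 5000 (ZT.leaf [Int.negSucc 36, Int.negSucc 6, Int.ofNat 11, Int.negSucc 1, Int.ofNat 0, Int.negSucc 3, Int.negSucc 0, Int.ofNat 1, Int.ofNat 0, Int.ofNat 0, Int.ofNat 0, Int.ofNat 0, Int.ofNat 0, Int.ofNat 0, Int.ofNat 5, Int.ofNat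 0, Int.negSucc 0, Int.ofNat 0, Int.negSucc 3]) (ZT.leaf [Int.ofNat 92, Int.ofNat 16, Int.negSucc 28, Int.ofNat 7, Int.ofNat 0, Int.ofNat 14, Int.ofNat 1, Int.negSucc 2, Int.ofNat 1, Int.ofNat 0, Int.ofNat 0, Int.ofNat 0, Int.negSucc 0, Int.ofNat 0, Int.negSucc 6, Int.ofNat 0, Int.ofNat 2, Int.ofNat 0, Int.ofNat 11])))) (ZT.node 5004 (ZT.node 5002 (ZT.leaf [Int.ofNat 1]) (ZT.node 5003 (ZT.leaf []) (ZT.leaf [Int.ofNat 1]))) (ZT.node 5005 (ZT.leaf [Int.negSucc 99, Int.negSucc 17, Int.ofNat 28, Int.negSucc 4, Int.ofNat 0, Int.negSucc 12, Int.ofNat 0, Int.ofNat 1, Int.negSucc 0, Int.ofNat 0, Int.ofNat 0, Int.ofNat 0, Int.ofNat 0, Int.ofNat 0, Int.ofNat 7, Int.ofNat 0, Int.negSucc 2, Int.ofNat 0, Int.negSucc 10]) (ZT.node 5006 (ZT.leaf [Int.ofNat 1]) (ZT.leaf []))))) (ZT.node 5012 (ZT.node 5009 (ZT.node 5008 (ZT.leaf []) (ZT.leaf [Int.ofNat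 1])) (ZT.node 5010 (ZT.leaf [Int.negSucc 5, Int.negSucc 3, Int.ofNat 1, Int.ofNat 0, Int.ofNat 0, Int.ofNat 0, Int.ofNat 0, Int.ofNat 1, Int.ofNat 0, Int.ofNat 0, Int.ofNat 0, Int.ofNat 0, Int.ofNat 0, Int.ofNat 0, Int.ofNat 0, Int.ofNat 0, Int.ofNat 0, Int.ofNat 0, Int.ofNat 0]) (ZT.node 5011 (ZT.leaf [Int.ofNat 1]) (ZT.leaf [Int.ofNat 14, Int.negSucc 7, Int.negSucc 5, Int.ofNat 0, Int.ofNat 0, Int.ofNat 1, Int.ofNat 0, Int.ofNat 1, Int.ofNat 1, Int.ofNat 0, Int.ofNat 0, Int.ofNat 0, Int.ofNat 0, Int.ofNat 0, Int.ofNat 2, Int.ofNat 0, Int.ofNat 0, Int.ofNat 0, Int.ofNat 1])))) (ZT.node 5015 (ZT.node 5013 (ZT.leaf [Int.ofNat 1]) (ZT.node 5014 (ZT.leaf []) (ZT.leaf [Int.ofNat 4, Int.ofNat 3, Int.ofNat 0, Int.ofNat 0, Int.ofNat 0, Int.ofNat 0, Int.ofNat 0, Int.negSucc 0, Int.ofNat 0, Int.ofNat 0, Int.ofNat 0, Int.ofNat 0, Int.ofNat 0, Int.ofNat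 0, Int.ofNat 0, Int.ofNat 0, Int.ofNat 0, Int.ofNat 0, Int.ofNat 0]))) (ZT.node 5016 (ZT.leaf []) (ZT.node 5017 (ZT.leaf []) (ZT.leaf [Int.ofNat 91, Int.ofNat 32, Int.negSucc 20, Int.ofNat 4, Int.ofNat 0, Int.ofNat 10, Int.ofNat 0, Int.negSucc 0, Int.ofNat 0, Int.ofNat 0, Int.ofNat 0, Int.ofNat 0, Int.ofNat 1, Int.ofNat 0, Int.negSucc 10, Int.ofNat 0, Int.ofNat 2, Int.ofNat 0, Int.ofNat 9])))))) (ZT.node 5029 (ZT.node 5023 (ZT.node 5020 (ZT.node 5019 (ZT.leaf []) (ZT.leaf [Int.negSucc 3, Int.negSucc 2, Int.negSucc 0, Int.ofNat 0, Int.ofNat 0, Int.ofNat 0, Int.ofNat 0, Int.ofNat 0, Int.ofNat 0, Int.negSucc 0, Int.ofNat 0, Int.ofNat 0, Int.ofNat 0, Int.ofNat 0, Int.ofNat 0, Int.ofNat 0, Int.ofNat 0, Int.ofNat 0, Int.ofNat 0])) (ZT.node 5021 (ZT.leaf [Int.ofNat 4, Int.ofNat 2, Int.ofNat 1, Int.ofNat 0, Int.ofNat 0, Int.ofNat 0, Int.ofNat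 0, Int.ofNat 0, Int.ofNat 0, Int.ofNat 1, Int.ofNat 0, Int.ofNat 0, Int.ofNat 0, Int.ofNat 0, Int.ofNat 0, Int.ofNat 0, Int.ofNat 0, Int.ofNat 0, Int.ofNat 0]) (ZT.node 5022 (ZT.leaf [Int.ofNat 3, Int.ofNat 2, Int.negSucc 0, Int.ofNat 0, Int.ofNat 0, Int.ofNat 0, Int.ofNat 0, Int.negSucc 0, Int.ofNat 0, Int.ofNat 0, Int.ofNat 0, Int.ofNat 0, Int.ofNat 0, Int.ofNat 0, Int.ofNat 0, Int.ofNat 0, Int.ofNat 0, Int.ofNat 0, Int.ofNat 0]) (ZT.leaf [Int.ofNat 5, Int.ofNat 3, Int.ofNat 1, Int.ofNat 0, Int.ofNat 0, Int.ofNat 0, Int.ofNat 0, Int.ofNat 0, Int.ofNat 0, Int.ofNat 1, Int.ofNat 0, Int.ofNat 0, Int.ofNat 0, Int.ofNat 0, Int.ofNat 0, Int.ofNat 0, Int.ofNat 0, Int.ofNat 0, Int.ofNat 0])))) (ZT.node 5026 (ZT.node 5024 (ZT.leaf []) (ZT.node 5025 (ZT.leaf [Int.negSucc 396, Int.negSucc 147, Int.ofNat 109, Int.negSucc 30, Int.negSucc 0, Int.negSucc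 61, Int.negSucc 4, Int.ofNat 13, Int.negSucc 1, Int.ofNat 0, Int.ofNat 0, Int.ofNat 0, Int.ofNat 2, Int.negSucc 0, Int.ofNat 44, Int.ofNat 1, Int.negSucc 3, Int.ofNat 0, Int.negSucc 47]) (ZT.leaf [Int.negSucc 95, Int.negSucc 34, Int.ofNat 21, Int.negSucc 3, Int.ofNat 0, Int.negSucc 9, Int.ofNat 0, Int.ofNat 1, Int.ofNat 0, Int.ofNat 0, Int.ofNat 0, Int.ofNat 0, Int.negSucc 0, Int.ofNat 0, Int.ofNat 11, Int.ofNat 0, Int.negSucc 1, Int.ofNat 0, Int.negSucc 8]))) (ZT.node 5027 (ZT.leaf [Int.ofNat 1]) (ZT.node 5028 (ZT.leaf [Int.ofNat 255, Int.ofNat 140, Int.negSucc 58, Int.ofNat 22, Int.ofNat 2, Int.ofNat 38, Int.ofNat 4, Int.negSucc 10, Int.negSucc 1, Int.ofNat 0, Int.ofNat 0, Int.ofNat 0, Int.ofNat 0, Int.ofNat 0, Int.negSucc 46, Int.negSucc 0, Int.ofNat 7, Int.ofNat 0, Int.ofNat 33]) (ZT.leaf [Int.ofNat 1]))))) (ZT.node 5035 (ZT.node 5032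 (ZT.node 5030 (ZT.leaf []) (ZT.node 5031 (ZT.leaf []) (ZT.leaf [Int.negSucc 1191, Int.negSucc 523, Int.ofNat 278, Int.negSucc 83, Int.negSucc 0, Int.negSucc 162, Int.negSucc 19, Int.ofNat 39, Int.ofNat 2, Int.ofNat 0, Int.ofNat 0, Int.ofNat 0, Int.negSucc 2, Int.negSucc 2, Int.ofNat 200, Int.ofNat 2, Int.negSucc 24, Int.ofNat 0, Int.negSucc 142]))) (ZT.node 5033 (ZT.leaf [Int.ofNat 0, Int.negSucc 0, Int.ofNat 0, Int.ofNat 0, Int.ofNat 0, Int.ofNat 0, Int.ofNat 0, Int.ofNat 1]) (ZT.node 5034 (ZT.leaf [Int.ofNat 0, Int.negSucc 0]) (ZT.leaf [Int.negSucc 268, Int.negSucc 65, Int.ofNat 71, Int.negSucc 13, Int.ofNat 0, Int.negSucc 36, Int.negSucc 0, Int.ofNat 4, Int.negSucc 2, Int.ofNat 0, Int.ofNat 0, Int.ofNat 0, Int.ofNat 0, Int.negSucc 0, Int.ofNat 14, Int.ofNat 0, Int.negSucc 0, Int.ofNat 0, Int.negSucc 27])))) (ZT.node 5038 (ZT.node 5036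 (ZT.leaf [Int.ofNat 4, Int.ofNat 3, Int.ofNat 1, Int.ofNat 1, Int.ofNat 0, Int.negSucc 0, Int.ofNat 1, Int.ofNat 1, Int.ofNat 0, Int.ofNat 0, Int.ofNat 0, Int.ofNat 0, Int.ofNat 0, Int.ofNat 0, Int.ofNat 0, Int.ofNat 0, Int.ofNat 0, Int.ofNat 0, Int.ofNat 0]) (ZT.node 5037 (ZT.leaf [Int.negSucc 70, Int.negSucc 42, Int.negSucc 2, Int.ofNat 2, Int.negSucc 0, Int.negSucc 1, Int.negSucc 5, Int.negSucc 0, Int.ofNat 1, Int.ofNat 0, Int.ofNat 0, Int.ofNat 0, Int.negSucc 0, Int.ofNat 0, Int.ofNat 14, Int.ofNat 1, Int.ofNat 7, Int.ofNat 0, Int.negSucc 1]) (ZT.leaf [Int.ofNat 585, Int.ofNat 365, Int.negSucc 161, Int.ofNat 73, Int.ofNat 1, Int.ofNat 113, Int.ofNat 5, Int.negSucc 16, Int.ofNat 3, Int.ofNat 0, Int.ofNat 0, Int.ofNat 0, Int.ofNat 0, Int.ofNat 4, Int.negSucc 103, Int.negSucc 2, Int.ofNat 10, Int.ofNat 0, Int.ofNat 89]))) (ZT.node 5039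 (ZT.leaf [Int.ofNat 2165, Int.ofNat 1122, Int.negSucc 506, Int.ofNat 184, Int.ofNat 4, Int.ofNat 315, Int.ofNat 43, Int.negSucc 83, Int.negSucc 9, Int.ofNat 0, Int.ofNat 0, Int.ofNat 0, Int.ofNat 5, Int.ofNat 6, Int.negSucc 394, Int.negSucc 4, Int.ofNat 45, Int.ofNat 0, Int.ofNat 280]) (ZT.node 5040 (ZT.leaf [Int.negSucc 10, Int.negSucc 1, Int.ofNat 6, Int.negSucc 1, Int.ofNat 0, Int.negSucc 1, Int.ofNat 0, Int.ofNat 1, Int.ofNat 0, Int.ofNat 0, Int.ofNat 0, Int.ofNat 0, Int.ofNat 0, Int.ofNat 0, Int.ofNat 1, Int.ofNat 0, Int.negSucc 1, Int.ofNat 0, Int.negSucc 1]) (ZT.leaf [Int.ofNat 1]))))))) (ZT.node 5063 (ZT.node 5052 (ZT.node 5046 (ZT.node 5043 (ZT.node 5042 (ZT.leaf [Int.negSucc 976, Int.negSucc 599, Int.ofNat 229, Int.negSucc 99, Int.negSucc 1, Int.negSucc 151, Int.negSucc 22, Int.ofNat 45, Int.ofNat 8, Int.ofNat 0, Int.ofNat 0,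 Int.ofNat 0, Int.negSucc 1, Int.negSucc 2, Int.ofNat 195, Int.ofNat 3, Int.negSucc 19, Int.ofNat 0, Int.negSucc 136]) (ZT.leaf [])) (ZT.node 5044 (ZT.leaf [Int.negSucc 60, Int.negSucc 55, Int.ofNat 7, Int.negSucc 9, Int.negSucc 0, Int.ofNat 6, Int.negSucc 7, Int.ofNat 8, Int.ofNat 3, Int.ofNat 0, Int.ofNat 0, Int.ofNat 1, Int.ofNat 0, Int.ofNat 0, Int.ofNat 47, Int.ofNat 3, Int.ofNat 0, Int.ofNat 0, Int.negSucc 3]) (ZT.node 5045 (ZT.leaf [Int.ofNat 838, Int.ofNat 258, Int.negSucc 208, Int.ofNat 46, Int.ofNat 1, Int.ofNat 104, Int.ofNat 6, Int.negSucc 17, Int.ofNat 2, Int.ofNat 0, Int.ofNat 0, Int.ofNat 0, Int.ofNat 1, Int.ofNat 1, Int.negSucc 74, Int.ofNat 0, Int.ofNat 14, Int.ofNat 0, Int.ofNat 87]) (ZT.leaf [Int.ofNat 627, Int.ofNat 223, Int.negSucc 151, Int.ofNat 37, Int.ofNat 1, Int.ofNat 79, Int.ofNat 7, Int.negSucc 15, Int.ofNat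 0, Int.ofNat 0, Int.ofNat 0, Int.ofNat 1, Int.ofNat 1, Int.ofNat 1, Int.negSucc 71, Int.ofNat 0, Int.ofNat 11, Int.ofNat 0, Int.ofNat 68])))) (ZT.node 5049 (ZT.node 5047 (ZT.leaf []) (ZT.node 5048 (ZT.leaf [Int.negSucc 111, Int.negSucc 20, Int.ofNat 28, Int.negSucc 3, Int.ofNat 0, Int.negSucc 10, Int.ofNat 0, Int.ofNat 1, Int.negSucc 0, Int.ofNat 0, Int.ofNat 0, Int.ofNat 0, Int.ofNat 0, Int.ofNat 0, Int.ofNat 4, Int.ofNat 0, Int.negSucc 0, Int.ofNat 0, Int.negSucc 8]) (ZT.leaf [Int.negSucc 124, Int.negSucc 26, Int.ofNat 34, Int.negSucc 6, Int.ofNat 0, Int.negSucc 13, Int.ofNat 0, Int.ofNat 2, Int.negSucc 0, Int.ofNat 0, Int.ofNat 0, Int.ofNat 0, Int.ofNat 0, Int.ofNat 0, Int.ofNat 11, Int.ofNat 0, Int.negSucc 1, Int.ofNat 0, Int.negSucc 10]))) (ZT.node 5050 (ZT.leaf [Int.negSucc 822, Int.negSucc 539, Int.ofNat 228, Int.negSucc 100, Int.ofNat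 2, Int.negSucc 159, Int.negSucc 11, Int.ofNat 30, Int.negSucc 3, Int.ofNat 0, Int.ofNat 0, Int.ofNat 0, Int.negSucc 0, Int.negSucc 7, Int.ofNat 154, Int.ofNat 7, Int.negSucc 13, Int.ofNat 0, Int.negSucc 129]) (ZT.node 5051 (ZT.leaf []) (ZT.leaf [Int.negSucc 7317, Int.negSucc 5134, Int.ofNat 1843, Int.negSucc 919, Int.negSucc 20, Int.negSucc 1299, Int.negSucc 139, Int.ofNat 387, Int.ofNat 43, Int.ofNat 0, Int.ofNat 0, Int.ofNat 0, Int.ofNat 1, Int.negSucc 24, Int.ofNat 1645, Int.ofNat 37, Int.negSucc 204, Int.ofNat 0, Int.negSucc 1138]))))) (ZT.node 5057 (ZT.node 5054 (ZT.node 5053 (ZT.leaf []) (ZT.leaf [])) (ZT.node 5055 (ZT.leaf [Int.ofNat 1]) (ZT.node 5056 (ZT.leaf [Int.ofNat 660, Int.ofNat 367, Int.negSucc 128, Int.ofNat 49, Int.ofNat 1, Int.ofNat 79, Int.ofNat 11, Int.negSucc 18, Int.negSucc 3, Int.ofNat 0, Int.ofNat 0, Int.ofNat 0,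 Int.ofNat 5, Int.ofNat 1, Int.negSucc 112, Int.negSucc 1, Int.ofNat 12, Int.ofNat 0, Int.ofNat 75]) (ZT.leaf [Int.ofNat 2591, Int.ofNat 1381, Int.negSucc 652, Int.ofNat 241, Int.ofNat 0, Int.ofNat 404, Int.ofNat 43, Int.negSucc 99, Int.negSucc 3, Int.ofNat 0, Int.ofNat 0, Int.ofNat 0, Int.ofNat 3, Int.ofNat 11, Int.negSucc 439, Int.negSucc 8, Int.ofNat 53, Int.ofNat 0, Int.ofNat 352])))) (ZT.node 5060 (ZT.node 5058 (ZT.leaf [Int.ofNat 1019, Int.negSucc 1221, Int.negSucc 186, Int.negSucc 240, Int.negSucc 7, Int.negSucc 134, Int.negSucc 66, Int.ofNat 127, Int.ofNat 47, Int.ofNat 1, Int.ofNat 0, Int.ofNat 1, Int.ofNat 10, Int.negSucc 5, Int.ofNat 426, Int.ofNat 16, Int.negSucc 13, Int.ofNat 1, Int.negSucc 135]) (ZT.node 5059 (ZT.leaf [Int.negSucc 7256, Int.negSucc 5657, Int.ofNat 1704, Int.negSucc 938, Int.negSucc 25, Int.negSucc 1308, Int.negSucc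 258, Int.ofNat 499, Int.ofNat 109, Int.ofNat 1, Int.ofNat 0, Int.ofNat 1, Int.negSucc 7, Int.negSucc 19, Int.ofNat 2027, Int.ofNat 36, Int.negSucc 214, Int.ofNat 1, Int.negSucc 1219]) (ZT.leaf []))) (ZT.node 5061 (ZT.leaf [Int.ofNat 4, Int.ofNat 2, Int.ofNat 1]) (ZT.node 5062 (ZT.leaf [Int.ofNat 388, Int.negSucc 0, Int.negSucc 98, Int.ofNat 2, Int.negSucc 0, Int.ofNat 54, Int.ofNat 6, Int.negSucc 7, Int.ofNat 5, Int.ofNat 0, Int.ofNat 0, Int.ofNat 0, Int.negSucc 1, Int.negSucc 0, Int.negSucc 1, Int.ofNat 1, Int.ofNat 6, Int.ofNat 0, Int.ofNat 35]) (ZT.leaf [Int.negSucc 2847, Int.negSucc 6, Int.ofNat 631, Int.ofNat 31, Int.ofNat 3, Int.negSucc 168, Int.ofNat 29, Int.negSucc 56, Int.negSucc 34, Int.ofNat 0, Int.ofNat 0, Int.ofNat 0, Int.negSucc 17, Int.negSucc 0, Int.negSucc 2, Int.negSucc 10, Int.negSucc 20, Int.ofNat 0, Int.negSucc 139]))))))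 (ZT.node 5074 (ZT.node 5068 (ZT.node 5065 (ZT.node 5064 (ZT.leaf [Int.negSucc 1761, Int.negSucc 937, Int.ofNat 409, Int.negSucc 149, Int.negSucc 4, Int.negSucc 246, Int.negSucc 46, Int.ofNat 100, Int.ofNat 22, Int.ofNat 0, Int.ofNat 0, Int.ofNat 0, Int.ofNat 0, Int.negSucc 0, Int.ofNat 353, Int.ofNat 0, Int.negSucc 56, Int.ofNat 0, Int.negSucc 232]) (ZT.leaf [])) (ZT.node 5066 (ZT.leaf [Int.negSucc 821, Int.negSucc 577, Int.ofNat 179, Int.negSucc 88, Int.negSucc 4, Int.negSucc 133, Int.negSucc 32, Int.ofNat 66, Int.ofNat 15, Int.ofNat 0, Int.ofNat 0, Int.ofNat 0, Int.ofNat 3, Int.negSucc 0, Int.ofNat 233, Int.ofNat 3, Int.negSucc 22, Int.ofNat 0, Int.negSucc 129]) (ZT.node 5067 (ZT.leaf []) (ZT.leaf [Int.negSucc 2396, Int.negSucc 1463, Int.ofNat 685, Int.negSucc 318, Int.ofNat 2, Int.negSucc 436, Int.negSucc 2, Int.ofNat 53, Int.negSucc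 15, Int.ofNat 1, Int.negSucc 0, Int.ofNat 1, Int.negSucc 5, Int.negSucc 9, Int.ofNat 379, Int.ofNat 15, Int.negSucc 21, Int.ofNat 1, Int.negSucc 344])))) (ZT.node 5071 (ZT.node 5069 (ZT.leaf [Int.ofNat 1699, Int.ofNat 968, Int.negSucc 426, Int.ofNat 172, Int.ofNat 6, Int.ofNat 268, Int.ofNat 41, Int.negSucc 106, Int.negSucc 21, Int.ofNat 0, Int.ofNat 0, Int.ofNat 0, Int.negSucc 1, Int.ofNat 0, Int.negSucc 368, Int.ofNat 0, Int.ofNat 66, Int.ofNat 0, Int.ofNat 244]) (ZT.node 5070 (ZT.leaf [Int.ofNat 7033, Int.ofNat 3115, Int.negSucc 1654, Int.ofNat 506, Int.ofNat 10, Int.ofNat 933, Int.ofNat 98, Int.negSucc 226, Int.negSucc 14, Int.ofNat 0, Int.ofNat 0, Int.ofNat 0, Int.ofNat 13, Int.ofNat 10, Int.negSucc 1039, Int.negSucc 5, Int.ofNat 153, Int.ofNat 0, Int.ofNat 820]) (ZT.leaf []))) (ZT.node 5072 (ZT.leaf []) (ZT.node 5073 (ZT.leaf [])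 (ZT.leaf [Int.ofNat 2018, Int.ofNat 689, Int.negSucc 455, Int.ofNat 100, Int.ofNat 2, Int.ofNat 237, Int.ofNat 32, Int.negSucc 56, Int.negSucc 2, Int.ofNat 0, Int.ofNat 0, Int.ofNat 0, Int.ofNat 5, Int.ofNat 0, Int.negSucc 266, Int.ofNat 1, Int.ofNat 41, Int.ofNat 0, Int.ofNat 208]))))) (ZT.node 5080 (ZT.node 5077 (ZT.node 5075 (ZT.leaf [Int.ofNat 7258, Int.ofNat 5658, Int.negSucc 1703, Int.ofNat 939, Int.ofNat 26, Int.ofNat 1309, Int.ofNat 259, Int.negSucc 498, Int.negSucc 108, Int.negSucc 0, Int.ofNat 0, Int.negSucc 0, Int.ofNat 8, Int.ofNat 20, Int.negSucc 2026, Int.negSucc 35, Int.ofNat 215, Int.negSucc 0, Int.ofNat 1220]) (ZT.node 5076 (ZT.leaf []) (ZT.leaf []))) (ZT.node 5078 (ZT.leaf [Int.ofNat 2434, Int.ofNat 1305, Int.negSucc 567, Int.ofNat 196, Int.ofNat 0, Int.ofNat 361, Int.ofNat 42, Int.negSucc 94, Int.negSucc 11, Int.ofNat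 0, Int.ofNat 0, Int.ofNat 0, Int.ofNat 10, Int.ofNat 9, Int.negSucc 423, Int.negSucc 5, Int.ofNat 61, Int.ofNat 0, Int.ofNat 324]) (ZT.node 5079 (ZT.leaf []) (ZT.leaf [Int.negSucc 2887, Int.negSucc 2104, Int.ofNat 716, Int.negSucc 354, Int.negSucc 5, Int.negSucc 531, Int.negSucc 66, Int.ofNat 165, Int.ofNat 25, Int.ofNat 0, Int.ofNat 0, Int.ofNat 0, Int.negSucc 2, Int.negSucc 9, Int.ofNat 697, Int.ofNat 12, Int.negSucc 87, Int.ofNat 0, Int.negSucc 467])))) (ZT.node 5083 (ZT.node 5081 (ZT.leaf [Int.ofNat 331, Int.ofNat 124, Int.negSucc 79, Int.ofNat 21, Int.ofNat 1, Int.ofNat 42, Int.ofNat 3, Int.negSucc 9, Int.ofNat 0, Int.ofNat 0, Int.ofNat 0, Int.ofNat 0, Int.ofNat 0, Int.ofNat 2, Int.negSucc 33, Int.negSucc 0, Int.ofNat 7, Int.ofNat 0, Int.ofNat 37]) (ZT.node 5082 (ZT.leaf [Int.ofNat 567, Int.ofNat 214, Int.negSucc 142, Int.ofNat 40,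 Int.ofNat 1, Int.ofNat 78, Int.ofNat 7, Int.negSucc 16, Int.ofNat 0, Int.ofNat 0, Int.ofNat 0, Int.ofNat 0, Int.ofNat 0, Int.ofNat 1, Int.negSucc 73, Int.ofNat 0, Int.ofNat 11, Int.ofNat 0, Int.ofNat 66]) (ZT.leaf [Int.ofNat 382, Int.ofNat 102, Int.negSucc 116, Int.ofNat 37, Int.ofNat 1, Int.ofNat 68, Int.negSucc 0, Int.ofNat 2, Int.ofNat 8, Int.ofNat 0, Int.ofNat 0, Int.ofNat 0, Int.ofNat 0, Int.ofNat 2, Int.negSucc 25, Int.ofNat 0, Int.ofNat 10, Int.ofNat 0, Int.ofNat 45]))) (ZT.node 5084 (ZT.leaf [Int.ofNat 2260, Int.negSucc 798, Int.negSucc 485, Int.negSucc 179, Int.negSucc 10, Int.ofNat 41, Int.negSucc 11, Int.ofNat 102, Int.ofNat 47, Int.ofNat 0, Int.ofNat 0, Int.ofNat 0, Int.ofNat 16, Int.ofNat 7, Int.ofNat 227, Int.ofNat 13, Int.negSucc 17, Int.ofNat 0, Int.ofNat 16]) (ZT.node 5085 (ZT.leaf []) (ZT.leaf [])))))))) (ZT.node 5131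 (ZT.node 5108 (ZT.node 5097 (ZT.node 5091 (ZT.node 5088 (ZT.node 5087 (ZT.leaf [Int.negSucc 15669, Int.negSucc 6566, Int.ofNat 3611, Int.negSucc 1032, Int.negSucc 23, Int.negSucc 1975, Int.negSucc 237, Int.ofNat 493, Int.ofNat 38, Int.ofNat 0, Int.ofNat 0, Int.ofNat 0, Int.negSucc 33, Int.negSucc 18, Int.ofNat 2364, Int.ofNat 10, Int.negSucc 352, Int.ofNat 0, Int.negSucc 1779]) (ZT.leaf [Int.negSucc 4637, Int.negSucc 913, Int.ofNat 1025, Int.negSucc 95, Int.ofNat 2, Int.negSucc 418, Int.negSucc 34, Int.ofNat 48, Int.negSucc 10, Int.ofNat 0, Int.ofNat 0, Int.ofNat 0, Int.negSucc 21, Int.negSucc 1, Int.ofNat 346, Int.negSucc 8, Int.negSucc 72, Int.ofNat 0, Int.negSucc 379])) (ZT.node 5089 (ZT.leaf [Int.ofNat 2936, Int.ofNat 2108, Int.negSucc 728, Int.ofNat 356, Int.ofNat 6, Int.ofNat 536, Int.ofNat 67, Int.negSucc 164, Int.negSucc 23, Int.ofNat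 0, Int.ofNat 0, Int.ofNat 0, Int.ofNat 3, Int.ofNat 10, Int.negSucc 693, Int.negSucc 11, Int.ofNat 87, Int.ofNat 0, Int.ofNat 471]) (ZT.node 5090 (ZT.leaf [Int.ofNat 122, Int.ofNat 14, Int.negSucc 34, Int.ofNat 5, Int.ofNat 0, Int.ofNat 14, Int.ofNat 0, Int.negSucc 0, Int.ofNat 2, Int.ofNat 0, Int.ofNat 0, Int.ofNat 0, Int.ofNat 0, Int.ofNat 0, Int.ofNat 0, Int.ofNat 0, Int.ofNat 1, Int.ofNat 0, Int.ofNat 10]) (ZT.leaf [Int.ofNat 124, Int.ofNat 47, Int.negSucc 31, Int.ofNat 7, Int.ofNat 0, Int.ofNat 17, Int.ofNat 0, Int.negSucc 3, Int.ofNat 0, Int.negSucc 0, Int.ofNat 0, Int.ofNat 0, Int.ofNat 0, Int.ofNat 1, Int.negSucc 13, Int.ofNat 0, Int.ofNat 3, Int.ofNat 0, Int.ofNat 15])))) (ZT.node 5094 (ZT.node 5092 (ZT.leaf [Int.negSucc 12, Int.ofNat 4, Int.ofNat 3, Int.ofNat 0, Int.ofNat 0, Int.ofNat 0, Int.ofNat 0, Int.negSucc 0, Int.negSucc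 0, Int.negSucc 0, Int.ofNat 0, Int.ofNat 0, Int.ofNat 0, Int.ofNat 0, Int.negSucc 1, Int.ofNat 0, Int.ofNat 0, Int.ofNat 0, Int.ofNat 0]) (ZT.node 5093 (ZT.leaf []) (ZT.leaf [Int.ofNat 104, Int.ofNat 22, Int.negSucc 27, Int.ofNat 5, Int.ofNat 0, Int.ofNat 13, Int.ofNat 0, Int.negSucc 0, Int.ofNat 1, Int.ofNat 0, Int.ofNat 0, Int.ofNat 0, Int.ofNat 0, Int.ofNat 0, Int.negSucc 6, Int.ofNat 0, Int.ofNat 3, Int.ofNat 0, Int.ofNat 11]))) (ZT.node 5095 (ZT.leaf [Int.ofNat 4414, Int.ofNat 2029, Int.negSucc 1145, Int.ofNat 397, Int.ofNat 16, Int.ofNat 630, Int.ofNat 20, Int.negSucc 121, Int.ofNat 17, Int.ofNat 0, Int.ofNat 0, Int.ofNat 0, Int.negSucc 8, Int.ofNat 10, Int.negSucc 575, Int.negSucc 9, Int.ofNat 124, Int.ofNat 0, Int.ofNat 535]) (ZT.node 5096 (ZT.leaf [Int.negSucc 7662, Int.negSucc 5895, Int.ofNat 1828, Int.negSucc 989, Int.negSucc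 25, Int.negSucc 1393, Int.negSucc 263, Int.ofNat 517, Int.ofNat 106, Int.ofNat 1, Int.ofNat 0, Int.ofNat 1, Int.negSucc 2, Int.negSucc 22, Int.ofNat 2051, Int.ofNat 40, Int.negSucc 211, Int.ofNat 1, Int.negSucc 1279]) (ZT.leaf []))))) (ZT.node 5102 (ZT.node 5099 (ZT.node 5098 (ZT.leaf [Int.negSucc 11236, Int.negSucc 367, Int.ofNat 2545, Int.ofNat 24, Int.ofNat 14, Int.negSucc 768, Int.ofNat 44, Int.negSucc 89, Int.negSucc 103, Int.negSucc 1, Int.ofNat 0, Int.negSucc 0, Int.negSucc 60, Int.ofNat 6, Int.ofNat 233, Int.negSucc 42, Int.negSucc 140, Int.negSucc 0, Int.negSucc 644]) (ZT.leaf [Int.ofNat 7528, Int.ofNat 1766, Int.negSucc 1657, Int.ofNat 211, Int.ofNat 0, Int.ofNat 716, Int.ofNat 76, Int.negSucc 125, Int.ofNat 8, Int.ofNat 0, Int.ofNat 0, Int.ofNat 0, Int.ofNat 27, Int.ofNat 4, Int.negSucc 689, Int.ofNat 13, Int.ofNat 145, Int.ofNat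 0, Int.ofNat 651])) (ZT.node 5100 (ZT.leaf [Int.ofNat 1793, Int.ofNat 340, Int.negSucc 372, Int.ofNat 32, Int.ofNat 0, Int.ofNat 162, Int.ofNat 33, Int.negSucc 45, Int.negSucc 1, Int.ofNat 0, Int.ofNat 0, Int.ofNat 0, Int.ofNat 3, Int.negSucc 1, Int.negSucc 191, Int.ofNat 6, Int.ofNat 38, Int.ofNat 0, Int.ofNat 148]) (ZT.node 5101 (ZT.leaf [Int.ofNat 2]) (ZT.leaf [Int.ofNat 1])))) (ZT.node 5105 (ZT.node 5103 (ZT.leaf []) (ZT.node 5104 (ZT.leaf [Int.negSucc 10757, Int.negSucc 3970, Int.ofNat 2413, Int.negSucc 588, Int.negSucc 12, Int.negSucc 1229, Int.negSucc 153, Int.ofNat 293, Int.ofNat 19, Int.ofNat 0, Int.ofNat 0, Int.ofNat 0, Int.negSucc 27, Int.negSucc 7, Int.ofNat 1488, Int.negSucc 0, Int.negSucc 239, Int.ofNat 0, Int.negSucc 1129]) (ZT.leaf [Int.ofNat 18221, Int.ofNat 7450, Int.negSucc 4209, Int.ofNat 1172, Int.ofNat 33, Int.ofNat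 2312, Int.ofNat 275, Int.negSucc 623, Int.negSucc 55, Int.ofNat 1, Int.negSucc 0, Int.ofNat 0, Int.ofNat 31, Int.ofNat 14, Int.negSucc 2627, Int.negSucc 5, Int.ofNat 447, Int.ofNat 0, Int.ofNat 2067]))) (ZT.node 5106 (ZT.leaf [Int.ofNat 25060, Int.ofNat 12681, Int.negSucc 5786, Int.ofNat 2031, Int.ofNat 60, Int.ofNat 3495, Int.ofNat 466, Int.negSucc 1045, Int.negSucc 144, Int.ofNat 1, Int.negSucc 0, Int.ofNat 1, Int.ofNat 42, Int.ofNat 40, Int.negSucc 4425, Int.negSucc 30, Int.ofNat 665, Int.ofNat 1, Int.ofNat 3166]) (ZT.node 5107 (ZT.leaf [Int.negSucc 625, Int.negSucc 312, Int.ofNat 138, Int.negSucc 48, Int.negSucc 0, Int.negSucc 78, Int.negSucc 10, Int.ofNat 18, Int.ofNat 3, Int.ofNat 1, Int.negSucc 0, Int.ofNat 0, Int.negSucc 2, Int.negSucc 1, Int.ofNat 97, Int.ofNat 2, Int.negSucc 8, Int.ofNat 0, Int.negSucc 74]) (ZT.leaf [Int.negSucc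 1047, Int.negSucc 953, Int.ofNat 243, Int.negSucc 156, Int.negSucc 3, Int.negSucc 214, Int.negSucc 43, Int.ofNat 83, Int.ofNat 17, Int.ofNat 1, Int.ofNat 0, Int.ofNat 0, Int.ofNat 0, Int.negSucc 4, Int.ofNat 318, Int.ofNat 6, Int.negSucc 25, Int.ofNat 0, Int.negSucc 195])))))) (ZT.node 5119 (ZT.node 5113 (ZT.node 5110 (ZT.node 5109 (ZT.leaf []) (ZT.leaf [Int.ofNat 391, Int.ofNat 192, Int.negSucc 85, Int.ofNat 30, Int.ofNat 0, Int.ofNat 52, Int.ofNat 8, Int.negSucc 10, Int.negSucc 0, Int.ofNat 0, Int.ofNat 0, Int.ofNat 0, Int.ofNat 1, Int.ofNat 0, Int.negSucc 63, Int.ofNat 0, Int.ofNat 3, Int.ofNat 0, Int.ofNat 46])) (ZT.node 5111 (ZT.leaf [Int.ofNat 198, Int.negSucc 372, Int.ofNat 6, Int.negSucc 87, Int.negSucc 4, Int.negSucc 67, Int.ofNat 0, Int.ofNat 29, Int.ofNat 5, Int.ofNat 0, Int.ofNat 0, Int.ofNat 0, Int.ofNat 7, Int.negSucc 5,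 Int.ofNat 109, Int.ofNat 7, Int.negSucc 19, Int.ofNat 0, Int.negSucc 53]) (ZT.node 5112 (ZT.leaf [Int.negSucc 96, Int.negSucc 6, Int.ofNat 25, Int.ofNat 0, Int.ofNat 0, Int.negSucc 5, Int.ofNat 0, Int.negSucc 1, Int.negSucc 1, Int.ofNat 0, Int.ofNat 0, Int.ofNat 0, Int.ofNat 0, Int.negSucc 1, Int.negSucc 2, Int.ofNat 0, Int.ofNat 0, Int.ofNat 0, Int.negSucc 4]) (ZT.leaf [])))) (ZT.node 5116 (ZT.node 5114 (ZT.leaf [Int.ofNat 1]) (ZT.node 5115 (ZT.leaf [Int.negSucc 197, Int.ofNat 52, Int.ofNat 57, Int.ofNat 6, Int.ofNat 0, Int.negSucc 17, Int.ofNat 4, Int.negSucc 3, Int.negSucc 3, Int.ofNat 0, Int.ofNat 0, Int.ofNat 0, Int.ofNat 0, Int.ofNat 2, Int.negSucc 15, Int.negSucc 1, Int.negSucc 2, Int.ofNat 0, Int.negSucc 8]) (ZT.leaf [Int.ofNat 3422, Int.ofNat 3625, Int.negSucc 838, Int.ofNat 618, Int.ofNat 16, Int.ofNat 782, Int.ofNat 154, Int.negSucc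 311, Int.negSucc 68, Int.negSucc 0, Int.ofNat 0, Int.ofNat 0, Int.ofNat 1, Int.ofNat 15, Int.negSucc 1270, Int.negSucc 29, Int.ofNat 121, Int.ofNat 0, Int.ofNat 721]))) (ZT.node 5117 (ZT.leaf [Int.negSucc 0, Int.negSucc 0]) (ZT.node 5118 (ZT.leaf [Int.ofNat 1]) (ZT.leaf [Int.negSucc 1, Int.negSucc 2]))))) (ZT.node 5125 (ZT.node 5122 (ZT.node 5120 (ZT.leaf []) (ZT.node 5121 (ZT.leaf [Int.ofNat 31, Int.ofNat 0, Int.negSucc 4, Int.negSucc 1, Int.ofNat 1, Int.ofNat 1, Int.negSucc 0, Int.ofNat 3, Int.ofNat 1, Int.ofNat 0, Int.ofNat 0, Int.ofNat 0, Int.ofNat 0, Int.ofNat 1, Int.ofNat 5, Int.ofNat 0, Int.negSucc 1, Int.ofNat 0, Int.ofNat 0]) (ZT.leaf []))) (ZT.node 5123 (ZT.leaf []) (ZT.node 5124 (ZT.leaf [Int.negSucc 0, Int.negSucc 0]) (ZT.leaf [Int.ofNat 1])))) (ZT.node 5128 (ZT.node 5126 (ZT.leaf [Int.negSucc 68, Int.negSucc 6, Int.ofNat 16,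 Int.ofNat 0, Int.ofNat 0, Int.negSucc 4, Int.ofNat 0, Int.negSucc 0, Int.negSucc 0, Int.ofNat 0, Int.ofNat 0, Int.ofNat 0, Int.ofNat 0, Int.negSucc 0, Int.negSucc 0, Int.ofNat 0, Int.ofNat 1, Int.ofNat 0, Int.negSucc 3]) (ZT.node 5127 (ZT.leaf [Int.ofNat 614, Int.ofNat 220, Int.negSucc 146, Int.ofNat 35, Int.ofNat 1, Int.ofNat 77, Int.ofNat 7, Int.negSucc 13, Int.ofNat 0, Int.ofNat 0, Int.ofNat 0, Int.ofNat 0, Int.ofNat 2, Int.ofNat 0, Int.negSucc 71, Int.ofNat 0, Int.ofNat 12, Int.ofNat 0, Int.ofNat 67]) (ZT.leaf []))) (ZT.node 5129 (ZT.leaf [Int.negSucc 89, Int.negSucc 31, Int.ofNat 21, Int.negSucc 3, Int.ofNat 0, Int.negSucc 9, Int.ofNat 0, Int.ofNat 1, Int.ofNat 0, Int.ofNat 0, Int.ofNat 0, Int.ofNat 0, Int.negSucc 0, Int.ofNat 0, Int.ofNat 11, Int.ofNat 0, Int.negSucc 1, Int.ofNat 0, Int.negSucc 8]) (ZT.node 5130 (ZT.leaf []) (ZT.leaf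 [Int.negSucc 5511, Int.negSucc 966, Int.ofNat 1251, Int.negSucc 134, Int.ofNat 0, Int.negSucc 511, Int.negSucc 53, Int.ofNat 72, Int.negSucc 16, Int.ofNat 0, Int.ofNat 0, Int.ofNat 0, Int.negSucc 16, Int.ofNat 5, Int.ofNat 381, Int.negSucc 13, Int.negSucc 58, Int.ofNat 0, Int.negSucc 437]))))))) (ZT.node 5153 (ZT.node 5142 (ZT.node 5136 (ZT.node 5133 (ZT.node 5132 (ZT.leaf [Int.negSucc 2666, Int.negSucc 2037, Int.ofNat 677, Int.negSucc 365, Int.negSucc 10, Int.negSucc 508, Int.negSucc 54, Int.ofNat 154, Int.ofNat 21, Int.ofNat 0, Int.ofNat 0, Int.ofNat 0, Int.ofNat 1, Int.negSucc 10, Int.ofNat 661, Int.ofNat 14, Int.negSucc 89, Int.ofNat 0, Int.negSucc 443]) (ZT.leaf [])) (ZT.node 5134 (ZT.leaf [Int.negSucc 9171, Int.negSucc 2761, Int.ofNat 2009, Int.negSucc 373, Int.negSucc 13, Int.negSucc 952, Int.negSucc 133, Int.ofNat 258, Int.ofNat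 27, Int.negSucc 0, Int.ofNat 1, Int.ofNat 0, Int.negSucc 18, Int.ofNat 6, Int.ofNat 1077, Int.negSucc 11, Int.negSucc 205, Int.ofNat 0, Int.negSucc 870]) (ZT.node 5135 (ZT.leaf [Int.negSucc 381, Int.negSucc 145, Int.ofNat 88, Int.negSucc 22, Int.negSucc 0, Int.negSucc 43, Int.negSucc 3, Int.ofNat 7, Int.ofNat 0, Int.ofNat 0, Int.ofNat 0, Int.ofNat 0, Int.negSucc 1, Int.negSucc 0, Int.ofNat 47, Int.ofNat 0, Int.negSucc 5, Int.ofNat 0, Int.negSucc 38]) (ZT.leaf [Int.ofNat 221, Int.ofNat 83, Int.negSucc 43, Int.ofNat 10, Int.ofNat 0, Int.ofNat 22, Int.ofNat 2, Int.negSucc 4, Int.negSucc 0, Int.ofNat 0, Int.ofNat 0, Int.ofNat 0, Int.ofNat 1, Int.ofNat 0, Int.negSucc 27, Int.ofNat 0, Int.ofNat 5, Int.ofNat 0, Int.ofNat 21])))) (ZT.node 5139 (ZT.node 5137 (ZT.leaf []) (ZT.node 5138 (ZT.leaf []) (ZT.leaf [Int.ofNat 2077, Int.ofNat 673, Int.negSucc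 478, Int.ofNat 95, Int.ofNat 0, Int.ofNat 238, Int.ofNat 18, Int.negSucc 38, Int.ofNat 2, Int.ofNat 0, Int.ofNat 0, Int.ofNat 0, Int.ofNat 7, Int.ofNat 2, Int.negSucc 227, Int.ofNat 2, Int.ofNat 44, Int.ofNat 0, Int.ofNat 212]))) (ZT.node 5140 (ZT.leaf [Int.negSucc 15658, Int.negSucc 1270, Int.ofNat 3475, Int.negSucc 32, Int.ofNat 18, Int.negSucc 1204, Int.negSucc 118, Int.ofNat 35, Int.negSucc 93, Int.ofNat 0, Int.ofNat 0, Int.ofNat 0, Int.negSucc 63, Int.negSucc 8, Int.ofNat 703, Int.negSucc 45, Int.negSucc 128, Int.ofNat 0, Int.negSucc 1044]) (ZT.node 5141 (ZT.leaf [Int.negSucc 3, Int.negSucc 2, Int.ofNat 1, Int.ofNat 0, Int.ofNat 0, Int.negSucc 0, Int.ofNat 0, Int.ofNat 1, Int.ofNat 0, Int.ofNat 0, Int.ofNat 0, Int.ofNat 0, Int.ofNat 0, Int.ofNat 0, Int.ofNat 0, Int.ofNat 0, Int.ofNat 0, Int.ofNat 0, Int.ofNat 0]) (ZT.leaf [Int.negSucc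 43, Int.negSucc 0, Int.ofNat 3, Int.ofNat 4, Int.ofNat 1, Int.ofNat 0, Int.ofNat 1, Int.negSucc 3, Int.negSucc 0, Int.ofNat 0, Int.ofNat 0, Int.ofNat 0, Int.negSucc 0, Int.ofNat 0, Int.ofNat 2, Int.negSucc 0, Int.ofNat 0, Int.ofNat 0, Int.ofNat 0]))))) (ZT.node 5147 (ZT.node 5144 (ZT.node 5143 (ZT.leaf [Int.ofNat 1, Int.ofNat 0, Int.ofNat 0, Int.ofNat 0, Int.ofNat 0, Int.ofNat 0]) (ZT.leaf [])) (ZT.node 5145 (ZT.leaf [Int.ofNat 8389, Int.ofNat 6335, Int.negSucc 1979, Int.ofNat 1055, Int.ofNat 28, Int.ofNat 1489, Int.ofNat 289, Int.negSucc 563, Int.negSucc 119, Int.negSucc 0, Int.ofNat 0, Int.negSucc 0, Int.ofNat 8, Int.ofNat 22, Int.negSucc 2273, Int.negSucc 37, Int.ofNat 246, Int.negSucc 0, Int.ofNat 1386]) (ZT.node 5146 (ZT.leaf [Int.ofNat 2135, Int.ofNat 375, Int.negSucc 487, Int.ofNat 50, Int.negSucc 2, Int.ofNat 210, Int.ofNat 28,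 Int.negSucc 24, Int.ofNat 6, Int.ofNat 0, Int.ofNat 0, Int.ofNat 0, Int.ofNat 8, Int.negSucc 0, Int.negSucc 152, Int.ofNat 3, Int.ofNat 7, Int.ofNat 0, Int.ofNat 174]) (ZT.leaf [Int.ofNat 45, Int.ofNat 1, Int.negSucc 2, Int.negSucc 3, Int.negSucc 0, Int.ofNat 0, Int.negSucc 0, Int.ofNat 4, Int.ofNat 1, Int.ofNat 0, Int.ofNat 0, Int.ofNat 0, Int.ofNat 1, Int.ofNat 0, Int.negSucc 1, Int.ofNat 1, Int.ofNat 0, Int.ofNat 0, Int.ofNat 0])))) (ZT.node 5150 (ZT.node 5148 (ZT.leaf [Int.ofNat 1613, Int.ofNat 947, Int.negSucc 370, Int.ofNat 153, Int.ofNat 2, Int.ofNat 238, Int.ofNat 39, Int.negSucc 78, Int.negSucc 14, Int.ofNat 0, Int.ofNat 0, Int.ofNat 0, Int.ofNat 3, Int.ofNat 2, Int.negSucc 329, Int.negSucc 1, Int.ofNat 37, Int.ofNat 0, Int.ofNat 220]) (ZT.node 5149 (ZT.leaf [Int.negSucc 3539, Int.negSucc 1103, Int.ofNat 819, Int.negSucc 167,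 Int.ofNat 1, Int.negSucc 410, Int.negSucc 54, Int.ofNat 88, Int.ofNat 3, Int.ofNat 0, Int.ofNat 0, Int.ofNat 0, Int.negSucc 8, Int.negSucc 1, Int.ofNat 406, Int.negSucc 1, Int.negSucc 43, Int.ofNat 0, Int.negSucc 358]) (ZT.leaf [Int.negSucc 240, Int.negSucc 234, Int.ofNat 33, Int.negSucc 31, Int.negSucc 1, Int.negSucc 26, Int.negSucc 11, Int.ofNat 20, Int.ofNat 8, Int.ofNat 0, Int.ofNat 0, Int.ofNat 0, Int.negSucc 0, Int.negSucc 0, Int.ofNat 86, Int.ofNat 1, Int.negSucc 5, Int.ofNat 0, Int.negSucc 33]))) (ZT.node 5151 (ZT.leaf [Int.ofNat 1]) (ZT.node 5152 (ZT.leaf []) (ZT.leaf [Int.negSucc 255, Int.ofNat 562, Int.negSucc 2, Int.ofNat 127, Int.ofNat 6, Int.ofNat 109, Int.ofNat 11, Int.negSucc 54, Int.negSucc 8, Int.ofNat 0, Int.ofNat 0, Int.ofNat 0, Int.negSucc 10, Int.ofNat 3, Int.negSucc 163, Int.negSucc 6, Int.ofNat 21, Int.ofNat 0,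 Int.ofNat 84])))))) (ZT.node 5164 (ZT.node 5158 (ZT.node 5155 (ZT.node 5154 (ZT.leaf [Int.negSucc 36, Int.negSucc 728, Int.ofNat 64, Int.negSucc 149, Int.negSucc 4, Int.negSucc 139, Int.negSucc 17, Int.ofNat 64, Int.ofNat 12, Int.ofNat 0, Int.ofNat 0, Int.ofNat 0, Int.ofNat 7, Int.negSucc 4, Int.ofNat 230, Int.ofNat 8, Int.negSucc 27, Int.ofNat 0, Int.negSucc 119]) (ZT.leaf [Int.ofNat 1817, Int.ofNat 1990, Int.negSucc 485, Int.ofNat 360, Int.ofNat 10, Int.ofNat 448, Int.ofNat 61, Int.negSucc 162, Int.negSucc 29, Int.ofNat 0, Int.ofNat 0, Int.ofNat 0, Int.negSucc 3, Int.ofNat 12, Int.negSucc 656, Int.negSucc 15, Int.ofNat 82, Int.ofNat 0, Int.ofNat 398])) (ZT.node 5156 (ZT.leaf [Int.ofNat 222, Int.ofNat 54, Int.negSucc 56, Int.ofNat 10, Int.ofNat 0, Int.ofNat 27, Int.ofNat 0, Int.negSucc 2, Int.ofNat 2, Int.ofNat 0, Int.ofNat 0, Int.ofNat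 0, Int.ofNat 0, Int.ofNat 1, Int.negSucc 13, Int.ofNat 0, Int.ofNat 5, Int.ofNat 0, Int.ofNat 23]) (ZT.node 5157 (ZT.leaf []) (ZT.leaf [Int.ofNat 242, Int.ofNat 235, Int.negSucc 32, Int.ofNat 32, Int.ofNat 2, Int.ofNat 27, Int.ofNat 12, Int.negSucc 19, Int.negSucc 7, Int.ofNat 0, Int.ofNat 0, Int.ofNat 0, Int.ofNat 1, Int.ofNat 1, Int.negSucc 85, Int.negSucc 0, Int.ofNat 6, Int.ofNat 0, Int.ofNat 34])))) (ZT.node 5161 (ZT.node 5159 (ZT.leaf [Int.ofNat 0, Int.negSucc 0]) (ZT.node 5160 (ZT.leaf [Int.ofNat 215, Int.ofNat 74, Int.negSucc 60, Int.ofNat 17, Int.ofNat 0, Int.ofNat 36, Int.ofNat 6, Int.negSucc 13, Int.negSucc 0, Int.ofNat 1, Int.ofNat 0, Int.ofNat 0, Int.negSucc 0, Int.negSucc 0, Int.negSucc 39, Int.ofNat 1, Int.ofNat 8, Int.ofNat 0, Int.ofNat 31]) (ZT.leaf [Int.ofNat 38, Int.ofNat 79, Int.negSucc 5, Int.ofNat 12, Int.ofNat 0,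 Int.ofNat 7, Int.ofNat 4, Int.negSucc 6, Int.negSucc 2, Int.ofNat 0, Int.ofNat 0, Int.ofNat 0, Int.ofNat 1, Int.ofNat 1, Int.negSucc 28, Int.negSucc 0, Int.ofNat 4, Int.ofNat 0, Int.ofNat 12]))) (ZT.node 5162 (ZT.leaf []) (ZT.node 5163 (ZT.leaf [Int.ofNat 1281, Int.ofNat 758, Int.negSucc 285, Int.ofNat 112, Int.ofNat 3, Int.ofNat 177, Int.ofNat 25, Int.negSucc 57, Int.negSucc 11, Int.ofNat 0, Int.ofNat 0, Int.ofNat 0, Int.ofNat 4, Int.ofNat 4, Int.negSucc 257, Int.negSucc 3, Int.ofNat 37, Int.ofNat 0, Int.ofNat 169]) (ZT.leaf [Int.negSucc 183, Int.negSucc 52, Int.ofNat 43, Int.negSucc 5, Int.ofNat 0, Int.negSucc 19, Int.ofNat 1, Int.ofNat 0, Int.negSucc 0, Int.ofNat 0, Int.ofNat 0, Int.ofNat 0, Int.negSucc 1, Int.ofNat 0, Int.ofNat 15, Int.ofNat 0, Int.negSucc 3, Int.ofNat 0, Int.negSucc 16]))))) (ZT.node 5170 (ZT.node 5167 (ZT.node 5165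 (ZT.leaf []) (ZT.node 5166 (ZT.leaf [Int.negSucc 2, Int.negSucc 0]) (ZT.leaf [Int.ofNat 493, Int.ofNat 281, Int.negSucc 103, Int.ofNat 40, Int.ofNat 0, Int.ofNat 69, Int.ofNat 14, Int.negSucc 25, Int.negSucc 3, Int.ofNat 0, Int.ofNat 0, Int.ofNat 0, Int.ofNat 1, Int.ofNat 2, Int.negSucc 104, Int.negSucc 0, Int.ofNat 12, Int.ofNat 0, Int.ofNat 66]))) (ZT.node 5168 (ZT.leaf [Int.ofNat 0, Int.negSucc 1, Int.negSucc 0]) (ZT.node 5169 (ZT.leaf [Int.negSucc 81, Int.negSucc 14, Int.ofNat 16, Int.ofNat 0, Int.ofNat 0, Int.negSucc 3, Int.ofNat 0, Int.ofNat 0, Int.ofNat 0, Int.ofNat 0, Int.ofNat 0, Int.ofNat 0, Int.ofNat 0, Int.ofNat 0, Int.ofNat 0, Int.ofNat 0, Int.negSucc 0, Int.ofNat 0, Int.negSucc 3]) (ZT.leaf [Int.negSucc 5916, Int.negSucc 3509, Int.ofNat 1358, Int.negSucc 562, Int.negSucc 14, Int.negSucc 875, Int.negSucc 124, Int.ofNat 271,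 Int.ofNat 44, Int.ofNat 0, Int.ofNat 0, Int.negSucc 0, Int.negSucc 13, Int.negSucc 15, Int.ofNat 1164, Int.ofNat 17, Int.negSucc 152, Int.negSucc 0, Int.negSucc 805])))) (ZT.node 5173 (ZT.node 5171 (ZT.leaf [Int.negSucc 1]) (ZT.node 5172 (ZT.leaf []) (ZT.leaf [Int.ofNat 0, Int.ofNat 1, Int.ofNat 1]))) (ZT.node 5174 (ZT.leaf [Int.ofNat 1, Int.ofNat 0, Int.ofNat 0, Int.ofNat 0, Int.ofNat 0, Int.ofNat 0, Int.ofNat 0, Int.ofNat 0, Int.ofNat 0, Int.ofNat 0, Int.ofNat 0, Int.ofNat 0, Int.ofNat 0, Int.ofNat 0, Int.ofNat 0, Int.ofNat 0, Int.ofNat 0, Int.ofNat 0, Int.negSucc 0]) (ZT.node 5175 (ZT.leaf [Int.negSucc 3380, Int.negSucc 1440, Int.ofNat 787, Int.negSucc 228, Int.negSucc 4, Int.negSucc 443, Int.negSucc 62, Int.ofNat 124, Int.ofNat 12, Int.ofNat 0, Int.ofNat 0, Int.ofNat 0, Int.negSucc 3, Int.negSucc 3, Int.ofNat 562, Int.ofNat 0, Int.negSucc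 76, Int.ofNat 0, Int.negSucc 399]) (ZT.leaf [Int.ofNat 309, Int.ofNat 148, Int.negSucc 78, Int.ofNat 29, Int.ofNat 1, Int.ofNat 30, Int.negSucc 5, Int.ofNat 5, Int.ofNat 2, Int.ofNat 1, Int.ofNat 0, Int.ofNat 0, Int.ofNat 3, Int.ofNat 1, Int.negSucc 31, Int.negSucc 0, Int.ofNat 10, Int.ofNat 0, Int.ofNat 30]))))))))))

noncomputable def labT_11 : ZT := (ZT.node 5356 (ZT.node 5266 (ZT.node 5221 (ZT.node 5198 (ZT.node 5187 (ZT.node 5181 (ZT.node 5178 (ZT.node 5177 (ZT.leaf [Int.negSucc 6944, Int.negSucc 4512, Int.ofNat 1645, Int.negSucc 759, Int.negSucc 20, Int.negSucc 1123, Int.negSucc 171, Int.ofNat 375, Int.ofNat 65, Int.ofNat 0, Int.ofNat 0, Int.negSucc 0, Int.negSucc 9, Int.negSucc 16, Int.ofNat 1550, Int.ofNat 24, Int.negSucc 177, Int.negSucc 0, Int.negSucc 1023]) (ZT.leaf [Int.ofNat 1462, Int.ofNat 945, Int.negSucc 282, Int.ofNat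 130, Int.ofNat 6, Int.ofNat 209, Int.ofNat 76, Int.negSucc 123, Int.negSucc 34, Int.ofNat 0, Int.ofNat 0, Int.ofNat 0, Int.negSucc 0, Int.negSucc 0, Int.negSucc 484, Int.ofNat 3, Int.ofNat 54, Int.ofNat 0, Int.ofNat 220])) (ZT.node 5179 (ZT.leaf []) (ZT.node 5180 (ZT.leaf [Int.negSucc 3430, Int.negSucc 1352, Int.ofNat 821, Int.negSucc 237, Int.negSucc 3, Int.negSucc 449, Int.negSucc 43, Int.ofNat 89, Int.ofNat 0, Int.ofNat 0, Int.ofNat 0, Int.ofNat 0, Int.negSucc 9, Int.negSucc 2, Int.ofNat 416, Int.ofNat 3, Int.negSucc 49, Int.ofNat 0, Int.negSucc 377]) (ZT.leaf [Int.ofNat 1927, Int.ofNat 1694, Int.negSucc 455, Int.ofNat 273, Int.ofNat 8, Int.ofNat 346, Int.ofNat 23, Int.negSucc 94, Int.negSucc 14, Int.ofNat 0, Int.ofNat 0, Int.ofNat 1, Int.ofNat 7, Int.ofNat 17, Int.negSucc 433, Int.negSucc 18, Int.ofNat 72, Int.ofNat 1, Int.ofNat 326]))))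 (ZT.node 5184 (ZT.node 5182 (ZT.leaf [Int.negSucc 3585, Int.negSucc 4032, Int.ofNat 889, Int.negSucc 695, Int.negSucc 20, Int.negSucc 856, Int.negSucc 146, Int.ofNat 333, Int.ofNat 73, Int.ofNat 1, Int.ofNat 0, Int.ofNat 1, Int.ofNat 3, Int.negSucc 24, Int.ofNat 1364, Int.ofNat 35, Int.negSucc 147, Int.ofNat 1, Int.negSucc 782]) (ZT.node 5183 (ZT.leaf []) (ZT.leaf [Int.ofNat 10779, Int.ofNat 3005, Int.negSucc 2357, Int.ofNat 365, Int.ofNat 0, Int.ofNat 1086, Int.ofNat 150, Int.negSucc 222, Int.negSucc 6, Int.negSucc 0, Int.ofNat 0, Int.ofNat 0, Int.ofNat 43, Int.ofNat 15, Int.negSucc 1181, Int.ofNat 12, Int.ofNat 195, Int.ofNat 0, Int.ofNat 1002]))) (ZT.node 5185 (ZT.leaf []) (ZT.node 5186 (ZT.leaf [Int.ofNat 1567, Int.ofNat 911, Int.negSucc 322, Int.ofNat 122, Int.ofNat 1, Int.ofNat 195, Int.ofNat 31, Int.negSucc 57, Int.negSucc 11, Int.negSucc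 0, Int.ofNat 0, Int.ofNat 0, Int.ofNat 11, Int.ofNat 6, Int.negSucc 284, Int.negSucc 4, Int.ofNat 31, Int.ofNat 0, Int.ofNat 192]) (ZT.leaf [Int.ofNat 1, Int.ofNat 1, Int.ofNat 0, Int.ofNat 0, Int.ofNat 0, Int.ofNat 0, Int.ofNat 0, Int.ofNat 0]))))) (ZT.node 5192 (ZT.node 5189 (ZT.node 5188 (ZT.leaf []) (ZT.leaf [Int.ofNat 24, Int.negSucc 18, Int.negSucc 9, Int.ofNat 0, Int.ofNat 0, Int.ofNat 3, Int.negSucc 0, Int.ofNat 0, Int.ofNat 2, Int.ofNat 1, Int.ofNat 0, Int.ofNat 0, Int.negSucc 0, Int.ofNat 0, Int.ofNat 11, Int.ofNat 0, Int.ofNat 1, Int.ofNat 0, Int.ofNat 1])) (ZT.node 5190 (ZT.leaf [Int.negSucc 215, Int.negSucc 73, Int.ofNat 61, Int.negSucc 16, Int.ofNat 0, Int.negSucc 35, Int.negSucc 5, Int.ofNat 14, Int.ofNat 1, Int.negSucc 0, Int.ofNat 0, Int.ofNat 0, Int.ofNat 1, Int.ofNat 1, Int.ofNat 40, Int.negSucc 0, Int.negSucc 7, Int.ofNat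 0, Int.negSucc 30]) (ZT.node 5191 (ZT.leaf []) (ZT.leaf [Int.negSucc 7, Int.ofNat 6, Int.ofNat 1, Int.ofNat 1, Int.ofNat 0, Int.ofNat 0, Int.ofNat 0, Int.negSucc 0, Int.negSucc 0, Int.negSucc 0, Int.ofNat 0, Int.ofNat 0, Int.ofNat 0, Int.ofNat 0, Int.negSucc 6, Int.ofNat 0, Int.ofNat 0, Int.ofNat 0, Int.ofNat 1])))) (ZT.node 5195 (ZT.node 5193 (ZT.leaf []) (ZT.node 5194 (ZT.leaf [Int.ofNat 1]) (ZT.leaf [Int.negSucc 27, Int.negSucc 6, Int.ofNat 5, Int.negSucc 0, Int.ofNat 0, Int.negSucc 0, Int.ofNat 0, Int.ofNat 0, Int.ofNat 0, Int.ofNat 0, Int.ofNat 0, Int.ofNat 0, Int.ofNat 0, Int.negSucc 0, Int.ofNat 5, Int.ofNat 0, Int.ofNat 0, Int.ofNat 0, Int.negSucc 1]))) (ZT.node 5196 (ZT.leaf []) (ZT.node 5197 (ZT.leaf [Int.ofNat 1103, Int.ofNat 951, Int.negSucc 256, Int.ofNat 158, Int.ofNat 4, Int.ofNat 219, Int.ofNat 44, Int.negSucc 82, Int.negSucc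 15, Int.negSucc 0, Int.ofNat 0, Int.ofNat 0, Int.ofNat 0, Int.ofNat 5, Int.negSucc 314, Int.negSucc 5, Int.ofNat 27, Int.ofNat 0, Int.ofNat 199]) (ZT.leaf [Int.ofNat 2122, Int.ofNat 2474, Int.negSucc 534, Int.ofNat 431, Int.ofNat 14, Int.ofNat 528, Int.ofNat 90, Int.negSucc 204, Int.negSucc 45, Int.negSucc 0, Int.ofNat 0, Int.ofNat 0, Int.negSucc 2, Int.ofNat 16, Int.negSucc 826, Int.negSucc 17, Int.ofNat 89, Int.ofNat 0, Int.ofNat 476])))))) (ZT.node 5209 (ZT.node 5203 (ZT.node 5200 (ZT.node 5199 (ZT.leaf [Int.negSucc 1900, Int.negSucc 1484, Int.ofNat 441, Int.negSucc 245, Int.negSucc 4, Int.negSucc 339, Int.negSucc 63, Int.ofNat 122, Int.ofNat 25, Int.ofNat 1, Int.ofNat 0, Int.ofNat 0, Int.negSucc 3, Int.negSucc 6, Int.ofNat 504, Int.ofNat 8, Int.negSucc 41, Int.ofNat 0, Int.negSucc 315]) (ZT.leaf [Int.negSucc 929, Int.negSucc 527, Int.ofNat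 212, Int.negSucc 84, Int.ofNat 0, Int.negSucc 126, Int.negSucc 18, Int.ofNat 36, Int.ofNat 7, Int.ofNat 0, Int.ofNat 0, Int.ofNat 0, Int.negSucc 4, Int.negSucc 1, Int.ofNat 185, Int.ofNat 1, Int.negSucc 15, Int.ofNat 0, Int.negSucc 121])) (ZT.node 5201 (ZT.leaf [Int.negSucc 532, Int.ofNat 536, Int.ofNat 84, Int.ofNat 117, Int.ofNat 5, Int.ofNat 39, Int.negSucc 1, Int.negSucc 27, Int.negSucc 12, Int.negSucc 0, Int.ofNat 0, Int.ofNat 0, Int.ofNat 2, Int.ofNat 3, Int.negSucc 95, Int.negSucc 13, Int.ofNat 3, Int.ofNat 0, Int.ofNat 35]) (ZT.node 5202 (ZT.leaf [Int.negSucc 2658, Int.negSucc 1505, Int.ofNat 632, Int.negSucc 250, Int.negSucc 5, Int.negSucc 403, Int.negSucc 53, Int.ofNat 116, Int.ofNat 15, Int.ofNat 1, Int.ofNat 0, Int.ofNat 0, Int.negSucc 5, Int.negSucc 6, Int.ofNat 501, Int.ofNat 7, Int.negSucc 61, Int.ofNat 0, Int.negSucc 361])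 (ZT.leaf [Int.negSucc 2, Int.negSucc 1, Int.negSucc 0])))) (ZT.node 5206 (ZT.node 5204 (ZT.leaf [Int.ofNat 1980, Int.ofNat 89, Int.negSucc 412, Int.negSucc 22, Int.negSucc 1, Int.ofNat 132, Int.ofNat 16, Int.negSucc 1, Int.ofNat 11, Int.ofNat 1, Int.ofNat 0, Int.ofNat 0, Int.ofNat 6, Int.ofNat 0, Int.negSucc 96, Int.ofNat 10, Int.ofNat 26, Int.ofNat 0, Int.ofNat 120]) (ZT.node 5205 (ZT.leaf [Int.negSucc 209, Int.negSucc 76, Int.ofNat 52, Int.negSucc 10, Int.ofNat 0, Int.negSucc 26, Int.negSucc 1, Int.ofNat 5, Int.ofNat 1, Int.ofNat 0, Int.ofNat 0, Int.ofNat 0, Int.negSucc 0, Int.ofNat 0, Int.ofNat 31, Int.negSucc 0, Int.negSucc 5, Int.ofNat 0, Int.negSucc 22]) (ZT.leaf []))) (ZT.node 5207 (ZT.leaf [Int.negSucc 3201, Int.negSucc 1502, Int.ofNat 761, Int.negSucc 248, Int.negSucc 5, Int.negSucc 469, Int.negSucc 56, Int.ofNat 126, Int.ofNat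 8, Int.negSucc 0, Int.ofNat 0, Int.ofNat 0, Int.ofNat 3, Int.negSucc 7, Int.ofNat 565, Int.ofNat 0, Int.negSucc 86, Int.ofNat 0, Int.negSucc 408]) (ZT.node 5208 (ZT.leaf [Int.negSucc 573, Int.negSucc 344, Int.ofNat 124, Int.negSucc 51, Int.negSucc 1, Int.negSucc 59, Int.negSucc 2, Int.ofNat 14, Int.ofNat 4, Int.negSucc 0, Int.ofNat 0, Int.ofNat 0, Int.negSucc 3, Int.negSucc 1, Int.ofNat 103, Int.ofNat 2, Int.negSucc 18, Int.ofNat 0, Int.negSucc 64]) (ZT.leaf [Int.negSucc 309, Int.negSucc 79, Int.ofNat 66, Int.negSucc 9, Int.ofNat 0, Int.negSucc 20, Int.ofNat 0, Int.negSucc 1, Int.negSucc 0, Int.negSucc 0, Int.ofNat 0, Int.ofNat 0, Int.negSucc 2, Int.ofNat 0, Int.ofNat 34, Int.negSucc 0, Int.negSucc 4, Int.ofNat 0, Int.negSucc 22]))))) (ZT.node 5215 (ZT.node 5212 (ZT.node 5210 (ZT.leaf []) (ZT.node 5211 (ZT.leaf [Int.ofNat 1]) (ZT.leaf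 [Int.ofNat 1, Int.ofNat 1]))) (ZT.node 5213 (ZT.leaf [Int.negSucc 14, Int.negSucc 10, Int.negSucc 0, Int.ofNat 1, Int.ofNat 0, Int.ofNat 1, Int.ofNat 0, Int.negSucc 0, Int.ofNat 0, Int.ofNat 0, Int.ofNat 0, Int.ofNat 0, Int.ofNat 0, Int.ofNat 0, Int.ofNat 3, Int.ofNat 1, Int.ofNat 0, Int.ofNat 0, Int.ofNat 0]) (ZT.node 5214 (ZT.leaf [Int.ofNat 98, Int.ofNat 24, Int.negSucc 27, Int.ofNat 7, Int.ofNat 0, Int.ofNat 14, Int.ofNat 0, Int.negSucc 2, Int.ofNat 1, Int.ofNat 0, Int.ofNat 0, Int.ofNat 0, Int.ofNat 0, Int.ofNat 0, Int.negSucc 4, Int.ofNat 0, Int.ofNat 2, Int.ofNat 0, Int.ofNat 10]) (ZT.leaf [Int.ofNat 1])))) (ZT.node 5218 (ZT.node 5216 (ZT.leaf [Int.ofNat 542, Int.ofNat 307, Int.negSucc 146, Int.ofNat 60, Int.ofNat 2, Int.ofNat 94, Int.ofNat 6, Int.negSucc 27, Int.negSucc 1, Int.ofNat 0, Int.ofNat 0, Int.ofNat 0, Int.negSucc 0, Int.ofNat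 1, Int.negSucc 103, Int.negSucc 0, Int.ofNat 19, Int.ofNat 0, Int.ofNat 80]) (ZT.node 5217 (ZT.leaf [Int.ofNat 2317, Int.ofNat 1862, Int.negSucc 602, Int.ofNat 329, Int.ofNat 7, Int.ofNat 477, Int.ofNat 62, Int.negSucc 153, Int.negSucc 21, Int.ofNat 0, Int.ofNat 0, Int.ofNat 0, Int.negSucc 2, Int.ofNat 10, Int.negSucc 617, Int.negSucc 11, Int.ofNat 76, Int.ofNat 0, Int.ofNat 413]) (ZT.leaf [Int.negSucc 1818, Int.negSucc 952, Int.ofNat 434, Int.negSucc 159, Int.negSucc 2, Int.negSucc 272, Int.negSucc 36, Int.ofNat 74, Int.ofNat 9, Int.ofNat 0, Int.ofNat 0, Int.ofNat 0, Int.negSucc 3, Int.negSucc 3, Int.ofNat 341, Int.ofNat 4, Int.negSucc 40, Int.ofNat 0, Int.negSucc 240]))) (ZT.node 5219 (ZT.leaf [Int.ofNat 1]) (ZT.node 5220 (ZT.leaf [Int.negSucc 871, Int.ofNat 855, Int.ofNat 134, Int.ofNat 176, Int.ofNat 4, Int.ofNat 109, Int.ofNat 20,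 Int.negSucc 77, Int.negSucc 22, Int.ofNat 0, Int.ofNat 0, Int.ofNat 0, Int.negSucc 8, Int.ofNat 8, Int.negSucc 224, Int.negSucc 14, Int.ofNat 14, Int.ofNat 0, Int.ofNat 88]) (ZT.leaf [Int.ofNat 4361, Int.ofNat 1977, Int.negSucc 1077, Int.ofNat 351, Int.ofNat 10, Int.ofNat 618, Int.ofNat 58, Int.negSucc 154, Int.negSucc 8, Int.ofNat 0, Int.ofNat 0, Int.ofNat 0, Int.ofNat 2, Int.ofNat 7, Int.negSucc 642, Int.negSucc 6, Int.ofNat 97, Int.ofNat 0, Int.ofNat 535]))))))) (ZT.node 5243 (ZT.node 5232 (ZT.node 5226 (ZT.node 5223 (ZT.node 5222 (ZT.leaf [Int.ofNat 1]) (ZT.leaf [])) (ZT.node 5224 (ZT.leaf [Int.ofNat 1]) (ZT.node 5225 (ZT.leaf []) (ZT.leaf [Int.negSucc 831, Int.negSucc 501, Int.ofNat 160, Int.negSucc 69, Int.ofNat 2, Int.negSucc 102, Int.negSucc 19, Int.ofNat 40, Int.ofNat 9, Int.ofNat 0, Int.ofNat 0, Int.ofNat 0, Int.negSucc 6, Int.ofNat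 1, Int.ofNat 163, Int.ofNat 0, Int.negSucc 23, Int.ofNat 0, Int.negSucc 105])))) (ZT.node 5229 (ZT.node 5227 (ZT.leaf []) (ZT.node 5228 (ZT.leaf [Int.ofNat 1092, Int.ofNat 1968, Int.negSucc 265, Int.ofNat 330, Int.ofNat 9, Int.ofNat 360, Int.ofNat 73, Int.negSucc 168, Int.negSucc 43, Int.negSucc 0, Int.ofNat 0, Int.ofNat 0, Int.negSucc 1, Int.ofNat 12, Int.negSucc 667, Int.negSucc 17, Int.ofNat 68, Int.ofNat 0, Int.ofNat 341]) (ZT.leaf [Int.negSucc 5508, Int.negSucc 965, Int.ofNat 1251, Int.negSucc 134, Int.ofNat 0, Int.negSucc 511, Int.negSucc 53, Int.ofNat 72, Int.negSucc 16, Int.ofNat 0, Int.ofNat 0, Int.ofNat 0, Int.negSucc 16, Int.ofNat 5, Int.ofNat 381, Int.negSucc 13, Int.negSucc 58, Int.ofNat 0, Int.negSucc 437]))) (ZT.node 5230 (ZT.leaf [Int.ofNat 2361, Int.ofNat 861, Int.negSucc 570, Int.ofNat 147, Int.ofNat 6, Int.ofNat 299,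 Int.ofNat 24, Int.negSucc 56, Int.ofNat 1, Int.ofNat 0, Int.ofNat 0, Int.ofNat 0, Int.ofNat 4, Int.ofNat 3, Int.negSucc 299, Int.negSucc 1, Int.ofNat 42, Int.ofNat 0, Int.ofNat 253]) (ZT.node 5231 (ZT.leaf [Int.negSucc 1740, Int.negSucc 452, Int.ofNat 438, Int.negSucc 89, Int.negSucc 3, Int.negSucc 206, Int.negSucc 7, Int.ofNat 30, Int.negSucc 6, Int.ofNat 0, Int.ofNat 0, Int.ofNat 0, Int.negSucc 0, Int.negSucc 0, Int.ofNat 165, Int.negSucc 0, Int.negSucc 31, Int.ofNat 0, Int.negSucc 168]) (ZT.leaf [Int.ofNat 3525, Int.ofNat 1663, Int.negSucc 904, Int.ofNat 313, Int.ofNat 8, Int.ofNat 542, Int.ofNat 46, Int.negSucc 129, Int.negSucc 3, Int.ofNat 0, Int.ofNat 0, Int.ofNat 0, Int.ofNat 0, Int.ofNat 7, Int.negSucc 564, Int.negSucc 5, Int.ofNat 83, Int.ofNat 0, Int.ofNat 456]))))) (ZT.node 5237 (ZT.node 5234 (ZT.node 5233 (ZT.leaf [Int.ofNat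 1918, Int.ofNat 758, Int.negSucc 449, Int.ofNat 124, Int.ofNat 4, Int.ofNat 241, Int.ofNat 25, Int.negSucc 58, Int.negSucc 2, Int.ofNat 0, Int.ofNat 0, Int.ofNat 0, Int.ofNat 3, Int.ofNat 2, Int.negSucc 269, Int.negSucc 0, Int.ofNat 40, Int.ofNat 0, Int.ofNat 213]) (ZT.leaf [Int.ofNat 1])) (ZT.node 5235 (ZT.leaf [Int.negSucc 1557, Int.negSucc 620, Int.ofNat 364, Int.negSucc 100, Int.negSucc 2, Int.negSucc 196, Int.negSucc 20, Int.ofNat 49, Int.ofNat 3, Int.ofNat 0, Int.ofNat 0, Int.ofNat 0, Int.negSucc 1, Int.negSucc 0, Int.ofNat 224, Int.ofNat 0, Int.negSucc 34, Int.ofNat 0, Int.negSucc 173]) (ZT.node 5236 (ZT.leaf [Int.ofNat 357, Int.ofNat 137, Int.negSucc 85, Int.ofNat 23, Int.ofNat 1, Int.ofNat 44, Int.ofNat 4, Int.negSucc 9, Int.ofNat 0, Int.ofNat 0, Int.ofNat 0, Int.ofNat 0, Int.ofNat 1, Int.ofNat 1, Int.negSucc 45, Int.negSucc 0,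 Int.ofNat 5, Int.ofNat 0, Int.ofNat 39]) (ZT.leaf [Int.ofNat 1028, Int.ofNat 540, Int.negSucc 238, Int.ofNat 89, Int.ofNat 2, Int.ofNat 146, Int.ofNat 19, Int.negSucc 35, Int.negSucc 2, Int.ofNat 0, Int.ofNat 0, Int.ofNat 0, Int.ofNat 3, Int.ofNat 3, Int.negSucc 170, Int.negSucc 2, Int.ofNat 18, Int.ofNat 0, Int.ofNat 130])))) (ZT.node 5240 (ZT.node 5238 (ZT.leaf [Int.ofNat 1]) (ZT.node 5239 (ZT.leaf [Int.negSucc 437, Int.negSucc 205, Int.ofNat 101, Int.negSucc 33, Int.negSucc 0, Int.negSucc 59, Int.negSucc 5, Int.ofNat 14, Int.ofNat 1, Int.ofNat 0, Int.ofNat 0, Int.ofNat 0, Int.negSucc 0, Int.negSucc 0, Int.ofNat 66, Int.ofNat 1, Int.negSucc 6, Int.ofNat 0, Int.negSucc 51]) (ZT.leaf []))) (ZT.node 5241 (ZT.leaf []) (ZT.node 5242 (ZT.leaf [Int.ofNat 1]) (ZT.leaf [])))))) (ZT.node 5254 (ZT.node 5248 (ZT.node 5245 (ZT.node 5244 (ZT.leaf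 [Int.negSucc 904, Int.negSucc 579, Int.ofNat 209, Int.negSucc 94, Int.negSucc 1, Int.negSucc 142, Int.negSucc 22, Int.ofNat 43, Int.ofNat 8, Int.ofNat 0, Int.ofNat 0, Int.ofNat 0, Int.negSucc 1, Int.negSucc 2, Int.ofNat 188, Int.ofNat 3, Int.negSucc 17, Int.ofNat 0, Int.negSucc 129]) (ZT.leaf [Int.negSucc 360, Int.ofNat 97, Int.ofNat 79, Int.ofNat 27, Int.ofNat 1, Int.negSucc 8, Int.ofNat 10, Int.negSucc 16, Int.negSucc 8, Int.ofNat 0, Int.ofNat 0, Int.ofNat 0, Int.negSucc 1, Int.negSucc 0, Int.negSucc 61, Int.ofNat 0, Int.negSucc 5, Int.ofNat 0, Int.ofNat 0])) (ZT.node 5246 (ZT.leaf [Int.negSucc 2, Int.negSucc 0]) (ZT.node 5247 (ZT.leaf [Int.negSucc 155, Int.negSucc 39, Int.ofNat 43, Int.negSucc 8, Int.ofNat 0, Int.negSucc 18, Int.ofNat 0, Int.ofNat 4, Int.negSucc 0, Int.ofNat 0, Int.ofNat 0, Int.ofNat 0, Int.ofNat 0, Int.negSucc 0, Int.ofNat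 11, Int.ofNat 0, Int.negSucc 4, Int.ofNat 0, Int.negSucc 15]) (ZT.leaf [Int.negSucc 33, Int.negSucc 9, Int.ofNat 10, Int.negSucc 1, Int.ofNat 0, Int.negSucc 4, Int.ofNat 0, Int.ofNat 1, Int.ofNat 0, Int.ofNat 0, Int.ofNat 0, Int.ofNat 0, Int.ofNat 0, Int.ofNat 0, Int.ofNat 3, Int.ofNat 0, Int.negSucc 0, Int.ofNat 0, Int.negSucc 3])))) (ZT.node 5251 (ZT.node 5249 (ZT.leaf [Int.ofNat 383, Int.ofNat 115, Int.negSucc 89, Int.ofNat 18, Int.ofNat 0, Int.ofNat 43, Int.ofNat 2, Int.negSucc 6, Int.ofNat 1, Int.ofNat 0, Int.ofNat 0, Int.ofNat 0, Int.ofNat 1, Int.ofNat 1, Int.negSucc 33, Int.ofNat 0, Int.ofNat 7, Int.ofNat 0, Int.ofNat 37]) (ZT.node 5250 (ZT.leaf [Int.negSucc 25380, Int.negSucc 12293, Int.ofNat 5980, Int.negSucc 2019, Int.negSucc 55, Int.negSucc 3532, Int.negSucc 410, Int.ofNat 968, Int.ofNat 104, Int.negSucc 0, Int.ofNat 1, Int.negSucc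 0, Int.negSucc 43, Int.negSucc 41, Int.ofNat 4130, Int.ofNat 40, Int.negSucc 632, Int.negSucc 0, Int.negSucc 3144]) (ZT.leaf []))) (ZT.node 5252 (ZT.leaf [Int.negSucc 11, Int.ofNat 5, Int.ofNat 3, Int.ofNat 0, Int.ofNat 0, Int.ofNat 0, Int.ofNat 0, Int.negSucc 0, Int.negSucc 0, Int.negSucc 0, Int.ofNat 0, Int.ofNat 0, Int.ofNat 0, Int.ofNat 0, Int.negSucc 1, Int.ofNat 0, Int.ofNat 0, Int.ofNat 0, Int.ofNat 0]) (ZT.node 5253 (ZT.leaf [Int.ofNat 0, Int.negSucc 0]) (ZT.leaf [Int.negSucc 5527, Int.negSucc 3122, Int.ofNat 1315, Int.negSucc 512, Int.negSucc 8, Int.negSucc 846, Int.negSucc 94, Int.ofNat 228, Int.ofNat 24, Int.ofNat 0, Int.ofNat 0, Int.ofNat 0, Int.negSucc 10, Int.negSucc 18, Int.ofNat 999, Int.ofNat 17, Int.negSucc 146, Int.ofNat 0, Int.negSucc 747]))))) (ZT.node 5260 (ZT.node 5257 (ZT.node 5255 (ZT.leaf [Int.ofNat 3334, Int.ofNat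 1255, Int.negSucc 842, Int.ofNat 232, Int.ofNat 6, Int.ofNat 457, Int.ofNat 26, Int.negSucc 71, Int.ofNat 12, Int.ofNat 0, Int.ofNat 0, Int.ofNat 0, Int.ofNat 4, Int.ofNat 8, Int.negSucc 404, Int.negSucc 3, Int.ofNat 57, Int.ofNat 0, Int.ofNat 375]) (ZT.node 5256 (ZT.leaf [Int.negSucc 10, Int.ofNat 8, Int.ofNat 4, Int.ofNat 1, Int.ofNat 0, Int.ofNat 0, Int.ofNat 0, Int.negSucc 0, Int.negSucc 0, Int.ofNat 0, Int.ofNat 0, Int.ofNat 0, Int.ofNat 0, Int.ofNat 0, Int.negSucc 4, Int.ofNat 0, Int.ofNat 0, Int.ofNat 0, Int.ofNat 0]) (ZT.leaf [Int.negSucc 5156, Int.ofNat 360, Int.ofNat 1040, Int.ofNat 184, Int.ofNat 12, Int.negSucc 218, Int.negSucc 27, Int.negSucc 37, Int.negSucc 32, Int.ofNat 0, Int.ofNat 0, Int.ofNat 0, Int.negSucc 30, Int.ofNat 2, Int.ofNat 24, Int.negSucc 28, Int.negSucc 49, Int.ofNat 0, Int.negSucc 215]))) (ZT.node 5258 (ZT.leaf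 []) (ZT.node 5259 (ZT.leaf [Int.ofNat 412, Int.ofNat 148, Int.negSucc 106, Int.ofNat 27, Int.ofNat 0, Int.ofNat 60, Int.ofNat 7, Int.negSucc 16, Int.negSucc 0, Int.ofNat 0, Int.ofNat 0, Int.ofNat 0, Int.ofNat 0, Int.ofNat 0, Int.negSucc 64, Int.ofNat 1, Int.ofNat 12, Int.ofNat 0, Int.ofNat 53]) (ZT.leaf [Int.ofNat 1312, Int.ofNat 714, Int.negSucc 318, Int.ofNat 120, Int.ofNat 2, Int.ofNat 198, Int.ofNat 29, Int.negSucc 62, Int.negSucc 8, Int.ofNat 1, Int.ofNat 0, Int.ofNat 0, Int.ofNat 1, Int.ofNat 2, Int.negSucc 256, Int.negSucc 1, Int.ofNat 34, Int.ofNat 0, Int.ofNat 182])))) (ZT.node 5263 (ZT.node 5261 (ZT.leaf [Int.ofNat 1]) (ZT.node 5262 (ZT.leaf [Int.negSucc 28, Int.ofNat 105, Int.ofNat 18, Int.ofNat 12, Int.ofNat 1, Int.ofNat 6, Int.ofNat 6, Int.negSucc 10, Int.negSucc 5, Int.ofNat 0, Int.ofNat 0, Int.ofNat 0, Int.ofNat 0, Int.ofNat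 0, Int.negSucc 47, Int.negSucc 0, Int.ofNat 5, Int.ofNat 0, Int.ofNat 10]) (ZT.leaf [Int.negSucc 18, Int.ofNat 10, Int.ofNat 9, Int.negSucc 0, Int.ofNat 0, Int.negSucc 2, Int.ofNat 0, Int.ofNat 1, Int.negSucc 0, Int.ofNat 0, Int.ofNat 0, Int.ofNat 0, Int.ofNat 1, Int.ofNat 0, Int.negSucc 3, Int.ofNat 0, Int.negSucc 0, Int.ofNat 0, Int.negSucc 1]))) (ZT.node 5264 (ZT.leaf [Int.negSucc 23239, Int.negSucc 8145, Int.ofNat 5334, Int.negSucc 1237, Int.negSucc 27, Int.negSucc 2743, Int.negSucc 322, Int.ofNat 625, Int.ofNat 28, Int.negSucc 1, Int.ofNat 1, Int.ofNat 0, Int.negSucc 57, Int.negSucc 25, Int.ofNat 2944, Int.negSucc 2, Int.negSucc 471, Int.ofNat 0, Int.negSucc 2437]) (ZT.node 5265 (ZT.leaf [Int.negSucc 538, Int.negSucc 160, Int.ofNat 127, Int.negSucc 25, Int.ofNat 0, Int.negSucc 58, Int.negSucc 2, Int.ofNat 10, Int.negSucc 1, Int.negSucc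 0, Int.ofNat 0, Int.ofNat 0, Int.negSucc 0, Int.negSucc 0, Int.ofNat 47, Int.ofNat 0, Int.negSucc 11, Int.ofNat 0, Int.negSucc 50]) (ZT.leaf [Int.ofNat 1])))))))) (ZT.node 5311 (ZT.node 5288 (ZT.node 5277 (ZT.node 5271 (ZT.node 5268 (ZT.node 5267 (ZT.leaf []) (ZT.leaf [])) (ZT.node 5269 (ZT.leaf [Int.ofNat 80, Int.ofNat 28, Int.negSucc 18, Int.ofNat 5, Int.ofNat 0, Int.ofNat 10, Int.ofNat 0, Int.negSucc 0, Int.ofNat 0, Int.ofNat 0, Int.ofNat 0, Int.ofNat 0, Int.ofNat 1, Int.ofNat 0, Int.negSucc 9, Int.ofNat 0, Int.ofNat 2, Int.ofNat 0, Int.ofNat 8]) (ZT.node 5270 (ZT.leaf [Int.negSucc 18452, Int.negSucc 7515, Int.ofNat 4251, Int.negSucc 1175, Int.negSucc 32, Int.negSucc 2325, Int.negSucc 277, Int.ofNat 622, Int.ofNat 57, Int.negSucc 0, Int.ofNat 1, Int.ofNat 0, Int.negSucc 33, Int.negSucc 13, Int.ofNat 2647, Int.ofNat 4, Int.negSucc 448,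 Int.ofNat 0, Int.negSucc 2082]) (ZT.leaf [])))) (ZT.node 5274 (ZT.node 5272 (ZT.leaf [Int.ofNat 15925, Int.ofNat 3013, Int.negSucc 3490, Int.ofNat 318, Int.ofNat 7, Int.ofNat 1444, Int.ofNat 184, Int.negSucc 237, Int.ofNat 15, Int.ofNat 2, Int.negSucc 0, Int.ofNat 0, Int.ofNat 59, Int.ofNat 1, Int.negSucc 1298, Int.ofNat 40, Int.ofNat 267, Int.ofNat 0, Int.ofNat 1299]) (ZT.node 5273 (ZT.leaf [Int.negSucc 1089, Int.negSucc 485, Int.ofNat 246, Int.negSucc 71, Int.negSucc 0, Int.negSucc 148, Int.negSucc 21, Int.ofNat 41, Int.ofNat 4, Int.ofNat 0, Int.ofNat 0, Int.ofNat 0, Int.negSucc 0, Int.negSucc 0, Int.ofNat 172, Int.ofNat 0, Int.negSucc 19, Int.ofNat 0, Int.negSucc 129]) (ZT.leaf []))) (ZT.node 5275 (ZT.leaf []) (ZT.node 5276 (ZT.leaf [Int.negSucc 87, Int.negSucc 15, Int.ofNat 28, Int.negSucc 3, Int.ofNat 0, Int.negSucc 10, Int.ofNat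 0, Int.ofNat 0, Int.negSucc 0, Int.ofNat 1, Int.ofNat 0, Int.ofNat 0, Int.ofNat 0, Int.ofNat 0, Int.ofNat 9, Int.ofNat 0, Int.negSucc 1, Int.ofNat 0, Int.negSucc 9]) (ZT.leaf []))))) (ZT.node 5282 (ZT.node 5279 (ZT.node 5278 (ZT.leaf [Int.ofNat 540, Int.ofNat 117, Int.negSucc 28, Int.negSucc 22, Int.negSucc 2, Int.ofNat 18, Int.ofNat 34, Int.negSucc 15, Int.negSucc 1, Int.negSucc 1, Int.ofNat 1, Int.ofNat 0, Int.ofNat 3, Int.ofNat 4, Int.negSucc 90, Int.ofNat 0, Int.negSucc 6, Int.ofNat 0, Int.ofNat 28]) (ZT.leaf [Int.ofNat 83, Int.ofNat 15, Int.negSucc 15, Int.ofNat 0, Int.ofNat 0, Int.ofNat 4, Int.ofNat 0, Int.ofNat 0, Int.ofNat 0, Int.ofNat 0, Int.ofNat 0, Int.ofNat 0, Int.ofNat 0, Int.ofNat 0, Int.ofNat 0, Int.ofNat 0, Int.ofNat 1, Int.ofNat 0, Int.ofNat 4])) (ZT.node 5280 (ZT.leaf []) (ZT.node 5281 (ZT.leaf [Int.ofNat 1]) (ZT.leaf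 [Int.negSucc 0, Int.negSucc 0])))) (ZT.node 5285 (ZT.node 5283 (ZT.leaf [Int.ofNat 90, Int.ofNat 18, Int.negSucc 27, Int.ofNat 4, Int.ofNat 0, Int.ofNat 11, Int.ofNat 0, Int.ofNat 0, Int.ofNat 1, Int.negSucc 0, Int.ofNat 0, Int.ofNat 0, Int.ofNat 0, Int.ofNat 0, Int.negSucc 8, Int.ofNat 0, Int.ofNat 2, Int.ofNat 0, Int.ofNat 10]) (ZT.node 5284 (ZT.leaf [Int.ofNat 104, Int.ofNat 36, Int.negSucc 25, Int.ofNat 2, Int.ofNat 0, Int.ofNat 12, Int.ofNat 0, Int.negSucc 0, Int.ofNat 0, Int.negSucc 0, Int.ofNat 0, Int.ofNat 0, Int.ofNat 1, Int.ofNat 0, Int.negSucc 9, Int.ofNat 0, Int.ofNat 3, Int.ofNat 0, Int.ofNat 10]) (ZT.leaf []))) (ZT.node 5286 (ZT.leaf [Int.negSucc 4937, Int.negSucc 1474, Int.ofNat 1148, Int.negSucc 240, Int.negSucc 13, Int.negSucc 554, Int.negSucc 69, Int.ofNat 144, Int.ofNat 7, Int.ofNat 0, Int.ofNat 0, Int.ofNat 0, Int.negSucc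 1, Int.ofNat 3, Int.ofNat 612, Int.negSucc 6, Int.negSucc 126, Int.ofNat 0, Int.negSucc 495]) (ZT.node 5287 (ZT.leaf [Int.negSucc 195, Int.negSucc 245, Int.ofNat 83, Int.negSucc 59, Int.negSucc 1, Int.negSucc 75, Int.negSucc 3, Int.ofNat 14, Int.negSucc 1, Int.negSucc 0, Int.ofNat 0, Int.ofNat 0, Int.ofNat 2, Int.negSucc 2, Int.ofNat 64, Int.ofNat 4, Int.negSucc 3, Int.ofNat 0, Int.negSucc 55]) (ZT.leaf [])))))) (ZT.node 5299 (ZT.node 5293 (ZT.node 5290 (ZT.node 5289 (ZT.leaf [Int.negSucc 2]) (ZT.leaf [])) (ZT.node 5291 (ZT.leaf [Int.ofNat 1]) (ZT.node 5292 (ZT.leaf [Int.ofNat 8, Int.ofNat 1, Int.negSucc 1, Int.ofNat 0, Int.ofNat 0, Int.ofNat 1, Int.ofNat 0, Int.ofNat 0, Int.ofNat 0, Int.ofNat 0, Int.ofNat 0, Int.ofNat 0, Int.ofNat 0, Int.ofNat 0, Int.ofNat 0, Int.ofNat 0, Int.ofNat 0, Int.ofNat 0, Int.ofNat 1]) (ZT.leaf [Int.ofNat 6,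 Int.ofNat 1, Int.negSucc 2, Int.ofNat 0, Int.ofNat 0, Int.ofNat 1, Int.ofNat 0, Int.negSucc 0, Int.ofNat 0, Int.negSucc 0, Int.ofNat 0, Int.ofNat 0, Int.ofNat 0, Int.ofNat 0, Int.ofNat 0, Int.ofNat 0, Int.ofNat 0, Int.ofNat 0, Int.ofNat 1])))) (ZT.node 5296 (ZT.node 5294 (ZT.leaf [Int.ofNat 1]) (ZT.node 5295 (ZT.leaf [Int.ofNat 1]) (ZT.leaf []))) (ZT.node 5297 (ZT.leaf []) (ZT.node 5298 (ZT.leaf [Int.negSucc 4, Int.negSucc 0, Int.ofNat 3, Int.ofNat 0, Int.ofNat 0, Int.negSucc 0, Int.ofNat 0, Int.ofNat 1, Int.ofNat 0, Int.ofNat 1, Int.ofNat 0, Int.ofNat 0, Int.ofNat 0, Int.ofNat 0, Int.ofNat 0, Int.ofNat 0, Int.ofNat 0, Int.ofNat 0, Int.negSucc 0]) (ZT.leaf []))))) (ZT.node 5305 (ZT.node 5302 (ZT.node 5300 (ZT.leaf [Int.ofNat 1]) (ZT.node 5301 (ZT.leaf [Int.negSucc 0, Int.ofNat 0, Int.ofNat 1, Int.ofNat 0, Int.ofNat 0, Int.ofNat 0, Int.ofNat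 0, Int.ofNat 0, Int.ofNat 0, Int.ofNat 0, Int.ofNat 0, Int.ofNat 0, Int.ofNat 0, Int.ofNat 0, Int.ofNat 0, Int.ofNat 0, Int.negSucc 0, Int.ofNat 0, Int.ofNat 0]) (ZT.leaf []))) (ZT.node 5303 (ZT.leaf []) (ZT.node 5304 (ZT.leaf [Int.ofNat 18, Int.negSucc 10, Int.negSucc 8, Int.ofNat 1, Int.ofNat 0, Int.ofNat 3, Int.ofNat 0, Int.negSucc 0, Int.ofNat 1, Int.ofNat 0, Int.ofNat 0, Int.ofNat 0, Int.negSucc 0, Int.ofNat 0, Int.ofNat 4, Int.ofNat 0, Int.ofNat 1, Int.ofNat 0, Int.ofNat 2]) (ZT.leaf [])))) (ZT.node 5308 (ZT.node 5306 (ZT.leaf []) (ZT.node 5307 (ZT.leaf []) (ZT.leaf [Int.negSucc 599, Int.negSucc 322, Int.ofNat 132, Int.negSucc 47, Int.negSucc 0, Int.negSucc 85, Int.negSucc 16, Int.ofNat 33, Int.ofNat 6, Int.ofNat 0, Int.ofNat 0, Int.ofNat 0, Int.ofNat 0, Int.negSucc 0, Int.ofNat 123, Int.ofNat 0, Int.negSucc 14, Int.ofNat 0, Int.negSucc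 80]))) (ZT.node 5309 (ZT.leaf [Int.ofNat 145, Int.ofNat 108, Int.negSucc 32, Int.ofNat 17, Int.ofNat 0, Int.ofNat 22, Int.ofNat 5, Int.negSucc 6, Int.negSucc 1, Int.ofNat 0, Int.ofNat 0, Int.ofNat 0, Int.ofNat 1, Int.ofNat 1, Int.negSucc 32, Int.negSucc 0, Int.ofNat 4, Int.ofNat 0, Int.ofNat 23]) (ZT.node 5310 (ZT.leaf []) (ZT.leaf [Int.ofNat 1]))))))) (ZT.node 5333 (ZT.node 5322 (ZT.node 5316 (ZT.node 5313 (ZT.node 5312 (ZT.leaf [Int.ofNat 1]) (ZT.leaf [Int.negSucc 113, Int.negSucc 33, Int.ofNat 24, Int.negSucc 3, Int.ofNat 0, Int.negSucc 9, Int.negSucc 0, Int.ofNat 1, Int.ofNat 0, Int.ofNat 0, Int.ofNat 0, Int.ofNat 0, Int.negSucc 0, Int.ofNat 0, Int.ofNat 11, Int.ofNat 0, Int.negSucc 1, Int.ofNat 0, Int.negSucc 9])) (ZT.node 5314 (ZT.leaf [Int.ofNat 95, Int.ofNat 34, Int.negSucc 20, Int.ofNat 4, Int.ofNat 0, Int.ofNat 10, Int.ofNat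 0, Int.negSucc 0, Int.ofNat 0, Int.ofNat 0, Int.ofNat 0, Int.ofNat 0, Int.ofNat 1, Int.ofNat 0, Int.negSucc 10, Int.ofNat 0, Int.ofNat 2, Int.ofNat 0, Int.ofNat 9]) (ZT.node 5315 (ZT.leaf [Int.negSucc 22, Int.ofNat 19, Int.ofNat 10, Int.ofNat 0, Int.ofNat 0, Int.negSucc 2, Int.ofNat 1, Int.ofNat 0, Int.negSucc 1, Int.negSucc 0, Int.ofNat 0, Int.ofNat 0, Int.ofNat 1, Int.ofNat 0, Int.negSucc 10, Int.ofNat 0, Int.negSucc 0, Int.ofNat 0, Int.negSucc 0]) (ZT.leaf [Int.negSucc 40, Int.negSucc 5, Int.ofNat 11, Int.negSucc 1, Int.ofNat 0, Int.negSucc 3, Int.ofNat 0, Int.ofNat 1, Int.ofNat 0, Int.ofNat 0, Int.ofNat 0, Int.ofNat 0, Int.ofNat 0, Int.ofNat 0, Int.ofNat 4, Int.ofNat 0, Int.negSucc 0, Int.ofNat 0, Int.negSucc 3])))) (ZT.node 5319 (ZT.node 5317 (ZT.leaf []) (ZT.node 5318 (ZT.leaf [Int.ofNat 1756, Int.ofNat 935, Int.negSucc 409, Int.ofNat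 150, Int.ofNat 5, Int.ofNat 247, Int.ofNat 47, Int.negSucc 99, Int.negSucc 21, Int.ofNat 0, Int.ofNat 0, Int.ofNat 0, Int.ofNat 0, Int.ofNat 1, Int.negSucc 352, Int.ofNat 0, Int.ofNat 57, Int.ofNat 0, Int.ofNat 233]) (ZT.leaf [Int.ofNat 223, Int.ofNat 74, Int.negSucc 55, Int.ofNat 11, Int.ofNat 0, Int.ofNat 28, Int.ofNat 2, Int.negSucc 4, Int.negSucc 0, Int.ofNat 0, Int.ofNat 0, Int.ofNat 0, Int.ofNat 1, Int.ofNat 0, Int.negSucc 28, Int.ofNat 1, Int.ofNat 6, Int.ofNat 0, Int.ofNat 24]))) (ZT.node 5320 (ZT.leaf [Int.ofNat 5798, Int.ofNat 2482, Int.negSucc 1362, Int.ofNat 397, Int.ofNat 8, Int.ofNat 737, Int.ofNat 64, Int.negSucc 160, Int.negSucc 10, Int.ofNat 0, Int.ofNat 0, Int.ofNat 0, Int.ofNat 18, Int.ofNat 12, Int.negSucc 843, Int.negSucc 2, Int.ofNat 137, Int.ofNat 0, Int.ofNat 666]) (ZT.node 5321 (ZT.leaf [Int.ofNat 1355, Int.negSucc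 246, Int.negSucc 274, Int.negSucc 57, Int.negSucc 2, Int.ofNat 41, Int.negSucc 4, Int.ofNat 31, Int.ofNat 19, Int.ofNat 0, Int.ofNat 0, Int.ofNat 0, Int.ofNat 6, Int.negSucc 5, Int.ofNat 98, Int.ofNat 7, Int.negSucc 11, Int.ofNat 0, Int.ofNat 26]) (ZT.leaf [Int.ofNat 425, Int.ofNat 171, Int.negSucc 152, Int.ofNat 56, Int.ofNat 3, Int.ofNat 91, Int.negSucc 2, Int.negSucc 18, Int.ofNat 3, Int.ofNat 0, Int.ofNat 0, Int.ofNat 0, Int.negSucc 4, Int.ofNat 1, Int.negSucc 59, Int.negSucc 0, Int.ofNat 16, Int.ofNat 0, Int.ofNat 65]))))) (ZT.node 5327 (ZT.node 5324 (ZT.node 5323 (ZT.leaf [Int.ofNat 12788, Int.ofNat 1174, Int.negSucc 2899, Int.ofNat 101, Int.negSucc 9, Int.ofNat 996, Int.ofNat 9, Int.negSucc 14, Int.ofNat 81, Int.ofNat 1, Int.ofNat 0, Int.ofNat 1, Int.ofNat 58, Int.negSucc 5, Int.negSucc 560, Int.ofNat 44, Int.ofNat 190, Int.ofNat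 1, Int.ofNat 857]) (ZT.leaf [Int.ofNat 0, Int.ofNat 0, Int.negSucc 0, Int.ofNat 0, Int.ofNat 0, Int.ofNat 0, Int.ofNat 0, Int.ofNat 0, Int.ofNat 0, Int.negSucc 0, Int.ofNat 0, Int.ofNat 0, Int.ofNat 0, Int.ofNat 0, Int.ofNat 0, Int.ofNat 0, Int.negSucc 1, Int.ofNat 0, Int.ofNat 0])) (ZT.node 5325 (ZT.leaf [Int.ofNat 1]) (ZT.node 5326 (ZT.leaf [Int.ofNat 58, Int.negSucc 6, Int.negSucc 9, Int.negSucc 3, Int.negSucc 0, Int.ofNat 0, Int.negSucc 0, Int.ofNat 5, Int.ofNat 2, Int.ofNat 0, Int.ofNat 0, Int.ofNat 0, Int.ofNat 1, Int.ofNat 0, Int.ofNat 0, Int.ofNat 1, Int.negSucc 0, Int.ofNat 0, Int.ofNat 1]) (ZT.leaf [Int.ofNat 1, Int.ofNat 0, Int.ofNat 1, Int.ofNat 0, Int.ofNat 0, Int.ofNat 0, Int.ofNat 0, Int.ofNat 0, Int.ofNat 0, Int.ofNat 1, Int.ofNat 0, Int.ofNat 0, Int.ofNat 0, Int.ofNat 0, Int.ofNat 0, Int.ofNat 0, Int.ofNat 2, Int.ofNat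 0, Int.ofNat 0])))) (ZT.node 5330 (ZT.node 5328 (ZT.leaf []) (ZT.node 5329 (ZT.leaf [Int.negSucc 144, Int.negSucc 108, Int.ofNat 33, Int.negSucc 16, Int.ofNat 0, Int.negSucc 21, Int.negSucc 4, Int.ofNat 7, Int.ofNat 2, Int.ofNat 0, Int.ofNat 0, Int.ofNat 0, Int.negSucc 0, Int.negSucc 0, Int.ofNat 33, Int.ofNat 1, Int.negSucc 3, Int.ofNat 0, Int.negSucc 22]) (ZT.leaf [Int.negSucc 1, Int.negSucc 0, Int.ofNat 1, Int.ofNat 0, Int.ofNat 0, Int.ofNat 0, Int.ofNat 0, Int.ofNat 0, Int.ofNat 0, Int.ofNat 1, Int.ofNat 0, Int.ofNat 0, Int.ofNat 0, Int.ofNat 0, Int.ofNat 0, Int.ofNat 0, Int.ofNat 2, Int.ofNat 0, Int.ofNat 0]))) (ZT.node 5331 (ZT.leaf [Int.ofNat 398, Int.ofNat 148, Int.negSucc 108, Int.ofNat 31, Int.ofNat 1, Int.ofNat 62, Int.ofNat 5, Int.negSucc 12, Int.ofNat 2, Int.ofNat 0, Int.ofNat 0, Int.ofNat 0, Int.negSucc 1, Int.ofNat 1, Int.negSucc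 43, Int.negSucc 0, Int.ofNat 4, Int.ofNat 0, Int.ofNat 48]) (ZT.node 5332 (ZT.leaf []) (ZT.leaf [Int.negSucc 0, Int.ofNat 0, Int.ofNat 1, Int.ofNat 0, Int.ofNat 0, Int.ofNat 0, Int.ofNat 0, Int.ofNat 0, Int.ofNat 0, Int.ofNat 0, Int.ofNat 0, Int.ofNat 0, Int.ofNat 0, Int.ofNat 0, Int.ofNat 0, Int.ofNat 0, Int.negSucc 0, Int.ofNat 0, Int.ofNat 0])))))) (ZT.node 5344 (ZT.node 5338 (ZT.node 5335 (ZT.node 5334 (ZT.leaf [Int.ofNat 26, Int.ofNat 12, Int.negSucc 4, Int.ofNat 0, Int.ofNat 0, Int.ofNat 3, Int.ofNat 0, Int.ofNat 0, Int.ofNat 0, Int.ofNat 0, Int.ofNat 0, Int.ofNat 0, Int.ofNat 0, Int.ofNat 0, Int.negSucc 1, Int.ofNat 0, Int.negSucc 0, Int.ofNat 0, Int.ofNat 2]) (ZT.leaf [Int.negSucc 72, Int.negSucc 6, Int.ofNat 19, Int.negSucc 0, Int.ofNat 0, Int.negSucc 6, Int.ofNat 0, Int.ofNat 0, Int.negSucc 0, Int.ofNat 0, Int.ofNat 0, Int.ofNat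 0, Int.ofNat 0, Int.ofNat 0, Int.negSucc 0, Int.ofNat 0, Int.ofNat 0, Int.ofNat 0, Int.negSucc 4])) (ZT.node 5336 (ZT.leaf []) (ZT.node 5337 (ZT.leaf [Int.ofNat 1820, Int.ofNat 953, Int.negSucc 433, Int.ofNat 160, Int.ofNat 3, Int.ofNat 273, Int.ofNat 37, Int.negSucc 73, Int.negSucc 8, Int.ofNat 0, Int.ofNat 0, Int.ofNat 0, Int.ofNat 4, Int.ofNat 4, Int.negSucc 340, Int.negSucc 3, Int.ofNat 41, Int.ofNat 0, Int.ofNat 241]) (ZT.leaf [Int.ofNat 49, Int.negSucc 1, Int.negSucc 13, Int.ofNat 1, Int.ofNat 0, Int.ofNat 4, Int.ofNat 0, Int.ofNat 0, Int.ofNat 1, Int.ofNat 0, Int.ofNat 0, Int.ofNat 0, Int.ofNat 0, Int.ofNat 0, Int.ofNat 3, Int.ofNat 0, Int.ofNat 1, Int.ofNat 0, Int.ofNat 3])))) (ZT.node 5341 (ZT.node 5339 (ZT.leaf []) (ZT.node 5340 (ZT.leaf [Int.ofNat 388, Int.ofNat 175, Int.negSucc 83, Int.ofNat 27, Int.ofNat 0, Int.ofNat 47, Int.ofNat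 10, Int.negSucc 4, Int.ofNat 0, Int.ofNat 0, Int.ofNat 0, Int.ofNat 0, Int.ofNat 4, Int.ofNat 2, Int.negSucc 43, Int.negSucc 0, Int.negSucc 4, Int.ofNat 0, Int.ofNat 43]) (ZT.leaf [Int.negSucc 9, Int.negSucc 3, Int.ofNat 1, Int.ofNat 0, Int.ofNat 1, Int.ofNat 0, Int.ofNat 0, Int.ofNat 1, Int.ofNat 0, Int.ofNat 0, Int.ofNat 0, Int.ofNat 0, Int.ofNat 0, Int.ofNat 0, Int.ofNat 0, Int.ofNat 0, Int.ofNat 0, Int.ofNat 0, Int.ofNat 0]))) (ZT.node 5342 (ZT.leaf [Int.ofNat 1]) (ZT.node 5343 (ZT.leaf [Int.ofNat 1]) (ZT.leaf [Int.negSucc 1757, Int.negSucc 177, Int.ofNat 357, Int.ofNat 0, Int.ofNat 3, Int.negSucc 135, Int.negSucc 35, Int.ofNat 34, Int.negSucc 0, Int.ofNat 0, Int.ofNat 0, Int.ofNat 0, Int.negSucc 4, Int.ofNat 6, Int.ofNat 151, Int.negSucc 8, Int.negSucc 15, Int.ofNat 0, Int.negSucc 123]))))) (ZT.node 5350 (ZT.node 5347 (ZT.node 5345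 (ZT.leaf [Int.negSucc 1461, Int.negSucc 944, Int.ofNat 283, Int.negSucc 129, Int.negSucc 5, Int.negSucc 208, Int.negSucc 75, Int.ofNat 124, Int.ofNat 35, Int.ofNat 0, Int.ofNat 0, Int.ofNat 0, Int.ofNat 1, Int.ofNat 1, Int.ofNat 485, Int.negSucc 2, Int.negSucc 53, Int.ofNat 0, Int.negSucc 219]) (ZT.node 5346 (ZT.leaf []) (ZT.leaf [Int.ofNat 3382, Int.ofNat 1441, Int.negSucc 786, Int.ofNat 229, Int.ofNat 5, Int.ofNat 444, Int.ofNat 63, Int.negSucc 123, Int.negSucc 11, Int.ofNat 0, Int.ofNat 0, Int.ofNat 0, Int.ofNat 4, Int.ofNat 4, Int.negSucc 561, Int.ofNat 0, Int.ofNat 77, Int.ofNat 0, Int.ofNat 400]))) (ZT.node 5348 (ZT.leaf [Int.ofNat 3430, Int.ofNat 1447, Int.negSucc 796, Int.ofNat 229, Int.ofNat 5, Int.ofNat 447, Int.ofNat 62, Int.negSucc 122, Int.negSucc 10, Int.ofNat 0, Int.ofNat 0, Int.ofNat 0, Int.ofNat 4, Int.ofNat 4, Int.negSucc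 562, Int.ofNat 0, Int.ofNat 79, Int.ofNat 0, Int.ofNat 402]) (ZT.node 5349 (ZT.leaf [Int.ofNat 2, Int.ofNat 0, Int.ofNat 0, Int.ofNat 0, Int.ofNat 0, Int.ofNat 0, Int.ofNat 0, Int.ofNat 0, Int.ofNat 0, Int.ofNat 0, Int.ofNat 0, Int.ofNat 0, Int.negSucc 0]) (ZT.leaf [])))) (ZT.node 5353 (ZT.node 5351 (ZT.leaf [Int.ofNat 543, Int.ofNat 306, Int.negSucc 146, Int.ofNat 60, Int.ofNat 2, Int.ofNat 94, Int.ofNat 6, Int.negSucc 27, Int.negSucc 1, Int.ofNat 0, Int.ofNat 0, Int.ofNat 0, Int.negSucc 0, Int.ofNat 1, Int.negSucc 103, Int.negSucc 0, Int.ofNat 19, Int.ofNat 0, Int.ofNat 80]) (ZT.node 5352 (ZT.leaf [Int.ofNat 1267, Int.ofNat 511, Int.negSucc 300, Int.ofNat 87, Int.ofNat 4, Int.ofNat 155, Int.ofNat 12, Int.negSucc 33, Int.negSucc 0, Int.ofNat 0, Int.ofNat 0, Int.ofNat 0, Int.ofNat 4, Int.ofNat 2, Int.negSucc 181, Int.negSucc 1, Int.ofNat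 28, Int.ofNat 0, Int.ofNat 138]) (ZT.leaf [Int.ofNat 137, Int.ofNat 32, Int.negSucc 33, Int.ofNat 3, Int.ofNat 0, Int.ofNat 15, Int.ofNat 0, Int.negSucc 0, Int.ofNat 1, Int.ofNat 0, Int.ofNat 0, Int.ofNat 0, Int.ofNat 1, Int.ofNat 0, Int.negSucc 7, Int.ofNat 0, Int.ofNat 4, Int.ofNat 0, Int.ofNat 12]))) (ZT.node 5354 (ZT.leaf []) (ZT.node 5355 (ZT.leaf [Int.ofNat 1]) (ZT.leaf [Int.ofNat 543, Int.ofNat 303, Int.negSucc 140, Int.ofNat 56, Int.ofNat 2, Int.ofNat 88, Int.ofNat 6, Int.negSucc 26, Int.negSucc 2, Int.ofNat 0, Int.ofNat 0, Int.ofNat 0, Int.negSucc 0, Int.ofNat 1, Int.negSucc 100, Int.negSucc 0, Int.ofNat 19, Int.ofNat 0, Int.ofNat 76]))))))))) (ZT.node 5446 (ZT.node 5401 (ZT.node 5378 (ZT.node 5367 (ZT.node 5361 (ZT.node 5358 (ZT.node 5357 (ZT.leaf [Int.ofNat 1]) (ZT.leaf [Int.negSucc 1359, Int.negSucc 91, Int.ofNat 273, Int.ofNat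 8, Int.ofNat 1, Int.negSucc 76, Int.negSucc 10, Int.ofNat 4, Int.negSucc 3, Int.ofNat 0, Int.ofNat 0, Int.ofNat 0, Int.negSucc 9, Int.ofNat 4, Int.ofNat 53, Int.negSucc 4, Int.negSucc 6, Int.ofNat 1, Int.negSucc 74])) (ZT.node 5359 (ZT.leaf [Int.ofNat 1]) (ZT.node 5360 (ZT.leaf [Int.ofNat 91, Int.negSucc 420, Int.ofNat 28, Int.negSucc 94, Int.negSucc 4, Int.negSucc 77, Int.negSucc 0, Int.ofNat 30, Int.ofNat 5, Int.ofNat 0, Int.ofNat 0, Int.ofNat 0, Int.ofNat 6, Int.negSucc 5, Int.ofNat 129, Int.ofNat 7, Int.negSucc 20, Int.negSucc 0, Int.negSucc 62]) (ZT.leaf [Int.ofNat 490, Int.ofNat 282, Int.negSucc 103, Int.ofNat 40, Int.ofNat 0, Int.ofNat 69, Int.ofNat 14, Int.negSucc 25, Int.negSucc 3, Int.ofNat 0, Int.ofNat 0, Int.ofNat 0, Int.ofNat 1, Int.ofNat 2, Int.negSucc 104, Int.negSucc 0, Int.ofNat 12, Int.ofNat 0, Int.ofNat 66])))) (ZT.node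 5364 (ZT.node 5362 (ZT.leaf [Int.ofNat 1]) (ZT.node 5363 (ZT.leaf [Int.ofNat 322, Int.ofNat 188, Int.negSucc 71, Int.ofNat 30, Int.ofNat 1, Int.ofNat 47, Int.ofNat 6, Int.negSucc 11, Int.negSucc 1, Int.ofNat 0, Int.ofNat 0, Int.ofNat 0, Int.ofNat 2, Int.ofNat 1, Int.negSucc 64, Int.negSucc 0, Int.ofNat 7, Int.ofNat 0, Int.ofNat 43]) (ZT.leaf [Int.ofNat 2628, Int.ofNat 919, Int.negSucc 649, Int.ofNat 166, Int.ofNat 5, Int.ofNat 355, Int.ofNat 42, Int.negSucc 83, Int.ofNat 0, Int.ofNat 0, Int.ofNat 0, Int.ofNat 0, Int.ofNat 0, Int.ofNat 1, Int.negSucc 341, Int.ofNat 0, Int.ofNat 47, Int.ofNat 0, Int.ofNat 299]))) (ZT.node 5365 (ZT.leaf [Int.ofNat 1193, Int.ofNat 524, Int.negSucc 277, Int.ofNat 84, Int.ofNat 1, Int.ofNat 163, Int.ofNat 20, Int.negSucc 38, Int.negSucc 1, Int.ofNat 0, Int.ofNat 0, Int.ofNat 0, Int.ofNat 3, Int.ofNat 3, Int.negSucc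 199, Int.negSucc 1, Int.ofNat 25, Int.ofNat 0, Int.ofNat 143]) (ZT.node 5366 (ZT.leaf [Int.ofNat 344, Int.ofNat 178, Int.negSucc 57, Int.ofNat 19, Int.ofNat 0, Int.ofNat 32, Int.ofNat 5, Int.negSucc 6, Int.negSucc 1, Int.ofNat 0, Int.ofNat 0, Int.ofNat 0, Int.ofNat 3, Int.ofNat 0, Int.negSucc 47, Int.negSucc 0, Int.ofNat 5, Int.ofNat 0, Int.ofNat 32]) (ZT.leaf [Int.negSucc 490, Int.negSucc 280, Int.ofNat 104, Int.negSucc 39, Int.ofNat 0, Int.negSucc 68, Int.negSucc 13, Int.ofNat 26, Int.ofNat 4, Int.ofNat 0, Int.ofNat 0, Int.ofNat 0, Int.negSucc 0, Int.negSucc 1, Int.ofNat 105, Int.ofNat 1, Int.negSucc 11, Int.ofNat 0, Int.negSucc 65]))))) (ZT.node 5372 (ZT.node 5369 (ZT.node 5368 (ZT.leaf [Int.negSucc 89, Int.ofNat 421, Int.negSucc 27, Int.ofNat 95, Int.ofNat 5, Int.ofNat 78, Int.ofNat 1, Int.negSucc 29, Int.negSucc 4, Int.ofNat 0, Int.ofNat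 0, Int.ofNat 0, Int.negSucc 5, Int.ofNat 6, Int.negSucc 128, Int.negSucc 6, Int.ofNat 21, Int.ofNat 1, Int.ofNat 63]) (ZT.leaf [])) (ZT.node 5370 (ZT.leaf [Int.negSucc 363, Int.negSucc 253, Int.ofNat 90, Int.negSucc 44, Int.negSucc 0, Int.negSucc 64, Int.negSucc 10, Int.ofNat 21, Int.ofNat 4, Int.negSucc 0, Int.ofNat 0, Int.ofNat 0, Int.ofNat 0, Int.negSucc 0, Int.ofNat 85, Int.ofNat 1, Int.negSucc 4, Int.ofNat 0, Int.negSucc 57]) (ZT.node 5371 (ZT.leaf [Int.negSucc 526, Int.negSucc 159, Int.ofNat 136, Int.negSucc 30, Int.ofNat 0, Int.negSucc 59, Int.ofNat 2, Int.ofNat 8, Int.negSucc 3, Int.ofNat 0, Int.ofNat 0, Int.ofNat 0, Int.negSucc 0, Int.negSucc 1, Int.ofNat 46, Int.ofNat 0, Int.negSucc 15, Int.ofNat 0, Int.negSucc 53]) (ZT.leaf [Int.ofNat 322, Int.ofNat 75, Int.negSucc 81, Int.ofNat 16, Int.ofNat 0, Int.ofNat 38, Int.ofNat 0, Int.negSucc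 4, Int.ofNat 3, Int.ofNat 1, Int.ofNat 0, Int.ofNat 0, Int.ofNat 0, Int.ofNat 1, Int.negSucc 18, Int.ofNat 0, Int.ofNat 6, Int.ofNat 0, Int.ofNat 30])))) (ZT.node 5375 (ZT.node 5373 (ZT.leaf [Int.ofNat 365, Int.ofNat 254, Int.negSucc 89, Int.ofNat 45, Int.ofNat 1, Int.ofNat 65, Int.ofNat 11, Int.negSucc 20, Int.negSucc 3, Int.ofNat 1, Int.ofNat 0, Int.ofNat 0, Int.ofNat 0, Int.ofNat 1, Int.negSucc 84, Int.negSucc 0, Int.ofNat 5, Int.ofNat 0, Int.ofNat 58]) (ZT.node 5374 (ZT.leaf [Int.ofNat 1, Int.ofNat 1]) (ZT.leaf [Int.negSucc 32, Int.negSucc 0, Int.ofNat 6, Int.ofNat 0, Int.ofNat 0, Int.negSucc 0, Int.ofNat 0, Int.negSucc 0, Int.negSucc 0, Int.negSucc 0, Int.ofNat 0, Int.ofNat 0, Int.ofNat 0, Int.negSucc 0, Int.negSucc 1, Int.ofNat 0, Int.ofNat 0, Int.ofNat 0, Int.negSucc 0]))) (ZT.node 5376 (ZT.leaf [Int.ofNat 2, Int.negSucc 9, Int.negSucc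 5, Int.ofNat 1, Int.ofNat 0, Int.ofNat 3, Int.negSucc 0, Int.negSucc 0, Int.ofNat 1, Int.ofNat 0, Int.ofNat 0, Int.ofNat 0, Int.negSucc 0, Int.ofNat 0, Int.ofNat 4, Int.ofNat 0, Int.ofNat 1, Int.ofNat 0, Int.ofNat 1]) (ZT.node 5377 (ZT.leaf [Int.ofNat 45, Int.ofNat 37, Int.negSucc 10, Int.ofNat 8, Int.ofNat 0, Int.ofNat 8, Int.ofNat 1, Int.negSucc 2, Int.negSucc 0, Int.ofNat 0, Int.ofNat 0, Int.ofNat 0, Int.ofNat 0, Int.ofNat 0, Int.negSucc 13, Int.ofNat 0, Int.ofNat 2, Int.ofNat 0, Int.ofNat 7]) (ZT.leaf [Int.negSucc 44, Int.negSucc 37, Int.ofNat 11, Int.negSucc 7, Int.ofNat 0, Int.negSucc 7, Int.negSucc 0, Int.ofNat 3, Int.ofNat 1, Int.ofNat 0, Int.ofNat 0, Int.ofNat 0, Int.ofNat 0, Int.ofNat 0, Int.ofNat 14, Int.ofNat 0, Int.negSucc 1, Int.ofNat 0, Int.negSucc 6])))))) (ZT.node 5389 (ZT.node 5383 (ZT.node 5380 (ZT.node 5379 (ZT.leaf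 []) (ZT.leaf [Int.ofNat 533, Int.ofNat 228, Int.negSucc 127, Int.ofNat 38, Int.ofNat 1, Int.ofNat 73, Int.ofNat 7, Int.negSucc 14, Int.ofNat 0, Int.ofNat 0, Int.ofNat 0, Int.ofNat 0, Int.ofNat 1, Int.ofNat 1, Int.negSucc 73, Int.negSucc 0, Int.ofNat 10, Int.ofNat 0, Int.ofNat 63])) (ZT.node 5381 (ZT.leaf [Int.ofNat 1]) (ZT.node 5382 (ZT.leaf []) (ZT.leaf [Int.negSucc 1, Int.negSucc 11, Int.negSucc 4, Int.ofNat 1, Int.ofNat 0, Int.ofNat 3, Int.negSucc 0, Int.negSucc 0, Int.ofNat 1, Int.ofNat 0, Int.ofNat 0, Int.ofNat 0, Int.negSucc 0, Int.ofNat 0, Int.ofNat 4, Int.ofNat 0, Int.ofNat 1, Int.ofNat 0, Int.ofNat 1])))) (ZT.node 5386 (ZT.node 5384 (ZT.leaf [Int.ofNat 0, Int.negSucc 1, Int.negSucc 0]) (ZT.node 5385 (ZT.leaf [Int.ofNat 28, Int.negSucc 94, Int.negSucc 11, Int.negSucc 11, Int.negSucc 0, Int.negSucc 14, Int.negSucc 14, Int.ofNat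 25, Int.ofNat 10, Int.ofNat 0, Int.ofNat 0, Int.ofNat 0, Int.ofNat 1, Int.ofNat 2, Int.ofNat 83, Int.negSucc 1, Int.negSucc 8, Int.ofNat 0, Int.negSucc 20]) (ZT.leaf []))) (ZT.node 5387 (ZT.leaf [Int.ofNat 1]) (ZT.node 5388 (ZT.leaf []) (ZT.leaf [Int.ofNat 1]))))) (ZT.node 5395 (ZT.node 5392 (ZT.node 5390 (ZT.leaf [Int.negSucc 46, Int.negSucc 36, Int.ofNat 11, Int.negSucc 7, Int.ofNat 0, Int.negSucc 7, Int.negSucc 0, Int.ofNat 3, Int.ofNat 1, Int.ofNat 0, Int.ofNat 0, Int.ofNat 0, Int.ofNat 0, Int.ofNat 0, Int.ofNat 14, Int.ofNat 0, Int.negSucc 1, Int.ofNat 0, Int.negSucc 6]) (ZT.node 5391 (ZT.leaf [Int.negSucc 86, Int.negSucc 29, Int.ofNat 13, Int.negSucc 1, Int.ofNat 0, Int.negSucc 3, Int.negSucc 1, Int.negSucc 1, Int.ofNat 1, Int.ofNat 0, Int.ofNat 0, Int.ofNat 0, Int.negSucc 1, Int.ofNat 0, Int.ofNat 8, Int.ofNat 0, Int.ofNat 0, Int.ofNat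 0, Int.negSucc 5]) (ZT.leaf [Int.negSucc 195, Int.ofNat 27, Int.ofNat 1, Int.ofNat 23, Int.ofNat 1, Int.ofNat 17, Int.negSucc 6, Int.ofNat 1, Int.ofNat 5, Int.ofNat 1, Int.ofNat 0, Int.ofNat 0, Int.negSucc 3, Int.ofNat 2, Int.negSucc 1, Int.negSucc 1, Int.negSucc 4, Int.ofNat 0, Int.ofNat 5]))) (ZT.node 5393 (ZT.leaf []) (ZT.node 5394 (ZT.leaf [Int.ofNat 250, Int.ofNat 52, Int.negSucc 57, Int.ofNat 9, Int.ofNat 0, Int.ofNat 27, Int.ofNat 2, Int.ofNat 3, Int.ofNat 2, Int.ofNat 0, Int.ofNat 0, Int.ofNat 0, Int.ofNat 2, Int.ofNat 0, Int.negSucc 8, Int.ofNat 0, Int.ofNat 0, Int.ofNat 0, Int.ofNat 21]) (ZT.leaf [])))) (ZT.node 5398 (ZT.node 5396 (ZT.leaf [Int.ofNat 1153, Int.ofNat 2827, Int.negSucc 359, Int.ofNat 541, Int.ofNat 20, Int.ofNat 517, Int.ofNat 82, Int.negSucc 247, Int.negSucc 56, Int.ofNat 0, Int.ofNat 0, Int.ofNat 0, Int.negSucc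 12, Int.ofNat 9, Int.negSucc 897, Int.negSucc 31, Int.ofNat 85, Int.ofNat 0, Int.ofNat 471]) (ZT.node 5397 (ZT.leaf [Int.negSucc 1928, Int.negSucc 761, Int.ofNat 461, Int.negSucc 133, Int.negSucc 4, Int.negSucc 260, Int.negSucc 16, Int.ofNat 44, Int.negSucc 7, Int.ofNat 0, Int.ofNat 0, Int.ofNat 0, Int.ofNat 0, Int.negSucc 5, Int.ofNat 234, Int.ofNat 4, Int.negSucc 27, Int.ofNat 0, Int.negSucc 212]) (ZT.leaf []))) (ZT.node 5399 (ZT.leaf [Int.ofNat 399, Int.ofNat 114, Int.negSucc 93, Int.ofNat 18, Int.ofNat 0, Int.ofNat 44, Int.ofNat 2, Int.negSucc 6, Int.ofNat 1, Int.ofNat 0, Int.ofNat 0, Int.ofNat 0, Int.ofNat 1, Int.ofNat 2, Int.negSucc 30, Int.ofNat 0, Int.ofNat 7, Int.ofNat 0, Int.ofNat 38]) (ZT.node 5400 (ZT.leaf []) (ZT.leaf [Int.negSucc 4835, Int.negSucc 4998, Int.ofNat 1145, Int.negSucc 834, Int.negSucc 21, Int.negSucc 1033, Int.negSucc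 221, Int.ofNat 447, Int.ofNat 110, Int.ofNat 1, Int.ofNat 0, Int.ofNat 1, Int.ofNat 0, Int.negSucc 20, Int.ofNat 1715, Int.ofNat 42, Int.negSucc 168, Int.ofNat 1, Int.negSucc 980]))))))) (ZT.node 5423 (ZT.node 5412 (ZT.node 5406 (ZT.node 5403 (ZT.node 5402 (ZT.leaf [Int.ofNat 19439, Int.ofNat 6380, Int.negSucc 4401, Int.ofNat 943, Int.ofNat 9, Int.ofNat 2181, Int.ofNat 254, Int.negSucc 442, Int.negSucc 3, Int.negSucc 0, Int.ofNat 1, Int.ofNat 0, Int.ofNat 67, Int.ofNat 21, Int.negSucc 2374, Int.ofNat 3, Int.ofNat 346, Int.ofNat 0, Int.ofNat 1953]) (ZT.leaf [Int.ofNat 11727, Int.ofNat 4843, Int.negSucc 2590, Int.ofNat 694, Int.ofNat 9, Int.ofNat 1433, Int.ofNat 229, Int.negSucc 401, Int.negSucc 59, Int.ofNat 0, Int.ofNat 0, Int.ofNat 0, Int.ofNat 45, Int.ofNat 9, Int.negSucc 1953, Int.ofNat 2, Int.ofNat 257, Int.ofNat 0, Int.ofNat 1329]))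 (ZT.node 5404 (ZT.leaf []) (ZT.node 5405 (ZT.leaf [Int.negSucc 19438, Int.negSucc 6379, Int.ofNat 4402, Int.negSucc 942, Int.negSucc 8, Int.negSucc 2180, Int.negSucc 253, Int.ofNat 443, Int.ofNat 4, Int.ofNat 1, Int.negSucc 0, Int.ofNat 0, Int.negSucc 66, Int.negSucc 20, Int.ofNat 2375, Int.negSucc 2, Int.negSucc 345, Int.ofNat 0, Int.negSucc 1952]) (ZT.leaf [])))) (ZT.node 5409 (ZT.node 5407 (ZT.leaf [Int.ofNat 100, Int.ofNat 25, Int.negSucc 27, Int.ofNat 7, Int.ofNat 0, Int.ofNat 14, Int.ofNat 0, Int.negSucc 2, Int.ofNat 1, Int.ofNat 0, Int.ofNat 0, Int.ofNat 0, Int.ofNat 0, Int.ofNat 0, Int.negSucc 4, Int.ofNat 0, Int.ofNat 2, Int.ofNat 0, Int.ofNat 10]) (ZT.node 5408 (ZT.leaf [Int.ofNat 4997, Int.ofNat 2627, Int.negSucc 1207, Int.ofNat 446, Int.ofNat 11, Int.ofNat 749, Int.ofNat 86, Int.negSucc 197, Int.negSucc 19, Int.ofNat 0, Int.ofNat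 0, Int.ofNat 0, Int.ofNat 8, Int.ofNat 11, Int.negSucc 883, Int.negSucc 10, Int.ofNat 113, Int.ofNat 0, Int.ofNat 655]) (ZT.leaf []))) (ZT.node 5410 (ZT.leaf [Int.ofNat 10382, Int.ofNat 6935, Int.negSucc 2738, Int.ofNat 1322, Int.ofNat 34, Int.ofNat 1927, Int.ofNat 197, Int.negSucc 549, Int.negSucc 50, Int.negSucc 0, Int.ofNat 0, Int.ofNat 0, Int.negSucc 8, Int.ofNat 22, Int.negSucc 2233, Int.negSucc 40, Int.ofNat 283, Int.ofNat 0, Int.ofNat 1624]) (ZT.node 5411 (ZT.leaf []) (ZT.leaf []))))) (ZT.node 5417 (ZT.node 5414 (ZT.node 5413 (ZT.leaf []) (ZT.leaf [Int.negSucc 1968, Int.negSucc 720, Int.ofNat 443, Int.negSucc 108, Int.negSucc 0, Int.negSucc 214, Int.negSucc 30, Int.ofNat 54, Int.ofNat 7, Int.ofNat 0, Int.ofNat 0, Int.ofNat 0, Int.negSucc 6, Int.ofNat 1, Int.ofNat 327, Int.negSucc 4, Int.negSucc 55, Int.ofNat 0, Int.negSucc 204]))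 (ZT.node 5415 (ZT.leaf []) (ZT.node 5416 (ZT.leaf [Int.negSucc 0, Int.negSucc 0]) (ZT.leaf [Int.ofNat 1])))) (ZT.node 5420 (ZT.node 5418 (ZT.leaf [Int.negSucc 2234, Int.negSucc 1021, Int.ofNat 516, Int.negSucc 160, Int.negSucc 4, Int.negSucc 299, Int.negSucc 49, Int.ofNat 95, Int.ofNat 15, Int.ofNat 0, Int.ofNat 0, Int.ofNat 0, Int.negSucc 2, Int.negSucc 1, Int.ofNat 394, Int.ofNat 3, Int.negSucc 51, Int.ofNat 0, Int.negSucc 273]) (ZT.node 5419 (ZT.leaf [Int.negSucc 131, Int.negSucc 26, Int.ofNat 36, Int.negSucc 5, Int.ofNat 0, Int.negSucc 16, Int.negSucc 0, Int.ofNat 2, Int.negSucc 0, Int.ofNat 0, Int.ofNat 0, Int.ofNat 0, Int.ofNat 0, Int.ofNat 0, Int.ofNat 11, Int.ofNat 0, Int.negSucc 0, Int.ofNat 0, Int.negSucc 13]) (ZT.leaf [Int.negSucc 7023, Int.negSucc 3192, Int.ofNat 1692, Int.negSucc 540, Int.negSucc 12, Int.negSucc 987, Int.negSucc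 112, Int.ofNat 259, Int.ofNat 18, Int.ofNat 0, Int.ofNat 0, Int.ofNat 0, Int.negSucc 5, Int.negSucc 10, Int.ofNat 1156, Int.ofNat 6, Int.negSucc 162, Int.ofNat 0, Int.negSucc 864]))) (ZT.node 5421 (ZT.leaf [Int.negSucc 127, Int.ofNat 1471, Int.ofNat 47, Int.ofNat 239, Int.ofNat 12, Int.ofNat 124, Int.ofNat 20, Int.negSucc 100, Int.negSucc 42, Int.ofNat 0, Int.ofNat 0, Int.ofNat 0, Int.ofNat 1, Int.ofNat 9, Int.negSucc 491, Int.negSucc 15, Int.ofNat 57, Int.ofNat 0, Int.ofNat 161]) (ZT.node 5422 (ZT.leaf []) (ZT.leaf [])))))) (ZT.node 5434 (ZT.node 5428 (ZT.node 5425 (ZT.node 5424 (ZT.leaf [Int.ofNat 508, Int.ofNat 131, Int.negSucc 126, Int.ofNat 24, Int.ofNat 0, Int.ofNat 58, Int.ofNat 3, Int.negSucc 8, Int.ofNat 2, Int.ofNat 0, Int.ofNat 0, Int.ofNat 0, Int.ofNat 1, Int.ofNat 1, Int.negSucc 39, Int.ofNat 0, Int.ofNat 9, Int.ofNat 0, Int.ofNat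 50]) (ZT.leaf [Int.ofNat 89, Int.ofNat 21, Int.negSucc 21, Int.ofNat 1, Int.ofNat 0, Int.ofNat 13, Int.ofNat 0, Int.negSucc 1, Int.ofNat 1, Int.ofNat 0, Int.ofNat 0, Int.ofNat 0, Int.ofNat 0, Int.ofNat 0, Int.negSucc 5, Int.ofNat 0, Int.ofNat 2, Int.ofNat 0, Int.ofNat 9])) (ZT.node 5426 (ZT.leaf [Int.negSucc 8, Int.ofNat 644, Int.negSucc 34, Int.ofNat 125, Int.ofNat 5, Int.ofNat 93, Int.ofNat 7, Int.negSucc 47, Int.negSucc 14, Int.ofNat 0, Int.ofNat 0, Int.ofNat 0, Int.negSucc 2, Int.ofNat 6, Int.negSucc 215, Int.negSucc 7, Int.ofNat 34, Int.ofNat 0, Int.ofNat 94]) (ZT.node 5427 (ZT.leaf [Int.negSucc 4779, Int.negSucc 1698, Int.ofNat 1105, Int.negSucc 257, Int.negSucc 4, Int.negSucc 576, Int.negSucc 66, Int.ofNat 129, Int.ofNat 4, Int.ofNat 0, Int.ofNat 0, Int.ofNat 0, Int.negSucc 10, Int.negSucc 5, Int.ofNat 634, Int.negSucc 2, Int.negSucc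 100, Int.ofNat 0, Int.negSucc 511]) (ZT.leaf [])))) (ZT.node 5431 (ZT.node 5429 (ZT.leaf [Int.negSucc 45, Int.negSucc 0, Int.ofNat 3, Int.ofNat 4, Int.ofNat 1, Int.ofNat 0, Int.ofNat 1, Int.negSucc 3, Int.negSucc 0, Int.ofNat 0, Int.ofNat 0, Int.ofNat 0, Int.negSucc 0, Int.ofNat 0, Int.ofNat 2, Int.negSucc 0, Int.ofNat 0, Int.ofNat 0, Int.ofNat 0]) (ZT.node 5430 (ZT.leaf [Int.ofNat 5149, Int.ofNat 1541, Int.negSucc 1199, Int.ofNat 252, Int.ofNat 14, Int.ofNat 580, Int.ofNat 69, Int.negSucc 146, Int.negSucc 6, Int.negSucc 0, Int.ofNat 0, Int.ofNat 0, Int.ofNat 3, Int.negSucc 1, Int.negSucc 636, Int.ofNat 7, Int.ofNat 135, Int.ofNat 0, Int.ofNat 518]) (ZT.leaf [Int.ofNat 1, Int.ofNat 0, Int.ofNat 0, Int.ofNat 0, Int.ofNat 0, Int.ofNat 0, Int.ofNat 0, Int.ofNat 0, Int.ofNat 0, Int.ofNat 0, Int.ofNat 0, Int.ofNat 0, Int.ofNat 0, Int.ofNat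 0, Int.ofNat 0, Int.ofNat 0, Int.ofNat 0, Int.ofNat 0, Int.ofNat 0]))) (ZT.node 5432 (ZT.leaf [Int.ofNat 596, Int.ofNat 339, Int.negSucc 135, Int.ofNat 56, Int.ofNat 2, Int.ofNat 70, Int.ofNat 4, Int.negSucc 13, Int.negSucc 1, Int.ofNat 1, Int.ofNat 0, Int.ofNat 0, Int.ofNat 3, Int.ofNat 2, Int.negSucc 95, Int.negSucc 1, Int.ofNat 15, Int.ofNat 0, Int.ofNat 68]) (ZT.node 5433 (ZT.leaf []) (ZT.leaf [Int.negSucc 7526, Int.negSucc 1765, Int.ofNat 1658, Int.negSucc 210, Int.ofNat 0, Int.negSucc 715, Int.negSucc 75, Int.ofNat 126, Int.negSucc 7, Int.ofNat 0, Int.ofNat 0, Int.ofNat 0, Int.negSucc 26, Int.negSucc 3, Int.ofNat 690, Int.negSucc 12, Int.negSucc 144, Int.ofNat 0, Int.negSucc 650]))))) (ZT.node 5440 (ZT.node 5437 (ZT.node 5435 (ZT.leaf [Int.negSucc 5257, Int.negSucc 1641, Int.ofNat 1191, Int.negSucc 245, Int.negSucc 12, Int.negSucc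 579, Int.negSucc 73, Int.ofNat 151, Int.ofNat 12, Int.ofNat 1, Int.ofNat 0, Int.ofNat 0, Int.negSucc 5, Int.ofNat 1, Int.ofNat 689, Int.negSucc 7, Int.negSucc 140, Int.ofNat 0, Int.negSucc 527]) (ZT.node 5436 (ZT.leaf [Int.ofNat 5, Int.ofNat 5, Int.ofNat 0, Int.ofNat 0, Int.ofNat 0, Int.ofNat 0, Int.ofNat 0, Int.ofNat 0, Int.ofNat 0, Int.ofNat 0, Int.ofNat 0, Int.ofNat 0, Int.ofNat 0, Int.ofNat 0, Int.ofNat 0]) (ZT.leaf [Int.ofNat 28, Int.negSucc 5, Int.negSucc 4, Int.negSucc 2, Int.ofNat 0, Int.ofNat 0, Int.negSucc 0, Int.ofNat 2, Int.ofNat 1, Int.ofNat 0, Int.ofNat 0, Int.ofNat 0, Int.ofNat 0, Int.ofNat 0, Int.ofNat 6, Int.ofNat 0, Int.ofNat 1, Int.ofNat 0, Int.ofNat 0]))) (ZT.node 5438 (ZT.leaf [Int.ofNat 1]) (ZT.node 5439 (ZT.leaf [Int.ofNat 22, Int.ofNat 8, Int.negSucc 5, Int.ofNat 3, Int.ofNat 0, Int.ofNat 3, Int.ofNat 0, Int.negSucc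 0, Int.ofNat 0, Int.ofNat 0, Int.ofNat 0, Int.ofNat 0, Int.ofNat 0, Int.ofNat 0, Int.negSucc 6, Int.ofNat 0, Int.ofNat 1, Int.ofNat 0, Int.ofNat 2]) (ZT.leaf [])))) (ZT.node 5443 (ZT.node 5441 (ZT.leaf [Int.ofNat 20, Int.negSucc 6, Int.negSucc 5, Int.ofNat 0, Int.ofNat 0, Int.ofNat 1, Int.ofNat 0, Int.ofNat 1, Int.ofNat 1, Int.ofNat 1, Int.ofNat 0, Int.ofNat 0, Int.ofNat 0, Int.ofNat 0, Int.ofNat 2, Int.ofNat 0, Int.ofNat 0, Int.ofNat 0, Int.ofNat 1]) (ZT.node 5442 (ZT.leaf [Int.negSucc 73, Int.ofNat 7, Int.ofNat 13, Int.ofNat 4, Int.ofNat 1, Int.negSucc 1, Int.ofNat 1, Int.negSucc 3, Int.negSucc 0, Int.ofNat 0, Int.ofNat 0, Int.ofNat 0, Int.negSucc 0, Int.ofNat 0, Int.negSucc 0, Int.negSucc 0, Int.ofNat 0, Int.ofNat 0, Int.negSucc 1]) (ZT.leaf [Int.ofNat 1]))) (ZT.node 5444 (ZT.leaf [Int.ofNat 1]) (ZT.node 5445 (ZT.leaf [Int.negSucc 2,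 Int.ofNat 0, Int.ofNat 1, Int.ofNat 0, Int.ofNat 0, Int.ofNat 0, Int.ofNat 0, Int.ofNat 0, Int.ofNat 0, Int.ofNat 0, Int.ofNat 0, Int.ofNat 0, Int.ofNat 0, Int.ofNat 0, Int.negSucc 1, Int.ofNat 0, Int.ofNat 0, Int.ofNat 0, Int.ofNat 1]) (ZT.leaf [Int.negSucc 1, Int.negSucc 1, Int.ofNat 0, Int.ofNat 0, Int.ofNat 0, Int.ofNat 0, Int.ofNat 0, Int.ofNat 0, Int.ofNat 0, Int.ofNat 0, Int.ofNat 0, Int.ofNat 0, Int.ofNat 0, Int.ofNat 0, Int.ofNat 1])))))))) (ZT.node 5491 (ZT.node 5468 (ZT.node 5457 (ZT.node 5451 (ZT.node 5448 (ZT.node 5447 (ZT.leaf [Int.negSucc 27, Int.negSucc 4, Int.ofNat 6, Int.ofNat 0, Int.ofNat 0, Int.negSucc 1, Int.ofNat 0, Int.negSucc 0, Int.negSucc 0, Int.ofNat 0, Int.ofNat 0, Int.ofNat 0, Int.ofNat 0, Int.ofNat 0, Int.ofNat 4, Int.ofNat 0, Int.ofNat 1, Int.ofNat 0, Int.negSucc 0]) (ZT.leaf [Int.negSucc 22, Int.ofNat 16,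 Int.ofNat 13, Int.negSucc 1, Int.ofNat 0, Int.negSucc 4, Int.ofNat 1, Int.ofNat 2, Int.negSucc 0, Int.ofNat 0, Int.ofNat 0, Int.ofNat 0, Int.ofNat 1, Int.ofNat 0, Int.negSucc 1, Int.ofNat 0, Int.negSucc 1, Int.ofNat 0, Int.negSucc 1])) (ZT.node 5449 (ZT.leaf [Int.negSucc 125, Int.negSucc 23, Int.ofNat 31, Int.negSucc 1, Int.ofNat 0, Int.negSucc 12, Int.ofNat 1, Int.negSucc 0, Int.negSucc 0, Int.ofNat 0, Int.ofNat 0, Int.ofNat 0, Int.negSucc 0, Int.negSucc 0, Int.ofNat 10, Int.ofNat 0, Int.negSucc 3, Int.ofNat 0, Int.negSucc 11]) (ZT.node 5450 (ZT.leaf [Int.negSucc 3320, Int.negSucc 1386, Int.ofNat 762, Int.negSucc 218, Int.negSucc 3, Int.negSucc 414, Int.negSucc 42, Int.ofNat 96, Int.ofNat 7, Int.ofNat 0, Int.ofNat 0, Int.ofNat 0, Int.negSucc 11, Int.negSucc 2, Int.ofNat 473, Int.ofNat 2, Int.negSucc 69, Int.ofNat 0, Int.negSucc 370])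 (ZT.leaf [Int.ofNat 25, Int.ofNat 2, Int.negSucc 4, Int.negSucc 0, Int.ofNat 0, Int.ofNat 0, Int.ofNat 0, Int.ofNat 1, Int.ofNat 0, Int.ofNat 0, Int.ofNat 0, Int.ofNat 0, Int.ofNat 1, Int.ofNat 0, Int.ofNat 0, Int.ofNat 0, Int.ofNat 0, Int.ofNat 0, Int.ofNat 0])))) (ZT.node 5454 (ZT.node 5452 (ZT.leaf [Int.ofNat 58, Int.ofNat 63, Int.negSucc 58, Int.ofNat 35, Int.ofNat 0, Int.ofNat 30, Int.negSucc 8, Int.ofNat 13, Int.ofNat 4, Int.ofNat 0, Int.ofNat 0, Int.ofNat 0, Int.ofNat 4, Int.ofNat 0, Int.ofNat 49, Int.negSucc 6, Int.negSucc 16, Int.ofNat 0, Int.ofNat 14]) (ZT.node 5453 (ZT.leaf [Int.ofNat 10, Int.negSucc 5, Int.negSucc 2, Int.ofNat 0, Int.ofNat 0, Int.ofNat 0, Int.ofNat 0, Int.ofNat 1, Int.ofNat 1, Int.ofNat 1, Int.ofNat 0, Int.ofNat 0, Int.ofNat 0, Int.ofNat 0, Int.ofNat 2, Int.ofNat 0, Int.ofNat 0, Int.ofNat 0, Int.ofNat 0]) (ZT.leaf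 []))) (ZT.node 5455 (ZT.leaf [Int.negSucc 486, Int.negSucc 161, Int.ofNat 115, Int.negSucc 25, Int.ofNat 0, Int.negSucc 53, Int.negSucc 3, Int.ofNat 8, Int.negSucc 0, Int.ofNat 0, Int.ofNat 0, Int.ofNat 0, Int.negSucc 1, Int.negSucc 0, Int.ofNat 51, Int.ofNat 0, Int.negSucc 7, Int.ofNat 0, Int.negSucc 47]) (ZT.node 5456 (ZT.leaf [Int.negSucc 17689, Int.negSucc 7037, Int.ofNat 4209, Int.negSucc 1185, Int.negSucc 16, Int.negSucc 2314, Int.negSucc 252, Int.ofNat 516, Int.ofNat 13, Int.ofNat 2, Int.negSucc 0, Int.ofNat 0, Int.negSucc 41, Int.negSucc 24, Int.ofNat 2414, Int.ofNat 21, Int.negSucc 335, Int.ofNat 0, Int.negSucc 2002]) (ZT.leaf [Int.ofNat 1047, Int.ofNat 954, Int.negSucc 242, Int.ofNat 157, Int.ofNat 4, Int.ofNat 215, Int.ofNat 44, Int.negSucc 82, Int.negSucc 16, Int.negSucc 0, Int.ofNat 0, Int.ofNat 0, Int.ofNat 0, Int.ofNat 5,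 Int.negSucc 317, Int.negSucc 5, Int.ofNat 26, Int.ofNat 0, Int.ofNat 196]))))) (ZT.node 5462 (ZT.node 5459 (ZT.node 5458 (ZT.leaf [Int.negSucc 19726, Int.negSucc 5440, Int.ofNat 4396, Int.negSucc 736, Int.ofNat 0, Int.negSucc 2049, Int.negSucc 261, Int.ofNat 378, Int.negSucc 11, Int.ofNat 1, Int.negSucc 0, Int.ofNat 0, Int.negSucc 73, Int.negSucc 19, Int.ofNat 2120, Int.negSucc 14, Int.negSucc 303, Int.ofNat 0, Int.negSucc 1842]) (ZT.leaf [Int.ofNat 317, Int.ofNat 164, Int.negSucc 33, Int.ofNat 9, Int.ofNat 1, Int.ofNat 15, Int.ofNat 14, Int.negSucc 14, Int.negSucc 7, Int.ofNat 0, Int.ofNat 0, Int.ofNat 0, Int.ofNat 4, Int.negSucc 0, Int.negSucc 64, Int.ofNat 0, Int.ofNat 6, Int.ofNat 0, Int.ofNat 27])) (ZT.node 5460 (ZT.leaf [Int.ofNat 1, Int.ofNat 1, Int.ofNat 0, Int.ofNat 0, Int.ofNat 0, Int.ofNat 0, Int.ofNat 0, Int.ofNat 0, Int.ofNat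 0, Int.ofNat 0, Int.ofNat 0, Int.ofNat 0, Int.ofNat 0, Int.ofNat 0, Int.ofNat 0, Int.ofNat 0, Int.ofNat 0, Int.ofNat 0, Int.ofNat 0]) (ZT.node 5461 (ZT.leaf [Int.ofNat 1203, Int.ofNat 407, Int.negSucc 290, Int.ofNat 71, Int.ofNat 3, Int.ofNat 140, Int.ofNat 7, Int.negSucc 25, Int.ofNat 2, Int.ofNat 0, Int.ofNat 0, Int.ofNat 0, Int.ofNat 3, Int.ofNat 1, Int.negSucc 142, Int.negSucc 0, Int.ofNat 25, Int.ofNat 0, Int.ofNat 121]) (ZT.leaf [Int.negSucc 7287, Int.negSucc 3938, Int.ofNat 1707, Int.negSucc 636, Int.negSucc 14, Int.negSucc 1081, Int.negSucc 145, Int.ofNat 305, Int.ofNat 36, Int.ofNat 0, Int.ofNat 0, Int.ofNat 0, Int.negSucc 13, Int.negSucc 17, Int.ofNat 1373, Int.ofNat 21, Int.negSucc 166, Int.ofNat 0, Int.negSucc 965])))) (ZT.node 5465 (ZT.node 5463 (ZT.leaf []) (ZT.node 5464 (ZT.leaf []) (ZT.leaf [Int.ofNat 6472, Int.ofNat 2880,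 Int.negSucc 1541, Int.ofNat 481, Int.ofNat 11, Int.ofNat 892, Int.ofNat 107, Int.negSucc 230, Int.negSucc 15, Int.ofNat 0, Int.ofNat 0, Int.ofNat 0, Int.ofNat 7, Int.ofNat 10, Int.negSucc 1049, Int.negSucc 4, Int.ofNat 145, Int.ofNat 0, Int.ofNat 784]))) (ZT.node 5466 (ZT.leaf [Int.ofNat 7013, Int.ofNat 3185, Int.negSucc 1689, Int.ofNat 541, Int.ofNat 13, Int.ofNat 986, Int.ofNat 113, Int.negSucc 258, Int.negSucc 17, Int.ofNat 0, Int.ofNat 0, Int.ofNat 0, Int.ofNat 6, Int.ofNat 11, Int.negSucc 1153, Int.negSucc 5, Int.ofNat 164, Int.ofNat 0, Int.ofNat 864]) (ZT.node 5467 (ZT.leaf [Int.negSucc 20984, Int.negSucc 7636, Int.ofNat 4859, Int.negSucc 1198, Int.negSucc 3, Int.negSucc 2588, Int.negSucc 299, Int.ofNat 503, Int.negSucc 0, Int.ofNat 2, Int.negSucc 0, Int.ofNat 0, Int.negSucc 69, Int.negSucc 44, Int.ofNat 2660, Int.ofNat 6, Int.negSucc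 339, Int.negSucc 0, Int.negSucc 2251]) (ZT.leaf [])))))) (ZT.node 5479 (ZT.node 5473 (ZT.node 5470 (ZT.node 5469 (ZT.leaf []) (ZT.leaf [Int.ofNat 2472, Int.negSucc 1090, Int.negSucc 390, Int.negSucc 304, Int.negSucc 9, Int.negSucc 113, Int.negSucc 12, Int.ofNat 104, Int.ofNat 24, Int.ofNat 0, Int.ofNat 0, Int.ofNat 0, Int.ofNat 30, Int.negSucc 6, Int.ofNat 223, Int.ofNat 31, Int.ofNat 25, Int.ofNat 0, Int.negSucc 52])) (ZT.node 5471 (ZT.leaf [Int.ofNat 1]) (ZT.node 5472 (ZT.leaf []) (ZT.leaf [])))) (ZT.node 5476 (ZT.node 5474 (ZT.leaf []) (ZT.node 5475 (ZT.leaf [Int.negSucc 845, Int.negSucc 268, Int.ofNat 205, Int.negSucc 47, Int.negSucc 1, Int.negSucc 95, Int.negSucc 2, Int.ofNat 16, Int.negSucc 1, Int.ofNat 0, Int.ofNat 0, Int.ofNat 0, Int.negSucc 1, Int.ofNat 0, Int.ofNat 97, Int.ofNat 0, Int.negSucc 19, Int.ofNat 0, Int.negSucc 81])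 (ZT.leaf [Int.ofNat 68, Int.ofNat 124, Int.negSucc 10, Int.ofNat 19, Int.ofNat 1, Int.ofNat 20, Int.ofNat 7, Int.negSucc 13, Int.negSucc 4, Int.ofNat 0, Int.ofNat 0, Int.ofNat 0, Int.negSucc 0, Int.ofNat 0, Int.negSucc 54, Int.negSucc 0, Int.ofNat 7, Int.ofNat 0, Int.ofNat 21]))) (ZT.node 5477 (ZT.leaf []) (ZT.node 5478 (ZT.leaf [Int.ofNat 1]) (ZT.leaf [Int.ofNat 95, Int.ofNat 20, Int.negSucc 28, Int.ofNat 7, Int.ofNat 0, Int.ofNat 14, Int.ofNat 1, Int.negSucc 2, Int.ofNat 1, Int.ofNat 0, Int.ofNat 0, Int.ofNat 0, Int.negSucc 0, Int.ofNat 0, Int.negSucc 6, Int.ofNat 0, Int.ofNat 2, Int.ofNat 0, Int.ofNat 11]))))) (ZT.node 5485 (ZT.node 5482 (ZT.node 5480 (ZT.leaf [Int.negSucc 90, Int.negSucc 15, Int.ofNat 29, Int.negSucc 6, Int.ofNat 0, Int.negSucc 13, Int.negSucc 0, Int.ofNat 3, Int.negSucc 0, Int.ofNat 0, Int.ofNat 0, Int.ofNat 0, Int.ofNat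 1, Int.ofNat 0, Int.ofNat 7, Int.ofNat 0, Int.negSucc 1, Int.ofNat 0, Int.negSucc 10]) (ZT.node 5481 (ZT.leaf []) (ZT.leaf [Int.ofNat 11, Int.ofNat 6, Int.negSucc 1, Int.ofNat 0, Int.ofNat 0, Int.ofNat 1, Int.ofNat 0, Int.negSucc 0, Int.negSucc 0, Int.ofNat 0, Int.ofNat 0, Int.ofNat 0, Int.ofNat 0, Int.ofNat 0, Int.ofNat 0, Int.ofNat 0, Int.ofNat 0, Int.ofNat 0, Int.ofNat 1]))) (ZT.node 5483 (ZT.leaf [Int.negSucc 502, Int.negSucc 131, Int.ofNat 123, Int.negSucc 22, Int.ofNat 0, Int.negSucc 56, Int.negSucc 1, Int.ofNat 8, Int.negSucc 1, Int.ofNat 0, Int.ofNat 0, Int.ofNat 0, Int.negSucc 0, Int.negSucc 0, Int.ofNat 38, Int.ofNat 0, Int.negSucc 9, Int.ofNat 0, Int.negSucc 48]) (ZT.node 5484 (ZT.leaf [Int.negSucc 93, Int.negSucc 24, Int.ofNat 23, Int.negSucc 5, Int.ofNat 0, Int.negSucc 9, Int.negSucc 0, Int.ofNat 0, Int.ofNat 0, Int.ofNat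 0, Int.ofNat 0, Int.ofNat 0, Int.negSucc 0, Int.ofNat 0, Int.ofNat 11, Int.negSucc 0, Int.negSucc 1, Int.ofNat 0, Int.negSucc 8]) (ZT.leaf [Int.ofNat 1])))) (ZT.node 5488 (ZT.node 5486 (ZT.leaf [Int.ofNat 51, Int.negSucc 2, Int.negSucc 13, Int.ofNat 1, Int.ofNat 0, Int.ofNat 4, Int.ofNat 0, Int.ofNat 0, Int.ofNat 1, Int.ofNat 0, Int.ofNat 0, Int.ofNat 0, Int.ofNat 0, Int.ofNat 0, Int.ofNat 3, Int.ofNat 0, Int.ofNat 1, Int.ofNat 0, Int.ofNat 3]) (ZT.node 5487 (ZT.leaf [Int.ofNat 0, Int.negSucc 0]) (ZT.leaf [Int.ofNat 1]))) (ZT.node 5489 (ZT.leaf []) (ZT.node 5490 (ZT.leaf [Int.ofNat 362, Int.negSucc 96, Int.negSucc 78, Int.negSucc 26, Int.negSucc 0, Int.ofNat 9, Int.negSucc 9, Int.ofNat 17, Int.ofNat 9, Int.ofNat 0, Int.ofNat 0, Int.ofNat 0, Int.ofNat 2, Int.ofNat 1, Int.ofNat 62, Int.ofNat 0, Int.ofNat 6, Int.ofNat 0, Int.ofNat 0]) (ZT.leaf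 [Int.negSucc 2359, Int.negSucc 860, Int.ofNat 571, Int.negSucc 146, Int.negSucc 5, Int.negSucc 298, Int.negSucc 23, Int.ofNat 57, Int.negSucc 0, Int.ofNat 0, Int.ofNat 0, Int.ofNat 0, Int.negSucc 3, Int.negSucc 2, Int.ofNat 300, Int.ofNat 2, Int.negSucc 41, Int.ofNat 0, Int.negSucc 252]))))))) (ZT.node 5513 (ZT.node 5502 (ZT.node 5496 (ZT.node 5493 (ZT.node 5492 (ZT.leaf [Int.ofNat 1]) (ZT.leaf [Int.negSucc 13467, Int.negSucc 3402, Int.ofNat 2960, Int.negSucc 422, Int.negSucc 10, Int.negSucc 1315, Int.negSucc 167, Int.ofNat 285, Int.ofNat 12, Int.negSucc 0, Int.ofNat 1, Int.ofNat 0, Int.negSucc 39, Int.negSucc 0, Int.ofNat 1358, Int.negSucc 23, Int.negSucc 268, Int.ofNat 0, Int.negSucc 1202])) (ZT.node 5494 (ZT.leaf []) (ZT.node 5495 (ZT.leaf [Int.ofNat 48, Int.negSucc 3, Int.negSucc 13, Int.ofNat 1, Int.ofNat 0, Int.ofNat 4, Int.ofNat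 0, Int.ofNat 0, Int.ofNat 1, Int.ofNat 0, Int.ofNat 0, Int.ofNat 0, Int.ofNat 0, Int.ofNat 0, Int.ofNat 3, Int.ofNat 0, Int.ofNat 1, Int.ofNat 0, Int.ofNat 3]) (ZT.leaf [Int.ofNat 1])))) (ZT.node 5499 (ZT.node 5497 (ZT.leaf [Int.negSucc 583, Int.ofNat 914, Int.ofNat 104, Int.ofNat 174, Int.ofNat 8, Int.ofNat 119, Int.ofNat 33, Int.negSucc 87, Int.negSucc 28, Int.ofNat 0, Int.ofNat 0, Int.ofNat 0, Int.negSucc 10, Int.ofNat 9, Int.negSucc 306, Int.negSucc 10, Int.ofNat 26, Int.ofNat 0, Int.ofNat 107]) (ZT.node 5498 (ZT.leaf [Int.negSucc 1967, Int.negSucc 2497, Int.ofNat 502, Int.negSucc 441, Int.negSucc 12, Int.negSucc 522, Int.negSucc 90, Int.ofNat 191, Int.ofNat 45, Int.ofNat 0, Int.ofNat 0, Int.ofNat 0, Int.ofNat 1, Int.negSucc 16, Int.ofNat 858, Int.ofNat 19, Int.negSucc 67, Int.ofNat 0, Int.negSucc 466]) (ZT.leaf [Int.ofNat 3553, Int.ofNat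 3555, Int.negSucc 913, Int.ofNat 653, Int.ofNat 17, Int.ofNat 810, Int.ofNat 153, Int.negSucc 299, Int.negSucc 64, Int.negSucc 1, Int.ofNat 0, Int.negSucc 0, Int.ofNat 2, Int.ofNat 12, Int.negSucc 1185, Int.negSucc 24, Int.ofNat 93, Int.negSucc 0, Int.ofNat 718]))) (ZT.node 5500 (ZT.leaf [Int.ofNat 8901, Int.ofNat 1573, Int.negSucc 1760, Int.ofNat 87, Int.ofNat 4, Int.ofNat 536, Int.ofNat 158, Int.negSucc 93, Int.negSucc 41, Int.ofNat 2, Int.negSucc 1, Int.negSucc 0, Int.ofNat 74, Int.negSucc 1, Int.negSucc 1258, Int.ofNat 30, Int.ofNat 130, Int.negSucc 1, Int.ofNat 635]) (ZT.node 5501 (ZT.leaf [Int.ofNat 1]) (ZT.leaf [Int.ofNat 48, Int.negSucc 23, Int.negSucc 13, Int.negSucc 0, Int.ofNat 0, Int.ofNat 1, Int.negSucc 1, Int.ofNat 5, Int.ofNat 2, Int.ofNat 0, Int.ofNat 0, Int.ofNat 0, Int.ofNat 1, Int.ofNat 0, Int.ofNat 17, Int.ofNat 0,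 Int.negSucc 2, Int.ofNat 0, Int.ofNat 0]))))) (ZT.node 5507 (ZT.node 5504 (ZT.node 5503 (ZT.leaf [Int.negSucc 111, Int.ofNat 16, Int.ofNat 25, Int.ofNat 3, Int.ofNat 0, Int.negSucc 1, Int.ofNat 2, Int.negSucc 5, Int.negSucc 1, Int.ofNat 0, Int.ofNat 0, Int.ofNat 0, Int.ofNat 0, Int.ofNat 0, Int.negSucc 19, Int.ofNat 0, Int.ofNat 3, Int.ofNat 0, Int.negSucc 1]) (ZT.leaf [Int.negSucc 22, Int.negSucc 4, Int.ofNat 3, Int.ofNat 1, Int.ofNat 0, Int.ofNat 0, Int.ofNat 0, Int.negSucc 0, Int.ofNat 0, Int.ofNat 0, Int.ofNat 0, Int.ofNat 0, Int.ofNat 0, Int.ofNat 0, Int.ofNat 1, Int.ofNat 0, Int.ofNat 0, Int.ofNat 0, Int.ofNat 0])) (ZT.node 5505 (ZT.leaf [Int.negSucc 2170, Int.negSucc 998, Int.ofNat 526, Int.negSucc 171, Int.negSucc 4, Int.negSucc 298, Int.negSucc 29, Int.ofNat 83, Int.ofNat 8, Int.ofNat 0, Int.ofNat 0, Int.ofNat 0, Int.negSucc 1,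 Int.negSucc 2, Int.ofNat 354, Int.ofNat 2, Int.negSucc 57, Int.ofNat 0, Int.negSucc 266]) (ZT.node 5506 (ZT.leaf [Int.negSucc 482, Int.negSucc 280, Int.ofNat 101, Int.negSucc 38, Int.negSucc 0, Int.negSucc 67, Int.negSucc 13, Int.ofNat 26, Int.ofNat 4, Int.ofNat 0, Int.ofNat 0, Int.ofNat 0, Int.ofNat 0, Int.negSucc 1, Int.ofNat 105, Int.ofNat 1, Int.negSucc 11, Int.ofNat 0, Int.negSucc 64]) (ZT.leaf [Int.negSucc 46, Int.ofNat 24, Int.ofNat 14, Int.ofNat 1, Int.ofNat 0, Int.negSucc 0, Int.ofNat 2, Int.negSucc 4, Int.negSucc 1, Int.ofNat 0, Int.ofNat 0, Int.ofNat 0, Int.negSucc 0, Int.ofNat 0, Int.negSucc 16, Int.ofNat 0, Int.ofNat 3, Int.ofNat 0, Int.ofNat 0])))) (ZT.node 5510 (ZT.node 5508 (ZT.leaf [Int.negSucc 289, Int.ofNat 36, Int.ofNat 83, Int.negSucc 1, Int.ofNat 1, Int.negSucc 23, Int.ofNat 14, Int.negSucc 19, Int.negSucc 13, Int.ofNat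 0, Int.ofNat 0, Int.ofNat 0, Int.ofNat 1, Int.negSucc 2, Int.negSucc 74, Int.ofNat 2, Int.ofNat 10, Int.ofNat 0, Int.negSucc 4]) (ZT.node 5509 (ZT.leaf [Int.ofNat 545, Int.ofNat 307, Int.negSucc 146, Int.ofNat 60, Int.ofNat 2, Int.ofNat 94, Int.ofNat 6, Int.negSucc 27, Int.negSucc 1, Int.ofNat 0, Int.ofNat 0, Int.ofNat 0, Int.negSucc 0, Int.ofNat 1, Int.negSucc 103, Int.negSucc 0, Int.ofNat 19, Int.ofNat 0, Int.ofNat 80]) (ZT.leaf [Int.negSucc 491, Int.negSucc 334, Int.ofNat 146, Int.negSucc 64, Int.ofNat 0, Int.negSucc 105, Int.negSucc 15, Int.ofNat 38, Int.ofNat 5, Int.ofNat 0, Int.ofNat 0, Int.ofNat 0, Int.ofNat 2, Int.ofNat 0, Int.ofNat 123, Int.ofNat 1, Int.negSucc 14, Int.ofNat 0, Int.negSucc 91]))) (ZT.node 5511 (ZT.leaf [Int.ofNat 38, Int.ofNat 11, Int.negSucc 8, Int.ofNat 2, Int.ofNat 0, Int.ofNat 4, Int.ofNat 0, Int.negSucc 0,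 Int.ofNat 0, Int.ofNat 0, Int.ofNat 0, Int.ofNat 0, Int.ofNat 0, Int.ofNat 0, Int.negSucc 3, Int.ofNat 0, Int.ofNat 1, Int.ofNat 0, Int.ofNat 3]) (ZT.node 5512 (ZT.leaf [Int.negSucc 38, Int.negSucc 11, Int.ofNat 9, Int.negSucc 1, Int.ofNat 0, Int.negSucc 3, Int.ofNat 0, Int.ofNat 1, Int.ofNat 0, Int.ofNat 0, Int.ofNat 0, Int.ofNat 0, Int.ofNat 0, Int.ofNat 0, Int.ofNat 4, Int.ofNat 0, Int.negSucc 0, Int.ofNat 0, Int.negSucc 2]) (ZT.leaf [Int.negSucc 1, Int.negSucc 0])))))) (ZT.node 5524 (ZT.node 5518 (ZT.node 5515 (ZT.node 5514 (ZT.leaf []) (ZT.leaf [Int.negSucc 541, Int.negSucc 305, Int.ofNat 147, Int.negSucc 59, Int.negSucc 1, Int.negSucc 93, Int.negSucc 5, Int.ofNat 28, Int.ofNat 2, Int.ofNat 0, Int.ofNat 0, Int.ofNat 0, Int.ofNat 1, Int.negSucc 0, Int.ofNat 104, Int.ofNat 1, Int.negSucc 18, Int.ofNat 0, Int.negSucc 79])) (ZT.node 5516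 (ZT.leaf []) (ZT.node 5517 (ZT.leaf [Int.ofNat 22, Int.negSucc 5, Int.negSucc 11, Int.ofNat 4, Int.ofNat 0, Int.ofNat 10, Int.ofNat 1, Int.ofNat 0, Int.ofNat 2, Int.ofNat 0, Int.ofNat 0, Int.ofNat 0, Int.negSucc 0, Int.ofNat 0, Int.ofNat 7, Int.ofNat 0, Int.negSucc 3, Int.ofNat 0, Int.ofNat 3]) (ZT.leaf [Int.negSucc 220, Int.negSucc 53, Int.ofNat 57, Int.negSucc 9, Int.ofNat 0, Int.negSucc 26, Int.ofNat 0, Int.ofNat 3, Int.negSucc 1, Int.ofNat 0, Int.ofNat 0, Int.ofNat 0, Int.ofNat 0, Int.negSucc 0, Int.ofNat 14, Int.ofNat 0, Int.negSucc 4, Int.ofNat 0, Int.negSucc 22])))) (ZT.node 5521 (ZT.node 5519 (ZT.leaf []) (ZT.node 5520 (ZT.leaf [Int.negSucc 1005, Int.negSucc 603, Int.ofNat 239, Int.negSucc 97, Int.negSucc 1, Int.negSucc 152, Int.negSucc 20, Int.ofNat 48, Int.ofNat 8, Int.ofNat 0, Int.ofNat 0, Int.ofNat 0, Int.negSucc 1, Int.negSucc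 2, Int.ofNat 205, Int.ofNat 3, Int.negSucc 26, Int.ofNat 0, Int.negSucc 140]) (ZT.leaf []))) (ZT.node 5522 (ZT.leaf [Int.negSucc 43, Int.negSucc 36, Int.ofNat 11, Int.negSucc 7, Int.ofNat 0, Int.negSucc 7, Int.negSucc 0, Int.ofNat 3, Int.ofNat 1, Int.ofNat 0, Int.ofNat 0, Int.ofNat 0, Int.ofNat 0, Int.ofNat 0, Int.ofNat 14, Int.ofNat 0, Int.negSucc 1, Int.ofNat 0, Int.negSucc 6]) (ZT.node 5523 (ZT.leaf [Int.ofNat 1]) (ZT.leaf [Int.ofNat 1, Int.ofNat 1]))))) (ZT.node 5530 (ZT.node 5527 (ZT.node 5525 (ZT.leaf []) (ZT.node 5526 (ZT.leaf [Int.negSucc 1047, Int.negSucc 953, Int.ofNat 243, Int.negSucc 156, Int.negSucc 3, Int.negSucc 214, Int.negSucc 43, Int.ofNat 83, Int.ofNat 17, Int.ofNat 1, Int.ofNat 0, Int.ofNat 0, Int.ofNat 0, Int.negSucc 4, Int.ofNat 318, Int.ofNat 6, Int.negSucc 25, Int.ofNat 0, Int.negSucc 195]) (ZT.leaf [Int.ofNat 2206,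 Int.negSucc 390, Int.negSucc 456, Int.negSucc 99, Int.negSucc 1, Int.ofNat 58, Int.negSucc 6, Int.ofNat 47, Int.ofNat 23, Int.ofNat 0, Int.ofNat 0, Int.ofNat 0, Int.ofNat 12, Int.negSucc 6, Int.ofNat 78, Int.ofNat 15, Int.ofNat 12, Int.ofNat 0, Int.ofNat 56]))) (ZT.node 5528 (ZT.leaf [Int.negSucc 1676, Int.negSucc 677, Int.ofNat 390, Int.negSucc 109, Int.negSucc 3, Int.negSucc 218, Int.negSucc 22, Int.ofNat 53, Int.ofNat 2, Int.ofNat 0, Int.ofNat 0, Int.ofNat 0, Int.negSucc 1, Int.negSucc 1, Int.ofNat 243, Int.ofNat 1, Int.negSucc 34, Int.ofNat 0, Int.negSucc 189]) (ZT.node 5529 (ZT.leaf []) (ZT.leaf [Int.negSucc 19133, Int.negSucc 6435, Int.ofNat 4384, Int.negSucc 965, Int.negSucc 20, Int.negSucc 2224, Int.negSucc 252, Int.ofNat 493, Int.ofNat 17, Int.negSucc 0, Int.ofNat 1, Int.ofNat 0, Int.negSucc 45, Int.negSucc 19, Int.ofNat 2353,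 Int.negSucc 6, Int.negSucc 398, Int.ofNat 0, Int.negSucc 1971])))) (ZT.node 5533 (ZT.node 5531 (ZT.leaf []) (ZT.node 5532 (ZT.leaf [Int.negSucc 1051, Int.ofNat 1317, Int.ofNat 143, Int.ofNat 284, Int.ofNat 11, Int.ofNat 137, Int.ofNat 28, Int.negSucc 85, Int.negSucc 28, Int.ofNat 1, Int.negSucc 0, Int.ofNat 0, Int.negSucc 5, Int.ofNat 14, Int.negSucc 374, Int.negSucc 27, Int.negSucc 20, Int.ofNat 0, Int.ofNat 116]) (ZT.leaf []))) (ZT.node 5534 (ZT.leaf [Int.ofNat 18955, Int.ofNat 4243, Int.negSucc 4218, Int.ofNat 554, Int.ofNat 11, Int.ofNat 1833, Int.ofNat 180, Int.negSucc 304, Int.ofNat 29, Int.ofNat 1, Int.ofNat 0, Int.ofNat 0, Int.ofNat 56, Int.negSucc 0, Int.negSucc 1634, Int.ofNat 37, Int.ofNat 349, Int.ofNat 0, Int.ofNat 1617]) (ZT.node 5535 (ZT.leaf [Int.negSucc 21716, Int.negSucc 5931, Int.ofNat 4839, Int.negSucc 787, Int.negSucc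 11, Int.negSucc 2257, Int.negSucc 251, Int.ofNat 455, Int.negSucc 0, Int.ofNat 0, Int.ofNat 0, Int.ofNat 0, Int.negSucc 63, Int.negSucc 10, Int.ofNat 2235, Int.negSucc 30, Int.negSucc 447, Int.ofNat 0, Int.negSucc 2028]) (ZT.leaf [Int.negSucc 8523, Int.negSucc 1211, Int.ofNat 1814, Int.negSucc 74, Int.ofNat 0, Int.negSucc 644, Int.negSucc 80, Int.ofNat 82, Int.negSucc 13, Int.ofNat 0, Int.ofNat 0, Int.ofNat 0, Int.negSucc 35, Int.negSucc 0, Int.ofNat 644, Int.negSucc 31, Int.negSucc 167, Int.ofNat 0, Int.negSucc 616]))))))))))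

end Cfsg.Agent.Helper9.TCData.L34L0
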