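import Cfsg.Agent.Lib.Helper9.LTC

set_option autoImplicit false
set_option maxRecDepth 1000000

namespace Cfsg.Agent.Helper9.TCData.L34L0
open Cfsg.Agent.Helper9.TC2 Cfsg.Agent.Helper9.LTC

noncomputable def labT_12 : ZT := (ZT.node 5716 (ZT.node 5626 (ZT.node 5581 (ZT.node 5558 (ZT.node 5547 (ZT.node 5541 (ZT.node 5538 (ZT.node 5537 (ZT.leaf []) (ZT.leaf [Int.ofNat 10516, Int.ofNat 5508, Int.negSucc 2486, Int.ofNat 925, Int.ofNat 21, Int.ofNat 1511, Int.ofNat 175, Int.negSucc 421, Int.negSucc 35, Int.ofNat 0, Int.ofNat 0, Int.ofNat 0, Int.ofNat 9, Int.ofNat 20, Int.negSucc 1923, Int.negSucc 25, Int.ofNat 282, Int.ofNat 0, Int.ofNat 1359])) (ZT.node 5539 (ZT.leaf [Int.negSucc 7310, Int.negSucc 5131, Int.ofNat 1843, Int.negSucc 919, Int.negSucc 20, Int.negSucc 1299, Int.negSucc 138, Int.ofNat 387, Int.ofNat 43, Int.ofNat 0, Int.ofNat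 0, Int.ofNat 0, Int.ofNat 1, Int.negSucc 24, Int.ofNat 1645, Int.ofNat 37, Int.negSucc 204, Int.ofNat 0, Int.negSucc 1138]) (ZT.node 5540 (ZT.leaf [Int.ofNat 34, Int.negSucc 196, Int.negSucc 28, Int.negSucc 22, Int.negSucc 1, Int.negSucc 12, Int.negSucc 19, Int.ofNat 31, Int.ofNat 16, Int.ofNat 0, Int.ofNat 0, Int.ofNat 0, Int.negSucc 1, Int.ofNat 2, Int.ofNat 130, Int.negSucc 0, Int.negSucc 14, Int.ofNat 0, Int.negSucc 28]) (ZT.leaf [])))) (ZT.node 5544 (ZT.node 5542 (ZT.leaf [Int.negSucc 667, Int.negSucc 225, Int.ofNat 151, Int.negSucc 30, Int.negSucc 0, Int.negSucc 69, Int.ofNat 0, Int.ofNat 6, Int.negSucc 1, Int.ofNat 1, Int.ofNat 0, Int.ofNat 0, Int.negSucc 3, Int.negSucc 1, Int.ofNat 47, Int.ofNat 1, Int.negSucc 8, Int.ofNat 0, Int.negSucc 59]) (ZT.node 5543 (ZT.leaf [Int.ofNat 2, Int.negSucc 0, Int.negSucc 0]) (ZT.leaf [Int.negSucc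 759, Int.negSucc 575, Int.ofNat 182, Int.negSucc 95, Int.negSucc 1, Int.negSucc 132, Int.negSucc 27, Int.ofNat 57, Int.ofNat 13, Int.ofNat 0, Int.ofNat 0, Int.ofNat 0, Int.ofNat 1, Int.negSucc 0, Int.ofNat 210, Int.ofNat 2, Int.negSucc 20, Int.ofNat 0, Int.negSucc 125]))) (ZT.node 5545 (ZT.leaf [Int.negSucc 323, Int.negSucc 188, Int.ofNat 72, Int.negSucc 29, Int.negSucc 0, Int.negSucc 46, Int.negSucc 5, Int.ofNat 12, Int.ofNat 2, Int.ofNat 0, Int.ofNat 0, Int.ofNat 0, Int.negSucc 1, Int.negSucc 0, Int.ofNat 65, Int.ofNat 1, Int.negSucc 6, Int.ofNat 0, Int.negSucc 42]) (ZT.node 5546 (ZT.leaf [Int.negSucc 354, Int.negSucc 224, Int.ofNat 71, Int.negSucc 31, Int.negSucc 1, Int.negSucc 40, Int.negSucc 7, Int.ofNat 13, Int.ofNat 5, Int.ofNat 0, Int.ofNat 0, Int.ofNat 0, Int.negSucc 2, Int.ofNat 0, Int.ofNat 87, Int.ofNat 1, Int.negSucc 9,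 Int.ofNat 0, Int.negSucc 42]) (ZT.leaf [Int.negSucc 1619, Int.negSucc 846, Int.ofNat 382, Int.negSucc 136, Int.negSucc 1, Int.negSucc 233, Int.negSucc 30, Int.ofNat 72, Int.ofNat 10, Int.ofNat 0, Int.ofNat 0, Int.ofNat 0, Int.negSucc 2, Int.negSucc 2, Int.ofNat 294, Int.ofNat 2, Int.negSucc 41, Int.ofNat 0, Int.negSucc 213]))))) (ZT.node 5552 (ZT.node 5549 (ZT.node 5548 (ZT.leaf []) (ZT.leaf [Int.negSucc 438, Int.ofNat 7, Int.ofNat 96, Int.ofNat 1, Int.negSucc 0, Int.negSucc 29, Int.ofNat 0, Int.negSucc 0, Int.negSucc 2, Int.ofNat 0, Int.ofNat 0, Int.ofNat 0, Int.negSucc 0, Int.ofNat 3, Int.ofNat 19, Int.negSucc 2, Int.negSucc 5, Int.ofNat 0, Int.negSucc 21])) (ZT.node 5550 (ZT.leaf []) (ZT.node 5551 (ZT.leaf [Int.negSucc 615, Int.negSucc 379, Int.ofNat 155, Int.negSucc 65, Int.negSucc 0, Int.negSucc 97, Int.negSucc 9, Int.ofNat 31,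 Int.ofNat 5, Int.ofNat 0, Int.ofNat 0, Int.ofNat 0, Int.negSucc 0, Int.negSucc 1, Int.ofNat 123, Int.ofNat 2, Int.negSucc 21, Int.ofNat 0, Int.negSucc 89]) (ZT.leaf [Int.ofNat 491, Int.ofNat 162, Int.negSucc 114, Int.ofNat 26, Int.ofNat 1, Int.ofNat 54, Int.ofNat 4, Int.negSucc 7, Int.ofNat 1, Int.ofNat 0, Int.ofNat 0, Int.ofNat 0, Int.ofNat 2, Int.ofNat 1, Int.negSucc 50, Int.ofNat 0, Int.ofNat 8, Int.ofNat 0, Int.ofNat 48])))) (ZT.node 5555 (ZT.node 5553 (ZT.leaf [Int.negSucc 6763, Int.negSucc 4438, Int.ofNat 1553, Int.negSucc 705, Int.negSucc 15, Int.negSucc 1116, Int.negSucc 251, Int.ofNat 414, Int.ofNat 86, Int.ofNat 1, Int.ofNat 0, Int.ofNat 1, Int.negSucc 9, Int.negSucc 18, Int.ofNat 1680, Int.ofNat 24, Int.negSucc 159, Int.ofNat 1, Int.negSucc 1040]) (ZT.node 5554 (ZT.leaf [Int.ofNat 3388, Int.ofNat 1145, Int.negSucc 723, Int.ofNat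 151, Int.ofNat 0, Int.ofNat 356, Int.ofNat 44, Int.negSucc 65, Int.ofNat 1, Int.negSucc 0, Int.ofNat 1, Int.ofNat 0, Int.ofNat 14, Int.ofNat 6, Int.negSucc 425, Int.ofNat 2, Int.ofNat 66, Int.ofNat 0, Int.ofNat 329]) (ZT.leaf [Int.negSucc 1791, Int.negSucc 339, Int.ofNat 373, Int.negSucc 31, Int.ofNat 0, Int.negSucc 161, Int.negSucc 32, Int.ofNat 46, Int.ofNat 2, Int.ofNat 0, Int.ofNat 0, Int.ofNat 0, Int.negSucc 2, Int.ofNat 2, Int.ofNat 192, Int.negSucc 5, Int.negSucc 37, Int.ofNat 0, Int.negSucc 147]))) (ZT.node 5556 (ZT.leaf [Int.negSucc 56, Int.ofNat 7, Int.ofNat 10, Int.ofNat 4, Int.ofNat 1, Int.ofNat 0, Int.ofNat 1, Int.negSucc 4, Int.negSucc 1, Int.ofNat 0, Int.ofNat 0, Int.ofNat 0, Int.negSucc 0, Int.ofNat 0, Int.ofNat 0, Int.negSucc 0, Int.ofNat 1, Int.ofNat 0, Int.negSucc 0]) (ZT.node 5557 (ZT.leaf [Int.ofNat 1]) (ZT.leaf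 [Int.negSucc 2478, Int.negSucc 858, Int.ofNat 574, Int.negSucc 133, Int.negSucc 2, Int.negSucc 299, Int.negSucc 42, Int.ofNat 78, Int.ofNat 4, Int.ofNat 0, Int.ofNat 0, Int.ofNat 0, Int.negSucc 2, Int.negSucc 0, Int.ofNat 366, Int.negSucc 2, Int.negSucc 52, Int.ofNat 0, Int.negSucc 266])))))) (ZT.node 5569 (ZT.node 5563 (ZT.node 5560 (ZT.node 5559 (ZT.leaf [Int.negSucc 97, Int.negSucc 33, Int.ofNat 22, Int.negSucc 5, Int.ofNat 0, Int.negSucc 9, Int.negSucc 0, Int.ofNat 0, Int.ofNat 0, Int.ofNat 0, Int.ofNat 0, Int.ofNat 0, Int.negSucc 0, Int.ofNat 0, Int.ofNat 11, Int.negSucc 0, Int.negSucc 1, Int.ofNat 0, Int.negSucc 8]) (ZT.leaf [Int.ofNat 1516, Int.ofNat 914, Int.negSucc 348, Int.ofNat 147, Int.ofNat 2, Int.ofNat 228, Int.ofNat 38, Int.negSucc 78, Int.negSucc 14, Int.ofNat 0, Int.ofNat 0, Int.ofNat 0, Int.ofNat 2, Int.ofNat 2, Int.negSucc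 318, Int.negSucc 2, Int.ofNat 35, Int.ofNat 0, Int.ofNat 211])) (ZT.node 5561 (ZT.leaf []) (ZT.node 5562 (ZT.leaf []) (ZT.leaf [Int.negSucc 906, Int.ofNat 110, Int.ofNat 189, Int.ofNat 44, Int.ofNat 6, Int.negSucc 36, Int.negSucc 0, Int.negSucc 10, Int.negSucc 6, Int.ofNat 0, Int.ofNat 0, Int.ofNat 0, Int.negSucc 7, Int.ofNat 0, Int.negSucc 40, Int.negSucc 3, Int.negSucc 1, Int.ofNat 0, Int.negSucc 37])))) (ZT.node 5566 (ZT.node 5564 (ZT.leaf []) (ZT.node 5565 (ZT.leaf []) (ZT.leaf [Int.ofNat 1776, Int.ofNat 696, Int.negSucc 417, Int.ofNat 115, Int.ofNat 4, Int.ofNat 232, Int.ofNat 23, Int.negSucc 53, Int.negSucc 0, Int.ofNat 0, Int.ofNat 0, Int.ofNat 0, Int.ofNat 2, Int.ofNat 2, Int.negSucc 249, Int.negSucc 0, Int.ofNat 38, Int.ofNat 0, Int.ofNat 201]))) (ZT.node 5567 (ZT.leaf [Int.ofNat 1]) (ZT.node 5568 (ZT.leaf [Int.ofNat 14586,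 Int.ofNat 3021, Int.negSucc 3242, Int.ofNat 393, Int.negSucc 5, Int.ofNat 1376, Int.ofNat 147, Int.negSucc 182, Int.ofNat 37, Int.negSucc 0, Int.ofNat 0, Int.negSucc 0, Int.ofNat 62, Int.ofNat 11, Int.negSucc 1220, Int.ofNat 24, Int.ofNat 198, Int.negSucc 1, Int.ofNat 1218]) (ZT.leaf [Int.negSucc 14318, Int.negSucc 1769, Int.ofNat 3011, Int.negSucc 87, Int.ofNat 17, Int.negSucc 976, Int.negSucc 169, Int.ofNat 41, Int.negSucc 20, Int.negSucc 0, Int.ofNat 2, Int.ofNat 2, Int.negSucc 106, Int.negSucc 8, Int.ofNat 1265, Int.negSucc 37, Int.negSucc 136, Int.ofNat 3, Int.negSucc 969]))))) (ZT.node 5575 (ZT.node 5572 (ZT.node 5570 (ZT.leaf [Int.ofNat 6871, Int.ofNat 4986, Int.negSucc 1757, Int.ofNat 898, Int.ofNat 19, Int.ofNat 1265, Int.ofNat 139, Int.negSucc 391, Int.negSucc 45, Int.ofNat 0, Int.ofNat 0, Int.ofNat 0, Int.negSucc 5, Int.ofNat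 22, Int.negSucc 1619, Int.negSucc 35, Int.ofNat 206, Int.ofNat 0, Int.ofNat 1108]) (ZT.node 5571 (ZT.leaf [Int.ofNat 1, Int.ofNat 1]) (ZT.leaf []))) (ZT.node 5573 (ZT.leaf [Int.negSucc 131, Int.negSucc 40, Int.ofNat 35, Int.negSucc 6, Int.ofNat 0, Int.negSucc 16, Int.ofNat 0, Int.ofNat 3, Int.negSucc 0, Int.ofNat 0, Int.ofNat 0, Int.ofNat 0, Int.ofNat 0, Int.negSucc 0, Int.ofNat 12, Int.ofNat 0, Int.negSucc 2, Int.ofNat 0, Int.negSucc 14]) (ZT.node 5574 (ZT.leaf []) (ZT.leaf [Int.negSucc 1925, Int.negSucc 1693, Int.ofNat 456, Int.negSucc 272, Int.negSucc 7, Int.negSucc 345, Int.negSucc 22, Int.ofNat 95, Int.ofNat 15, Int.ofNat 0, Int.ofNat 0, Int.negSucc 0, Int.negSucc 6, Int.negSucc 16, Int.ofNat 434, Int.ofNat 19, Int.negSucc 71, Int.negSucc 0, Int.negSucc 325])))) (ZT.node 5578 (ZT.node 5576 (ZT.leaf []) (ZT.node 5577 (ZT.leaf [])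 (ZT.leaf [Int.ofNat 585, Int.negSucc 913, Int.negSucc 103, Int.negSucc 173, Int.negSucc 7, Int.negSucc 118, Int.negSucc 32, Int.ofNat 88, Int.ofNat 29, Int.ofNat 0, Int.ofNat 0, Int.ofNat 0, Int.ofNat 11, Int.negSucc 8, Int.ofNat 307, Int.ofNat 11, Int.negSucc 25, Int.ofNat 0, Int.negSucc 106]))) (ZT.node 5579 (ZT.leaf []) (ZT.node 5580 (ZT.leaf [Int.ofNat 325, Int.ofNat 189, Int.negSucc 71, Int.ofNat 30, Int.ofNat 1, Int.ofNat 47, Int.ofNat 6, Int.negSucc 11, Int.negSucc 1, Int.ofNat 0, Int.ofNat 0, Int.ofNat 0, Int.ofNat 2, Int.ofNat 1, Int.negSucc 64, Int.negSucc 0, Int.ofNat 7, Int.ofNat 0, Int.ofNat 43]) (ZT.leaf [Int.ofNat 270, Int.ofNat 66, Int.negSucc 70, Int.ofNat 14, Int.ofNat 0, Int.ofNat 37, Int.ofNat 1, Int.negSucc 3, Int.ofNat 3, Int.ofNat 0, Int.ofNat 0, Int.ofNat 0, Int.ofNat 0, Int.ofNat 1, Int.negSucc 13, Int.ofNat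 0, Int.ofNat 1, Int.ofNat 0, Int.ofNat 28]))))))) (ZT.node 5603 (ZT.node 5592 (ZT.node 5586 (ZT.node 5583 (ZT.node 5582 (ZT.leaf [Int.ofNat 2, Int.ofNat 3, Int.ofNat 0, Int.ofNat 0, Int.ofNat 0, Int.ofNat 0, Int.ofNat 0, Int.ofNat 0, Int.ofNat 0, Int.ofNat 0, Int.ofNat 0, Int.ofNat 0, Int.ofNat 0, Int.ofNat 0, Int.negSucc 0]) (ZT.leaf [])) (ZT.node 5584 (ZT.leaf [Int.ofNat 906, Int.ofNat 580, Int.negSucc 208, Int.ofNat 95, Int.ofNat 2, Int.ofNat 143, Int.ofNat 23, Int.negSucc 42, Int.negSucc 7, Int.ofNat 0, Int.ofNat 0, Int.ofNat 0, Int.ofNat 2, Int.ofNat 3, Int.negSucc 187, Int.negSucc 2, Int.ofNat 18, Int.ofNat 0, Int.ofNat 130]) (ZT.node 5585 (ZT.leaf [Int.ofNat 1]) (ZT.leaf [])))) (ZT.node 5589 (ZT.node 5587 (ZT.leaf [Int.ofNat 1]) (ZT.node 5588 (ZT.leaf [Int.negSucc 1, Int.negSucc 0]) (ZT.leaf [Int.ofNat 1]))) (ZT.node 5590 (ZT.leaf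 [Int.negSucc 94, Int.negSucc 32, Int.ofNat 21, Int.negSucc 3, Int.ofNat 0, Int.negSucc 9, Int.ofNat 0, Int.ofNat 0, Int.ofNat 0, Int.ofNat 0, Int.ofNat 0, Int.ofNat 0, Int.negSucc 0, Int.ofNat 0, Int.ofNat 11, Int.ofNat 0, Int.negSucc 1, Int.ofNat 0, Int.negSucc 8]) (ZT.node 5591 (ZT.leaf [Int.ofNat 511, Int.ofNat 161, Int.negSucc 120, Int.ofNat 27, Int.ofNat 0, Int.ofNat 62, Int.ofNat 4, Int.negSucc 9, Int.ofNat 2, Int.ofNat 0, Int.ofNat 0, Int.ofNat 0, Int.ofNat 1, Int.ofNat 1, Int.negSucc 44, Int.ofNat 0, Int.ofNat 7, Int.ofNat 0, Int.ofNat 52]) (ZT.leaf [Int.negSucc 1919, Int.negSucc 757, Int.ofNat 450, Int.negSucc 123, Int.negSucc 3, Int.negSucc 240, Int.negSucc 24, Int.ofNat 59, Int.ofNat 3, Int.ofNat 0, Int.ofNat 0, Int.ofNat 0, Int.negSucc 2, Int.negSucc 1, Int.ofNat 270, Int.ofNat 1, Int.negSucc 39, Int.ofNat 0, Int.negSucc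 212]))))) (ZT.node 5597 (ZT.node 5594 (ZT.node 5593 (ZT.leaf [Int.ofNat 621, Int.ofNat 79, Int.negSucc 133, Int.negSucc 4, Int.negSucc 3, Int.ofNat 41, Int.negSucc 2, Int.ofNat 9, Int.ofNat 3, Int.ofNat 0, Int.ofNat 0, Int.ofNat 0, Int.ofNat 6, Int.ofNat 0, Int.negSucc 12, Int.ofNat 3, Int.ofNat 12, Int.ofNat 0, Int.ofNat 43]) (ZT.leaf [Int.ofNat 1])) (ZT.node 5595 (ZT.leaf [Int.negSucc 21, Int.negSucc 12, Int.ofNat 24, Int.negSucc 11, Int.negSucc 0, Int.negSucc 21, Int.negSucc 1, Int.ofNat 4, Int.negSucc 2, Int.ofNat 0, Int.ofNat 0, Int.ofNat 0, Int.ofNat 4, Int.negSucc 0, Int.negSucc 1, Int.ofNat 1, Int.ofNat 4, Int.ofNat 0, Int.negSucc 10]) (ZT.node 5596 (ZT.leaf [Int.ofNat 1]) (ZT.leaf [Int.ofNat 268, Int.ofNat 114, Int.negSucc 74, Int.ofNat 28, Int.ofNat 1, Int.ofNat 48, Int.ofNat 6, Int.negSucc 11, Int.ofNat 2, Int.ofNat 1, Int.ofNat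 0, Int.ofNat 0, Int.negSucc 2, Int.ofNat 1, Int.negSucc 32, Int.negSucc 0, Int.ofNat 1, Int.ofNat 0, Int.ofNat 36])))) (ZT.node 5600 (ZT.node 5598 (ZT.leaf [Int.ofNat 18, Int.negSucc 8, Int.negSucc 7, Int.ofNat 1, Int.ofNat 0, Int.ofNat 3, Int.negSucc 0, Int.negSucc 0, Int.ofNat 1, Int.ofNat 0, Int.ofNat 0, Int.ofNat 0, Int.negSucc 0, Int.ofNat 0, Int.ofNat 4, Int.ofNat 0, Int.ofNat 1, Int.ofNat 0, Int.ofNat 2]) (ZT.node 5599 (ZT.leaf [Int.negSucc 138, Int.negSucc 56, Int.ofNat 21, Int.negSucc 4, Int.ofNat 0, Int.negSucc 7, Int.negSucc 2, Int.negSucc 0, Int.ofNat 2, Int.ofNat 0, Int.ofNat 0, Int.ofNat 0, Int.negSucc 2, Int.ofNat 0, Int.ofNat 23, Int.negSucc 0, Int.negSucc 0, Int.ofNat 0, Int.negSucc 9]) (ZT.leaf [Int.ofNat 1]))) (ZT.node 5601 (ZT.leaf [Int.negSucc 0, Int.negSucc 0]) (ZT.node 5602 (ZT.leaf [Int.negSucc 405, Int.negSucc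 200, Int.ofNat 89, Int.negSucc 31, Int.negSucc 0, Int.negSucc 55, Int.negSucc 5, Int.ofNat 13, Int.ofNat 1, Int.ofNat 0, Int.ofNat 0, Int.ofNat 0, Int.negSucc 0, Int.negSucc 0, Int.ofNat 62, Int.ofNat 1, Int.negSucc 5, Int.ofNat 0, Int.negSucc 47]) (ZT.leaf [])))))) (ZT.node 5614 (ZT.node 5608 (ZT.node 5605 (ZT.node 5604 (ZT.leaf [Int.negSucc 304, Int.negSucc 112, Int.ofNat 89, Int.negSucc 26, Int.negSucc 0, Int.negSucc 51, Int.negSucc 4, Int.ofNat 12, Int.negSucc 1, Int.ofNat 0, Int.ofNat 0, Int.ofNat 0, Int.ofNat 3, Int.negSucc 0, Int.ofNat 33, Int.ofNat 1, Int.negSucc 2, Int.ofNat 0, Int.negSucc 38]) (ZT.leaf [Int.ofNat 3, Int.ofNat 4, Int.ofNat 1, Int.ofNat 0, Int.ofNat 0, Int.ofNat 0, Int.ofNat 1, Int.ofNat 0, Int.ofNat 0, Int.ofNat 0, Int.ofNat 0, Int.ofNat 0, Int.ofNat 0, Int.ofNat 0, Int.negSucc 0])) (ZT.node 5606 (ZT.leaf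 [Int.ofNat 11, Int.negSucc 4, Int.negSucc 0, Int.negSucc 0, Int.ofNat 0, Int.ofNat 0, Int.negSucc 0, Int.ofNat 1, Int.ofNat 1, Int.ofNat 1, Int.ofNat 0, Int.ofNat 0, Int.ofNat 0, Int.ofNat 0, Int.ofNat 7, Int.ofNat 0, Int.ofNat 0, Int.ofNat 0, Int.negSucc 0]) (ZT.node 5607 (ZT.leaf [Int.negSucc 5, Int.ofNat 10, Int.ofNat 2, Int.ofNat 1, Int.ofNat 0, Int.ofNat 0, Int.ofNat 1, Int.negSucc 0, Int.negSucc 0, Int.ofNat 0, Int.ofNat 0, Int.ofNat 0, Int.ofNat 0, Int.ofNat 0, Int.negSucc 6, Int.ofNat 0, Int.ofNat 0, Int.ofNat 0, Int.ofNat 1]) (ZT.leaf [Int.ofNat 7, Int.ofNat 4, Int.negSucc 0, Int.ofNat 0, Int.ofNat 0, Int.ofNat 0, Int.ofNat 0, Int.negSucc 0, Int.ofNat 0, Int.ofNat 0, Int.ofNat 0, Int.ofNat 0, Int.ofNat 0, Int.ofNat 0, Int.ofNat 0, Int.ofNat 0, Int.ofNat 0, Int.ofNat 0, Int.ofNat 0])))) (ZT.node 5611 (ZT.node 5609 (ZT.leaf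 [Int.ofNat 79, Int.negSucc 2, Int.negSucc 13, Int.negSucc 3, Int.negSucc 0, Int.ofNat 2, Int.negSucc 0, Int.ofNat 3, Int.ofNat 1, Int.ofNat 0, Int.ofNat 0, Int.ofNat 0, Int.ofNat 1, Int.ofNat 0, Int.ofNat 1, Int.ofNat 1, Int.ofNat 0, Int.ofNat 0, Int.ofNat 2]) (ZT.node 5610 (ZT.leaf []) (ZT.leaf [Int.ofNat 9, Int.ofNat 3, Int.negSucc 0, Int.ofNat 0, Int.negSucc 0, Int.ofNat 0, Int.ofNat 0, Int.negSucc 0, Int.ofNat 0, Int.ofNat 0, Int.ofNat 0, Int.ofNat 0, Int.ofNat 0, Int.ofNat 0, Int.ofNat 0, Int.ofNat 0, Int.ofNat 0, Int.ofNat 0, Int.ofNat 0]))) (ZT.node 5612 (ZT.leaf []) (ZT.node 5613 (ZT.leaf [Int.ofNat 251, Int.ofNat 103, Int.negSucc 58, Int.ofNat 16, Int.ofNat 0, Int.ofNat 32, Int.ofNat 4, Int.negSucc 9, Int.negSucc 0, Int.ofNat 0, Int.ofNat 0, Int.ofNat 0, Int.ofNat 0, Int.ofNat 1, Int.negSucc 36, Int.ofNat 0, Int.ofNat 6, Int.ofNat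 0, Int.ofNat 29]) (ZT.leaf [Int.negSucc 2, Int.negSucc 3, Int.ofNat 0, Int.ofNat 0, Int.ofNat 0, Int.ofNat 0, Int.ofNat 0, Int.ofNat 0, Int.ofNat 0, Int.negSucc 0, Int.ofNat 0]))))) (ZT.node 5620 (ZT.node 5617 (ZT.node 5615 (ZT.leaf [Int.ofNat 1, Int.ofNat 0, Int.ofNat 0, Int.ofNat 0, Int.ofNat 0, Int.ofNat 0, Int.ofNat 0, Int.ofNat 0, Int.ofNat 0, Int.ofNat 1]) (ZT.node 5616 (ZT.leaf [Int.ofNat 17, Int.negSucc 7, Int.negSucc 5, Int.ofNat 0, Int.ofNat 0, Int.ofNat 1, Int.ofNat 0, Int.ofNat 1, Int.ofNat 1, Int.ofNat 0, Int.ofNat 0, Int.ofNat 0, Int.ofNat 0, Int.ofNat 0, Int.ofNat 2, Int.ofNat 0, Int.ofNat 0, Int.ofNat 0, Int.ofNat 1]) (ZT.leaf [Int.ofNat 3, Int.ofNat 3, Int.negSucc 0, Int.ofNat 0, Int.ofNat 0, Int.ofNat 1, Int.ofNat 0, Int.negSucc 0, Int.ofNat 0, Int.ofNat 0, Int.ofNat 0, Int.ofNat 0, Int.ofNat 0, Int.ofNat 0, Int.ofNat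 0, Int.ofNat 0, Int.ofNat 0, Int.ofNat 0, Int.ofNat 0]))) (ZT.node 5618 (ZT.leaf []) (ZT.node 5619 (ZT.leaf [Int.ofNat 2, Int.ofNat 2]) (ZT.leaf [Int.negSucc 104, Int.negSucc 35, Int.ofNat 26, Int.negSucc 1, Int.ofNat 0, Int.negSucc 11, Int.ofNat 0, Int.ofNat 1, Int.ofNat 0, Int.ofNat 1, Int.ofNat 0, Int.ofNat 0, Int.negSucc 0, Int.ofNat 0, Int.ofNat 10, Int.ofNat 0, Int.negSucc 2, Int.ofNat 0, Int.negSucc 9])))) (ZT.node 5623 (ZT.node 5621 (ZT.leaf [Int.negSucc 10, Int.negSucc 0, Int.ofNat 2, Int.ofNat 3, Int.ofNat 0, Int.negSucc 0, Int.ofNat 0, Int.negSucc 0, Int.ofNat 0, Int.ofNat 0, Int.ofNat 0, Int.ofNat 0, Int.negSucc 0, Int.ofNat 0, Int.ofNat 2, Int.ofNat 0, Int.negSucc 1, Int.ofNat 0, Int.negSucc 0]) (ZT.node 5622 (ZT.leaf [Int.ofNat 1315, Int.ofNat 871, Int.negSucc 376, Int.ofNat 173, Int.negSucc 0, Int.ofNat 265, Int.ofNat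 18, Int.negSucc 47, Int.ofNat 6, Int.ofNat 1, Int.ofNat 0, Int.ofNat 0, Int.ofNat 1, Int.ofNat 11, Int.negSucc 242, Int.negSucc 10, Int.ofNat 17, Int.ofNat 0, Int.ofNat 211]) (ZT.leaf [Int.negSucc 1, Int.negSucc 2]))) (ZT.node 5624 (ZT.leaf [Int.negSucc 2552, Int.negSucc 743, Int.ofNat 636, Int.negSucc 140, Int.negSucc 3, Int.negSucc 324, Int.negSucc 32, Int.ofNat 69, Int.negSucc 5, Int.ofNat 0, Int.ofNat 0, Int.ofNat 0, Int.ofNat 1, Int.negSucc 0, Int.ofNat 279, Int.negSucc 0, Int.negSucc 44, Int.ofNat 0, Int.negSucc 269]) (ZT.node 5625 (ZT.leaf [Int.ofNat 1]) (ZT.leaf [Int.negSucc 320, Int.negSucc 74, Int.ofNat 82, Int.negSucc 15, Int.ofNat 0, Int.negSucc 37, Int.ofNat 0, Int.ofNat 5, Int.negSucc 2, Int.negSucc 0, Int.ofNat 0, Int.ofNat 0, Int.ofNat 0, Int.negSucc 0, Int.ofNat 19, Int.ofNat 0, Int.negSucc 5, Int.ofNat 0, Int.negSucc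 29])))))))) (ZT.node 5671 (ZT.node 5648 (ZT.node 5637 (ZT.node 5631 (ZT.node 5628 (ZT.node 5627 (ZT.leaf [Int.negSucc 29, Int.ofNat 4, Int.ofNat 8, Int.negSucc 0, Int.ofNat 0, Int.negSucc 2, Int.ofNat 0, Int.ofNat 0, Int.negSucc 0, Int.negSucc 0, Int.ofNat 0, Int.ofNat 0, Int.ofNat 0, Int.ofNat 0, Int.negSucc 1, Int.ofNat 0, Int.negSucc 0, Int.ofNat 0, Int.negSucc 1]) (ZT.leaf [Int.ofNat 1])) (ZT.node 5629 (ZT.leaf []) (ZT.node 5630 (ZT.leaf []) (ZT.leaf [Int.ofNat 3, Int.ofNat 4, Int.ofNat 1, Int.ofNat 0, Int.ofNat 0, Int.ofNat 0, Int.ofNat 0, Int.ofNat 0, Int.ofNat 0, Int.ofNat 1, Int.ofNat 0, Int.ofNat 0, Int.ofNat 0, Int.ofNat 0, Int.ofNat 0, Int.ofNat 0, Int.ofNat 2, Int.ofNat 0, Int.ofNat 0])))) (ZT.node 5634 (ZT.node 5632 (ZT.leaf []) (ZT.node 5633 (ZT.leaf [Int.negSucc 1, Int.negSucc 0, Int.ofNat 0, Int.ofNat 0, Int.ofNat 0,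 Int.ofNat 0, Int.ofNat 0, Int.ofNat 0, Int.ofNat 0, Int.ofNat 0, Int.ofNat 0, Int.ofNat 0, Int.ofNat 0, Int.ofNat 0, Int.ofNat 0, Int.ofNat 0, Int.ofNat 1]) (ZT.leaf [Int.ofNat 115, Int.negSucc 8, Int.negSucc 29, Int.negSucc 0, Int.negSucc 0, Int.ofNat 6, Int.negSucc 1, Int.ofNat 4, Int.ofNat 3, Int.ofNat 0, Int.ofNat 0, Int.ofNat 0, Int.ofNat 1, Int.ofNat 0, Int.ofNat 2, Int.ofNat 1, Int.ofNat 2, Int.ofNat 0, Int.ofNat 6]))) (ZT.node 5635 (ZT.leaf []) (ZT.node 5636 (ZT.leaf []) (ZT.leaf [Int.ofNat 2169, Int.ofNat 1490, Int.negSucc 512, Int.ofNat 254, Int.ofNat 4, Int.ofNat 364, Int.ofNat 57, Int.negSucc 98, Int.negSucc 17, Int.ofNat 0, Int.ofNat 0, Int.ofNat 0, Int.ofNat 8, Int.ofNat 8, Int.negSucc 523, Int.negSucc 7, Int.ofNat 37, Int.ofNat 0, Int.ofNat 328]))))) (ZT.node 5642 (ZT.node 5639 (ZT.node 5638 (ZT.leaf [Int.ofNat 2, Int.ofNat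 0, Int.negSucc 0, Int.ofNat 0, Int.ofNat 0, Int.ofNat 0, Int.ofNat 0, Int.ofNat 0, Int.ofNat 0, Int.ofNat 0, Int.ofNat 0, Int.ofNat 0, Int.ofNat 0, Int.ofNat 0, Int.ofNat 0, Int.ofNat 0, Int.ofNat 1, Int.ofNat 0, Int.ofNat 0]) (ZT.leaf [])) (ZT.node 5640 (ZT.leaf [Int.negSucc 93, Int.negSucc 33, Int.ofNat 21, Int.negSucc 3, Int.ofNat 0, Int.negSucc 9, Int.ofNat 0, Int.ofNat 1, Int.ofNat 0, Int.ofNat 0, Int.ofNat 0, Int.ofNat 0, Int.negSucc 0, Int.ofNat 0, Int.ofNat 11, Int.ofNat 0, Int.negSucc 1, Int.ofNat 0, Int.negSucc 8]) (ZT.node 5641 (ZT.leaf []) (ZT.leaf [])))) (ZT.node 5645 (ZT.node 5643 (ZT.leaf []) (ZT.node 5644 (ZT.leaf [Int.ofNat 174, Int.ofNat 55, Int.negSucc 47, Int.ofNat 15, Int.ofNat 0, Int.ofNat 32, Int.ofNat 3, Int.negSucc 8, Int.ofNat 1, Int.ofNat 0, Int.ofNat 0, Int.ofNat 0, Int.negSucc 1, Int.ofNat 0, Int.negSucc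 6, Int.negSucc 0, Int.ofNat 7, Int.ofNat 0, Int.ofNat 22]) (ZT.leaf [Int.negSucc 184, Int.negSucc 96, Int.ofNat 62, Int.negSucc 23, Int.negSucc 0, Int.negSucc 35, Int.ofNat 2, Int.ofNat 12, Int.ofNat 1, Int.ofNat 0, Int.ofNat 0, Int.ofNat 0, Int.ofNat 1, Int.ofNat 0, Int.ofNat 33, Int.ofNat 0, Int.negSucc 13, Int.ofNat 0, Int.negSucc 30]))) (ZT.node 5646 (ZT.leaf [Int.ofNat 12, Int.ofNat 2, Int.negSucc 5, Int.ofNat 2, Int.ofNat 0, Int.ofNat 2, Int.ofNat 0, Int.negSucc 0, Int.ofNat 0, Int.ofNat 0, Int.ofNat 0, Int.ofNat 0, Int.ofNat 0, Int.ofNat 0, Int.negSucc 0, Int.ofNat 0, Int.ofNat 2, Int.ofNat 0, Int.ofNat 2]) (ZT.node 5647 (ZT.leaf [Int.negSucc 55, Int.ofNat 9, Int.ofNat 10, Int.ofNat 4, Int.ofNat 1, Int.ofNat 0, Int.ofNat 2, Int.negSucc 4, Int.negSucc 1, Int.ofNat 0, Int.ofNat 0, Int.ofNat 0, Int.negSucc 0, Int.ofNat 0, Int.ofNat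 0, Int.negSucc 0, Int.ofNat 1, Int.ofNat 0, Int.negSucc 0]) (ZT.leaf [Int.ofNat 25, Int.negSucc 6, Int.negSucc 9, Int.ofNat 1, Int.ofNat 0, Int.ofNat 2, Int.ofNat 0, Int.ofNat 0, Int.ofNat 1, Int.ofNat 0, Int.ofNat 0, Int.ofNat 0, Int.ofNat 0, Int.ofNat 0, Int.ofNat 4, Int.ofNat 0, Int.ofNat 2, Int.ofNat 0, Int.ofNat 2])))))) (ZT.node 5659 (ZT.node 5653 (ZT.node 5650 (ZT.node 5649 (ZT.leaf [Int.ofNat 197, Int.ofNat 246, Int.negSucc 82, Int.ofNat 60, Int.ofNat 2, Int.ofNat 76, Int.ofNat 4, Int.negSucc 13, Int.ofNat 2, Int.ofNat 1, Int.ofNat 0, Int.ofNat 0, Int.negSucc 1, Int.ofNat 3, Int.negSucc 63, Int.negSucc 3, Int.ofNat 4, Int.ofNat 0, Int.ofNat 56]) (ZT.leaf [])) (ZT.node 5651 (ZT.leaf [Int.negSucc 94, Int.negSucc 20, Int.ofNat 21, Int.negSucc 1, Int.ofNat 0, Int.negSucc 9, Int.ofNat 1, Int.negSucc 0, Int.negSucc 0, Int.ofNat 0,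 Int.ofNat 0, Int.ofNat 0, Int.negSucc 0, Int.ofNat 0, Int.ofNat 4, Int.ofNat 0, Int.negSucc 0, Int.ofNat 0, Int.negSucc 7]) (ZT.node 5652 (ZT.leaf [Int.negSucc 47, Int.ofNat 2, Int.ofNat 14, Int.negSucc 0, Int.ofNat 0, Int.negSucc 3, Int.ofNat 0, Int.ofNat 0, Int.negSucc 0, Int.ofNat 0, Int.ofNat 0, Int.ofNat 0, Int.ofNat 0, Int.ofNat 0, Int.negSucc 2, Int.ofNat 0, Int.negSucc 0, Int.ofNat 0, Int.negSucc 2]) (ZT.leaf [Int.ofNat 1])))) (ZT.node 5656 (ZT.node 5654 (ZT.leaf [Int.negSucc 24, Int.ofNat 6, Int.ofNat 9, Int.negSucc 0, Int.ofNat 0, Int.negSucc 2, Int.ofNat 0, Int.ofNat 0, Int.negSucc 0, Int.ofNat 0, Int.ofNat 0, Int.ofNat 0, Int.ofNat 0, Int.ofNat 0, Int.negSucc 1, Int.ofNat 0, Int.negSucc 0, Int.ofNat 0, Int.negSucc 1]) (ZT.node 5655 (ZT.leaf [Int.ofNat 1]) (ZT.leaf [Int.negSucc 836, Int.negSucc 257, Int.ofNat 209, Int.negSucc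 45, Int.negSucc 0, Int.negSucc 103, Int.negSucc 5, Int.ofNat 18, Int.negSucc 1, Int.ofNat 0, Int.ofNat 0, Int.ofNat 0, Int.negSucc 0, Int.negSucc 0, Int.ofNat 75, Int.ofNat 0, Int.negSucc 13, Int.ofNat 0, Int.negSucc 86]))) (ZT.node 5657 (ZT.leaf [Int.negSucc 929, Int.negSucc 284, Int.ofNat 232, Int.negSucc 49, Int.negSucc 0, Int.negSucc 113, Int.negSucc 5, Int.ofNat 19, Int.negSucc 1, Int.ofNat 1, Int.ofNat 0, Int.ofNat 0, Int.negSucc 1, Int.negSucc 0, Int.ofNat 86, Int.ofNat 0, Int.negSucc 14, Int.ofNat 0, Int.negSucc 95]) (ZT.node 5658 (ZT.leaf [Int.ofNat 129, Int.ofNat 529, Int.negSucc 70, Int.ofNat 110, Int.ofNat 7, Int.ofNat 91, Int.ofNat 12, Int.negSucc 43, Int.negSucc 8, Int.ofNat 0, Int.ofNat 0, Int.negSucc 0, Int.negSucc 5, Int.ofNat 7, Int.negSucc 189, Int.negSucc 9, Int.ofNat 25, Int.ofNat 0, Int.ofNat 86]) (ZT.leaf [])))))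 (ZT.node 5665 (ZT.node 5662 (ZT.node 5660 (ZT.leaf [Int.ofNat 1]) (ZT.node 5661 (ZT.leaf []) (ZT.leaf [Int.ofNat 194, Int.negSucc 372, Int.ofNat 6, Int.negSucc 87, Int.negSucc 4, Int.negSucc 67, Int.ofNat 0, Int.ofNat 29, Int.ofNat 5, Int.ofNat 0, Int.ofNat 0, Int.ofNat 1, Int.ofNat 7, Int.negSucc 5, Int.ofNat 109, Int.ofNat 7, Int.negSucc 19, Int.ofNat 0, Int.negSucc 53]))) (ZT.node 5663 (ZT.leaf [Int.ofNat 110, Int.ofNat 21, Int.negSucc 27, Int.ofNat 4, Int.ofNat 0, Int.ofNat 11, Int.ofNat 0, Int.negSucc 0, Int.ofNat 1, Int.ofNat 0, Int.ofNat 0, Int.ofNat 0, Int.ofNat 0, Int.ofNat 0, Int.negSucc 3, Int.ofNat 0, Int.ofNat 1, Int.ofNat 0, Int.ofNat 9]) (ZT.node 5664 (ZT.leaf []) (ZT.leaf [Int.ofNat 12838, Int.ofNat 1181, Int.negSucc 2735, Int.negSucc 11, Int.negSucc 7, Int.ofNat 891, Int.ofNat 99, Int.negSucc 39, Int.ofNat 47, Int.ofNat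 0, Int.ofNat 0, Int.ofNat 0, Int.ofNat 65, Int.ofNat 6, Int.negSucc 687, Int.ofNat 46, Int.ofNat 188, Int.ofNat 0, Int.ofNat 845])))) (ZT.node 5668 (ZT.node 5666 (ZT.leaf [Int.negSucc 4875, Int.negSucc 4, Int.ofNat 1184, Int.ofNat 20, Int.ofNat 4, Int.negSucc 338, Int.ofNat 68, Int.negSucc 34, Int.negSucc 48, Int.negSucc 0, Int.ofNat 1, Int.negSucc 0, Int.negSucc 15, Int.ofNat 2, Int.negSucc 34, Int.negSucc 27, Int.negSucc 112, Int.negSucc 0, Int.negSucc 270]) (ZT.node 5667 (ZT.leaf [Int.ofNat 1]) (ZT.leaf []))) (ZT.node 5669 (ZT.leaf [Int.ofNat 2504, Int.ofNat 1366, Int.negSucc 624, Int.ofNat 237, Int.ofNat 0, Int.ofNat 393, Int.ofNat 43, Int.negSucc 99, Int.negSucc 4, Int.ofNat 1, Int.ofNat 0, Int.ofNat 0, Int.ofNat 3, Int.ofNat 11, Int.negSucc 430, Int.negSucc 8, Int.ofNat 51, Int.ofNat 0, Int.ofNat 342]) (ZT.node 5670 (ZT.leaf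 [Int.ofNat 1767, Int.ofNat 1995, Int.negSucc 470, Int.ofNat 359, Int.ofNat 10, Int.ofNat 444, Int.ofNat 61, Int.negSucc 162, Int.negSucc 30, Int.ofNat 0, Int.ofNat 0, Int.ofNat 0, Int.negSucc 3, Int.ofNat 12, Int.negSucc 659, Int.negSucc 15, Int.ofNat 81, Int.ofNat 0, Int.ofNat 395]) (ZT.leaf [Int.negSucc 8389, Int.negSucc 6334, Int.ofNat 1980, Int.negSucc 1054, Int.negSucc 27, Int.negSucc 1488, Int.negSucc 288, Int.ofNat 564, Int.ofNat 120, Int.ofNat 1, Int.ofNat 0, Int.ofNat 1, Int.negSucc 7, Int.negSucc 21, Int.ofNat 2274, Int.ofNat 38, Int.negSucc 245, Int.ofNat 1, Int.negSucc 1385]))))))) (ZT.node 5693 (ZT.node 5682 (ZT.node 5676 (ZT.node 5673 (ZT.node 5672 (ZT.leaf []) (ZT.leaf [Int.negSucc 1550, Int.negSucc 805, Int.ofNat 355, Int.negSucc 124, Int.negSucc 3, Int.negSucc 226, Int.negSucc 52, Int.ofNat 105, Int.ofNat 23, Int.ofNat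 1, Int.ofNat 0, Int.ofNat 0, Int.ofNat 3, Int.ofNat 0, Int.ofNat 328, Int.negSucc 0, Int.negSucc 48, Int.ofNat 0, Int.negSucc 211])) (ZT.node 5674 (ZT.leaf []) (ZT.node 5675 (ZT.leaf [Int.ofNat 1]) (ZT.leaf [Int.ofNat 8667, Int.ofNat 2700, Int.negSucc 1989, Int.ofNat 388, Int.ofNat 6, Int.ofNat 936, Int.ofNat 89, Int.negSucc 193, Int.negSucc 6, Int.ofNat 0, Int.negSucc 0, Int.ofNat 0, Int.ofNat 30, Int.ofNat 6, Int.negSucc 962, Int.ofNat 8, Int.ofNat 181, Int.ofNat 0, Int.ofNat 852])))) (ZT.node 5679 (ZT.node 5677 (ZT.leaf [Int.negSucc 272, Int.negSucc 254, Int.ofNat 69, Int.negSucc 45, Int.negSucc 1, Int.negSucc 49, Int.negSucc 3, Int.ofNat 16, Int.ofNat 3, Int.ofNat 0, Int.ofNat 0, Int.ofNat 0, Int.ofNat 0, Int.negSucc 1, Int.ofNat 62, Int.ofNat 3, Int.negSucc 9, Int.ofNat 0, Int.negSucc 44]) (ZT.node 5678 (ZT.leaf [Int.negSucc 4070,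 Int.negSucc 3151, Int.ofNat 1171, Int.negSucc 646, Int.negSucc 30, Int.negSucc 843, Int.negSucc 59, Int.ofNat 246, Int.ofNat 20, Int.negSucc 0, Int.ofNat 1, Int.negSucc 0, Int.ofNat 21, Int.negSucc 11, Int.ofNat 936, Int.ofNat 25, Int.negSucc 142, Int.negSucc 0, Int.negSucc 706]) (ZT.leaf [Int.ofNat 4232, Int.ofNat 1479, Int.negSucc 1067, Int.ofNat 280, Int.ofNat 13, Int.ofNat 545, Int.ofNat 38, Int.negSucc 118, Int.negSucc 6, Int.ofNat 1, Int.negSucc 0, Int.ofNat 0, Int.ofNat 7, Int.negSucc 7, Int.negSucc 518, Int.ofNat 7, Int.ofNat 96, Int.ofNat 0, Int.ofNat 463]))) (ZT.node 5680 (ZT.leaf [Int.negSucc 5591, Int.ofNat 302, Int.ofNat 1192, Int.ofNat 135, Int.ofNat 18, Int.negSucc 259, Int.ofNat 10, Int.negSucc 82, Int.negSucc 57, Int.ofNat 1, Int.negSucc 0, Int.ofNat 1, Int.negSucc 36, Int.negSucc 1, Int.negSucc 27, Int.negSucc 21,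 Int.negSucc 34, Int.ofNat 1, Int.negSucc 235]) (ZT.node 5681 (ZT.leaf [Int.ofNat 80, Int.ofNat 291, Int.negSucc 43, Int.ofNat 61, Int.ofNat 2, Int.ofNat 55, Int.ofNat 6, Int.negSucc 11, Int.negSucc 2, Int.ofNat 0, Int.ofNat 0, Int.ofNat 0, Int.ofNat 1, Int.ofNat 3, Int.negSucc 96, Int.negSucc 3, Int.ofNat 0, Int.ofNat 0, Int.ofNat 49]) (ZT.leaf [Int.ofNat 4918, Int.ofNat 2598, Int.negSucc 1197, Int.ofNat 444, Int.ofNat 11, Int.ofNat 746, Int.ofNat 84, Int.negSucc 199, Int.negSucc 18, Int.ofNat 0, Int.ofNat 0, Int.ofNat 0, Int.ofNat 6, Int.ofNat 11, Int.negSucc 875, Int.negSucc 10, Int.ofNat 113, Int.ofNat 0, Int.ofNat 650]))))) (ZT.node 5687 (ZT.node 5684 (ZT.node 5683 (ZT.leaf [Int.ofNat 2118, Int.ofNat 518, Int.negSucc 456, Int.ofNat 62, Int.negSucc 0, Int.ofNat 187, Int.ofNat 14, Int.negSucc 26, Int.ofNat 4, Int.ofNat 0, Int.ofNat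 0, Int.ofNat 0, Int.ofNat 7, Int.negSucc 0, Int.negSucc 163, Int.ofNat 5, Int.ofNat 40, Int.ofNat 0, Int.ofNat 170]) (ZT.leaf [])) (ZT.node 5685 (ZT.leaf [Int.negSucc 11946, Int.negSucc 5712, Int.ofNat 2853, Int.negSucc 949, Int.negSucc 20, Int.negSucc 1678, Int.negSucc 181, Int.ofNat 427, Int.ofNat 34, Int.ofNat 0, Int.ofNat 0, Int.ofNat 0, Int.negSucc 18, Int.negSucc 20, Int.ofNat 1916, Int.ofNat 17, Int.negSucc 265, Int.ofNat 0, Int.negSucc 1469]) (ZT.node 5686 (ZT.leaf []) (ZT.leaf [Int.ofNat 306, Int.ofNat 65, Int.negSucc 80, Int.ofNat 16, Int.ofNat 0, Int.ofNat 37, Int.ofNat 0, Int.negSucc 3, Int.ofNat 3, Int.ofNat 0, Int.ofNat 0, Int.ofNat 0, Int.ofNat 0, Int.ofNat 1, Int.negSucc 18, Int.ofNat 0, Int.ofNat 2, Int.ofNat 0, Int.ofNat 30])))) (ZT.node 5690 (ZT.node 5688 (ZT.leaf [Int.negSucc 362, Int.negSucc 249, Int.ofNat 90,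 Int.negSucc 44, Int.negSucc 0, Int.negSucc 64, Int.negSucc 10, Int.ofNat 21, Int.ofNat 4, Int.ofNat 0, Int.ofNat 0, Int.ofNat 0, Int.ofNat 0, Int.negSucc 0, Int.ofNat 85, Int.ofNat 1, Int.negSucc 4, Int.ofNat 0, Int.negSucc 57]) (ZT.node 5689 (ZT.leaf [Int.ofNat 185, Int.ofNat 53, Int.negSucc 42, Int.ofNat 6, Int.ofNat 0, Int.ofNat 20, Int.negSucc 0, Int.ofNat 0, Int.ofNat 1, Int.ofNat 0, Int.ofNat 0, Int.ofNat 0, Int.ofNat 2, Int.ofNat 0, Int.negSucc 14, Int.ofNat 0, Int.ofNat 4, Int.ofNat 0, Int.ofNat 17]) (ZT.leaf [Int.ofNat 4382, Int.ofNat 293, Int.negSucc 974, Int.ofNat 19, Int.negSucc 1, Int.ofNat 332, Int.ofNat 24, Int.negSucc 6, Int.ofNat 28, Int.ofNat 0, Int.ofNat 0, Int.ofNat 0, Int.ofNat 17, Int.negSucc 6, Int.negSucc 133, Int.ofNat 16, Int.ofNat 28, Int.ofNat 0, Int.ofNat 272]))) (ZT.node 5691 (ZT.leaf []) (ZT.node 5692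 (ZT.leaf [Int.negSucc 305, Int.negSucc 64, Int.ofNat 81, Int.negSucc 15, Int.ofNat 0, Int.negSucc 36, Int.ofNat 0, Int.ofNat 4, Int.negSucc 2, Int.ofNat 0, Int.ofNat 0, Int.ofNat 0, Int.ofNat 0, Int.negSucc 0, Int.ofNat 19, Int.ofNat 0, Int.negSucc 1, Int.ofNat 0, Int.negSucc 29]) (ZT.leaf [Int.negSucc 13205, Int.negSucc 3689, Int.ofNat 2984, Int.negSucc 514, Int.negSucc 5, Int.negSucc 1401, Int.negSucc 156, Int.ofNat 280, Int.negSucc 5, Int.ofNat 0, Int.ofNat 0, Int.ofNat 0, Int.negSucc 37, Int.negSucc 6, Int.ofNat 1403, Int.negSucc 14, Int.negSucc 251, Int.ofNat 0, Int.negSucc 1246])))))) (ZT.node 5704 (ZT.node 5698 (ZT.node 5695 (ZT.node 5694 (ZT.leaf [Int.ofNat 8243, Int.ofNat 2011, Int.negSucc 1835, Int.ofNat 256, Int.ofNat 1, Int.ofNat 808, Int.ofNat 83, Int.negSucc 143, Int.ofNat 9, Int.ofNat 0, Int.ofNat 0, Int.ofNat 0, Int.ofNat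 28, Int.ofNat 5, Int.negSucc 771, Int.ofNat 13, Int.ofNat 158, Int.ofNat 0, Int.ofNat 729]) (ZT.leaf [])) (ZT.node 5696 (ZT.leaf []) (ZT.node 5697 (ZT.leaf [Int.negSucc 2415, Int.negSucc 964, Int.ofNat 554, Int.negSucc 148, Int.negSucc 3, Int.negSucc 303, Int.negSucc 41, Int.ofNat 83, Int.ofNat 8, Int.ofNat 0, Int.ofNat 0, Int.ofNat 0, Int.negSucc 3, Int.negSucc 2, Int.ofNat 351, Int.ofNat 1, Int.negSucc 49, Int.ofNat 0, Int.negSucc 271]) (ZT.leaf [Int.ofNat 34, Int.ofNat 1, Int.negSucc 5, Int.ofNat 0, Int.ofNat 0, Int.ofNat 1, Int.ofNat 0, Int.ofNat 1, Int.ofNat 1, Int.ofNat 1, Int.ofNat 0, Int.ofNat 0, Int.ofNat 0, Int.ofNat 1, Int.ofNat 2, Int.ofNat 0, Int.ofNat 0, Int.ofNat 0, Int.ofNat 1])))) (ZT.node 5701 (ZT.node 5699 (ZT.leaf [Int.ofNat 1]) (ZT.node 5700 (ZT.leaf [Int.negSucc 568, Int.negSucc 213, Int.ofNat 143, Int.negSucc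 39, Int.negSucc 0, Int.negSucc 77, Int.negSucc 6, Int.ofNat 17, Int.ofNat 0, Int.ofNat 0, Int.ofNat 0, Int.ofNat 0, Int.ofNat 0, Int.negSucc 0, Int.ofNat 74, Int.ofNat 0, Int.negSucc 10, Int.ofNat 0, Int.negSucc 65]) (ZT.leaf [Int.ofNat 10390, Int.ofNat 2283, Int.negSucc 2298, Int.ofNat 282, Int.ofNat 5, Int.ofNat 973, Int.ofNat 116, Int.negSucc 186, Int.ofNat 10, Int.ofNat 0, Int.ofNat 0, Int.ofNat 0, Int.ofNat 28, Int.negSucc 3, Int.negSucc 952, Int.ofNat 21, Int.ofNat 181, Int.ofNat 0, Int.ofNat 878]))) (ZT.node 5702 (ZT.leaf [Int.ofNat 998, Int.ofNat 1412, Int.negSucc 306, Int.ofNat 271, Int.ofNat 5, Int.ofNat 314, Int.ofNat 28, Int.negSucc 96, Int.negSucc 14, Int.ofNat 0, Int.ofNat 0, Int.ofNat 0, Int.negSucc 0, Int.ofNat 11, Int.negSucc 423, Int.negSucc 12, Int.ofNat 59, Int.ofNat 0, Int.ofNat 268]) (ZT.node 5703 (ZT.leaf [Int.negSucc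 2241, Int.ofNat 791, Int.ofNat 478, Int.ofNat 181, Int.ofNat 11, Int.negSucc 37, Int.ofNat 11, Int.negSucc 102, Int.negSucc 45, Int.ofNat 0, Int.ofNat 0, Int.ofNat 0, Int.negSucc 16, Int.negSucc 6, Int.negSucc 222, Int.negSucc 12, Int.ofNat 19, Int.ofNat 0, Int.negSucc 13]) (ZT.leaf []))))) (ZT.node 5710 (ZT.node 5707 (ZT.node 5705 (ZT.leaf []) (ZT.node 5706 (ZT.leaf []) (ZT.leaf []))) (ZT.node 5708 (ZT.leaf [Int.ofNat 5396, Int.ofNat 1946, Int.negSucc 1287, Int.ofNat 343, Int.ofNat 1, Int.ofNat 562, Int.ofNat 78, Int.negSucc 48, Int.ofNat 3, Int.ofNat 1, Int.negSucc 0, Int.negSucc 0, Int.ofNat 45, Int.ofNat 8, Int.negSucc 1139, Int.negSucc 2, Int.ofNat 67, Int.ofNat 0, Int.ofNat 558]) (ZT.node 5709 (ZT.leaf [Int.negSucc 7527, Int.negSucc 1765, Int.ofNat 1658, Int.negSucc 210, Int.ofNat 0, Int.negSucc 715, Int.negSucc 75, Int.ofNat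 126, Int.negSucc 7, Int.ofNat 0, Int.ofNat 0, Int.ofNat 0, Int.negSucc 26, Int.negSucc 3, Int.ofNat 690, Int.negSucc 12, Int.negSucc 144, Int.ofNat 0, Int.negSucc 650]) (ZT.leaf [Int.ofNat 10, Int.negSucc 8, Int.negSucc 1, Int.ofNat 0, Int.ofNat 0, Int.ofNat 0, Int.ofNat 0, Int.ofNat 1, Int.ofNat 1, Int.ofNat 1, Int.ofNat 0, Int.ofNat 0, Int.ofNat 0, Int.ofNat 0, Int.ofNat 4, Int.ofNat 0, Int.ofNat 0, Int.ofNat 0, Int.ofNat 0])))) (ZT.node 5713 (ZT.node 5711 (ZT.leaf [Int.negSucc 96, Int.negSucc 8, Int.ofNat 25, Int.negSucc 2, Int.ofNat 0, Int.negSucc 9, Int.ofNat 0, Int.negSucc 0, Int.negSucc 1, Int.negSucc 0, Int.ofNat 0, Int.ofNat 0, Int.ofNat 0, Int.ofNat 0, Int.ofNat 0, Int.ofNat 0, Int.negSucc 1, Int.ofNat 0, Int.negSucc 7]) (ZT.node 5712 (ZT.leaf [Int.ofNat 2, Int.ofNat 2]) (ZT.leaf [Int.negSucc 7, Int.ofNat 5, Int.ofNat 2,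 Int.ofNat 0, Int.ofNat 0, Int.ofNat 0, Int.ofNat 0, Int.negSucc 0, Int.negSucc 0, Int.negSucc 0, Int.ofNat 0, Int.ofNat 0, Int.ofNat 0, Int.ofNat 0, Int.negSucc 2, Int.ofNat 0, Int.ofNat 0, Int.ofNat 0, Int.ofNat 0]))) (ZT.node 5714 (ZT.leaf [Int.ofNat 87, Int.ofNat 17, Int.negSucc 22, Int.ofNat 3, Int.ofNat 0, Int.ofNat 10, Int.ofNat 0, Int.ofNat 0, Int.ofNat 1, Int.ofNat 0, Int.ofNat 0, Int.ofNat 0, Int.ofNat 0, Int.ofNat 0, Int.negSucc 3, Int.ofNat 0, Int.ofNat 2, Int.ofNat 0, Int.ofNat 8]) (ZT.node 5715 (ZT.leaf [Int.negSucc 1, Int.negSucc 0]) (ZT.leaf [Int.negSucc 4556, Int.negSucc 2703, Int.ofNat 1197, Int.negSucc 523, Int.negSucc 19, Int.negSucc 760, Int.negSucc 54, Int.ofNat 181, Int.ofNat 0, Int.ofNat 0, Int.ofNat 0, Int.ofNat 0, Int.ofNat 9, Int.negSucc 14, Int.ofNat 831, Int.ofNat 19, Int.negSucc 120, Int.ofNat 0, Int.negSucc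 646]))))))))) (ZT.node 5806 (ZT.node 5761 (ZT.node 5738 (ZT.node 5727 (ZT.node 5721 (ZT.node 5718 (ZT.node 5717 (ZT.leaf [Int.ofNat 4069, Int.ofNat 3151, Int.negSucc 1170, Int.ofNat 647, Int.ofNat 31, Int.ofNat 844, Int.ofNat 60, Int.negSucc 245, Int.negSucc 19, Int.ofNat 1, Int.negSucc 0, Int.ofNat 1, Int.negSucc 20, Int.ofNat 12, Int.negSucc 935, Int.negSucc 24, Int.ofNat 143, Int.ofNat 1, Int.ofNat 707]) (ZT.leaf [])) (ZT.node 5719 (ZT.leaf [Int.negSucc 19437, Int.negSucc 6379, Int.ofNat 4402, Int.negSucc 942, Int.negSucc 8, Int.negSucc 2180, Int.negSucc 253, Int.ofNat 443, Int.ofNat 4, Int.ofNat 1, Int.negSucc 0, Int.ofNat 0, Int.negSucc 66, Int.negSucc 20, Int.ofNat 2375, Int.negSucc 2, Int.negSucc 345, Int.ofNat 0, Int.negSucc 1952]) (ZT.node 5720 (ZT.leaf [Int.ofNat 47, Int.ofNat 1, Int.negSucc 12, Int.ofNat 1, Int.ofNat 0,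 Int.ofNat 4, Int.ofNat 0, Int.ofNat 0, Int.ofNat 1, Int.ofNat 0, Int.ofNat 0, Int.ofNat 0, Int.ofNat 0, Int.ofNat 0, Int.ofNat 3, Int.ofNat 0, Int.negSucc 0, Int.ofNat 0, Int.ofNat 3]) (ZT.leaf [Int.ofNat 3, Int.ofNat 1])))) (ZT.node 5724 (ZT.node 5722 (ZT.leaf [Int.ofNat 33, Int.negSucc 39, Int.ofNat 7, Int.negSucc 9, Int.ofNat 2, Int.negSucc 17, Int.negSucc 12, Int.ofNat 13, Int.ofNat 9, Int.negSucc 0, Int.ofNat 1, Int.ofNat 0, Int.negSucc 0, Int.ofNat 3, Int.negSucc 8, Int.ofNat 1, Int.ofNat 28, Int.ofNat 0, Int.negSucc 11]) (ZT.node 5723 (ZT.leaf []) (ZT.leaf []))) (ZT.node 5725 (ZT.leaf []) (ZT.node 5726 (ZT.leaf []) (ZT.leaf []))))) (ZT.node 5732 (ZT.node 5729 (ZT.node 5728 (ZT.leaf [Int.negSucc 11120, Int.negSucc 5573, Int.ofNat 2695, Int.negSucc 948, Int.negSucc 21, Int.negSucc 1607, Int.negSucc 166, Int.ofNat 401, Int.ofNat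 32, Int.ofNat 0, Int.ofNat 0, Int.ofNat 0, Int.negSucc 19, Int.negSucc 23, Int.ofNat 1856, Int.ofNat 21, Int.negSucc 249, Int.ofNat 0, Int.negSucc 1407]) (ZT.leaf [Int.ofNat 1])) (ZT.node 5730 (ZT.leaf [Int.ofNat 25615, Int.ofNat 12451, Int.negSucc 5993, Int.ofNat 2022, Int.ofNat 57, Int.ofNat 3560, Int.ofNat 430, Int.negSucc 1000, Int.negSucc 111, Int.ofNat 1, Int.negSucc 0, Int.ofNat 1, Int.ofNat 40, Int.ofNat 42, Int.negSucc 4251, Int.negSucc 33, Int.ofNat 657, Int.ofNat 1, Int.ofNat 3181]) (ZT.node 5731 (ZT.leaf [Int.ofNat 25431, Int.ofNat 12555, Int.negSucc 5912, Int.ofNat 2025, Int.ofNat 57, Int.ofNat 3537, Int.ofNat 447, Int.negSucc 1011, Int.negSucc 124, Int.ofNat 1, Int.negSucc 0, Int.ofNat 1, Int.ofNat 43, Int.ofNat 42, Int.negSucc 4314, Int.negSucc 30, Int.ofNat 655, Int.ofNat 1, Int.ofNat 3177]) (ZT.leaf [Int.ofNat 648,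 Int.ofNat 307, Int.negSucc 142, Int.ofNat 46, Int.ofNat 1, Int.ofNat 79, Int.ofNat 10, Int.negSucc 15, Int.negSucc 1, Int.negSucc 0, Int.ofNat 1, Int.ofNat 0, Int.ofNat 3, Int.ofNat 2, Int.negSucc 90, Int.negSucc 1, Int.ofNat 10, Int.ofNat 0, Int.ofNat 75])))) (ZT.node 5735 (ZT.node 5733 (ZT.leaf [Int.negSucc 282, Int.negSucc 403, Int.ofNat 21, Int.negSucc 48, Int.negSucc 3, Int.negSucc 38, Int.negSucc 28, Int.ofNat 48, Int.ofNat 22, Int.ofNat 0, Int.ofNat 0, Int.ofNat 0, Int.negSucc 2, Int.ofNat 1, Int.ofNat 208, Int.ofNat 0, Int.negSucc 20, Int.ofNat 0, Int.negSucc 60]) (ZT.node 5734 (ZT.leaf [Int.negSucc 180, Int.ofNat 386, Int.negSucc 4, Int.ofNat 87, Int.ofNat 5, Int.ofNat 67, Int.ofNat 0, Int.negSucc 27, Int.negSucc 4, Int.ofNat 0, Int.ofNat 0, Int.ofNat 0, Int.negSucc 5, Int.ofNat 6, Int.negSucc 114, Int.negSucc 6, Int.ofNat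 20, Int.ofNat 0, Int.ofNat 54]) (ZT.leaf [Int.ofNat 1]))) (ZT.node 5736 (ZT.leaf [Int.negSucc 484, Int.negSucc 285, Int.ofNat 98, Int.negSucc 38, Int.negSucc 0, Int.negSucc 55, Int.negSucc 9, Int.ofNat 17, Int.ofNat 5, Int.ofNat 1, Int.negSucc 0, Int.ofNat 0, Int.negSucc 2, Int.negSucc 1, Int.ofNat 90, Int.ofNat 2, Int.negSucc 9, Int.ofNat 0, Int.negSucc 59]) (ZT.node 5737 (ZT.leaf [Int.negSucc 54, Int.negSucc 10, Int.ofNat 10, Int.ofNat 1, Int.ofNat 0, Int.negSucc 1, Int.ofNat 0, Int.negSucc 1, Int.negSucc 0, Int.ofNat 0, Int.ofNat 0, Int.ofNat 0, Int.negSucc 0, Int.ofNat 0, Int.ofNat 6, Int.ofNat 0, Int.ofNat 1, Int.ofNat 0, Int.negSucc 1]) (ZT.leaf [Int.ofNat 26, Int.ofNat 5, Int.negSucc 3, Int.negSucc 0, Int.ofNat 0, Int.ofNat 0, Int.ofNat 0, Int.ofNat 1, Int.ofNat 0, Int.ofNat 0, Int.ofNat 0, Int.ofNat 0, Int.ofNat 1, Int.ofNat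 0, Int.negSucc 1, Int.ofNat 0, Int.ofNat 0, Int.ofNat 0, Int.ofNat 1])))))) (ZT.node 5749 (ZT.node 5743 (ZT.node 5740 (ZT.node 5739 (ZT.leaf []) (ZT.leaf [Int.negSucc 301, Int.negSucc 20, Int.ofNat 57, Int.ofNat 3, Int.ofNat 0, Int.negSucc 15, Int.negSucc 4, Int.ofNat 3, Int.negSucc 1, Int.ofNat 0, Int.ofNat 0, Int.ofNat 0, Int.negSucc 0, Int.negSucc 0, Int.ofNat 27, Int.negSucc 0, Int.negSucc 0, Int.ofNat 0, Int.negSucc 16])) (ZT.node 5741 (ZT.leaf [Int.negSucc 98, Int.negSucc 16, Int.ofNat 27, Int.negSucc 2, Int.ofNat 0, Int.negSucc 10, Int.ofNat 0, Int.ofNat 1, Int.negSucc 0, Int.ofNat 0, Int.ofNat 0, Int.ofNat 0, Int.ofNat 0, Int.negSucc 0, Int.ofNat 6, Int.ofNat 0, Int.negSucc 0, Int.ofNat 0, Int.negSucc 8]) (ZT.node 5742 (ZT.leaf [Int.ofNat 846, Int.ofNat 258, Int.negSucc 210, Int.ofNat 46, Int.ofNat 1, Int.ofNat 104, Int.ofNat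 6, Int.negSucc 17, Int.ofNat 2, Int.ofNat 0, Int.ofNat 0, Int.ofNat 0, Int.ofNat 1, Int.ofNat 1, Int.negSucc 74, Int.ofNat 0, Int.ofNat 15, Int.ofNat 0, Int.ofNat 87]) (ZT.leaf [Int.negSucc 814, Int.ofNat 211, Int.ofNat 132, Int.ofNat 64, Int.ofNat 3, Int.ofNat 11, Int.negSucc 4, Int.negSucc 22, Int.negSucc 6, Int.ofNat 0, Int.ofNat 0, Int.ofNat 0, Int.negSucc 10, Int.ofNat 5, Int.negSucc 47, Int.negSucc 5, Int.ofNat 12, Int.ofNat 1, Int.ofNat 1])))) (ZT.node 5746 (ZT.node 5744 (ZT.leaf [Int.negSucc 846, Int.negSucc 257, Int.ofNat 211, Int.negSucc 45, Int.negSucc 0, Int.negSucc 103, Int.negSucc 5, Int.ofNat 18, Int.negSucc 1, Int.ofNat 0, Int.ofNat 0, Int.ofNat 0, Int.negSucc 0, Int.negSucc 0, Int.ofNat 75, Int.ofNat 0, Int.negSucc 14, Int.ofNat 0, Int.negSucc 86]) (ZT.node 5745 (ZT.leaf []) (ZT.leaf [Int.ofNat 899, Int.negSucc 177,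 Int.negSucc 199, Int.negSucc 45, Int.negSucc 5, Int.ofNat 48, Int.ofNat 2, Int.ofNat 5, Int.ofNat 10, Int.ofNat 0, Int.ofNat 0, Int.ofNat 0, Int.ofNat 3, Int.negSucc 3, Int.ofNat 64, Int.ofNat 8, Int.ofNat 0, Int.negSucc 0, Int.ofNat 37]))) (ZT.node 5747 (ZT.leaf []) (ZT.node 5748 (ZT.leaf [Int.ofNat 270, Int.ofNat 21, Int.negSucc 51, Int.negSucc 0, Int.negSucc 0, Int.ofNat 15, Int.ofNat 6, Int.negSucc 5, Int.ofNat 1, Int.ofNat 0, Int.ofNat 0, Int.ofNat 0, Int.ofNat 1, Int.ofNat 0, Int.negSucc 31, Int.ofNat 1, Int.ofNat 3, Int.ofNat 0, Int.ofNat 17]) (ZT.leaf []))))) (ZT.node 5755 (ZT.node 5752 (ZT.node 5750 (ZT.leaf []) (ZT.node 5751 (ZT.leaf [Int.ofNat 1723, Int.ofNat 1359, Int.negSucc 449, Int.ofNat 242, Int.ofNat 4, Int.ofNat 350, Int.ofNat 51, Int.negSucc 123, Int.negSucc 17, Int.ofNat 0, Int.ofNat 0, Int.ofNat 0, Int.negSucc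 2, Int.ofNat 7, Int.negSucc 458, Int.negSucc 7, Int.ofNat 54, Int.ofNat 0, Int.ofNat 308]) (ZT.leaf [Int.negSucc 27, Int.ofNat 0, Int.ofNat 5, Int.ofNat 2, Int.negSucc 0, Int.negSucc 0, Int.ofNat 1, Int.negSucc 2, Int.negSucc 0, Int.ofNat 0, Int.ofNat 0, Int.ofNat 0, Int.ofNat 0, Int.negSucc 0, Int.negSucc 4, Int.ofNat 0, Int.ofNat 2, Int.ofNat 0, Int.ofNat 0]))) (ZT.node 5753 (ZT.leaf [Int.negSucc 0]) (ZT.node 5754 (ZT.leaf [Int.negSucc 0, Int.negSucc 1]) (ZT.leaf [Int.ofNat 330, Int.ofNat 124, Int.negSucc 79, Int.ofNat 21, Int.ofNat 1, Int.ofNat 42, Int.ofNat 3, Int.negSucc 9, Int.ofNat 0, Int.ofNat 0, Int.ofNat 0, Int.ofNat 0, Int.ofNat 0, Int.ofNat 2, Int.negSucc 33, Int.negSucc 0, Int.ofNat 7, Int.negSucc 0, Int.ofNat 37])))) (ZT.node 5758 (ZT.node 5756 (ZT.leaf []) (ZT.node 5757 (ZT.leaf []) (ZT.leaf [Int.ofNat 358, Int.ofNat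 108, Int.negSucc 86, Int.ofNat 19, Int.ofNat 1, Int.ofNat 34, Int.ofNat 1, Int.negSucc 5, Int.ofNat 0, Int.ofNat 0, Int.ofNat 0, Int.ofNat 0, Int.ofNat 2, Int.ofNat 0, Int.negSucc 40, Int.ofNat 0, Int.ofNat 10, Int.ofNat 0, Int.ofNat 33]))) (ZT.node 5759 (ZT.leaf [Int.ofNat 49, Int.ofNat 1, Int.negSucc 12, Int.ofNat 1, Int.ofNat 0, Int.ofNat 5, Int.ofNat 0, Int.ofNat 1, Int.ofNat 1, Int.ofNat 0, Int.ofNat 0, Int.ofNat 0, Int.ofNat 0, Int.ofNat 0, Int.ofNat 1, Int.ofNat 0, Int.ofNat 1, Int.ofNat 0, Int.ofNat 4]) (ZT.node 5760 (ZT.leaf [Int.ofNat 3061, Int.ofNat 2171, Int.negSucc 773, Int.ofNat 390, Int.ofNat 12, Int.ofNat 556, Int.ofNat 58, Int.negSucc 161, Int.negSucc 19, Int.ofNat 0, Int.ofNat 0, Int.ofNat 0, Int.ofNat 0, Int.ofNat 12, Int.negSucc 703, Int.negSucc 13, Int.ofNat 97, Int.ofNat 0, Int.ofNat 485]) (ZT.leaf [Int.ofNat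 2416, Int.ofNat 2138, Int.negSucc 630, Int.ofNat 384, Int.ofNat 10, Int.ofNat 512, Int.ofNat 62, Int.negSucc 168, Int.negSucc 26, Int.ofNat 0, Int.ofNat 0, Int.ofNat 0, Int.negSucc 1, Int.ofNat 13, Int.negSucc 692, Int.negSucc 15, Int.ofNat 91, Int.ofNat 0, Int.ofNat 452]))))))) (ZT.node 5783 (ZT.node 5772 (ZT.node 5766 (ZT.node 5763 (ZT.node 5762 (ZT.leaf []) (ZT.leaf [])) (ZT.node 5764 (ZT.leaf [Int.ofNat 9465, Int.ofNat 5388, Int.negSucc 2260, Int.ofNat 908, Int.ofNat 22, Int.ofNat 1468, Int.ofNat 200, Int.negSucc 424, Int.negSucc 57, Int.negSucc 0, Int.ofNat 0, Int.ofNat 0, Int.ofNat 16, Int.ofNat 22, Int.negSucc 1866, Int.negSucc 20, Int.ofNat 229, Int.ofNat 0, Int.ofNat 1298]) (ZT.node 5765 (ZT.leaf [Int.ofNat 253, Int.ofNat 84, Int.negSucc 57, Int.ofNat 14, Int.ofNat 1, Int.ofNat 21, Int.ofNat 1, Int.negSucc 2, Int.negSucc 0,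 Int.ofNat 0, Int.ofNat 0, Int.ofNat 0, Int.ofNat 2, Int.ofNat 0, Int.negSucc 33, Int.ofNat 0, Int.ofNat 4, Int.ofNat 0, Int.ofNat 22]) (ZT.leaf [Int.ofNat 2298, Int.ofNat 757, Int.negSucc 522, Int.ofNat 105, Int.ofNat 0, Int.ofNat 260, Int.ofNat 20, Int.negSucc 43, Int.ofNat 1, Int.ofNat 0, Int.ofNat 0, Int.ofNat 0, Int.ofNat 8, Int.ofNat 2, Int.negSucc 255, Int.ofNat 2, Int.ofNat 49, Int.ofNat 0, Int.ofNat 233])))) (ZT.node 5769 (ZT.node 5767 (ZT.leaf []) (ZT.node 5768 (ZT.leaf [Int.negSucc 0]) (ZT.leaf [Int.negSucc 251, Int.negSucc 83, Int.ofNat 58, Int.negSucc 13, Int.negSucc 0, Int.negSucc 20, Int.negSucc 0, Int.ofNat 3, Int.ofNat 1, Int.ofNat 0, Int.ofNat 0, Int.ofNat 0, Int.negSucc 1, Int.ofNat 0, Int.ofNat 34, Int.ofNat 0, Int.negSucc 3, Int.ofNat 0, Int.negSucc 21]))) (ZT.node 5770 (ZT.leaf []) (ZT.node 5771 (ZT.leaf [Int.ofNat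 15435, Int.ofNat 1286, Int.negSucc 3443, Int.ofNat 44, Int.negSucc 17, Int.ofNat 1211, Int.ofNat 116, Int.negSucc 38, Int.ofNat 94, Int.ofNat 0, Int.ofNat 0, Int.ofNat 0, Int.ofNat 61, Int.ofNat 9, Int.negSucc 674, Int.ofNat 44, Int.ofNat 131, Int.ofNat 0, Int.ofNat 1043]) (ZT.leaf [Int.negSucc 18, Int.ofNat 7, Int.ofNat 6, Int.ofNat 0, Int.ofNat 0, Int.negSucc 0, Int.ofNat 0, Int.negSucc 0, Int.negSucc 0, Int.negSucc 0, Int.ofNat 0, Int.ofNat 0, Int.ofNat 0, Int.ofNat 0, Int.negSucc 1, Int.ofNat 0, Int.ofNat 0, Int.ofNat 0, Int.negSucc 0]))))) (ZT.node 5777 (ZT.node 5774 (ZT.node 5773 (ZT.leaf [Int.negSucc 1379, Int.negSucc 738, Int.ofNat 332, Int.negSucc 122, Int.negSucc 2, Int.negSucc 204, Int.negSucc 27, Int.ofNat 67, Int.ofNat 9, Int.negSucc 0, Int.ofNat 0, Int.ofNat 0, Int.ofNat 0, Int.negSucc 2, Int.ofNat 252, Int.ofNat 2, Int.negSucc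 37, Int.ofNat 0, Int.negSucc 186]) (ZT.leaf [Int.negSucc 11, Int.ofNat 5, Int.ofNat 5, Int.ofNat 0, Int.ofNat 0, Int.negSucc 0, Int.ofNat 0, Int.ofNat 0, Int.ofNat 0, Int.ofNat 0, Int.ofNat 0, Int.ofNat 0, Int.ofNat 0, Int.ofNat 0, Int.negSucc 3, Int.ofNat 0, Int.ofNat 0, Int.ofNat 0, Int.negSucc 0])) (ZT.node 5775 (ZT.leaf [Int.negSucc 234, Int.negSucc 207, Int.ofNat 39, Int.negSucc 29, Int.ofNat 1, Int.negSucc 32, Int.negSucc 10, Int.ofNat 12, Int.ofNat 6, Int.ofNat 1, Int.ofNat 0, Int.ofNat 0, Int.negSucc 2, Int.ofNat 1, Int.ofNat 78, Int.ofNat 0, Int.ofNat 1, Int.ofNat 0, Int.negSucc 32]) (ZT.node 5776 (ZT.leaf [Int.ofNat 1]) (ZT.leaf [Int.ofNat 1])))) (ZT.node 5780 (ZT.node 5778 (ZT.leaf []) (ZT.node 5779 (ZT.leaf [Int.ofNat 3541, Int.ofNat 1104, Int.negSucc 818, Int.ofNat 168, Int.negSucc 0, Int.ofNat 411, Int.ofNat 55, Int.negSucc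 87, Int.negSucc 2, Int.ofNat 0, Int.ofNat 0, Int.ofNat 0, Int.ofNat 9, Int.ofNat 2, Int.negSucc 405, Int.ofNat 2, Int.ofNat 44, Int.ofNat 0, Int.ofNat 359]) (ZT.leaf [Int.ofNat 237, Int.ofNat 120, Int.negSucc 48, Int.ofNat 17, Int.ofNat 1, Int.ofNat 27, Int.ofNat 0, Int.ofNat 0, Int.ofNat 2, Int.ofNat 0, Int.ofNat 0, Int.ofNat 0, Int.ofNat 1, Int.ofNat 2, Int.negSucc 15, Int.negSucc 1, Int.ofNat 0, Int.ofNat 0, Int.ofNat 22]))) (ZT.node 5781 (ZT.leaf []) (ZT.node 5782 (ZT.leaf [Int.ofNat 127, Int.ofNat 100, Int.negSucc 51, Int.ofNat 26, Int.ofNat 1, Int.ofNat 29, Int.negSucc 3, Int.negSucc 4, Int.negSucc 0, Int.ofNat 0, Int.ofNat 0, Int.ofNat 0, Int.ofNat 0, Int.ofNat 0, Int.negSucc 17, Int.negSucc 0, Int.ofNat 10, Int.ofNat 0, Int.ofNat 24]) (ZT.leaf [Int.ofNat 1])))))) (ZT.node 5794 (ZT.node 5788 (ZT.node 5785 (ZT.node 5784 (ZT.leaf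 [Int.negSucc 0]) (ZT.leaf [Int.negSucc 428, Int.negSucc 210, Int.ofNat 100, Int.negSucc 33, Int.negSucc 0, Int.negSucc 59, Int.negSucc 6, Int.ofNat 14, Int.ofNat 1, Int.ofNat 0, Int.ofNat 0, Int.ofNat 0, Int.negSucc 0, Int.negSucc 0, Int.ofNat 67, Int.ofNat 1, Int.negSucc 6, Int.ofNat 0, Int.negSucc 51])) (ZT.node 5786 (ZT.leaf []) (ZT.node 5787 (ZT.leaf [Int.negSucc 25800, Int.negSucc 12515, Int.ofNat 6022, Int.negSucc 2024, Int.negSucc 56, Int.negSucc 3568, Int.negSucc 432, Int.ofNat 1000, Int.ofNat 114, Int.negSucc 0, Int.ofNat 1, Int.negSucc 0, Int.negSucc 42, Int.negSucc 41, Int.ofNat 4272, Int.ofNat 32, Int.negSucc 657, Int.negSucc 0, Int.negSucc 3192]) (ZT.leaf [])))) (ZT.node 5791 (ZT.node 5789 (ZT.leaf [Int.ofNat 687, Int.ofNat 341, Int.negSucc 154, Int.ofNat 51, Int.ofNat 1, Int.ofNat 96, Int.ofNat 17, Int.negSucc 32, Int.negSucc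 4, Int.ofNat 0, Int.ofNat 0, Int.ofNat 0, Int.ofNat 0, Int.ofNat 1, Int.negSucc 126, Int.ofNat 0, Int.ofNat 17, Int.ofNat 0, Int.ofNat 89]) (ZT.node 5790 (ZT.leaf [Int.ofNat 1597, Int.ofNat 703, Int.negSucc 370, Int.ofNat 116, Int.ofNat 3, Int.ofNat 205, Int.ofNat 26, Int.negSucc 56, Int.negSucc 5, Int.ofNat 1, Int.ofNat 0, Int.ofNat 0, Int.ofNat 3, Int.ofNat 2, Int.negSucc 256, Int.negSucc 0, Int.ofNat 38, Int.ofNat 0, Int.ofNat 187]) (ZT.leaf [Int.negSucc 1314, Int.negSucc 728, Int.ofNat 319, Int.negSucc 121, Int.negSucc 1, Int.negSucc 199, Int.negSucc 28, Int.ofNat 65, Int.ofNat 10, Int.ofNat 0, Int.ofNat 0, Int.ofNat 0, Int.negSucc 1, Int.negSucc 1, Int.ofNat 262, Int.ofNat 2, Int.negSucc 34, Int.ofNat 0, Int.negSucc 182]))) (ZT.node 5792 (ZT.leaf []) (ZT.node 5793 (ZT.leaf [Int.ofNat 1007, Int.ofNat 604, Int.negSucc 238, Int.ofNat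 98, Int.ofNat 2, Int.ofNat 153, Int.ofNat 21, Int.negSucc 47, Int.negSucc 7, Int.ofNat 0, Int.ofNat 0, Int.ofNat 0, Int.ofNat 2, Int.ofNat 3, Int.negSucc 204, Int.negSucc 2, Int.ofNat 27, Int.ofNat 0, Int.ofNat 141]) (ZT.leaf [Int.ofNat 73, Int.ofNat 20, Int.negSucc 15, Int.ofNat 3, Int.ofNat 0, Int.ofNat 7, Int.ofNat 1, Int.ofNat 1, Int.ofNat 0, Int.ofNat 0, Int.ofNat 0, Int.ofNat 0, Int.ofNat 1, Int.ofNat 0, Int.negSucc 3, Int.ofNat 1, Int.ofNat 1, Int.ofNat 0, Int.ofNat 7]))))) (ZT.node 5800 (ZT.node 5797 (ZT.node 5795 (ZT.leaf [Int.negSucc 49, Int.negSucc 3, Int.ofNat 11, Int.ofNat 0, Int.ofNat 0, Int.negSucc 2, Int.ofNat 1, Int.negSucc 0, Int.negSucc 0, Int.ofNat 0, Int.ofNat 0, Int.ofNat 0, Int.ofNat 0, Int.ofNat 0, Int.ofNat 1, Int.ofNat 0, Int.negSucc 1, Int.ofNat 0, Int.negSucc 1]) (ZT.node 5796 (ZT.leaf [Int.ofNat 1]) (ZT.leaf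 []))) (ZT.node 5798 (ZT.leaf [Int.ofNat 5833, Int.ofNat 3495, Int.negSucc 1341, Int.ofNat 563, Int.ofNat 15, Int.ofNat 872, Int.ofNat 125, Int.negSucc 270, Int.negSucc 43, Int.ofNat 0, Int.ofNat 0, Int.ofNat 1, Int.ofNat 14, Int.ofNat 16, Int.negSucc 1163, Int.negSucc 16, Int.ofNat 152, Int.ofNat 1, Int.ofNat 802]) (ZT.node 5799 (ZT.leaf [Int.negSucc 182, Int.negSucc 50, Int.ofNat 43, Int.negSucc 5, Int.ofNat 0, Int.negSucc 19, Int.ofNat 1, Int.ofNat 0, Int.negSucc 0, Int.ofNat 0, Int.ofNat 0, Int.ofNat 0, Int.negSucc 0, Int.ofNat 0, Int.ofNat 15, Int.ofNat 0, Int.negSucc 3, Int.ofNat 0, Int.negSucc 16]) (ZT.leaf [Int.ofNat 131, Int.negSucc 6, Int.negSucc 29, Int.negSucc 0, Int.ofNat 0, Int.ofNat 5, Int.negSucc 1, Int.ofNat 5, Int.ofNat 2, Int.ofNat 0, Int.ofNat 0, Int.ofNat 0, Int.ofNat 1, Int.ofNat 0, Int.ofNat 17, Int.ofNat 0, Int.negSucc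 1, Int.ofNat 0, Int.ofNat 4])))) (ZT.node 5803 (ZT.node 5801 (ZT.leaf [Int.negSucc 0, Int.ofNat 0, Int.ofNat 0, Int.ofNat 0, Int.ofNat 0, Int.ofNat 0, Int.ofNat 0, Int.ofNat 0, Int.ofNat 0, Int.ofNat 0, Int.ofNat 0, Int.ofNat 0, Int.ofNat 1]) (ZT.node 5802 (ZT.leaf []) (ZT.leaf [Int.negSucc 323, Int.negSucc 149, Int.ofNat 84, Int.negSucc 28, Int.negSucc 0, Int.negSucc 31, Int.ofNat 6, Int.negSucc 3, Int.negSucc 1, Int.ofNat 0, Int.ofNat 0, Int.ofNat 0, Int.negSucc 2, Int.negSucc 0, Int.ofNat 32, Int.ofNat 1, Int.negSucc 9, Int.ofNat 0, Int.negSucc 31]))) (ZT.node 5804 (ZT.leaf [Int.ofNat 18, Int.ofNat 5, Int.negSucc 1, Int.negSucc 0, Int.ofNat 0, Int.ofNat 0, Int.ofNat 0, Int.ofNat 1, Int.ofNat 0, Int.ofNat 0, Int.ofNat 0, Int.ofNat 0, Int.ofNat 0, Int.ofNat 0, Int.negSucc 0, Int.ofNat 0, Int.ofNat 0, Int.ofNat 0, Int.ofNat 1]) (ZT.node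 5805 (ZT.leaf [Int.ofNat 30, Int.ofNat 10, Int.negSucc 7, Int.ofNat 2, Int.ofNat 0, Int.ofNat 4, Int.ofNat 0, Int.negSucc 0, Int.ofNat 0, Int.ofNat 0, Int.ofNat 0, Int.ofNat 0, Int.ofNat 0, Int.ofNat 0, Int.negSucc 2, Int.ofNat 0, Int.ofNat 1, Int.ofNat 0, Int.ofNat 3]) (ZT.leaf [])))))))) (ZT.node 5851 (ZT.node 5828 (ZT.node 5817 (ZT.node 5811 (ZT.node 5808 (ZT.node 5807 (ZT.leaf [Int.negSucc 10425, Int.negSucc 1545, Int.ofNat 2247, Int.negSucc 104, Int.ofNat 7, Int.negSucc 884, Int.negSucc 120, Int.ofNat 120, Int.negSucc 27, Int.ofNat 1, Int.ofNat 1, Int.ofNat 0, Int.negSucc 41, Int.negSucc 9, Int.ofNat 670, Int.negSucc 23, Int.negSucc 149, Int.ofNat 0, Int.negSucc 791]) (ZT.leaf [])) (ZT.node 5809 (ZT.leaf [Int.ofNat 5252, Int.ofNat 3459, Int.negSucc 1289, Int.ofNat 596, Int.ofNat 17, Int.ofNat 881, Int.ofNat 111, Int.negSucc 271,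 Int.negSucc 37, Int.ofNat 1, Int.negSucc 0, Int.ofNat 1, Int.ofNat 4, Int.ofNat 20, Int.negSucc 1146, Int.negSucc 20, Int.ofNat 149, Int.ofNat 1, Int.ofNat 791]) (ZT.node 5810 (ZT.leaf [Int.ofNat 12974, Int.ofNat 2287, Int.negSucc 2882, Int.ofNat 246, Int.negSucc 2, Int.ofNat 1210, Int.ofNat 154, Int.negSucc 188, Int.ofNat 34, Int.negSucc 0, Int.ofNat 0, Int.ofNat 0, Int.ofNat 41, Int.ofNat 11, Int.negSucc 948, Int.ofNat 25, Int.ofNat 195, Int.ofNat 0, Int.ofNat 1062]) (ZT.leaf [Int.negSucc 4889, Int.negSucc 2298, Int.ofNat 1104, Int.negSucc 367, Int.negSucc 9, Int.negSucc 658, Int.negSucc 119, Int.ofNat 213, Int.ofNat 35, Int.ofNat 0, Int.ofNat 0, Int.ofNat 0, Int.negSucc 8, Int.negSucc 1, Int.ofNat 901, Int.ofNat 0, Int.negSucc 103, Int.ofNat 0, Int.negSucc 597])))) (ZT.node 5814 (ZT.node 5812 (ZT.leaf []) (ZT.node 5813 (ZT.leaf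 [Int.ofNat 9332, Int.ofNat 3335, Int.negSucc 2189, Int.ofNat 541, Int.ofNat 10, Int.ofNat 1149, Int.ofNat 135, Int.negSucc 265, Int.negSucc 6, Int.ofNat 0, Int.ofNat 0, Int.ofNat 0, Int.ofNat 17, Int.ofNat 5, Int.negSucc 1270, Int.ofNat 6, Int.ofNat 185, Int.ofNat 0, Int.ofNat 1007]) (ZT.leaf [Int.negSucc 7190, Int.ofNat 1028, Int.ofNat 1469, Int.ofNat 331, Int.ofNat 21, Int.negSucc 228, Int.negSucc 2, Int.negSucc 109, Int.negSucc 65, Int.ofNat 0, Int.ofNat 0, Int.negSucc 0, Int.negSucc 45, Int.ofNat 10, Int.negSucc 181, Int.negSucc 46, Int.negSucc 46, Int.negSucc 0, Int.negSucc 218]))) (ZT.node 5815 (ZT.leaf []) (ZT.node 5816 (ZT.leaf [Int.ofNat 428, Int.ofNat 210, Int.negSucc 99, Int.ofNat 34, Int.ofNat 1, Int.ofNat 60, Int.ofNat 7, Int.negSucc 13, Int.negSucc 0, Int.ofNat 0, Int.ofNat 0, Int.ofNat 0, Int.ofNat 1, Int.ofNat 1, Int.negSucc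 66, Int.negSucc 0, Int.ofNat 7, Int.ofNat 0, Int.ofNat 52]) (ZT.leaf [Int.negSucc 292, Int.ofNat 765, Int.negSucc 119, Int.ofNat 232, Int.ofNat 18, Int.ofNat 180, Int.negSucc 16, Int.negSucc 60, Int.ofNat 2, Int.ofNat 0, Int.negSucc 0, Int.ofNat 0, Int.negSucc 24, Int.ofNat 4, Int.negSucc 138, Int.negSucc 14, Int.ofNat 27, Int.ofNat 0, Int.ofNat 123]))))) (ZT.node 5822 (ZT.node 5819 (ZT.node 5818 (ZT.leaf [Int.ofNat 1, Int.ofNat 0, Int.ofNat 0, Int.ofNat 0, Int.ofNat 0, Int.ofNat 0, Int.ofNat 0, Int.negSucc 0]) (ZT.leaf [Int.ofNat 35, Int.ofNat 10, Int.negSucc 9, Int.ofNat 2, Int.ofNat 0, Int.ofNat 5, Int.ofNat 0, Int.negSucc 0, Int.ofNat 0, Int.ofNat 0, Int.ofNat 0, Int.ofNat 0, Int.ofNat 0, Int.ofNat 0, Int.negSucc 2, Int.ofNat 0, Int.ofNat 1, Int.ofNat 0, Int.ofNat 4])) (ZT.node 5820 (ZT.leaf []) (ZT.node 5821 (ZT.leaf [Int.ofNat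 1, Int.ofNat 1]) (ZT.leaf [Int.ofNat 1])))) (ZT.node 5825 (ZT.node 5823 (ZT.leaf [Int.ofNat 1]) (ZT.node 5824 (ZT.leaf []) (ZT.leaf [Int.ofNat 1]))) (ZT.node 5826 (ZT.leaf []) (ZT.node 5827 (ZT.leaf [Int.ofNat 1, Int.ofNat 1]) (ZT.leaf [])))))) (ZT.node 5839 (ZT.node 5833 (ZT.node 5830 (ZT.node 5829 (ZT.leaf []) (ZT.leaf [Int.negSucc 171, Int.negSucc 16, Int.ofNat 42, Int.negSucc 3, Int.ofNat 1, Int.negSucc 14, Int.ofNat 1, Int.negSucc 0, Int.negSucc 1, Int.ofNat 0, Int.ofNat 0, Int.ofNat 0, Int.negSucc 0, Int.ofNat 0, Int.negSucc 0, Int.ofNat 0, Int.negSucc 1, Int.ofNat 0, Int.negSucc 11])) (ZT.node 5831 (ZT.leaf [Int.ofNat 543, Int.ofNat 413, Int.negSucc 121, Int.ofNat 67, Int.ofNat 0, Int.ofNat 84, Int.ofNat 17, Int.negSucc 28, Int.negSucc 7, Int.ofNat 0, Int.ofNat 0, Int.ofNat 0, Int.ofNat 4, Int.ofNat 2, Int.negSucc 150, Int.negSucc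 0, Int.ofNat 9, Int.ofNat 0, Int.ofNat 85]) (ZT.node 5832 (ZT.leaf []) (ZT.leaf [])))) (ZT.node 5836 (ZT.node 5834 (ZT.leaf [Int.negSucc 4935, Int.negSucc 1742, Int.ofNat 1158, Int.negSucc 270, Int.negSucc 4, Int.negSucc 606, Int.negSucc 66, Int.ofNat 136, Int.ofNat 4, Int.ofNat 0, Int.ofNat 0, Int.ofNat 0, Int.negSucc 9, Int.negSucc 5, Int.ofNat 646, Int.negSucc 2, Int.negSucc 109, Int.ofNat 0, Int.negSucc 535]) (ZT.node 5835 (ZT.leaf [Int.ofNat 211, Int.ofNat 77, Int.negSucc 51, Int.ofNat 11, Int.ofNat 0, Int.ofNat 27, Int.ofNat 2, Int.negSucc 4, Int.negSucc 0, Int.ofNat 0, Int.ofNat 0, Int.ofNat 0, Int.ofNat 1, Int.ofNat 0, Int.negSucc 30, Int.ofNat 1, Int.ofNat 6, Int.ofNat 0, Int.ofNat 23]) (ZT.leaf [Int.ofNat 784, Int.ofNat 1086, Int.negSucc 237, Int.ofNat 203, Int.ofNat 8, Int.ofNat 247, Int.ofNat 24, Int.negSucc 79, Int.negSucc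 11, Int.ofNat 0, Int.ofNat 0, Int.ofNat 0, Int.negSucc 4, Int.ofNat 12, Int.negSucc 362, Int.negSucc 9, Int.ofNat 46, Int.ofNat 0, Int.ofNat 210]))) (ZT.node 5837 (ZT.leaf [Int.ofNat 1221, Int.ofNat 1414, Int.negSucc 347, Int.ofNat 272, Int.ofNat 8, Int.ofNat 338, Int.ofNat 41, Int.negSucc 123, Int.negSucc 18, Int.ofNat 0, Int.ofNat 0, Int.ofNat 0, Int.negSucc 8, Int.ofNat 8, Int.negSucc 467, Int.negSucc 9, Int.ofNat 61, Int.ofNat 0, Int.ofNat 289]) (ZT.node 5838 (ZT.leaf [Int.ofNat 2, Int.ofNat 1, Int.ofNat 0, Int.ofNat 0, Int.ofNat 0, Int.ofNat 0, Int.ofNat 0, Int.ofNat 0, Int.ofNat 0, Int.ofNat 0, Int.ofNat 0, Int.ofNat 0, Int.ofNat 0, Int.ofNat 0, Int.negSucc 0]) (ZT.leaf [Int.negSucc 4781, Int.negSucc 1699, Int.ofNat 1105, Int.negSucc 257, Int.negSucc 4, Int.negSucc 576, Int.negSucc 66, Int.ofNat 129, Int.ofNat 4, Int.ofNat 0,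 Int.ofNat 0, Int.ofNat 0, Int.negSucc 10, Int.negSucc 5, Int.ofNat 634, Int.negSucc 2, Int.negSucc 100, Int.ofNat 0, Int.negSucc 511]))))) (ZT.node 5845 (ZT.node 5842 (ZT.node 5840 (ZT.leaf []) (ZT.node 5841 (ZT.leaf []) (ZT.leaf [Int.ofNat 16, Int.ofNat 11, Int.ofNat 1, Int.negSucc 0, Int.ofNat 0, Int.negSucc 0, Int.ofNat 0, Int.ofNat 1, Int.ofNat 0, Int.ofNat 0, Int.ofNat 0, Int.ofNat 0, Int.ofNat 0, Int.ofNat 0, Int.negSucc 2, Int.negSucc 0, Int.ofNat 0, Int.ofNat 0, Int.ofNat 0]))) (ZT.node 5843 (ZT.leaf [Int.ofNat 1, Int.ofNat 0, Int.ofNat 0, Int.ofNat 0, Int.ofNat 0, Int.ofNat 0, Int.ofNat 0, Int.ofNat 0, Int.ofNat 0, Int.ofNat 0, Int.ofNat 0, Int.ofNat 0, Int.ofNat 0, Int.ofNat 0, Int.ofNat 0, Int.negSucc 0]) (ZT.node 5844 (ZT.leaf []) (ZT.leaf [])))) (ZT.node 5848 (ZT.node 5846 (ZT.leaf [Int.ofNat 20, Int.ofNat 5, Int.negSucc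 2, Int.negSucc 0, Int.ofNat 0, Int.ofNat 0, Int.ofNat 0, Int.ofNat 1, Int.ofNat 0, Int.ofNat 0, Int.ofNat 0, Int.ofNat 0, Int.ofNat 0, Int.ofNat 0, Int.ofNat 1, Int.ofNat 0, Int.ofNat 0, Int.ofNat 0, Int.ofNat 1]) (ZT.node 5847 (ZT.leaf [Int.negSucc 21, Int.negSucc 5, Int.ofNat 3, Int.ofNat 1, Int.ofNat 0, Int.ofNat 0, Int.ofNat 0, Int.negSucc 0, Int.ofNat 0, Int.ofNat 0, Int.ofNat 0, Int.ofNat 0, Int.ofNat 0, Int.ofNat 0, Int.ofNat 1, Int.ofNat 0, Int.ofNat 0, Int.ofNat 0, Int.negSucc 0]) (ZT.leaf [Int.ofNat 556, Int.ofNat 238, Int.negSucc 127, Int.ofNat 38, Int.ofNat 1, Int.ofNat 71, Int.ofNat 9, Int.negSucc 12, Int.negSucc 1, Int.ofNat 0, Int.ofNat 0, Int.ofNat 0, Int.ofNat 3, Int.ofNat 1, Int.negSucc 84, Int.ofNat 1, Int.ofNat 10, Int.ofNat 0, Int.ofNat 64]))) (ZT.node 5849 (ZT.leaf [Int.ofNat 597, Int.ofNat 155, Int.negSucc 143,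 Int.ofNat 23, Int.ofNat 0, Int.ofNat 65, Int.ofNat 1, Int.negSucc 5, Int.ofNat 3, Int.ofNat 0, Int.ofNat 0, Int.ofNat 0, Int.ofNat 2, Int.ofNat 1, Int.negSucc 45, Int.ofNat 0, Int.ofNat 13, Int.ofNat 0, Int.ofNat 56]) (ZT.node 5850 (ZT.leaf []) (ZT.leaf []))))))) (ZT.node 5873 (ZT.node 5862 (ZT.node 5856 (ZT.node 5853 (ZT.node 5852 (ZT.leaf [Int.ofNat 2154, Int.ofNat 1009, Int.negSucc 497, Int.ofNat 159, Int.ofNat 5, Int.ofNat 291, Int.ofNat 51, Int.negSucc 96, Int.negSucc 15, Int.ofNat 0, Int.ofNat 0, Int.ofNat 0, Int.ofNat 2, Int.ofNat 2, Int.negSucc 389, Int.negSucc 2, Int.ofNat 54, Int.negSucc 0, Int.ofNat 266]) (ZT.leaf [Int.ofNat 1])) (ZT.node 5854 (ZT.leaf []) (ZT.node 5855 (ZT.leaf [Int.negSucc 3671, Int.negSucc 1345, Int.ofNat 878, Int.negSucc 225, Int.negSucc 7, Int.negSucc 450, Int.negSucc 50, Int.ofNat 116, Int.ofNat 8,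 Int.ofNat 0, Int.ofNat 0, Int.ofNat 0, Int.negSucc 1, Int.negSucc 1, Int.ofNat 460, Int.ofNat 2, Int.negSucc 78, Int.ofNat 1, Int.negSucc 398]) (ZT.leaf [])))) (ZT.node 5859 (ZT.node 5857 (ZT.leaf []) (ZT.node 5858 (ZT.leaf []) (ZT.leaf [Int.negSucc 1766, Int.negSucc 1995, Int.ofNat 471, Int.negSucc 358, Int.negSucc 9, Int.negSucc 443, Int.negSucc 60, Int.ofNat 163, Int.ofNat 31, Int.ofNat 0, Int.ofNat 0, Int.ofNat 0, Int.ofNat 4, Int.negSucc 11, Int.ofNat 660, Int.ofNat 16, Int.negSucc 80, Int.ofNat 0, Int.negSucc 394]))) (ZT.node 5860 (ZT.leaf [Int.ofNat 127, Int.ofNat 24, Int.negSucc 30, Int.ofNat 2, Int.ofNat 0, Int.ofNat 13, Int.negSucc 0, Int.ofNat 1, Int.ofNat 1, Int.ofNat 0, Int.ofNat 0, Int.ofNat 0, Int.ofNat 1, Int.ofNat 1, Int.negSucc 9, Int.ofNat 0, Int.ofNat 4, Int.ofNat 0, Int.ofNat 12]) (ZT.node 5861 (ZT.leaf [Int.negSucc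 1815, Int.negSucc 1989, Int.ofNat 486, Int.negSucc 359, Int.negSucc 9, Int.negSucc 447, Int.negSucc 60, Int.ofNat 163, Int.ofNat 30, Int.ofNat 0, Int.ofNat 0, Int.ofNat 0, Int.ofNat 4, Int.negSucc 11, Int.ofNat 657, Int.ofNat 16, Int.negSucc 81, Int.ofNat 0, Int.negSucc 397]) (ZT.leaf [Int.ofNat 1]))))) (ZT.node 5867 (ZT.node 5864 (ZT.node 5863 (ZT.leaf []) (ZT.leaf [Int.ofNat 2572, Int.ofNat 955, Int.negSucc 597, Int.ofNat 160, Int.ofNat 2, Int.ofNat 310, Int.ofNat 28, Int.negSucc 69, Int.negSucc 1, Int.ofNat 0, Int.ofNat 0, Int.ofNat 0, Int.ofNat 8, Int.ofNat 0, Int.negSucc 327, Int.ofNat 1, Int.ofNat 56, Int.ofNat 0, Int.ofNat 275])) (ZT.node 5865 (ZT.leaf []) (ZT.node 5866 (ZT.leaf [Int.ofNat 178, Int.ofNat 306, Int.negSucc 11, Int.ofNat 34, Int.ofNat 0, Int.ofNat 34, Int.ofNat 17, Int.negSucc 28, Int.negSucc 9, Int.ofNat 0, Int.ofNat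 0, Int.ofNat 0, Int.ofNat 2, Int.ofNat 1, Int.negSucc 104, Int.negSucc 1, Int.ofNat 8, Int.ofNat 0, Int.ofNat 44]) (ZT.leaf [Int.ofNat 7, Int.ofNat 7, Int.negSucc 0, Int.ofNat 3, Int.ofNat 0, Int.ofNat 1, Int.ofNat 1, Int.negSucc 0, Int.ofNat 0, Int.ofNat 1, Int.ofNat 0, Int.ofNat 0, Int.ofNat 0, Int.ofNat 0, Int.negSucc 3, Int.ofNat 0, Int.negSucc 0, Int.ofNat 0, Int.ofNat 1])))) (ZT.node 5870 (ZT.node 5868 (ZT.leaf [Int.ofNat 1594, Int.ofNat 700, Int.negSucc 369, Int.ofNat 113, Int.ofNat 3, Int.ofNat 204, Int.ofNat 25, Int.negSucc 55, Int.negSucc 5, Int.ofNat 0, Int.ofNat 0, Int.ofNat 0, Int.ofNat 3, Int.ofNat 2, Int.negSucc 252, Int.negSucc 0, Int.ofNat 39, Int.ofNat 0, Int.ofNat 186]) (ZT.node 5869 (ZT.leaf []) (ZT.leaf [Int.negSucc 1, Int.negSucc 2, Int.ofNat 1, Int.ofNat 0, Int.ofNat 0, Int.negSucc 0, Int.ofNat 0, Int.ofNat 1,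 Int.ofNat 0, Int.ofNat 1, Int.ofNat 0, Int.ofNat 0, Int.ofNat 0, Int.ofNat 0, Int.ofNat 0, Int.ofNat 0, Int.ofNat 0, Int.ofNat 0, Int.ofNat 0]))) (ZT.node 5871 (ZT.leaf []) (ZT.node 5872 (ZT.leaf []) (ZT.leaf [Int.negSucc 36, Int.negSucc 78, Int.ofNat 6, Int.negSucc 11, Int.ofNat 0, Int.negSucc 6, Int.negSucc 3, Int.ofNat 7, Int.ofNat 3, Int.ofNat 0, Int.ofNat 0, Int.ofNat 0, Int.negSucc 0, Int.negSucc 0, Int.ofNat 29, Int.ofNat 1, Int.negSucc 3, Int.ofNat 0, Int.negSucc 11])))))) (ZT.node 5884 (ZT.node 5878 (ZT.node 5875 (ZT.node 5874 (ZT.leaf [Int.negSucc 2604, Int.negSucc 1757, Int.ofNat 628, Int.negSucc 296, Int.negSucc 4, Int.negSucc 445, Int.negSucc 61, Int.ofNat 140, Int.ofNat 21, Int.ofNat 0, Int.ofNat 0, Int.ofNat 0, Int.negSucc 3, Int.negSucc 7, Int.ofNat 580, Int.ofNat 9, Int.negSucc 69, Int.ofNat 0, Int.negSucc 398]) (ZT.leaf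 [Int.ofNat 1])) (ZT.node 5876 (ZT.leaf [Int.ofNat 283, Int.ofNat 405, Int.negSucc 20, Int.ofNat 49, Int.ofNat 4, Int.ofNat 39, Int.ofNat 29, Int.negSucc 47, Int.negSucc 21, Int.ofNat 0, Int.ofNat 0, Int.ofNat 0, Int.ofNat 3, Int.negSucc 0, Int.negSucc 207, Int.ofNat 0, Int.ofNat 21, Int.ofNat 0, Int.ofNat 61]) (ZT.node 5877 (ZT.leaf [Int.ofNat 3, Int.ofNat 1]) (ZT.leaf [Int.negSucc 605, Int.negSucc 146, Int.ofNat 146, Int.negSucc 23, Int.ofNat 0, Int.negSucc 63, Int.negSucc 0, Int.ofNat 6, Int.negSucc 2, Int.ofNat 0, Int.ofNat 0, Int.ofNat 0, Int.negSucc 1, Int.negSucc 0, Int.ofNat 36, Int.ofNat 0, Int.negSucc 8, Int.ofNat 0, Int.negSucc 53])))) (ZT.node 5881 (ZT.node 5879 (ZT.leaf []) (ZT.node 5880 (ZT.leaf [Int.ofNat 1]) (ZT.leaf [Int.negSucc 13, Int.negSucc 1, Int.ofNat 6, Int.negSucc 1, Int.ofNat 0, Int.negSucc 1, Int.ofNat 0,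 Int.ofNat 1, Int.ofNat 0, Int.ofNat 0, Int.ofNat 0, Int.ofNat 0, Int.ofNat 0, Int.ofNat 0, Int.ofNat 1, Int.ofNat 0, Int.negSucc 1, Int.ofNat 0, Int.negSucc 1]))) (ZT.node 5882 (ZT.leaf [Int.negSucc 28, Int.negSucc 9, Int.ofNat 8, Int.negSucc 1, Int.ofNat 0, Int.negSucc 3, Int.ofNat 0, Int.ofNat 1, Int.ofNat 0, Int.ofNat 0, Int.ofNat 0, Int.ofNat 0, Int.ofNat 0, Int.ofNat 0, Int.ofNat 3, Int.ofNat 0, Int.negSucc 0, Int.ofNat 0, Int.negSucc 2]) (ZT.node 5883 (ZT.leaf [Int.ofNat 1]) (ZT.leaf []))))) (ZT.node 5890 (ZT.node 5887 (ZT.node 5885 (ZT.leaf [Int.negSucc 26242, Int.negSucc 12464, Int.ofNat 6174, Int.negSucc 2041, Int.negSucc 57, Int.negSucc 3635, Int.negSucc 422, Int.ofNat 990, Int.ofNat 99, Int.ofNat 0, Int.ofNat 1, Int.negSucc 0, Int.negSucc 37, Int.negSucc 42, Int.ofNat 4245, Int.ofNat 33, Int.negSucc 656, Int.negSucc 0, Int.negSucc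 3226]) (ZT.node 5886 (ZT.leaf [Int.ofNat 1, Int.ofNat 1]) (ZT.leaf [Int.ofNat 26242, Int.ofNat 12464, Int.negSucc 6173, Int.ofNat 2042, Int.ofNat 58, Int.ofNat 3636, Int.ofNat 423, Int.negSucc 989, Int.negSucc 98, Int.ofNat 0, Int.negSucc 0, Int.ofNat 1, Int.ofNat 38, Int.ofNat 43, Int.negSucc 4244, Int.negSucc 32, Int.ofNat 657, Int.ofNat 1, Int.ofNat 3227]))) (ZT.node 5888 (ZT.leaf [Int.negSucc 8, Int.ofNat 8, Int.ofNat 2, Int.ofNat 1, Int.ofNat 0, Int.ofNat 0, Int.ofNat 0, Int.negSucc 0, Int.negSucc 0, Int.negSucc 0, Int.ofNat 0, Int.ofNat 0, Int.ofNat 0, Int.ofNat 0, Int.negSucc 6, Int.ofNat 0, Int.ofNat 0, Int.ofNat 0, Int.ofNat 1]) (ZT.node 5889 (ZT.leaf [Int.negSucc 658, Int.negSucc 332, Int.ofNat 184, Int.negSucc 68, Int.ofNat 0, Int.negSucc 115, Int.negSucc 1, Int.ofNat 12, Int.negSucc 6, Int.ofNat 0, Int.ofNat 0, Int.ofNat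 0, Int.ofNat 0, Int.negSucc 3, Int.ofNat 93, Int.ofNat 2, Int.negSucc 9, Int.ofNat 0, Int.negSucc 90]) (ZT.leaf [])))) (ZT.node 5893 (ZT.node 5891 (ZT.leaf [Int.ofNat 5811, Int.negSucc 13, Int.negSucc 1221, Int.negSucc 113, Int.negSucc 11, Int.ofNat 335, Int.ofNat 31, Int.ofNat 25, Int.ofNat 39, Int.ofNat 0, Int.ofNat 0, Int.ofNat 0, Int.ofNat 31, Int.ofNat 2, Int.negSucc 123, Int.ofNat 27, Int.ofNat 60, Int.ofNat 0, Int.ofNat 308]) (ZT.node 5892 (ZT.leaf [Int.negSucc 1153, Int.negSucc 535, Int.ofNat 271, Int.negSucc 88, Int.negSucc 2, Int.negSucc 156, Int.negSucc 18, Int.ofNat 40, Int.ofNat 4, Int.ofNat 0, Int.ofNat 0, Int.ofNat 0, Int.negSucc 1, Int.negSucc 2, Int.ofNat 186, Int.ofNat 2, Int.negSucc 26, Int.ofNat 0, Int.negSucc 140]) (ZT.leaf [Int.negSucc 5270, Int.ofNat 269, Int.ofNat 1084, Int.ofNat 162, Int.ofNat 11, Int.negSucc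 247, Int.negSucc 25, Int.negSucc 23, Int.negSucc 30, Int.ofNat 0, Int.ofNat 0, Int.ofNat 0, Int.negSucc 28, Int.ofNat 2, Int.ofNat 60, Int.negSucc 27, Int.negSucc 62, Int.ofNat 0, Int.negSucc 240]))) (ZT.node 5894 (ZT.leaf [Int.ofNat 1413, Int.ofNat 738, Int.negSucc 349, Int.ofNat 128, Int.ofNat 2, Int.ofNat 214, Int.ofNat 29, Int.negSucc 66, Int.negSucc 7, Int.ofNat 0, Int.ofNat 0, Int.ofNat 0, Int.ofNat 1, Int.ofNat 2, Int.negSucc 261, Int.negSucc 1, Int.ofNat 37, Int.ofNat 0, Int.ofNat 193]) (ZT.node 5895 (ZT.leaf [Int.negSucc 745, Int.negSucc 392, Int.ofNat 186, Int.negSucc 68, Int.negSucc 0, Int.negSucc 109, Int.negSucc 8, Int.ofNat 28, Int.ofNat 2, Int.ofNat 0, Int.ofNat 0, Int.ofNat 0, Int.negSucc 0, Int.negSucc 1, Int.ofNat 127, Int.ofNat 1, Int.negSucc 20, Int.ofNat 0, Int.negSucc 98]) (ZT.leaf [Int.ofNat 1]))))))))))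

noncomputable def labT_13 : ZT := (ZT.node 6076 (ZT.node 5986 (ZT.node 5941 (ZT.node 5918 (ZT.node 5907 (ZT.node 5901 (ZT.node 5898 (ZT.node 5897 (ZT.leaf [Int.ofNat 8, Int.negSucc 107, Int.ofNat 4, Int.negSucc 20, Int.negSucc 0, Int.negSucc 17, Int.negSucc 8, Int.ofNat 15, Int.ofNat 6, Int.negSucc 0, Int.ofNat 0, Int.ofNat 0, Int.ofNat 1, Int.ofNat 1, Int.ofNat 58, Int.ofNat 2, Int.negSucc 3, Int.ofNat 0, Int.negSucc 18]) (ZT.leaf [Int.ofNat 747, Int.ofNat 393, Int.negSucc 185, Int.ofNat 69, Int.ofNat 1, Int.ofNat 110, Int.ofNat 9, Int.negSucc 27, Int.negSucc 1, Int.ofNat 0, Int.ofNat 0, Int.ofNat 0, Int.ofNat 1, Int.ofNat 2, Int.negSucc 126, Int.negSucc 0, Int.ofNat 21, Int.ofNat 0, Int.ofNat 99])) (ZT.node 5899 (ZT.leaf []) (ZT.node 5900 (ZT.leaf [Int.ofNat 690, Int.ofNat 483, Int.negSucc 186, Int.ofNat 92, Int.ofNat 2, Int.ofNat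 137, Int.ofNat 11, Int.negSucc 31, Int.negSucc 1, Int.ofNat 0, Int.ofNat 0, Int.ofNat 0, Int.negSucc 0, Int.ofNat 4, Int.negSucc 153, Int.negSucc 3, Int.ofNat 17, Int.ofNat 0, Int.ofNat 113]) (ZT.leaf [Int.negSucc 67, Int.negSucc 124, Int.ofNat 11, Int.negSucc 18, Int.negSucc 0, Int.negSucc 19, Int.negSucc 6, Int.ofNat 14, Int.ofNat 5, Int.ofNat 0, Int.ofNat 0, Int.ofNat 0, Int.ofNat 1, Int.ofNat 0, Int.ofNat 55, Int.ofNat 1, Int.negSucc 6, Int.ofNat 0, Int.negSucc 20])))) (ZT.node 5904 (ZT.node 5902 (ZT.leaf [Int.negSucc 20699, Int.negSucc 7255, Int.ofNat 4706, Int.negSucc 1075, Int.negSucc 22, Int.negSucc 2398, Int.negSucc 280, Int.ofNat 543, Int.ofNat 28, Int.negSucc 0, Int.ofNat 1, Int.ofNat 0, Int.negSucc 57, Int.negSucc 24, Int.ofNat 2613, Int.negSucc 2, Int.negSucc 426, Int.ofNat 0, Int.negSucc 2147]) (ZT.node 5903 (ZT.leaf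 [Int.ofNat 1]) (ZT.leaf []))) (ZT.node 5905 (ZT.leaf []) (ZT.node 5906 (ZT.leaf [Int.negSucc 46, Int.negSucc 21, Int.ofNat 9, Int.negSucc 0, Int.ofNat 0, Int.negSucc 5, Int.ofNat 1, Int.negSucc 0, Int.ofNat 0, Int.ofNat 0, Int.ofNat 0, Int.ofNat 0, Int.negSucc 0, Int.ofNat 0, Int.ofNat 7, Int.ofNat 0, Int.negSucc 1, Int.ofNat 0, Int.negSucc 4]) (ZT.leaf [Int.negSucc 22, Int.ofNat 6, Int.ofNat 5, Int.ofNat 3, Int.ofNat 0, Int.ofNat 0, Int.ofNat 1, Int.negSucc 1, Int.negSucc 0, Int.ofNat 0, Int.ofNat 0, Int.ofNat 0, Int.ofNat 0, Int.ofNat 0, Int.negSucc 5, Int.ofNat 0, Int.negSucc 0, Int.ofNat 0, Int.ofNat 0]))))) (ZT.node 5912 (ZT.node 5909 (ZT.node 5908 (ZT.leaf [Int.negSucc 3996, Int.negSucc 384, Int.ofNat 898, Int.negSucc 21, Int.ofNat 6, Int.negSucc 337, Int.negSucc 40, Int.negSucc 9, Int.negSucc 27, Int.ofNat 0, Int.ofNat 0, Int.ofNat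 0, Int.negSucc 20, Int.negSucc 10, Int.ofNat 216, Int.negSucc 6, Int.negSucc 6, Int.ofNat 0, Int.negSucc 281]) (ZT.leaf [Int.ofNat 904, Int.ofNat 1468, Int.negSucc 266, Int.ofNat 271, Int.ofNat 10, Int.ofNat 306, Int.ofNat 42, Int.negSucc 121, Int.negSucc 26, Int.ofNat 0, Int.ofNat 0, Int.ofNat 0, Int.negSucc 4, Int.ofNat 11, Int.negSucc 494, Int.negSucc 13, Int.ofNat 63, Int.ofNat 0, Int.ofNat 270])) (ZT.node 5910 (ZT.leaf [Int.negSucc 24453, Int.negSucc 11025, Int.ofNat 5634, Int.negSucc 1746, Int.negSucc 45, Int.negSucc 3226, Int.negSucc 401, Int.ofNat 886, Int.ofNat 95, Int.negSucc 0, Int.ofNat 1, Int.negSucc 0, Int.negSucc 46, Int.negSucc 30, Int.ofNat 3794, Int.ofNat 17, Int.negSucc 588, Int.negSucc 0, Int.negSucc 2897]) (ZT.node 5911 (ZT.leaf []) (ZT.leaf [Int.negSucc 1107, Int.negSucc 538, Int.ofNat 257, Int.negSucc 87, Int.negSucc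 2, Int.negSucc 152, Int.negSucc 18, Int.ofNat 40, Int.ofNat 5, Int.ofNat 0, Int.ofNat 0, Int.ofNat 0, Int.negSucc 1, Int.negSucc 2, Int.ofNat 189, Int.ofNat 2, Int.negSucc 25, Int.ofNat 0, Int.negSucc 137])))) (ZT.node 5915 (ZT.node 5913 (ZT.leaf [Int.ofNat 13129, Int.ofNat 4699, Int.negSucc 2930, Int.ofNat 659, Int.ofNat 12, Int.ofNat 1505, Int.ofNat 178, Int.negSucc 335, Int.negSucc 25, Int.ofNat 0, Int.ofNat 0, Int.ofNat 0, Int.ofNat 45, Int.ofNat 20, Int.negSucc 1636, Int.ofNat 4, Int.ofNat 288, Int.ofNat 0, Int.ofNat 1357]) (ZT.node 5914 (ZT.leaf []) (ZT.leaf []))) (ZT.node 5916 (ZT.leaf [Int.ofNat 1]) (ZT.node 5917 (ZT.leaf [Int.negSucc 0, Int.negSucc 0]) (ZT.leaf [])))))) (ZT.node 5929 (ZT.node 5923 (ZT.node 5920 (ZT.node 5919 (ZT.leaf [Int.ofNat 1, Int.ofNat 0, Int.ofNat 0, Int.ofNat 0, Int.ofNat 0, Int.ofNat 0, Int.ofNat 0,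 Int.ofNat 0, Int.ofNat 0, Int.ofNat 0, Int.ofNat 0, Int.ofNat 0, Int.ofNat 0, Int.ofNat 0, Int.ofNat 0, Int.ofNat 0, Int.ofNat 0, Int.ofNat 0, Int.ofNat 1]) (ZT.leaf [Int.negSucc 6, Int.negSucc 2, Int.ofNat 2, Int.ofNat 0, Int.ofNat 0, Int.negSucc 0, Int.ofNat 0, Int.ofNat 0, Int.ofNat 0, Int.ofNat 0, Int.ofNat 0, Int.ofNat 0, Int.ofNat 0, Int.ofNat 0, Int.ofNat 0, Int.ofNat 0, Int.ofNat 0, Int.ofNat 0, Int.ofNat 0])) (ZT.node 5921 (ZT.leaf [Int.ofNat 7, Int.ofNat 2, Int.negSucc 1, Int.ofNat 0, Int.ofNat 0, Int.ofNat 1, Int.ofNat 0, Int.ofNat 0, Int.ofNat 0, Int.ofNat 0, Int.ofNat 0, Int.ofNat 0, Int.ofNat 0, Int.ofNat 0, Int.ofNat 0, Int.ofNat 0, Int.ofNat 0, Int.ofNat 0, Int.ofNat 0]) (ZT.node 5922 (ZT.leaf [Int.negSucc 1122, Int.negSucc 627, Int.ofNat 293, Int.negSucc 113, Int.ofNat 3, Int.negSucc 187, Int.negSucc 14, Int.ofNat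 33, Int.negSucc 3, Int.ofNat 0, Int.ofNat 0, Int.ofNat 0, Int.negSucc 2, Int.negSucc 7, Int.ofNat 179, Int.ofNat 7, Int.negSucc 12, Int.ofNat 0, Int.negSucc 154]) (ZT.leaf [])))) (ZT.node 5926 (ZT.node 5924 (ZT.leaf []) (ZT.node 5925 (ZT.leaf [Int.ofNat 1]) (ZT.leaf []))) (ZT.node 5927 (ZT.leaf [Int.negSucc 217, Int.negSucc 83, Int.ofNat 45, Int.negSucc 9, Int.ofNat 0, Int.negSucc 21, Int.negSucc 2, Int.ofNat 5, Int.ofNat 1, Int.ofNat 0, Int.ofNat 0, Int.ofNat 0, Int.negSucc 0, Int.ofNat 0, Int.ofNat 28, Int.ofNat 0, Int.negSucc 5, Int.ofNat 0, Int.negSucc 20]) (ZT.node 5928 (ZT.leaf []) (ZT.leaf [Int.ofNat 29, Int.ofNat 0, Int.negSucc 8, Int.ofNat 1, Int.ofNat 0, Int.ofNat 2, Int.ofNat 0, Int.ofNat 0, Int.ofNat 1, Int.ofNat 0, Int.ofNat 0, Int.ofNat 0, Int.ofNat 0, Int.ofNat 0, Int.ofNat 4, Int.ofNat 0, Int.ofNat 0, Int.ofNat 0, Int.ofNat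 2]))))) (ZT.node 5935 (ZT.node 5932 (ZT.node 5930 (ZT.leaf [Int.ofNat 167, Int.ofNat 49, Int.negSucc 40, Int.ofNat 9, Int.ofNat 0, Int.ofNat 22, Int.ofNat 0, Int.negSucc 2, Int.ofNat 1, Int.ofNat 0, Int.ofNat 0, Int.ofNat 0, Int.ofNat 0, Int.ofNat 0, Int.negSucc 14, Int.ofNat 0, Int.ofNat 2, Int.ofNat 0, Int.ofNat 17]) (ZT.node 5931 (ZT.leaf [Int.negSucc 54, Int.negSucc 183, Int.ofNat 9, Int.negSucc 28, Int.negSucc 0, Int.negSucc 27, Int.negSucc 10, Int.ofNat 17, Int.ofNat 7, Int.ofNat 0, Int.ofNat 0, Int.ofNat 0, Int.ofNat 0, Int.ofNat 0, Int.ofNat 66, Int.ofNat 1, Int.negSucc 2, Int.ofNat 0, Int.negSucc 27]) (ZT.leaf [Int.negSucc 1, Int.ofNat 0, Int.ofNat 0, Int.ofNat 0, Int.ofNat 0, Int.ofNat 0, Int.negSucc 0]))) (ZT.node 5933 (ZT.leaf [Int.ofNat 168, Int.ofNat 48, Int.negSucc 40, Int.ofNat 9, Int.ofNat 0, Int.ofNat 22, Int.ofNat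 1, Int.negSucc 2, Int.ofNat 1, Int.ofNat 0, Int.ofNat 1, Int.ofNat 0, Int.ofNat 0, Int.ofNat 0, Int.negSucc 14, Int.ofNat 0, Int.ofNat 2, Int.ofNat 0, Int.ofNat 17]) (ZT.node 5934 (ZT.leaf [Int.ofNat 92, Int.ofNat 33, Int.negSucc 19, Int.ofNat 4, Int.ofNat 0, Int.ofNat 10, Int.ofNat 0, Int.negSucc 0, Int.ofNat 0, Int.ofNat 0, Int.ofNat 0, Int.ofNat 0, Int.ofNat 1, Int.ofNat 0, Int.negSucc 10, Int.ofNat 0, Int.ofNat 1, Int.ofNat 0, Int.ofNat 9]) (ZT.leaf [Int.ofNat 601, Int.ofNat 323, Int.negSucc 131, Int.ofNat 48, Int.ofNat 1, Int.ofNat 86, Int.ofNat 17, Int.negSucc 32, Int.negSucc 5, Int.ofNat 0, Int.ofNat 0, Int.ofNat 0, Int.ofNat 0, Int.ofNat 1, Int.negSucc 122, Int.ofNat 0, Int.ofNat 15, Int.ofNat 0, Int.ofNat 81])))) (ZT.node 5938 (ZT.node 5936 (ZT.leaf [Int.ofNat 26, Int.negSucc 15, Int.negSucc 9, Int.ofNat 0, Int.ofNat 0, Int.ofNat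 3, Int.negSucc 0, Int.ofNat 0, Int.ofNat 2, Int.ofNat 1, Int.ofNat 0, Int.ofNat 0, Int.negSucc 0, Int.ofNat 0, Int.ofNat 11, Int.ofNat 0, Int.ofNat 1, Int.ofNat 0, Int.ofNat 1]) (ZT.node 5937 (ZT.leaf [Int.ofNat 78, Int.ofNat 8, Int.negSucc 22, Int.ofNat 4, Int.ofNat 0, Int.ofNat 10, Int.ofNat 0, Int.ofNat 0, Int.ofNat 1, Int.ofNat 0, Int.ofNat 0, Int.ofNat 0, Int.ofNat 0, Int.ofNat 0, Int.ofNat 0, Int.ofNat 1, Int.ofNat 2, Int.ofNat 0, Int.ofNat 8]) (ZT.leaf []))) (ZT.node 5939 (ZT.leaf []) (ZT.node 5940 (ZT.leaf []) (ZT.leaf []))))))) (ZT.node 5963 (ZT.node 5952 (ZT.node 5946 (ZT.node 5943 (ZT.node 5942 (ZT.leaf [Int.ofNat 1]) (ZT.leaf [Int.negSucc 9, Int.ofNat 5, Int.ofNat 1, Int.ofNat 1, Int.ofNat 0, Int.ofNat 0, Int.ofNat 1, Int.negSucc 0, Int.negSucc 0, Int.negSucc 0, Int.ofNat 0, Int.ofNat 0, Int.ofNat 0, Int.ofNat 0, Int.negSucc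 6, Int.ofNat 0, Int.ofNat 0, Int.ofNat 0, Int.ofNat 1])) (ZT.node 5944 (ZT.leaf [Int.ofNat 1, Int.ofNat 0, Int.ofNat 0, Int.ofNat 0, Int.ofNat 0, Int.ofNat 0, Int.negSucc 0]) (ZT.node 5945 (ZT.leaf [Int.ofNat 1]) (ZT.leaf [])))) (ZT.node 5949 (ZT.node 5947 (ZT.leaf []) (ZT.node 5948 (ZT.leaf [Int.ofNat 1]) (ZT.leaf []))) (ZT.node 5950 (ZT.leaf [Int.ofNat 1]) (ZT.node 5951 (ZT.leaf [Int.negSucc 1, Int.negSucc 3, Int.negSucc 0, Int.ofNat 0, Int.ofNat 0, Int.ofNat 0, Int.ofNat 0, Int.ofNat 0, Int.ofNat 0, Int.negSucc 0, Int.ofNat 0, Int.ofNat 0, Int.ofNat 0, Int.ofNat 0, Int.ofNat 0, Int.ofNat 0, Int.negSucc 1, Int.ofNat 0, Int.ofNat 0]) (ZT.leaf [Int.ofNat 1]))))) (ZT.node 5957 (ZT.node 5954 (ZT.node 5953 (ZT.leaf [Int.negSucc 4, Int.negSucc 1, Int.negSucc 0, Int.ofNat 0, Int.ofNat 0, Int.ofNat 0, Int.ofNat 0, Int.ofNat 0, Int.ofNat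 0, Int.negSucc 0, Int.ofNat 0, Int.ofNat 0, Int.ofNat 0, Int.ofNat 0, Int.ofNat 0, Int.ofNat 0, Int.negSucc 0, Int.ofNat 0, Int.ofNat 0]) (ZT.leaf [Int.negSucc 5, Int.negSucc 2, Int.negSucc 0, Int.ofNat 0, Int.ofNat 0, Int.ofNat 0, Int.ofNat 0, Int.ofNat 0, Int.ofNat 0, Int.negSucc 0, Int.ofNat 0, Int.ofNat 0, Int.ofNat 0, Int.ofNat 0, Int.ofNat 0, Int.ofNat 0, Int.negSucc 0, Int.ofNat 0, Int.ofNat 0])) (ZT.node 5955 (ZT.leaf [Int.negSucc 52, Int.negSucc 2, Int.ofNat 12, Int.negSucc 0, Int.ofNat 0, Int.negSucc 3, Int.ofNat 0, Int.ofNat 0, Int.negSucc 0, Int.negSucc 0, Int.ofNat 0, Int.ofNat 0, Int.ofNat 0, Int.ofNat 0, Int.negSucc 2, Int.ofNat 0, Int.negSucc 0, Int.ofNat 0, Int.negSucc 2]) (ZT.node 5956 (ZT.leaf [Int.ofNat 514, Int.ofNat 290, Int.negSucc 135, Int.ofNat 56, Int.ofNat 2, Int.ofNat 85, Int.ofNat 6, Int.negSucc 26, Int.negSucc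 2, Int.ofNat 0, Int.ofNat 0, Int.ofNat 0, Int.negSucc 0, Int.ofNat 1, Int.negSucc 98, Int.negSucc 0, Int.ofNat 20, Int.ofNat 0, Int.ofNat 74]) (ZT.leaf [Int.ofNat 2565, Int.ofNat 1637, Int.negSucc 621, Int.ofNat 285, Int.ofNat 5, Int.ofNat 426, Int.ofNat 62, Int.negSucc 111, Int.negSucc 15, Int.ofNat 0, Int.ofNat 0, Int.ofNat 0, Int.ofNat 6, Int.ofNat 9, Int.negSucc 567, Int.negSucc 8, Int.ofNat 41, Int.ofNat 0, Int.ofNat 376])))) (ZT.node 5960 (ZT.node 5958 (ZT.leaf []) (ZT.node 5959 (ZT.leaf [Int.ofNat 3998, Int.ofNat 385, Int.negSucc 897, Int.ofNat 22, Int.negSucc 5, Int.ofNat 338, Int.ofNat 41, Int.ofNat 10, Int.ofNat 28, Int.ofNat 0, Int.ofNat 0, Int.ofNat 0, Int.ofNat 21, Int.ofNat 11, Int.negSucc 215, Int.ofNat 7, Int.ofNat 7, Int.ofNat 0, Int.ofNat 282]) (ZT.leaf [Int.ofNat 713, Int.ofNat 314, Int.negSucc 177, Int.ofNat 59,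 Int.ofNat 2, Int.ofNat 108, Int.ofNat 11, Int.negSucc 24, Int.ofNat 1, Int.ofNat 0, Int.ofNat 0, Int.ofNat 0, Int.negSucc 1, Int.ofNat 2, Int.negSucc 94, Int.negSucc 1, Int.ofNat 9, Int.ofNat 0, Int.ofNat 87]))) (ZT.node 5961 (ZT.leaf []) (ZT.node 5962 (ZT.leaf []) (ZT.leaf [Int.ofNat 25, Int.ofNat 11, Int.negSucc 4, Int.ofNat 0, Int.ofNat 0, Int.ofNat 3, Int.ofNat 0, Int.ofNat 0, Int.ofNat 0, Int.ofNat 0, Int.ofNat 0, Int.ofNat 0, Int.ofNat 0, Int.ofNat 0, Int.negSucc 1, Int.ofNat 0, Int.negSucc 0, Int.ofNat 0, Int.ofNat 2])))))) (ZT.node 5974 (ZT.node 5968 (ZT.node 5965 (ZT.node 5964 (ZT.leaf [Int.negSucc 24, Int.negSucc 11, Int.ofNat 5, Int.ofNat 0, Int.ofNat 0, Int.negSucc 2, Int.ofNat 0, Int.ofNat 0, Int.ofNat 0, Int.ofNat 0, Int.ofNat 0, Int.ofNat 0, Int.ofNat 0, Int.ofNat 0, Int.ofNat 2, Int.ofNat 0, Int.ofNat 1, Int.ofNat 0,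 Int.negSucc 1]) (ZT.leaf [Int.negSucc 23, Int.negSucc 10, Int.ofNat 5, Int.ofNat 0, Int.ofNat 0, Int.negSucc 2, Int.ofNat 0, Int.ofNat 0, Int.ofNat 0, Int.ofNat 0, Int.ofNat 0, Int.ofNat 0, Int.ofNat 0, Int.ofNat 0, Int.ofNat 2, Int.ofNat 0, Int.ofNat 1, Int.ofNat 0, Int.negSucc 1])) (ZT.node 5966 (ZT.leaf [Int.ofNat 1]) (ZT.node 5967 (ZT.leaf [Int.ofNat 1]) (ZT.leaf [])))) (ZT.node 5971 (ZT.node 5969 (ZT.leaf [Int.negSucc 438, Int.negSucc 145, Int.ofNat 85, Int.negSucc 21, Int.negSucc 1, Int.negSucc 34, Int.ofNat 0, Int.negSucc 4, Int.negSucc 2, Int.ofNat 0, Int.ofNat 0, Int.ofNat 0, Int.negSucc 4, Int.negSucc 2, Int.ofNat 25, Int.ofNat 1, Int.ofNat 1, Int.ofNat 0, Int.negSucc 30]) (ZT.node 5970 (ZT.leaf [Int.ofNat 1092, Int.ofNat 594, Int.negSucc 262, Int.ofNat 103, Int.ofNat 3, Int.ofNat 163, Int.ofNat 23, Int.negSucc 37, Int.negSucc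 5, Int.ofNat 0, Int.ofNat 0, Int.ofNat 0, Int.ofNat 5, Int.ofNat 2, Int.negSucc 191, Int.negSucc 0, Int.ofNat 18, Int.ofNat 0, Int.ofNat 145]) (ZT.leaf [Int.negSucc 120, Int.negSucc 64, Int.ofNat 13, Int.negSucc 3, Int.ofNat 0, Int.negSucc 4, Int.negSucc 3, Int.negSucc 1, Int.ofNat 3, Int.ofNat 0, Int.ofNat 0, Int.ofNat 0, Int.negSucc 3, Int.ofNat 0, Int.ofNat 27, Int.negSucc 0, Int.ofNat 0, Int.ofNat 0, Int.negSucc 7]))) (ZT.node 5972 (ZT.leaf [Int.negSucc 2208, Int.negSucc 780, Int.ofNat 518, Int.negSucc 123, Int.negSucc 2, Int.negSucc 282, Int.negSucc 42, Int.ofNat 78, Int.ofNat 4, Int.ofNat 0, Int.ofNat 0, Int.ofNat 0, Int.ofNat 0, Int.negSucc 0, Int.ofNat 331, Int.negSucc 1, Int.negSucc 46, Int.ofNat 0, Int.negSucc 246]) (ZT.node 5973 (ZT.leaf [Int.ofNat 2209, Int.ofNat 780, Int.negSucc 517, Int.ofNat 124, Int.ofNat 3, Int.ofNat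 283, Int.ofNat 43, Int.negSucc 77, Int.negSucc 3, Int.ofNat 0, Int.ofNat 0, Int.ofNat 0, Int.ofNat 0, Int.ofNat 1, Int.negSucc 330, Int.ofNat 2, Int.ofNat 47, Int.ofNat 0, Int.ofNat 247]) (ZT.leaf []))))) (ZT.node 5980 (ZT.node 5977 (ZT.node 5975 (ZT.leaf [Int.negSucc 2367, Int.negSucc 1119, Int.ofNat 526, Int.negSucc 168, Int.negSucc 6, Int.negSucc 316, Int.negSucc 67, Int.ofNat 128, Int.ofNat 23, Int.ofNat 0, Int.ofNat 0, Int.ofNat 0, Int.ofNat 1, Int.ofNat 0, Int.ofNat 512, Int.negSucc 0, Int.negSucc 67, Int.ofNat 0, Int.negSucc 299]) (ZT.node 5976 (ZT.leaf []) (ZT.leaf [Int.ofNat 95, Int.ofNat 25, Int.negSucc 22, Int.ofNat 6, Int.ofNat 0, Int.ofNat 10, Int.ofNat 1, Int.ofNat 0, Int.ofNat 0, Int.ofNat 0, Int.ofNat 0, Int.ofNat 0, Int.ofNat 1, Int.ofNat 0, Int.negSucc 10, Int.ofNat 1, Int.ofNat 2, Int.ofNat 0, Int.ofNat 9]))) (ZT.node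 5978 (ZT.leaf [Int.ofNat 281, Int.ofNat 404, Int.negSucc 20, Int.ofNat 49, Int.ofNat 4, Int.ofNat 39, Int.ofNat 29, Int.negSucc 47, Int.negSucc 21, Int.ofNat 0, Int.ofNat 0, Int.ofNat 0, Int.ofNat 3, Int.negSucc 0, Int.negSucc 207, Int.ofNat 0, Int.ofNat 21, Int.ofNat 0, Int.ofNat 61]) (ZT.node 5979 (ZT.leaf [Int.negSucc 192, Int.ofNat 373, Int.negSucc 5, Int.ofNat 88, Int.ofNat 5, Int.ofNat 68, Int.ofNat 0, Int.negSucc 28, Int.negSucc 4, Int.ofNat 0, Int.ofNat 0, Int.negSucc 0, Int.negSucc 6, Int.ofNat 6, Int.negSucc 108, Int.negSucc 6, Int.ofNat 20, Int.ofNat 0, Int.ofNat 54]) (ZT.leaf [Int.negSucc 18, Int.negSucc 4, Int.ofNat 3, Int.ofNat 1, Int.ofNat 0, Int.ofNat 0, Int.ofNat 0, Int.negSucc 0, Int.ofNat 0, Int.ofNat 0, Int.ofNat 0, Int.ofNat 0, Int.ofNat 0, Int.ofNat 0, Int.negSucc 0, Int.ofNat 0, Int.ofNat 0, Int.ofNat 0, Int.negSucc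 0])))) (ZT.node 5983 (ZT.node 5981 (ZT.leaf [Int.ofNat 1]) (ZT.node 5982 (ZT.leaf [Int.negSucc 975, Int.negSucc 598, Int.ofNat 229, Int.negSucc 99, Int.negSucc 1, Int.negSucc 151, Int.negSucc 22, Int.ofNat 45, Int.ofNat 8, Int.ofNat 0, Int.ofNat 0, Int.ofNat 0, Int.negSucc 1, Int.negSucc 2, Int.ofNat 195, Int.ofNat 3, Int.negSucc 19, Int.ofNat 0, Int.negSucc 136]) (ZT.leaf [Int.negSucc 460, Int.negSucc 302, Int.ofNat 96, Int.negSucc 45, Int.ofNat 0, Int.negSucc 66, Int.negSucc 16, Int.ofNat 20, Int.ofNat 5, Int.ofNat 0, Int.ofNat 0, Int.ofNat 0, Int.negSucc 2, Int.negSucc 1, Int.ofNat 99, Int.ofNat 2, Int.negSucc 1, Int.ofNat 0, Int.negSucc 63]))) (ZT.node 5984 (ZT.leaf [Int.ofNat 1]) (ZT.node 5985 (ZT.leaf [Int.ofNat 847, Int.ofNat 269, Int.negSucc 204, Int.ofNat 48, Int.ofNat 2, Int.ofNat 96, Int.ofNat 3, Int.negSucc 15, Int.ofNat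 2, Int.ofNat 0, Int.ofNat 0, Int.ofNat 0, Int.ofNat 2, Int.ofNat 0, Int.negSucc 96, Int.ofNat 0, Int.ofNat 20, Int.ofNat 0, Int.ofNat 82]) (ZT.leaf [Int.ofNat 112, Int.negSucc 231, Int.negSucc 20, Int.negSucc 43, Int.negSucc 2, Int.negSucc 14, Int.negSucc 4, Int.ofNat 9, Int.ofNat 5, Int.ofNat 0, Int.ofNat 0, Int.ofNat 0, Int.negSucc 0, Int.negSucc 3, Int.ofNat 65, Int.ofNat 5, Int.negSucc 4, Int.negSucc 0, Int.negSucc 19])))))))) (ZT.node 6031 (ZT.node 6008 (ZT.node 5997 (ZT.node 5991 (ZT.node 5988 (ZT.node 5987 (ZT.leaf []) (ZT.leaf [])) (ZT.node 5989 (ZT.leaf [Int.negSucc 3, Int.negSucc 1, Int.ofNat 0, Int.ofNat 1, Int.ofNat 0, Int.ofNat 0, Int.ofNat 0, Int.ofNat 0, Int.ofNat 0, Int.ofNat 0, Int.ofNat 0, Int.ofNat 0, Int.ofNat 0, Int.ofNat 0, Int.ofNat 2]) (ZT.node 5990 (ZT.leaf [Int.ofNat 100, Int.ofNat 17, Int.negSucc 26, Int.ofNat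 3, Int.ofNat 0, Int.ofNat 11, Int.ofNat 0, Int.negSucc 0, Int.ofNat 1, Int.ofNat 0, Int.ofNat 0, Int.ofNat 0, Int.ofNat 0, Int.ofNat 1, Int.negSucc 5, Int.ofNat 0, Int.ofNat 1, Int.ofNat 0, Int.ofNat 9]) (ZT.leaf [Int.negSucc 88, Int.negSucc 20, Int.ofNat 22, Int.negSucc 0, Int.ofNat 0, Int.negSucc 12, Int.ofNat 0, Int.ofNat 2, Int.negSucc 0, Int.ofNat 0, Int.ofNat 0, Int.ofNat 0, Int.ofNat 0, Int.ofNat 0, Int.ofNat 6, Int.ofNat 0, Int.negSucc 1, Int.ofNat 0, Int.negSucc 8])))) (ZT.node 5994 (ZT.node 5992 (ZT.leaf []) (ZT.node 5993 (ZT.leaf [Int.ofNat 12, Int.ofNat 434, Int.negSucc 50, Int.ofNat 97, Int.ofNat 5, Int.ofNat 81, Int.ofNat 0, Int.negSucc 29, Int.negSucc 4, Int.ofNat 0, Int.ofNat 1, Int.ofNat 0, Int.negSucc 4, Int.ofNat 5, Int.negSucc 128, Int.negSucc 6, Int.ofNat 24, Int.ofNat 1, Int.ofNat 69]) (ZT.leaf [Int.negSucc 1266,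 Int.negSucc 511, Int.ofNat 301, Int.negSucc 86, Int.negSucc 3, Int.negSucc 154, Int.negSucc 11, Int.ofNat 34, Int.ofNat 1, Int.ofNat 0, Int.ofNat 0, Int.ofNat 0, Int.negSucc 3, Int.negSucc 1, Int.ofNat 182, Int.ofNat 2, Int.negSucc 27, Int.ofNat 0, Int.negSucc 137]))) (ZT.node 5995 (ZT.leaf [Int.ofNat 88, Int.ofNat 30, Int.negSucc 12, Int.ofNat 2, Int.ofNat 0, Int.ofNat 4, Int.ofNat 2, Int.ofNat 2, Int.negSucc 0, Int.ofNat 0, Int.ofNat 0, Int.ofNat 0, Int.ofNat 2, Int.ofNat 0, Int.negSucc 7, Int.ofNat 0, Int.ofNat 0, Int.ofNat 0, Int.ofNat 6]) (ZT.node 5996 (ZT.leaf [Int.negSucc 78, Int.negSucc 20, Int.ofNat 17, Int.negSucc 2, Int.ofNat 0, Int.negSucc 6, Int.negSucc 0, Int.negSucc 0, Int.ofNat 0, Int.ofNat 0, Int.ofNat 0, Int.ofNat 0, Int.negSucc 0, Int.ofNat 0, Int.ofNat 4, Int.negSucc 0, Int.negSucc 0, Int.ofNat 0, Int.negSucc 6])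 (ZT.leaf []))))) (ZT.node 6002 (ZT.node 5999 (ZT.node 5998 (ZT.leaf []) (ZT.leaf [Int.negSucc 1280, Int.negSucc 730, Int.ofNat 254, Int.negSucc 91, Int.negSucc 0, Int.negSucc 148, Int.negSucc 25, Int.ofNat 45, Int.ofNat 10, Int.ofNat 0, Int.ofNat 0, Int.ofNat 0, Int.negSucc 9, Int.negSucc 4, Int.ofNat 223, Int.ofNat 4, Int.negSucc 23, Int.ofNat 0, Int.negSucc 150])) (ZT.node 6000 (ZT.leaf [Int.ofNat 1, Int.ofNat 1]) (ZT.node 6001 (ZT.leaf []) (ZT.leaf [Int.negSucc 2216, Int.negSucc 1151, Int.ofNat 606, Int.negSucc 230, Int.negSucc 8, Int.negSucc 385, Int.negSucc 36, Int.ofNat 102, Int.ofNat 3, Int.ofNat 0, Int.ofNat 0, Int.ofNat 0, Int.ofNat 8, Int.negSucc 5, Int.ofNat 406, Int.ofNat 6, Int.negSucc 60, Int.negSucc 0, Int.negSucc 318])))) (ZT.node 6005 (ZT.node 6003 (ZT.leaf [Int.ofNat 3026, Int.ofNat 155, Int.negSucc 631, Int.negSucc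 16, Int.ofNat 1, Int.ofNat 182, Int.ofNat 31, Int.negSucc 18, Int.ofNat 7, Int.ofNat 0, Int.ofNat 0, Int.ofNat 0, Int.ofNat 11, Int.negSucc 5, Int.negSucc 164, Int.ofNat 12, Int.ofNat 40, Int.negSucc 0, Int.ofNat 178]) (ZT.node 6004 (ZT.leaf [Int.ofNat 1]) (ZT.leaf [Int.ofNat 1, Int.ofNat 0, Int.ofNat 0, Int.ofNat 0, Int.ofNat 0, Int.ofNat 0, Int.ofNat 0, Int.ofNat 0, Int.ofNat 0, Int.negSucc 0]))) (ZT.node 6006 (ZT.leaf [Int.ofNat 1]) (ZT.node 6007 (ZT.leaf [Int.ofNat 352, Int.ofNat 88, Int.negSucc 89, Int.ofNat 18, Int.ofNat 0, Int.ofNat 42, Int.ofNat 0, Int.negSucc 5, Int.ofNat 3, Int.ofNat 1, Int.ofNat 0, Int.ofNat 0, Int.ofNat 0, Int.ofNat 1, Int.negSucc 23, Int.ofNat 0, Int.ofNat 7, Int.ofNat 0, Int.ofNat 34]) (ZT.leaf [Int.ofNat 2094, Int.ofNat 889, Int.negSucc 471, Int.ofNat 133, Int.ofNat 4, Int.ofNat 266, Int.ofNat 42, Int.negSucc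 77, Int.negSucc 10, Int.negSucc 0, Int.ofNat 0, Int.ofNat 0, Int.ofNat 4, Int.ofNat 2, Int.negSucc 331, Int.negSucc 0, Int.ofNat 44, Int.ofNat 0, Int.ofNat 242])))))) (ZT.node 6019 (ZT.node 6013 (ZT.node 6010 (ZT.node 6009 (ZT.leaf []) (ZT.leaf [])) (ZT.node 6011 (ZT.leaf [Int.negSucc 76, Int.negSucc 7, Int.ofNat 23, Int.negSucc 3, Int.ofNat 0, Int.negSucc 9, Int.ofNat 0, Int.ofNat 0, Int.negSucc 0, Int.ofNat 0, Int.ofNat 0, Int.ofNat 0, Int.ofNat 0, Int.ofNat 0, Int.ofNat 0, Int.negSucc 0, Int.negSucc 1, Int.ofNat 0, Int.negSucc 7]) (ZT.node 6012 (ZT.leaf [Int.negSucc 0, Int.negSucc 13, Int.negSucc 5, Int.ofNat 1, Int.ofNat 0, Int.ofNat 3, Int.negSucc 0, Int.negSucc 0, Int.ofNat 1, Int.ofNat 0, Int.ofNat 0, Int.ofNat 0, Int.negSucc 0, Int.ofNat 0, Int.ofNat 4, Int.ofNat 0, Int.ofNat 1, Int.ofNat 0, Int.ofNat 1]) (ZT.leaf [Int.ofNat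 78, Int.ofNat 21, Int.negSucc 16, Int.ofNat 3, Int.ofNat 0, Int.ofNat 7, Int.ofNat 1, Int.ofNat 1, Int.ofNat 0, Int.ofNat 0, Int.ofNat 0, Int.ofNat 0, Int.ofNat 1, Int.ofNat 0, Int.negSucc 3, Int.ofNat 1, Int.ofNat 1, Int.ofNat 0, Int.ofNat 7])))) (ZT.node 6016 (ZT.node 6014 (ZT.leaf []) (ZT.node 6015 (ZT.leaf [Int.ofNat 489, Int.ofNat 162, Int.negSucc 114, Int.ofNat 26, Int.ofNat 0, Int.ofNat 54, Int.ofNat 4, Int.negSucc 7, Int.ofNat 1, Int.ofNat 0, Int.ofNat 0, Int.ofNat 0, Int.ofNat 2, Int.ofNat 1, Int.negSucc 50, Int.ofNat 0, Int.ofNat 8, Int.ofNat 0, Int.ofNat 48]) (ZT.leaf [Int.ofNat 166, Int.ofNat 155, Int.negSucc 24, Int.ofNat 20, Int.ofNat 1, Int.ofNat 20, Int.ofNat 6, Int.negSucc 8, Int.negSucc 4, Int.ofNat 0, Int.ofNat 0, Int.ofNat 0, Int.ofNat 3, Int.ofNat 0, Int.negSucc 61, Int.negSucc 0, Int.ofNat 8, Int.ofNat 0, Int.ofNat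 25]))) (ZT.node 6017 (ZT.leaf [Int.ofNat 1]) (ZT.node 6018 (ZT.leaf [Int.ofNat 75, Int.ofNat 21, Int.negSucc 15, Int.ofNat 3, Int.ofNat 0, Int.ofNat 7, Int.ofNat 1, Int.ofNat 1, Int.ofNat 0, Int.ofNat 0, Int.ofNat 0, Int.ofNat 0, Int.ofNat 1, Int.ofNat 0, Int.negSucc 3, Int.ofNat 1, Int.ofNat 1, Int.ofNat 0, Int.ofNat 7]) (ZT.leaf [Int.negSucc 428, Int.negSucc 198, Int.ofNat 100, Int.negSucc 30, Int.negSucc 0, Int.negSucc 58, Int.negSucc 4, Int.ofNat 13, Int.ofNat 1, Int.ofNat 1, Int.ofNat 0, Int.ofNat 0, Int.negSucc 0, Int.negSucc 0, Int.ofNat 62, Int.ofNat 1, Int.negSucc 7, Int.ofNat 0, Int.negSucc 50]))))) (ZT.node 6025 (ZT.node 6022 (ZT.node 6020 (ZT.leaf []) (ZT.node 6021 (ZT.leaf [Int.negSucc 259, Int.negSucc 145, Int.ofNat 59, Int.negSucc 21, Int.negSucc 0, Int.negSucc 36, Int.negSucc 3, Int.ofNat 10, Int.ofNat 2, Int.ofNat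 1, Int.ofNat 0, Int.ofNat 0, Int.negSucc 0, Int.negSucc 0, Int.ofNat 47, Int.ofNat 1, Int.negSucc 5, Int.ofNat 0, Int.negSucc 33]) (ZT.leaf [Int.ofNat 430, Int.ofNat 211, Int.negSucc 99, Int.ofNat 34, Int.ofNat 1, Int.ofNat 60, Int.ofNat 7, Int.negSucc 13, Int.negSucc 0, Int.ofNat 0, Int.ofNat 0, Int.ofNat 0, Int.ofNat 1, Int.ofNat 1, Int.negSucc 66, Int.negSucc 0, Int.ofNat 7, Int.ofNat 0, Int.ofNat 52]))) (ZT.node 6023 (ZT.leaf [Int.ofNat 1, Int.ofNat 1]) (ZT.node 6024 (ZT.leaf [Int.ofNat 496, Int.ofNat 174, Int.negSucc 140, Int.ofNat 33, Int.negSucc 0, Int.ofNat 83, Int.ofNat 2, Int.negSucc 15, Int.ofNat 2, Int.ofNat 0, Int.ofNat 0, Int.ofNat 1, Int.negSucc 0, Int.ofNat 1, Int.negSucc 39, Int.ofNat 1, Int.ofNat 15, Int.ofNat 0, Int.ofNat 66]) (ZT.leaf [Int.negSucc 478, Int.negSucc 367, Int.ofNat 110, Int.negSucc 60, Int.negSucc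 0, Int.negSucc 82, Int.negSucc 15, Int.ofNat 29, Int.ofNat 7, Int.ofNat 0, Int.ofNat 0, Int.ofNat 0, Int.negSucc 0, Int.negSucc 1, Int.ofNat 121, Int.ofNat 2, Int.negSucc 11, Int.ofNat 0, Int.negSucc 77])))) (ZT.node 6028 (ZT.node 6026 (ZT.leaf []) (ZT.node 6027 (ZT.leaf []) (ZT.leaf [Int.negSucc 102, Int.negSucc 12, Int.ofNat 23, Int.negSucc 1, Int.ofNat 0, Int.negSucc 2, Int.ofNat 1, Int.ofNat 0, Int.ofNat 0, Int.ofNat 0, Int.negSucc 0, Int.ofNat 0, Int.negSucc 0, Int.ofNat 1, Int.ofNat 0, Int.ofNat 0, Int.negSucc 2, Int.ofNat 0, Int.negSucc 5]))) (ZT.node 6029 (ZT.leaf [Int.ofNat 103, Int.ofNat 12, Int.negSucc 22, Int.ofNat 2, Int.ofNat 0, Int.ofNat 3, Int.negSucc 0, Int.ofNat 0, Int.ofNat 0, Int.ofNat 0, Int.ofNat 1, Int.ofNat 0, Int.ofNat 1, Int.negSucc 0, Int.ofNat 0, Int.ofNat 0, Int.ofNat 3, Int.ofNat 0, Int.ofNat 6]) (ZT.node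 6030 (ZT.leaf []) (ZT.leaf [Int.negSucc 537, Int.negSucc 355, Int.ofNat 135, Int.negSucc 64, Int.negSucc 1, Int.negSucc 91, Int.negSucc 13, Int.ofNat 25, Int.ofNat 4, Int.ofNat 0, Int.ofNat 0, Int.ofNat 0, Int.negSucc 1, Int.negSucc 0, Int.ofNat 107, Int.ofNat 2, Int.negSucc 7, Int.ofNat 0, Int.negSucc 80]))))))) (ZT.node 6053 (ZT.node 6042 (ZT.node 6036 (ZT.node 6033 (ZT.node 6032 (ZT.leaf [Int.negSucc 292, Int.ofNat 36, Int.ofNat 83, Int.negSucc 1, Int.ofNat 1, Int.negSucc 23, Int.ofNat 14, Int.negSucc 19, Int.negSucc 13, Int.ofNat 0, Int.ofNat 0, Int.ofNat 0, Int.ofNat 1, Int.negSucc 2, Int.negSucc 74, Int.ofNat 2, Int.ofNat 10, Int.ofNat 0, Int.negSucc 4]) (ZT.leaf [Int.negSucc 397, Int.negSucc 113, Int.ofNat 94, Int.negSucc 17, Int.ofNat 0, Int.negSucc 43, Int.negSucc 1, Int.ofNat 7, Int.negSucc 0, Int.ofNat 0, Int.ofNat 0, Int.ofNat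 0, Int.negSucc 0, Int.negSucc 1, Int.ofNat 31, Int.ofNat 0, Int.negSucc 6, Int.ofNat 0, Int.negSucc 37])) (ZT.node 6034 (ZT.leaf [Int.ofNat 1040, Int.ofNat 726, Int.negSucc 268, Int.ofNat 135, Int.negSucc 0, Int.ofNat 188, Int.ofNat 9, Int.negSucc 15, Int.ofNat 3, Int.ofNat 0, Int.ofNat 0, Int.ofNat 0, Int.ofNat 8, Int.ofNat 7, Int.negSucc 192, Int.negSucc 3, Int.negSucc 0, Int.ofNat 1, Int.ofNat 156]) (ZT.node 6035 (ZT.leaf [Int.negSucc 12767, Int.negSucc 5568, Int.ofNat 2860, Int.negSucc 828, Int.negSucc 7, Int.negSucc 1620, Int.negSucc 237, Int.ofNat 418, Int.ofNat 57, Int.ofNat 0, Int.ofNat 0, Int.ofNat 0, Int.negSucc 52, Int.negSucc 15, Int.ofNat 2147, Int.ofNat 2, Int.negSucc 255, Int.negSucc 0, Int.negSucc 1484]) (ZT.leaf [Int.ofNat 1908, Int.ofNat 945, Int.negSucc 456, Int.ofNat 161, Int.ofNat 4, Int.ofNat 281, Int.ofNat 40,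 Int.negSucc 85, Int.negSucc 9, Int.ofNat 0, Int.ofNat 0, Int.ofNat 0, Int.ofNat 3, Int.ofNat 2, Int.negSucc 391, Int.negSucc 0, Int.ofNat 53, Int.ofNat 0, Int.ofNat 254])))) (ZT.node 6039 (ZT.node 6037 (ZT.leaf [Int.negSucc 595, Int.negSucc 154, Int.ofNat 144, Int.negSucc 22, Int.ofNat 0, Int.negSucc 64, Int.negSucc 0, Int.ofNat 6, Int.negSucc 2, Int.ofNat 0, Int.ofNat 0, Int.ofNat 0, Int.negSucc 1, Int.negSucc 0, Int.ofNat 46, Int.ofNat 0, Int.negSucc 12, Int.ofNat 0, Int.negSucc 55]) (ZT.node 6038 (ZT.leaf []) (ZT.leaf [Int.ofNat 3601, Int.ofNat 1609, Int.negSucc 802, Int.ofNat 239, Int.ofNat 4, Int.ofNat 448, Int.ofNat 56, Int.negSucc 116, Int.negSucc 14, Int.ofNat 0, Int.ofNat 0, Int.ofNat 0, Int.ofNat 15, Int.ofNat 3, Int.negSucc 565, Int.negSucc 0, Int.ofNat 81, Int.ofNat 0, Int.ofNat 412]))) (ZT.node 6040 (ZT.leaf [Int.negSucc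 10859, Int.negSucc 7141, Int.ofNat 2851, Int.negSucc 1356, Int.negSucc 34, Int.negSucc 1989, Int.negSucc 201, Int.ofNat 562, Int.ofNat 51, Int.ofNat 1, Int.ofNat 0, Int.ofNat 0, Int.ofNat 7, Int.negSucc 22, Int.ofNat 2307, Int.ofNat 42, Int.negSucc 294, Int.ofNat 0, Int.negSucc 1679]) (ZT.node 6041 (ZT.leaf [Int.ofNat 10007, Int.ofNat 6929, Int.negSucc 2654, Int.ofNat 1333, Int.ofNat 34, Int.ofNat 1888, Int.ofNat 196, Int.negSucc 526, Int.negSucc 53, Int.negSucc 0, Int.ofNat 0, Int.ofNat 0, Int.negSucc 3, Int.ofNat 24, Int.negSucc 2251, Int.negSucc 42, Int.ofNat 261, Int.ofNat 0, Int.ofNat 1595]) (ZT.leaf [Int.ofNat 3, Int.ofNat 3]))))) (ZT.node 6047 (ZT.node 6044 (ZT.node 6043 (ZT.leaf [Int.ofNat 1]) (ZT.leaf [])) (ZT.node 6045 (ZT.leaf [Int.ofNat 1]) (ZT.node 6046 (ZT.leaf [Int.ofNat 4780, Int.ofNat 1699, Int.negSucc 1104, Int.ofNat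 258, Int.ofNat 5, Int.ofNat 577, Int.ofNat 67, Int.negSucc 128, Int.negSucc 3, Int.ofNat 0, Int.ofNat 0, Int.ofNat 0, Int.ofNat 11, Int.ofNat 6, Int.negSucc 633, Int.ofNat 3, Int.ofNat 101, Int.ofNat 0, Int.ofNat 512]) (ZT.leaf [])))) (ZT.node 6050 (ZT.node 6048 (ZT.leaf [Int.ofNat 1]) (ZT.node 6049 (ZT.leaf [Int.negSucc 5496, Int.negSucc 3233, Int.ofNat 1257, Int.negSucc 511, Int.negSucc 12, Int.negSucc 819, Int.negSucc 138, Int.ofNat 274, Int.ofNat 48, Int.ofNat 0, Int.ofNat 0, Int.ofNat 0, Int.negSucc 10, Int.negSucc 11, Int.ofNat 1163, Int.ofNat 17, Int.negSucc 140, Int.ofNat 0, Int.negSucc 758]) (ZT.leaf [Int.negSucc 6, Int.ofNat 108, Int.negSucc 3, Int.ofNat 21, Int.ofNat 1, Int.ofNat 18, Int.ofNat 9, Int.negSucc 14, Int.negSucc 5, Int.ofNat 1, Int.ofNat 0, Int.ofNat 0, Int.negSucc 0, Int.negSucc 0, Int.negSucc 57, Int.negSucc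 1, Int.ofNat 4, Int.ofNat 0, Int.ofNat 19]))) (ZT.node 6051 (ZT.leaf []) (ZT.node 6052 (ZT.leaf [Int.ofNat 23, Int.ofNat 10, Int.negSucc 3, Int.ofNat 0, Int.ofNat 0, Int.ofNat 3, Int.ofNat 0, Int.ofNat 0, Int.ofNat 0, Int.ofNat 0, Int.ofNat 0, Int.ofNat 0, Int.ofNat 0, Int.ofNat 0, Int.negSucc 1, Int.ofNat 0, Int.negSucc 0, Int.ofNat 0, Int.ofNat 2]) (ZT.leaf [])))))) (ZT.node 6064 (ZT.node 6058 (ZT.node 6055 (ZT.node 6054 (ZT.leaf []) (ZT.leaf [Int.ofNat 450, Int.ofNat 864, Int.negSucc 148, Int.ofNat 164, Int.ofNat 7, Int.ofNat 168, Int.ofNat 15, Int.negSucc 66, Int.negSucc 13, Int.ofNat 0, Int.ofNat 0, Int.ofNat 0, Int.negSucc 4, Int.ofNat 8, Int.negSucc 284, Int.negSucc 9, Int.ofNat 41, Int.ofNat 0, Int.ofNat 153])) (ZT.node 6056 (ZT.leaf [Int.negSucc 398, Int.negSucc 113, Int.ofNat 95, Int.negSucc 17, Int.ofNat 0, Int.negSucc 43,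 Int.negSucc 1, Int.ofNat 7, Int.negSucc 0, Int.ofNat 0, Int.ofNat 0, Int.ofNat 0, Int.negSucc 0, Int.negSucc 0, Int.ofNat 31, Int.ofNat 0, Int.negSucc 6, Int.ofNat 0, Int.negSucc 37]) (ZT.node 6057 (ZT.leaf [Int.ofNat 1]) (ZT.leaf [Int.negSucc 29, Int.negSucc 4, Int.ofNat 6, Int.ofNat 0, Int.ofNat 0, Int.negSucc 1, Int.ofNat 0, Int.negSucc 0, Int.negSucc 0, Int.ofNat 0, Int.ofNat 0, Int.ofNat 0, Int.ofNat 0, Int.ofNat 0, Int.ofNat 4, Int.ofNat 0, Int.ofNat 1, Int.ofNat 0, Int.negSucc 0])))) (ZT.node 6061 (ZT.node 6059 (ZT.leaf []) (ZT.node 6060 (ZT.leaf [Int.ofNat 5389, Int.ofNat 2657, Int.negSucc 1253, Int.ofNat 426, Int.ofNat 15, Int.ofNat 724, Int.ofNat 79, Int.negSucc 204, Int.negSucc 25, Int.ofNat 0, Int.ofNat 0, Int.ofNat 0, Int.ofNat 8, Int.ofNat 11, Int.negSucc 972, Int.negSucc 6, Int.ofNat 162, Int.ofNat 0, Int.ofNat 667])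 (ZT.leaf []))) (ZT.node 6062 (ZT.leaf []) (ZT.node 6063 (ZT.leaf []) (ZT.leaf [Int.ofNat 614, Int.negSucc 1484, Int.negSucc 6, Int.negSucc 345, Int.negSucc 13, Int.negSucc 255, Int.negSucc 27, Int.ofNat 136, Int.ofNat 28, Int.ofNat 0, Int.ofNat 0, Int.ofNat 0, Int.ofNat 23, Int.negSucc 0, Int.ofNat 455, Int.ofNat 20, Int.negSucc 40, Int.ofNat 0, Int.negSucc 200]))))) (ZT.node 6070 (ZT.node 6067 (ZT.node 6065 (ZT.leaf [Int.ofNat 5871, Int.ofNat 154, Int.negSucc 1197, Int.negSucc 99, Int.negSucc 0, Int.ofNat 324, Int.ofNat 46, Int.negSucc 14, Int.ofNat 16, Int.negSucc 0, Int.ofNat 0, Int.ofNat 0, Int.ofNat 29, Int.negSucc 1, Int.negSucc 233, Int.ofNat 28, Int.ofNat 100, Int.ofNat 0, Int.ofNat 327]) (ZT.node 6066 (ZT.leaf [Int.negSucc 2545, Int.negSucc 347, Int.ofNat 532, Int.negSucc 4, Int.ofNat 4, Int.negSucc 175, Int.negSucc 7, Int.ofNat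 6, Int.negSucc 7, Int.ofNat 0, Int.ofNat 0, Int.ofNat 0, Int.negSucc 17, Int.negSucc 2, Int.ofNat 107, Int.negSucc 5, Int.negSucc 39, Int.ofNat 0, Int.negSucc 170]) (ZT.leaf [Int.ofNat 2494, Int.ofNat 892, Int.negSucc 586, Int.ofNat 146, Int.ofNat 4, Int.ofNat 300, Int.ofNat 34, Int.negSucc 65, Int.negSucc 1, Int.ofNat 0, Int.ofNat 0, Int.ofNat 0, Int.ofNat 4, Int.ofNat 1, Int.negSucc 339, Int.ofNat 1, Int.ofNat 52, Int.ofNat 0, Int.ofNat 265]))) (ZT.node 6068 (ZT.leaf [Int.ofNat 25618, Int.ofNat 12452, Int.negSucc 5993, Int.ofNat 2022, Int.ofNat 57, Int.ofNat 3560, Int.ofNat 430, Int.negSucc 1000, Int.negSucc 111, Int.ofNat 1, Int.negSucc 0, Int.ofNat 1, Int.ofNat 40, Int.ofNat 42, Int.negSucc 4251, Int.negSucc 33, Int.ofNat 657, Int.ofNat 1, Int.ofNat 3181]) (ZT.node 6069 (ZT.leaf [Int.negSucc 19, Int.ofNat 6, Int.ofNat 12, Int.negSucc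 3, Int.ofNat 0, Int.negSucc 9, Int.negSucc 0, Int.ofNat 0, Int.negSucc 1, Int.ofNat 0, Int.ofNat 0, Int.ofNat 0, Int.ofNat 1, Int.ofNat 0, Int.negSucc 6, Int.ofNat 0, Int.ofNat 4, Int.ofNat 0, Int.negSucc 2]) (ZT.leaf [])))) (ZT.node 6073 (ZT.node 6071 (ZT.leaf [Int.negSucc 7553, Int.negSucc 3254, Int.ofNat 1748, Int.negSucc 521, Int.negSucc 11, Int.negSucc 987, Int.negSucc 121, Int.ofNat 270, Int.ofNat 29, Int.negSucc 1, Int.ofNat 1, Int.ofNat 0, Int.negSucc 10, Int.negSucc 2, Int.ofNat 1127, Int.ofNat 4, Int.negSucc 167, Int.ofNat 0, Int.negSucc 872]) (ZT.node 6072 (ZT.leaf []) (ZT.leaf [Int.ofNat 108, Int.ofNat 20, Int.negSucc 27, Int.ofNat 4, Int.ofNat 0, Int.ofNat 11, Int.ofNat 0, Int.negSucc 0, Int.ofNat 1, Int.ofNat 0, Int.ofNat 0, Int.ofNat 0, Int.ofNat 0, Int.ofNat 0, Int.negSucc 3, Int.ofNat 0, Int.ofNat 1, Int.ofNat 0, Int.ofNat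 9]))) (ZT.node 6074 (ZT.leaf [Int.negSucc 34, Int.ofNat 8, Int.ofNat 6, Int.ofNat 2, Int.ofNat 0, Int.ofNat 0, Int.ofNat 1, Int.negSucc 1, Int.negSucc 0, Int.ofNat 0, Int.ofNat 0, Int.ofNat 0, Int.ofNat 0, Int.ofNat 1, Int.negSucc 7, Int.ofNat 0, Int.negSucc 0, Int.ofNat 0, Int.ofNat 0]) (ZT.node 6075 (ZT.leaf [Int.ofNat 33, Int.ofNat 0, Int.negSucc 5, Int.ofNat 0, Int.ofNat 0, Int.ofNat 1, Int.ofNat 0, Int.ofNat 1, Int.ofNat 1, Int.ofNat 1, Int.ofNat 0, Int.ofNat 0, Int.ofNat 0, Int.ofNat 0, Int.ofNat 2, Int.ofNat 0, Int.ofNat 0, Int.ofNat 0, Int.ofNat 1]) (ZT.leaf [Int.ofNat 52, Int.ofNat 3, Int.negSucc 10, Int.ofNat 0, Int.ofNat 0, Int.ofNat 3, Int.negSucc 0, Int.ofNat 1, Int.ofNat 1, Int.ofNat 0, Int.ofNat 0, Int.ofNat 0, Int.ofNat 0, Int.ofNat 0, Int.negSucc 0, Int.ofNat 0, Int.ofNat 2, Int.ofNat 0, Int.ofNat 2]))))))))) (ZT.node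 6166 (ZT.node 6121 (ZT.node 6098 (ZT.node 6087 (ZT.node 6081 (ZT.node 6078 (ZT.node 6077 (ZT.leaf [Int.ofNat 0, Int.negSucc 0]) (ZT.leaf [])) (ZT.node 6079 (ZT.leaf []) (ZT.node 6080 (ZT.leaf [Int.negSucc 25, Int.ofNat 1, Int.ofNat 6, Int.ofNat 0, Int.ofNat 0, Int.negSucc 0, Int.ofNat 0, Int.negSucc 0, Int.negSucc 0, Int.negSucc 0, Int.ofNat 0, Int.ofNat 0, Int.ofNat 0, Int.ofNat 0, Int.negSucc 1, Int.ofNat 0, Int.ofNat 0, Int.ofNat 0, Int.negSucc 0]) (ZT.leaf [])))) (ZT.node 6084 (ZT.node 6082 (ZT.leaf [Int.ofNat 1]) (ZT.node 6083 (ZT.leaf [Int.ofNat 10, Int.ofNat 3, Int.negSucc 0, Int.ofNat 1, Int.ofNat 0, Int.ofNat 0, Int.ofNat 0, Int.ofNat 0, Int.ofNat 0, Int.ofNat 0, Int.ofNat 0, Int.ofNat 0, Int.ofNat 0, Int.negSucc 0, Int.ofNat 2, Int.ofNat 0, Int.ofNat 0, Int.ofNat 0, Int.ofNat 0]) (ZT.leaf [Int.ofNat 24, Int.ofNat 4, Int.negSucc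 3, Int.negSucc 0, Int.ofNat 0, Int.ofNat 0, Int.ofNat 0, Int.ofNat 1, Int.ofNat 0, Int.ofNat 0, Int.ofNat 0, Int.ofNat 0, Int.ofNat 1, Int.ofNat 0, Int.negSucc 1, Int.ofNat 0, Int.ofNat 0, Int.ofNat 0, Int.ofNat 1]))) (ZT.node 6085 (ZT.leaf [Int.negSucc 24, Int.negSucc 4, Int.ofNat 4, Int.ofNat 1, Int.ofNat 0, Int.ofNat 0, Int.ofNat 0, Int.negSucc 0, Int.ofNat 0, Int.ofNat 0, Int.ofNat 0, Int.ofNat 0, Int.negSucc 0, Int.ofNat 0, Int.ofNat 2, Int.ofNat 0, Int.ofNat 0, Int.ofNat 0, Int.negSucc 0]) (ZT.node 6086 (ZT.leaf []) (ZT.leaf [Int.negSucc 2, Int.negSucc 2, Int.ofNat 0, Int.ofNat 0, Int.ofNat 0, Int.ofNat 0, Int.ofNat 0, Int.ofNat 0, Int.ofNat 0, Int.ofNat 0, Int.ofNat 0, Int.ofNat 0, Int.ofNat 0, Int.ofNat 0, Int.negSucc 0]))))) (ZT.node 6092 (ZT.node 6089 (ZT.node 6088 (ZT.leaf [Int.ofNat 1]) (ZT.leaf [])) (ZT.node 6090 (ZT.leaf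 [Int.negSucc 4750, Int.negSucc 1692, Int.ofNat 1099, Int.negSucc 257, Int.negSucc 4, Int.negSucc 574, Int.negSucc 66, Int.ofNat 130, Int.ofNat 5, Int.ofNat 0, Int.ofNat 0, Int.ofNat 0, Int.negSucc 10, Int.negSucc 5, Int.ofNat 630, Int.negSucc 2, Int.negSucc 101, Int.ofNat 0, Int.negSucc 510]) (ZT.node 6091 (ZT.leaf [Int.ofNat 254, Int.ofNat 123, Int.negSucc 62, Int.ofNat 24, Int.ofNat 0, Int.ofNat 34, Int.ofNat 5, Int.negSucc 7, Int.negSucc 0, Int.negSucc 0, Int.ofNat 1, Int.ofNat 0, Int.ofNat 1, Int.ofNat 0, Int.negSucc 32, Int.negSucc 0, Int.ofNat 3, Int.ofNat 0, Int.ofNat 32]) (ZT.leaf [Int.ofNat 3, Int.ofNat 3])))) (ZT.node 6095 (ZT.node 6093 (ZT.leaf []) (ZT.node 6094 (ZT.leaf []) (ZT.leaf [Int.ofNat 5593, Int.negSucc 301, Int.negSucc 1191, Int.negSucc 134, Int.negSucc 17, Int.ofNat 260, Int.negSucc 9, Int.ofNat 83, Int.ofNat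 58, Int.negSucc 0, Int.ofNat 1, Int.negSucc 0, Int.ofNat 37, Int.ofNat 2, Int.ofNat 28, Int.ofNat 22, Int.ofNat 35, Int.negSucc 0, Int.ofNat 236]))) (ZT.node 6096 (ZT.leaf []) (ZT.node 6097 (ZT.leaf []) (ZT.leaf [])))))) (ZT.node 6109 (ZT.node 6103 (ZT.node 6100 (ZT.node 6099 (ZT.leaf [Int.ofNat 7295, Int.ofNat 4934, Int.negSucc 2002, Int.ofNat 990, Int.ofNat 27, Int.ofNat 1414, Int.ofNat 126, Int.negSucc 403, Int.negSucc 31, Int.negSucc 0, Int.ofNat 0, Int.ofNat 0, Int.negSucc 14, Int.ofNat 10, Int.negSucc 1564, Int.negSucc 29, Int.ofNat 217, Int.ofNat 0, Int.ofNat 1167]) (ZT.leaf [])) (ZT.node 6101 (ZT.leaf [Int.ofNat 42850, Int.ofNat 14736, Int.negSucc 9699, Int.ofNat 2227, Int.ofNat 50, Int.ofNat 4911, Int.ofNat 618, Int.negSucc 1175, Int.negSucc 73, Int.ofNat 0, Int.ofNat 0, Int.ofNat 0, Int.ofNat 106, Int.ofNat 20, Int.negSucc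 5651, Int.ofNat 27, Int.ofNat 878, Int.negSucc 0, Int.ofNat 4426]) (ZT.node 6102 (ZT.leaf [Int.negSucc 9330, Int.negSucc 3334, Int.ofNat 2190, Int.negSucc 540, Int.negSucc 9, Int.negSucc 1148, Int.negSucc 134, Int.ofNat 266, Int.ofNat 7, Int.ofNat 0, Int.ofNat 0, Int.ofNat 0, Int.negSucc 16, Int.negSucc 4, Int.ofNat 1271, Int.negSucc 5, Int.negSucc 184, Int.ofNat 0, Int.negSucc 1006]) (ZT.leaf [Int.ofNat 1])))) (ZT.node 6106 (ZT.node 6104 (ZT.leaf [Int.ofNat 506, Int.ofNat 72, Int.negSucc 131, Int.ofNat 18, Int.ofNat 0, Int.ofNat 53, Int.negSucc 1, Int.ofNat 2, Int.ofNat 6, Int.ofNat 0, Int.ofNat 0, Int.ofNat 0, Int.ofNat 2, Int.ofNat 1, Int.negSucc 12, Int.ofNat 0, Int.ofNat 2, Int.ofNat 0, Int.ofNat 44]) (ZT.node 6105 (ZT.leaf [Int.negSucc 6470, Int.negSucc 2879, Int.ofNat 1542, Int.negSucc 480, Int.negSucc 10, Int.negSucc 891, Int.negSucc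 106, Int.ofNat 231, Int.ofNat 16, Int.ofNat 0, Int.ofNat 0, Int.ofNat 0, Int.negSucc 6, Int.negSucc 9, Int.ofNat 1050, Int.ofNat 5, Int.negSucc 144, Int.ofNat 0, Int.negSucc 783]) (ZT.leaf [Int.ofNat 1]))) (ZT.node 6107 (ZT.leaf [Int.ofNat 2873, Int.ofNat 1592, Int.negSucc 711, Int.ofNat 290, Int.ofNat 4, Int.ofNat 481, Int.ofNat 69, Int.negSucc 118, Int.negSucc 7, Int.negSucc 0, Int.ofNat 0, Int.ofNat 0, Int.ofNat 6, Int.ofNat 8, Int.negSucc 500, Int.negSucc 9, Int.ofNat 30, Int.ofNat 0, Int.ofNat 395]) (ZT.node 6108 (ZT.leaf [Int.ofNat 4107, Int.negSucc 939, Int.negSucc 773, Int.negSucc 291, Int.negSucc 10, Int.ofNat 43, Int.negSucc 0, Int.ofNat 90, Int.ofNat 42, Int.ofNat 0, Int.ofNat 0, Int.ofNat 0, Int.ofNat 28, Int.ofNat 2, Int.ofNat 203, Int.ofNat 28, Int.ofNat 54, Int.ofNat 0, Int.ofNat 69]) (ZT.leaf [Int.ofNat 127, Int.ofNat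 30, Int.negSucc 31, Int.ofNat 6, Int.ofNat 0, Int.ofNat 14, Int.ofNat 0, Int.negSucc 1, Int.ofNat 1, Int.ofNat 0, Int.ofNat 0, Int.ofNat 0, Int.ofNat 0, Int.ofNat 0, Int.negSucc 5, Int.ofNat 0, Int.ofNat 2, Int.ofNat 0, Int.ofNat 11]))))) (ZT.node 6115 (ZT.node 6112 (ZT.node 6110 (ZT.leaf [Int.ofNat 0, Int.negSucc 0]) (ZT.node 6111 (ZT.leaf [Int.negSucc 2871, Int.negSucc 1591, Int.ofNat 712, Int.negSucc 289, Int.negSucc 3, Int.negSucc 480, Int.negSucc 68, Int.ofNat 119, Int.ofNat 8, Int.ofNat 1, Int.ofNat 0, Int.ofNat 0, Int.negSucc 5, Int.negSucc 7, Int.ofNat 501, Int.ofNat 10, Int.negSucc 29, Int.ofNat 0, Int.negSucc 394]) (ZT.leaf []))) (ZT.node 6113 (ZT.leaf [Int.negSucc 271, Int.negSucc 157, Int.ofNat 55, Int.negSucc 20, Int.negSucc 0, Int.negSucc 32, Int.negSucc 9, Int.ofNat 12, Int.ofNat 3, Int.ofNat 0, Int.ofNat 0, Int.ofNat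 0, Int.negSucc 0, Int.negSucc 0, Int.ofNat 55, Int.ofNat 0, Int.ofNat 2, Int.ofNat 0, Int.negSucc 30]) (ZT.node 6114 (ZT.leaf []) (ZT.leaf [])))) (ZT.node 6118 (ZT.node 6116 (ZT.leaf [Int.ofNat 125, Int.ofNat 29, Int.negSucc 31, Int.ofNat 6, Int.ofNat 0, Int.ofNat 14, Int.ofNat 0, Int.negSucc 1, Int.ofNat 1, Int.ofNat 0, Int.ofNat 0, Int.ofNat 0, Int.ofNat 0, Int.ofNat 0, Int.negSucc 5, Int.ofNat 0, Int.ofNat 2, Int.ofNat 0, Int.ofNat 11]) (ZT.node 6117 (ZT.leaf [Int.ofNat 1, Int.ofNat 0, Int.ofNat 0, Int.ofNat 0, Int.ofNat 0, Int.ofNat 0, Int.ofNat 0, Int.ofNat 0, Int.ofNat 0, Int.ofNat 0, Int.ofNat 0, Int.ofNat 0, Int.ofNat 0, Int.ofNat 0, Int.ofNat 0, Int.ofNat 0, Int.ofNat 0, Int.ofNat 0, Int.ofNat 0]) (ZT.leaf [Int.negSucc 9515, Int.negSucc 2520, Int.ofNat 2016, Int.negSucc 269, Int.negSucc 3, Int.negSucc 880, Int.negSucc 125,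 Int.ofNat 176, Int.ofNat 11, Int.ofNat 0, Int.ofNat 0, Int.ofNat 0, Int.negSucc 46, Int.negSucc 7, Int.ofNat 1048, Int.negSucc 12, Int.negSucc 178, Int.ofNat 0, Int.negSucc 847]))) (ZT.node 6119 (ZT.leaf [Int.ofNat 5889, Int.ofNat 2217, Int.negSucc 1383, Int.ofNat 366, Int.ofNat 10, Int.ofNat 734, Int.ofNat 88, Int.negSucc 178, Int.negSucc 7, Int.negSucc 0, Int.ofNat 0, Int.ofNat 0, Int.ofNat 5, Int.ofNat 8, Int.negSucc 830, Int.ofNat 0, Int.ofNat 140, Int.ofNat 0, Int.ofNat 648]) (ZT.node 6120 (ZT.leaf [Int.ofNat 1092, Int.ofNat 1511, Int.negSucc 298, Int.ofNat 274, Int.ofNat 10, Int.ofNat 314, Int.ofNat 46, Int.negSucc 120, Int.negSucc 27, Int.ofNat 0, Int.ofNat 0, Int.ofNat 0, Int.negSucc 2, Int.ofNat 11, Int.negSucc 506, Int.negSucc 11, Int.ofNat 63, Int.ofNat 0, Int.ofNat 281]) (ZT.leaf [Int.ofNat 271, Int.ofNat 95, Int.negSucc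 64, Int.ofNat 16, Int.ofNat 0, Int.ofNat 33, Int.ofNat 4, Int.negSucc 8, Int.ofNat 0, Int.ofNat 0, Int.ofNat 0, Int.ofNat 0, Int.ofNat 0, Int.ofNat 1, Int.negSucc 34, Int.ofNat 0, Int.ofNat 6, Int.ofNat 0, Int.ofNat 30]))))))) (ZT.node 6143 (ZT.node 6132 (ZT.node 6126 (ZT.node 6123 (ZT.node 6122 (ZT.leaf [Int.ofNat 49, Int.negSucc 0, Int.negSucc 12, Int.ofNat 1, Int.ofNat 0, Int.ofNat 4, Int.ofNat 0, Int.ofNat 0, Int.ofNat 0, Int.ofNat 0, Int.ofNat 0, Int.ofNat 0, Int.ofNat 0, Int.ofNat 0, Int.ofNat 3, Int.ofNat 0, Int.negSucc 0, Int.ofNat 0, Int.ofNat 3]) (ZT.leaf [])) (ZT.node 6124 (ZT.leaf [Int.ofNat 100, Int.ofNat 9, Int.negSucc 30, Int.ofNat 6, Int.ofNat 0, Int.ofNat 14, Int.ofNat 0, Int.negSucc 1, Int.ofNat 2, Int.ofNat 0, Int.ofNat 0, Int.ofNat 0, Int.negSucc 0, Int.ofNat 0, Int.ofNat 0, Int.ofNat 0, Int.ofNat 2, Int.ofNat 0,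 Int.ofNat 10]) (ZT.node 6125 (ZT.leaf [Int.negSucc 55, Int.negSucc 9, Int.ofNat 18, Int.negSucc 4, Int.ofNat 0, Int.negSucc 9, Int.ofNat 0, Int.ofNat 2, Int.negSucc 0, Int.ofNat 0, Int.ofNat 0, Int.ofNat 0, Int.ofNat 1, Int.ofNat 0, Int.ofNat 2, Int.ofNat 0, Int.negSucc 0, Int.ofNat 0, Int.negSucc 6]) (ZT.leaf [Int.negSucc 49, Int.ofNat 3, Int.ofNat 14, Int.negSucc 0, Int.ofNat 0, Int.negSucc 3, Int.ofNat 0, Int.ofNat 0, Int.negSucc 0, Int.ofNat 0, Int.ofNat 0, Int.ofNat 0, Int.ofNat 0, Int.ofNat 0, Int.negSucc 2, Int.ofNat 0, Int.negSucc 0, Int.ofNat 0, Int.negSucc 2])))) (ZT.node 6129 (ZT.node 6127 (ZT.leaf [Int.ofNat 1]) (ZT.node 6128 (ZT.leaf [Int.ofNat 1]) (ZT.leaf [Int.negSucc 9, Int.negSucc 5, Int.ofNat 2, Int.ofNat 0, Int.ofNat 0, Int.negSucc 0, Int.ofNat 0, Int.ofNat 1, Int.ofNat 1, Int.ofNat 0, Int.ofNat 0, Int.ofNat 0, Int.ofNat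 0, Int.ofNat 0, Int.ofNat 0, Int.ofNat 0, Int.ofNat 0, Int.ofNat 0, Int.negSucc 0]))) (ZT.node 6130 (ZT.leaf [Int.negSucc 554, Int.negSucc 237, Int.ofNat 128, Int.negSucc 37, Int.negSucc 0, Int.negSucc 70, Int.negSucc 8, Int.ofNat 13, Int.ofNat 2, Int.ofNat 0, Int.ofNat 0, Int.ofNat 0, Int.negSucc 2, Int.negSucc 0, Int.ofNat 85, Int.negSucc 0, Int.negSucc 9, Int.ofNat 0, Int.negSucc 63]) (ZT.node 6131 (ZT.leaf [Int.negSucc 628, Int.negSucc 239, Int.ofNat 157, Int.negSucc 44, Int.negSucc 0, Int.negSucc 85, Int.negSucc 6, Int.ofNat 16, Int.negSucc 0, Int.ofNat 0, Int.ofNat 0, Int.ofNat 0, Int.negSucc 0, Int.negSucc 0, Int.ofNat 81, Int.ofNat 0, Int.negSucc 12, Int.ofNat 0, Int.negSucc 72]) (ZT.leaf [Int.ofNat 1]))))) (ZT.node 6137 (ZT.node 6134 (ZT.node 6133 (ZT.leaf []) (ZT.leaf [Int.negSucc 101, Int.negSucc 18, Int.ofNat 28, Int.negSucc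 4, Int.ofNat 0, Int.negSucc 12, Int.ofNat 0, Int.ofNat 1, Int.negSucc 0, Int.ofNat 0, Int.ofNat 0, Int.ofNat 0, Int.ofNat 0, Int.ofNat 0, Int.ofNat 7, Int.ofNat 0, Int.negSucc 2, Int.ofNat 0, Int.negSucc 10])) (ZT.node 6135 (ZT.leaf [Int.ofNat 1, Int.negSucc 0, Int.ofNat 0, Int.ofNat 0, Int.ofNat 0, Int.ofNat 0, Int.ofNat 0, Int.ofNat 0, Int.ofNat 0, Int.ofNat 0, Int.ofNat 0, Int.ofNat 0, Int.ofNat 0, Int.ofNat 0, Int.ofNat 1]) (ZT.node 6136 (ZT.leaf [Int.ofNat 400, Int.ofNat 114, Int.negSucc 94, Int.ofNat 18, Int.ofNat 0, Int.ofNat 44, Int.ofNat 2, Int.negSucc 6, Int.ofNat 1, Int.ofNat 0, Int.ofNat 0, Int.ofNat 0, Int.ofNat 1, Int.ofNat 1, Int.negSucc 30, Int.ofNat 0, Int.ofNat 7, Int.ofNat 0, Int.ofNat 38]) (ZT.leaf [Int.ofNat 99, Int.negSucc 126, Int.negSucc 39, Int.negSucc 15, Int.negSucc 0, Int.negSucc 3, Int.negSucc 12, Int.ofNat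 20, Int.ofNat 7, Int.ofNat 0, Int.ofNat 0, Int.ofNat 0, Int.ofNat 2, Int.negSucc 0, Int.ofNat 59, Int.ofNat 1, Int.ofNat 1, Int.ofNat 0, Int.negSucc 9])))) (ZT.node 6140 (ZT.node 6138 (ZT.leaf [Int.negSucc 2603, Int.negSucc 1756, Int.ofNat 628, Int.negSucc 296, Int.negSucc 4, Int.negSucc 445, Int.negSucc 61, Int.ofNat 140, Int.ofNat 21, Int.ofNat 0, Int.ofNat 0, Int.ofNat 0, Int.negSucc 3, Int.negSucc 7, Int.ofNat 580, Int.ofNat 9, Int.negSucc 69, Int.ofNat 0, Int.negSucc 398]) (ZT.node 6139 (ZT.leaf [Int.negSucc 46, Int.ofNat 4, Int.ofNat 14, Int.negSucc 0, Int.ofNat 0, Int.negSucc 3, Int.ofNat 0, Int.ofNat 0, Int.negSucc 0, Int.ofNat 0, Int.ofNat 0, Int.ofNat 0, Int.ofNat 0, Int.ofNat 0, Int.negSucc 2, Int.ofNat 0, Int.negSucc 0, Int.ofNat 0, Int.negSucc 2]) (ZT.leaf [Int.negSucc 7014, Int.negSucc 4162, Int.ofNat 1658, Int.negSucc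 696, Int.negSucc 19, Int.negSucc 1110, Int.negSucc 154, Int.ofNat 358, Int.ofNat 57, Int.negSucc 1, Int.ofNat 1, Int.ofNat 0, Int.ofNat 0, Int.negSucc 11, Int.ofNat 1431, Int.ofNat 15, Int.negSucc 194, Int.ofNat 0, Int.negSucc 982]))) (ZT.node 6141 (ZT.leaf []) (ZT.node 6142 (ZT.leaf []) (ZT.leaf [Int.ofNat 1154, Int.ofNat 535, Int.negSucc 270, Int.ofNat 89, Int.ofNat 3, Int.ofNat 157, Int.ofNat 19, Int.negSucc 39, Int.negSucc 3, Int.ofNat 0, Int.ofNat 0, Int.ofNat 0, Int.ofNat 2, Int.ofNat 3, Int.negSucc 185, Int.negSucc 1, Int.ofNat 27, Int.ofNat 0, Int.ofNat 141])))))) (ZT.node 6154 (ZT.node 6148 (ZT.node 6145 (ZT.node 6144 (ZT.leaf [Int.ofNat 54, Int.ofNat 3, Int.negSucc 11, Int.ofNat 1, Int.ofNat 0, Int.ofNat 4, Int.ofNat 0, Int.ofNat 0, Int.ofNat 1, Int.ofNat 1, Int.ofNat 0, Int.ofNat 0, Int.ofNat 0, Int.ofNat 0, Int.ofNat 3,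 Int.ofNat 0, Int.ofNat 1, Int.ofNat 0, Int.ofNat 3]) (ZT.leaf [Int.negSucc 1011, Int.negSucc 504, Int.ofNat 236, Int.negSucc 83, Int.negSucc 2, Int.negSucc 142, Int.negSucc 18, Int.ofNat 39, Int.ofNat 5, Int.ofNat 0, Int.ofNat 0, Int.ofNat 0, Int.negSucc 1, Int.negSucc 2, Int.ofNat 178, Int.ofNat 2, Int.negSucc 24, Int.ofNat 0, Int.negSucc 128])) (ZT.node 6146 (ZT.leaf [Int.ofNat 4811, Int.ofNat 2907, Int.negSucc 1156, Int.ofNat 487, Int.ofNat 15, Int.ofNat 790, Int.ofNat 112, Int.negSucc 240, Int.negSucc 33, Int.ofNat 0, Int.ofNat 0, Int.ofNat 0, Int.negSucc 0, Int.ofNat 17, Int.negSucc 1028, Int.negSucc 9, Int.ofNat 136, Int.ofNat 0, Int.ofNat 698]) (ZT.node 6147 (ZT.leaf [Int.negSucc 6658, Int.negSucc 658, Int.ofNat 1249, Int.ofNat 53, Int.ofNat 0, Int.negSucc 253, Int.negSucc 116, Int.ofNat 14, Int.ofNat 33, Int.negSucc 2, Int.ofNat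 2, Int.ofNat 1, Int.negSucc 69, Int.ofNat 5, Int.ofNat 923, Int.negSucc 30, Int.negSucc 81, Int.ofNat 2, Int.negSucc 379]) (ZT.leaf [Int.negSucc 88, Int.negSucc 26, Int.ofNat 23, Int.negSucc 3, Int.ofNat 0, Int.negSucc 9, Int.ofNat 0, Int.ofNat 1, Int.ofNat 0, Int.ofNat 1, Int.ofNat 0, Int.ofNat 0, Int.negSucc 0, Int.ofNat 0, Int.ofNat 11, Int.ofNat 0, Int.negSucc 0, Int.ofNat 0, Int.negSucc 8])))) (ZT.node 6151 (ZT.node 6149 (ZT.leaf [Int.ofNat 4, Int.ofNat 4]) (ZT.node 6150 (ZT.leaf [Int.ofNat 184, Int.ofNat 51, Int.negSucc 42, Int.ofNat 6, Int.ofNat 0, Int.ofNat 20, Int.negSucc 0, Int.ofNat 0, Int.ofNat 1, Int.ofNat 0, Int.ofNat 0, Int.ofNat 0, Int.ofNat 1, Int.ofNat 0, Int.negSucc 14, Int.ofNat 0, Int.ofNat 4, Int.ofNat 0, Int.ofNat 17]) (ZT.leaf [Int.ofNat 1, Int.ofNat 0, Int.ofNat 0, Int.ofNat 0, Int.ofNat 0, Int.ofNat 0, Int.ofNat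 0, Int.ofNat 0, Int.ofNat 0, Int.ofNat 0, Int.ofNat 0, Int.ofNat 0, Int.ofNat 1]))) (ZT.node 6152 (ZT.leaf [Int.ofNat 3, Int.ofNat 1]) (ZT.node 6153 (ZT.leaf [Int.ofNat 129, Int.negSucc 8, Int.negSucc 29, Int.negSucc 0, Int.ofNat 0, Int.ofNat 5, Int.negSucc 1, Int.ofNat 5, Int.ofNat 2, Int.ofNat 0, Int.ofNat 0, Int.ofNat 0, Int.ofNat 1, Int.ofNat 0, Int.ofNat 17, Int.ofNat 0, Int.negSucc 1, Int.ofNat 0, Int.ofNat 4]) (ZT.leaf [Int.negSucc 3603, Int.negSucc 1608, Int.ofNat 803, Int.negSucc 238, Int.negSucc 3, Int.negSucc 447, Int.negSucc 55, Int.ofNat 117, Int.ofNat 15, Int.ofNat 0, Int.ofNat 0, Int.ofNat 0, Int.negSucc 14, Int.negSucc 2, Int.ofNat 566, Int.ofNat 1, Int.negSucc 80, Int.ofNat 0, Int.negSucc 411]))))) (ZT.node 6160 (ZT.node 6157 (ZT.node 6155 (ZT.leaf [Int.negSucc 4, Int.ofNat 15, Int.ofNat 5, Int.ofNat 3, Int.ofNat 0,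 Int.ofNat 0, Int.ofNat 2, Int.negSucc 0, Int.ofNat 0, Int.ofNat 1, Int.ofNat 0, Int.ofNat 0, Int.ofNat 0, Int.ofNat 0, Int.negSucc 7, Int.ofNat 0, Int.negSucc 0, Int.ofNat 0, Int.ofNat 0]) (ZT.node 6156 (ZT.leaf [Int.ofNat 5, Int.negSucc 15, Int.negSucc 4, Int.negSucc 2, Int.ofNat 0, Int.ofNat 0, Int.negSucc 1, Int.ofNat 1, Int.ofNat 0, Int.negSucc 0, Int.ofNat 0, Int.ofNat 0, Int.ofNat 0, Int.ofNat 0, Int.ofNat 8, Int.ofNat 0, Int.ofNat 1, Int.ofNat 0, Int.ofNat 0]) (ZT.leaf []))) (ZT.node 6158 (ZT.leaf [Int.negSucc 543, Int.negSucc 306, Int.ofNat 147, Int.negSucc 59, Int.negSucc 1, Int.negSucc 93, Int.negSucc 5, Int.ofNat 28, Int.ofNat 2, Int.ofNat 0, Int.ofNat 0, Int.ofNat 0, Int.ofNat 1, Int.negSucc 0, Int.ofNat 104, Int.ofNat 1, Int.negSucc 18, Int.ofNat 0, Int.negSucc 79]) (ZT.node 6159 (ZT.leaf [Int.ofNat 1, Int.ofNat 0, Int.ofNat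 0, Int.ofNat 0, Int.ofNat 0, Int.ofNat 0, Int.ofNat 0, Int.ofNat 0, Int.ofNat 0, Int.ofNat 0, Int.ofNat 0, Int.ofNat 0, Int.ofNat 0, Int.ofNat 0, Int.ofNat 0, Int.ofNat 0, Int.ofNat 0, Int.ofNat 0, Int.negSucc 0]) (ZT.leaf [Int.negSucc 2, Int.negSucc 0])))) (ZT.node 6163 (ZT.node 6161 (ZT.leaf [Int.ofNat 1]) (ZT.node 6162 (ZT.leaf [Int.negSucc 36, Int.negSucc 10, Int.ofNat 9, Int.negSucc 1, Int.ofNat 0, Int.negSucc 3, Int.ofNat 0, Int.ofNat 1, Int.ofNat 0, Int.ofNat 0, Int.ofNat 0, Int.ofNat 0, Int.ofNat 0, Int.ofNat 0, Int.ofNat 4, Int.ofNat 0, Int.negSucc 0, Int.ofNat 0, Int.negSucc 2]) (ZT.leaf []))) (ZT.node 6164 (ZT.leaf [Int.ofNat 1]) (ZT.node 6165 (ZT.leaf [Int.ofNat 0, Int.negSucc 0, Int.ofNat 0, Int.ofNat 0, Int.ofNat 0, Int.ofNat 0, Int.ofNat 0, Int.ofNat 0, Int.ofNat 0, Int.ofNat 0, Int.ofNat 0, Int.ofNat 0, Int.ofNat 0,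 Int.ofNat 0, Int.ofNat 1]) (ZT.leaf [Int.ofNat 134, Int.ofNat 41, Int.negSucc 34, Int.ofNat 7, Int.ofNat 0, Int.ofNat 17, Int.ofNat 0, Int.negSucc 2, Int.ofNat 1, Int.ofNat 0, Int.ofNat 0, Int.ofNat 0, Int.ofNat 0, Int.ofNat 1, Int.negSucc 11, Int.ofNat 0, Int.ofNat 3, Int.ofNat 0, Int.ofNat 15])))))))) (ZT.node 6211 (ZT.node 6188 (ZT.node 6177 (ZT.node 6171 (ZT.node 6168 (ZT.node 6167 (ZT.leaf [Int.negSucc 4930, Int.negSucc 1790, Int.ofNat 1105, Int.negSucc 261, Int.negSucc 7, Int.negSucc 555, Int.negSucc 63, Int.ofNat 138, Int.ofNat 12, Int.ofNat 0, Int.ofNat 0, Int.ofNat 0, Int.negSucc 12, Int.negSucc 2, Int.ofNat 686, Int.negSucc 2, Int.negSucc 120, Int.ofNat 0, Int.negSucc 513]) (ZT.leaf [Int.negSucc 275, Int.negSucc 254, Int.ofNat 69, Int.negSucc 45, Int.negSucc 1, Int.negSucc 49, Int.negSucc 3, Int.ofNat 16, Int.ofNat 3, Int.ofNat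 0, Int.ofNat 0, Int.ofNat 0, Int.ofNat 0, Int.negSucc 1, Int.ofNat 62, Int.ofNat 3, Int.negSucc 9, Int.ofNat 0, Int.negSucc 44])) (ZT.node 6169 (ZT.leaf [Int.ofNat 1]) (ZT.node 6170 (ZT.leaf [Int.ofNat 86, Int.ofNat 16, Int.negSucc 22, Int.ofNat 3, Int.ofNat 0, Int.ofNat 10, Int.ofNat 0, Int.ofNat 0, Int.ofNat 1, Int.ofNat 0, Int.ofNat 0, Int.ofNat 0, Int.ofNat 0, Int.ofNat 0, Int.negSucc 3, Int.ofNat 0, Int.ofNat 2, Int.ofNat 0, Int.ofNat 8]) (ZT.leaf [])))) (ZT.node 6174 (ZT.node 6172 (ZT.leaf [Int.ofNat 1]) (ZT.node 6173 (ZT.leaf [Int.ofNat 1]) (ZT.leaf []))) (ZT.node 6175 (ZT.leaf []) (ZT.node 6176 (ZT.leaf [Int.ofNat 0, Int.negSucc 0]) (ZT.leaf [Int.negSucc 3024, Int.negSucc 154, Int.ofNat 632, Int.ofNat 17, Int.negSucc 0, Int.negSucc 181, Int.negSucc 30, Int.ofNat 19, Int.negSucc 6, Int.ofNat 0, Int.ofNat 0, Int.ofNat 0, Int.negSucc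 10, Int.ofNat 6, Int.ofNat 165, Int.negSucc 11, Int.negSucc 39, Int.ofNat 1, Int.negSucc 177]))))) (ZT.node 6182 (ZT.node 6179 (ZT.node 6178 (ZT.leaf []) (ZT.leaf [])) (ZT.node 6180 (ZT.leaf [Int.negSucc 2076, Int.negSucc 672, Int.ofNat 479, Int.negSucc 94, Int.ofNat 0, Int.negSucc 237, Int.negSucc 17, Int.ofNat 39, Int.negSucc 1, Int.ofNat 0, Int.ofNat 0, Int.ofNat 0, Int.negSucc 6, Int.negSucc 1, Int.ofNat 228, Int.negSucc 1, Int.negSucc 43, Int.ofNat 0, Int.negSucc 211]) (ZT.node 6181 (ZT.leaf [Int.negSucc 1280, Int.negSucc 730, Int.ofNat 254, Int.negSucc 91, Int.negSucc 0, Int.negSucc 148, Int.negSucc 25, Int.ofNat 45, Int.ofNat 10, Int.ofNat 0, Int.ofNat 0, Int.ofNat 0, Int.negSucc 9, Int.negSucc 4, Int.ofNat 223, Int.ofNat 4, Int.negSucc 23, Int.ofNat 0, Int.negSucc 150]) (ZT.leaf [])))) (ZT.node 6185 (ZT.node 6183 (ZT.leaf [Int.ofNat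 20667, Int.ofNat 7250, Int.negSucc 4695, Int.ofNat 1072, Int.ofNat 23, Int.ofNat 2395, Int.ofNat 280, Int.negSucc 540, Int.negSucc 27, Int.ofNat 1, Int.negSucc 0, Int.ofNat 0, Int.ofNat 58, Int.ofNat 25, Int.negSucc 2609, Int.ofNat 3, Int.ofNat 427, Int.ofNat 0, Int.ofNat 2145]) (ZT.node 6184 (ZT.leaf [Int.ofNat 1110, Int.ofNat 539, Int.negSucc 256, Int.ofNat 88, Int.ofNat 3, Int.ofNat 153, Int.ofNat 19, Int.negSucc 39, Int.negSucc 4, Int.ofNat 0, Int.ofNat 0, Int.ofNat 0, Int.ofNat 2, Int.ofNat 3, Int.negSucc 188, Int.negSucc 1, Int.ofNat 26, Int.ofNat 0, Int.ofNat 138]) (ZT.leaf []))) (ZT.node 6186 (ZT.leaf []) (ZT.node 6187 (ZT.leaf [Int.ofNat 6284, Int.ofNat 691, Int.negSucc 1364, Int.ofNat 22, Int.negSucc 6, Int.ofNat 461, Int.ofNat 49, Int.negSucc 11, Int.ofNat 26, Int.ofNat 0, Int.ofNat 0, Int.ofNat 0, Int.ofNat 36, Int.ofNat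 4, Int.negSucc 370, Int.ofNat 19, Int.ofNat 76, Int.ofNat 0, Int.ofNat 433]) (ZT.leaf [Int.negSucc 763, Int.negSucc 365, Int.ofNat 193, Int.negSucc 68, Int.ofNat 0, Int.negSucc 113, Int.negSucc 4, Int.ofNat 12, Int.negSucc 4, Int.ofNat 0, Int.ofNat 0, Int.ofNat 0, Int.negSucc 0, Int.negSucc 3, Int.ofNat 97, Int.ofNat 1, Int.negSucc 12, Int.ofNat 0, Int.negSucc 93])))))) (ZT.node 6199 (ZT.node 6193 (ZT.node 6190 (ZT.node 6189 (ZT.leaf [Int.ofNat 440, Int.ofNat 146, Int.negSucc 84, Int.ofNat 22, Int.ofNat 2, Int.ofNat 35, Int.ofNat 0, Int.ofNat 5, Int.ofNat 3, Int.ofNat 0, Int.ofNat 0, Int.ofNat 0, Int.ofNat 5, Int.ofNat 3, Int.negSucc 24, Int.negSucc 0, Int.negSucc 0, Int.ofNat 0, Int.ofNat 31]) (ZT.leaf [Int.ofNat 261, Int.ofNat 146, Int.negSucc 58, Int.ofNat 22, Int.ofNat 1, Int.ofNat 37, Int.ofNat 4, Int.negSucc 9, Int.negSucc 1,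 Int.negSucc 0, Int.ofNat 0, Int.ofNat 0, Int.ofNat 1, Int.ofNat 1, Int.negSucc 46, Int.negSucc 0, Int.ofNat 6, Int.ofNat 0, Int.ofNat 34])) (ZT.node 6191 (ZT.leaf [Int.ofNat 1, Int.ofNat 1]) (ZT.node 6192 (ZT.leaf [Int.ofNat 1]) (ZT.leaf [Int.ofNat 1])))) (ZT.node 6196 (ZT.node 6194 (ZT.leaf []) (ZT.node 6195 (ZT.leaf [Int.negSucc 96, Int.negSucc 27, Int.ofNat 24, Int.negSucc 4, Int.ofNat 0, Int.negSucc 12, Int.ofNat 0, Int.ofNat 2, Int.negSucc 0, Int.ofNat 0, Int.ofNat 0, Int.ofNat 0, Int.ofNat 0, Int.negSucc 0, Int.ofNat 5, Int.ofNat 0, Int.negSucc 1, Int.ofNat 0, Int.negSucc 10]) (ZT.leaf [Int.negSucc 21, Int.ofNat 5, Int.ofNat 12, Int.negSucc 3, Int.ofNat 0, Int.negSucc 9, Int.negSucc 0, Int.ofNat 0, Int.negSucc 1, Int.ofNat 0, Int.ofNat 0, Int.ofNat 0, Int.ofNat 1, Int.ofNat 0, Int.negSucc 6, Int.ofNat 0, Int.ofNat 4, Int.ofNat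 0, Int.negSucc 2]))) (ZT.node 6197 (ZT.leaf [Int.ofNat 96, Int.ofNat 27, Int.negSucc 23, Int.ofNat 5, Int.ofNat 0, Int.ofNat 13, Int.ofNat 0, Int.negSucc 1, Int.ofNat 1, Int.ofNat 0, Int.ofNat 0, Int.ofNat 0, Int.ofNat 0, Int.ofNat 1, Int.negSucc 4, Int.ofNat 0, Int.ofNat 2, Int.ofNat 0, Int.ofNat 11]) (ZT.node 6198 (ZT.leaf []) (ZT.leaf [Int.ofNat 274, Int.ofNat 255, Int.negSucc 68, Int.ofNat 46, Int.ofNat 2, Int.ofNat 50, Int.ofNat 4, Int.negSucc 15, Int.negSucc 2, Int.ofNat 0, Int.ofNat 0, Int.ofNat 0, Int.ofNat 0, Int.ofNat 2, Int.negSucc 61, Int.negSucc 2, Int.ofNat 10, Int.ofNat 0, Int.ofNat 45]))))) (ZT.node 6205 (ZT.node 6202 (ZT.node 6200 (ZT.leaf [Int.ofNat 4953, Int.ofNat 1786, Int.negSucc 1116, Int.ofNat 266, Int.ofNat 8, Int.ofNat 566, Int.ofNat 65, Int.negSucc 137, Int.negSucc 9, Int.ofNat 0, Int.ofNat 0, Int.ofNat 0,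 Int.ofNat 12, Int.ofNat 3, Int.negSucc 678, Int.ofNat 3, Int.ofNat 117, Int.ofNat 0, Int.ofNat 517]) (ZT.node 6201 (ZT.leaf [Int.negSucc 407, Int.negSucc 145, Int.ofNat 92, Int.negSucc 22, Int.negSucc 0, Int.negSucc 43, Int.negSucc 3, Int.ofNat 7, Int.ofNat 0, Int.ofNat 0, Int.ofNat 0, Int.ofNat 0, Int.negSucc 1, Int.negSucc 0, Int.ofNat 47, Int.ofNat 0, Int.negSucc 5, Int.ofNat 0, Int.negSucc 39]) (ZT.leaf [Int.negSucc 76, Int.negSucc 20, Int.ofNat 17, Int.negSucc 2, Int.ofNat 0, Int.negSucc 6, Int.negSucc 0, Int.negSucc 0, Int.ofNat 0, Int.ofNat 0, Int.ofNat 0, Int.ofNat 0, Int.negSucc 0, Int.ofNat 0, Int.ofNat 4, Int.negSucc 0, Int.negSucc 0, Int.ofNat 0, Int.negSucc 6]))) (ZT.node 6203 (ZT.leaf [Int.negSucc 47, Int.negSucc 0, Int.ofNat 26, Int.negSucc 2, Int.ofNat 2, Int.negSucc 17, Int.negSucc 8, Int.ofNat 6, Int.ofNat 6, Int.negSucc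 0, Int.ofNat 1, Int.ofNat 0, Int.negSucc 1, Int.ofNat 3, Int.negSucc 22, Int.ofNat 1, Int.ofNat 27, Int.ofNat 0, Int.negSucc 9]) (ZT.node 6204 (ZT.leaf [Int.negSucc 350, Int.negSucc 87, Int.ofNat 90, Int.negSucc 17, Int.ofNat 0, Int.negSucc 41, Int.ofNat 0, Int.ofNat 6, Int.negSucc 2, Int.negSucc 0, Int.ofNat 0, Int.ofNat 0, Int.ofNat 0, Int.negSucc 0, Int.ofNat 24, Int.ofNat 0, Int.negSucc 6, Int.ofNat 0, Int.negSucc 33]) (ZT.leaf [])))) (ZT.node 6208 (ZT.node 6206 (ZT.leaf [Int.negSucc 29, Int.negSucc 0, Int.ofNat 6, Int.ofNat 0, Int.ofNat 0, Int.negSucc 0, Int.ofNat 0, Int.negSucc 0, Int.negSucc 0, Int.negSucc 0, Int.ofNat 0, Int.ofNat 0, Int.ofNat 0, Int.ofNat 0, Int.negSucc 1, Int.ofNat 0, Int.ofNat 0, Int.ofNat 0, Int.negSucc 0]) (ZT.node 6207 (ZT.leaf [Int.negSucc 21, Int.negSucc 9, Int.ofNat 4, Int.ofNat 0, Int.ofNat 0, Int.negSucc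 2, Int.ofNat 0, Int.ofNat 0, Int.ofNat 0, Int.ofNat 0, Int.ofNat 0, Int.ofNat 0, Int.ofNat 0, Int.ofNat 0, Int.ofNat 2, Int.ofNat 0, Int.ofNat 1, Int.ofNat 0, Int.negSucc 1]) (ZT.leaf [Int.negSucc 5392, Int.negSucc 2128, Int.ofNat 1258, Int.negSucc 344, Int.negSucc 7, Int.negSucc 676, Int.negSucc 74, Int.ofNat 158, Int.ofNat 8, Int.ofNat 0, Int.ofNat 0, Int.ofNat 0, Int.negSucc 9, Int.negSucc 4, Int.ofNat 774, Int.ofNat 0, Int.negSucc 114, Int.ofNat 0, Int.negSucc 598]))) (ZT.node 6209 (ZT.leaf []) (ZT.node 6210 (ZT.leaf [Int.ofNat 5490, Int.ofNat 2261, Int.negSucc 1215, Int.ofNat 335, Int.ofNat 4, Int.ofNat 666, Int.ofNat 87, Int.negSucc 150, Int.negSucc 9, Int.negSucc 0, Int.ofNat 1, Int.ofNat 0, Int.ofNat 19, Int.ofNat 11, Int.negSucc 821, Int.negSucc 2, Int.ofNat 112, Int.ofNat 0, Int.ofNat 605]) (ZT.leaf []))))))) (ZT.node 6233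 (ZT.node 6222 (ZT.node 6216 (ZT.node 6213 (ZT.node 6212 (ZT.leaf [Int.negSucc 497, Int.negSucc 904, Int.ofNat 152, Int.negSucc 167, Int.negSucc 6, Int.negSucc 170, Int.negSucc 16, Int.ofNat 65, Int.ofNat 15, Int.ofNat 0, Int.ofNat 0, Int.ofNat 0, Int.ofNat 3, Int.negSucc 7, Int.ofNat 302, Int.ofNat 9, Int.negSucc 40, Int.ofNat 0, Int.negSucc 157]) (ZT.leaf [])) (ZT.node 6214 (ZT.leaf [Int.ofNat 477, Int.ofNat 207, Int.negSucc 111, Int.ofNat 35, Int.ofNat 1, Int.ofNat 63, Int.ofNat 5, Int.negSucc 11, Int.ofNat 0, Int.ofNat 0, Int.ofNat 0, Int.ofNat 0, Int.ofNat 2, Int.ofNat 1, Int.negSucc 72, Int.negSucc 0, Int.ofNat 12, Int.ofNat 0, Int.ofNat 56]) (ZT.node 6215 (ZT.leaf [Int.ofNat 696, Int.ofNat 532, Int.negSucc 139, Int.ofNat 78, Int.ofNat 3, Int.ofNat 110, Int.ofNat 38, Int.negSucc 64, Int.negSucc 17, Int.ofNat 0, Int.ofNat 0, Int.ofNat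 0, Int.negSucc 0, Int.ofNat 1, Int.negSucc 242, Int.negSucc 2, Int.ofNat 27, Int.negSucc 0, Int.ofNat 112]) (ZT.leaf [Int.negSucc 741, Int.negSucc 585, Int.ofNat 155, Int.negSucc 87, Int.negSucc 3, Int.negSucc 122, Int.negSucc 42, Int.ofNat 72, Int.ofNat 21, Int.ofNat 0, Int.ofNat 0, Int.ofNat 0, Int.ofNat 1, Int.ofNat 0, Int.ofNat 269, Int.ofNat 3, Int.negSucc 28, Int.ofNat 1, Int.negSucc 124])))) (ZT.node 6219 (ZT.node 6217 (ZT.leaf [Int.negSucc 25321, Int.negSucc 12230, Int.ofNat 5921, Int.negSucc 1984, Int.negSucc 55, Int.negSucc 3502, Int.negSucc 419, Int.ofNat 981, Int.ofNat 108, Int.negSucc 0, Int.ofNat 1, Int.negSucc 0, Int.negSucc 39, Int.negSucc 41, Int.ofNat 4179, Int.ofNat 33, Int.negSucc 649, Int.negSucc 0, Int.negSucc 3130]) (ZT.node 6218 (ZT.leaf [Int.ofNat 5083, Int.ofNat 2042, Int.negSucc 1195, Int.ofNat 342, Int.ofNat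 12, Int.ofNat 633, Int.ofNat 75, Int.negSucc 162, Int.negSucc 14, Int.ofNat 0, Int.ofNat 1, Int.negSucc 0, Int.ofNat 8, Int.ofNat 6, Int.negSucc 725, Int.negSucc 6, Int.ofNat 110, Int.negSucc 1, Int.ofNat 567]) (ZT.leaf [Int.ofNat 12451, Int.ofNat 2739, Int.negSucc 2856, Int.ofNat 387, Int.negSucc 9, Int.ofNat 1269, Int.ofNat 113, Int.negSucc 155, Int.ofNat 49, Int.negSucc 0, Int.ofNat 0, Int.negSucc 0, Int.ofNat 46, Int.ofNat 17, Int.negSucc 958, Int.ofNat 11, Int.ofNat 165, Int.negSucc 0, Int.ofNat 1083]))) (ZT.node 6220 (ZT.leaf [Int.negSucc 14583, Int.negSucc 3020, Int.ofNat 3243, Int.negSucc 392, Int.ofNat 6, Int.negSucc 1375, Int.negSucc 146, Int.ofNat 183, Int.negSucc 36, Int.ofNat 1, Int.ofNat 0, Int.ofNat 1, Int.negSucc 61, Int.negSucc 10, Int.ofNat 1221, Int.negSucc 23, Int.negSucc 197, Int.ofNat 2, Int.negSucc 1217]) (ZT.node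 6221 (ZT.leaf []) (ZT.leaf [Int.negSucc 17265, Int.negSucc 7819, Int.ofNat 4042, Int.negSucc 1320, Int.negSucc 35, Int.negSucc 2224, Int.negSucc 323, Int.ofNat 564, Int.ofNat 88, Int.negSucc 0, Int.ofNat 2, Int.ofNat 1, Int.negSucc 67, Int.negSucc 18, Int.ofNat 3310, Int.ofNat 11, Int.negSucc 361, Int.ofNat 2, Int.negSucc 2046]))))) (ZT.node 6227 (ZT.node 6224 (ZT.node 6223 (ZT.leaf []) (ZT.leaf [Int.negSucc 4961, Int.negSucc 1675, Int.ofNat 1136, Int.negSucc 254, Int.negSucc 6, Int.negSucc 567, Int.negSucc 60, Int.ofNat 132, Int.ofNat 4, Int.ofNat 0, Int.negSucc 0, Int.ofNat 0, Int.negSucc 8, Int.negSucc 2, Int.ofNat 632, Int.negSucc 3, Int.negSucc 111, Int.ofNat 0, Int.negSucc 509])) (ZT.node 6225 (ZT.leaf [Int.negSucc 51377, Int.negSucc 21050, Int.ofNat 11667, Int.negSucc 3212, Int.negSucc 56, Int.negSucc 6493, Int.negSucc 848,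 Int.ofNat 1664, Int.ofNat 158, Int.ofNat 1, Int.negSucc 0, Int.negSucc 0, Int.negSucc 130, Int.negSucc 59, Int.ofNat 7428, Int.ofNat 14, Int.negSucc 1108, Int.negSucc 1, Int.negSucc 5800]) (ZT.node 6226 (ZT.leaf []) (ZT.leaf [Int.ofNat 533, Int.negSucc 535, Int.negSucc 83, Int.negSucc 116, Int.negSucc 4, Int.negSucc 38, Int.ofNat 2, Int.ofNat 28, Int.ofNat 13, Int.ofNat 1, Int.ofNat 0, Int.ofNat 0, Int.negSucc 1, Int.negSucc 2, Int.ofNat 96, Int.ofNat 14, Int.negSucc 2, Int.ofNat 0, Int.negSucc 34])))) (ZT.node 6230 (ZT.node 6228 (ZT.leaf [Int.ofNat 412, Int.ofNat 197, Int.negSucc 95, Int.ofNat 36, Int.ofNat 2, Int.ofNat 59, Int.ofNat 9, Int.negSucc 15, Int.ofNat 1, Int.ofNat 0, Int.ofNat 0, Int.ofNat 0, Int.negSucc 1, Int.ofNat 2, Int.negSucc 56, Int.negSucc 1, Int.negSucc 0, Int.ofNat 0, Int.ofNat 48]) (ZT.node 6229 (ZT.leaf [])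 (ZT.leaf [Int.negSucc 584, Int.ofNat 914, Int.ofNat 104, Int.ofNat 174, Int.ofNat 8, Int.ofNat 119, Int.ofNat 33, Int.negSucc 87, Int.negSucc 28, Int.ofNat 0, Int.ofNat 0, Int.ofNat 0, Int.negSucc 10, Int.ofNat 9, Int.negSucc 306, Int.negSucc 10, Int.ofNat 26, Int.ofNat 0, Int.ofNat 107]))) (ZT.node 6231 (ZT.leaf []) (ZT.node 6232 (ZT.leaf []) (ZT.leaf [Int.ofNat 1, Int.ofNat 2, Int.ofNat 0, Int.ofNat 0, Int.ofNat 0, Int.ofNat 0, Int.ofNat 0, Int.ofNat 0, Int.ofNat 0, Int.ofNat 0, Int.ofNat 0, Int.ofNat 0, Int.ofNat 0, Int.ofNat 0, Int.negSucc 0])))))) (ZT.node 6244 (ZT.node 6238 (ZT.node 6235 (ZT.node 6234 (ZT.leaf [Int.negSucc 0, Int.negSucc 1]) (ZT.leaf [Int.negSucc 647, Int.negSucc 418, Int.ofNat 152, Int.negSucc 69, Int.negSucc 1, Int.negSucc 104, Int.negSucc 16, Int.ofNat 32, Int.ofNat 6, Int.ofNat 0, Int.ofNat 0, Int.ofNat 0,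 Int.negSucc 0, Int.negSucc 1, Int.ofNat 136, Int.ofNat 2, Int.negSucc 13, Int.ofNat 0, Int.negSucc 94])) (ZT.node 6236 (ZT.leaf [Int.negSucc 84, Int.negSucc 15, Int.ofNat 23, Int.negSucc 2, Int.ofNat 0, Int.negSucc 9, Int.ofNat 0, Int.ofNat 0, Int.negSucc 0, Int.ofNat 0, Int.ofNat 0, Int.ofNat 0, Int.ofNat 0, Int.ofNat 0, Int.ofNat 4, Int.ofNat 0, Int.negSucc 1, Int.ofNat 0, Int.negSucc 7]) (ZT.node 6237 (ZT.leaf [Int.negSucc 26, Int.ofNat 6, Int.ofNat 5, Int.ofNat 3, Int.ofNat 0, Int.ofNat 0, Int.ofNat 1, Int.negSucc 1, Int.negSucc 0, Int.ofNat 0, Int.ofNat 0, Int.ofNat 0, Int.ofNat 0, Int.ofNat 0, Int.negSucc 5, Int.ofNat 0, Int.negSucc 0, Int.ofNat 0, Int.ofNat 0]) (ZT.leaf [Int.negSucc 5, Int.negSucc 6, Int.ofNat 1, Int.negSucc 2, Int.ofNat 0, Int.negSucc 0, Int.negSucc 0, Int.ofNat 1, Int.ofNat 0, Int.negSucc 0, Int.ofNat 0, Int.ofNat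 0, Int.ofNat 0, Int.ofNat 0, Int.ofNat 4, Int.ofNat 0, Int.ofNat 1, Int.ofNat 0, Int.negSucc 0])))) (ZT.node 6241 (ZT.node 6239 (ZT.leaf []) (ZT.node 6240 (ZT.leaf [Int.ofNat 1]) (ZT.leaf []))) (ZT.node 6242 (ZT.leaf [Int.negSucc 16, Int.negSucc 4, Int.ofNat 2, Int.ofNat 1, Int.ofNat 0, Int.ofNat 0, Int.ofNat 0, Int.negSucc 0, Int.ofNat 0, Int.ofNat 0, Int.ofNat 0, Int.ofNat 0, Int.ofNat 0, Int.ofNat 0, Int.ofNat 1, Int.ofNat 0, Int.ofNat 0, Int.ofNat 0, Int.negSucc 0]) (ZT.node 6243 (ZT.leaf [Int.negSucc 2559, Int.negSucc 827, Int.ofNat 592, Int.negSucc 119, Int.ofNat 0, Int.negSucc 284, Int.negSucc 20, Int.ofNat 51, Int.negSucc 0, Int.ofNat 0, Int.ofNat 0, Int.ofNat 0, Int.negSucc 7, Int.negSucc 1, Int.ofNat 279, Int.negSucc 1, Int.negSucc 52, Int.ofNat 0, Int.negSucc 257]) (ZT.leaf [Int.ofNat 693, Int.ofNat 336, Int.negSucc 179,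 Int.ofNat 65, Int.ofNat 0, Int.ofNat 107, Int.ofNat 4, Int.negSucc 11, Int.ofNat 6, Int.ofNat 1, Int.ofNat 0, Int.ofNat 0, Int.ofNat 0, Int.ofNat 4, Int.negSucc 84, Int.negSucc 1, Int.ofNat 12, Int.ofNat 0, Int.ofNat 86]))))) (ZT.node 6250 (ZT.node 6247 (ZT.node 6245 (ZT.leaf []) (ZT.node 6246 (ZT.leaf [Int.ofNat 44, Int.ofNat 32, Int.ofNat 2, Int.negSucc 0, Int.ofNat 0, Int.negSucc 1, Int.ofNat 2, Int.ofNat 1, Int.negSucc 1, Int.ofNat 0, Int.ofNat 0, Int.ofNat 0, Int.ofNat 2, Int.ofNat 0, Int.negSucc 11, Int.ofNat 0, Int.negSucc 0, Int.ofNat 0, Int.ofNat 1]) (ZT.leaf [Int.negSucc 15, Int.ofNat 9, Int.ofNat 8, Int.negSucc 0, Int.ofNat 0, Int.negSucc 2, Int.ofNat 1, Int.ofNat 1, Int.negSucc 0, Int.ofNat 0, Int.ofNat 0, Int.ofNat 0, Int.ofNat 1, Int.ofNat 0, Int.negSucc 3, Int.ofNat 0, Int.negSucc 0, Int.ofNat 0, Int.negSucc 1]))) (ZT.node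 6248 (ZT.leaf [Int.negSucc 41, Int.negSucc 31, Int.negSucc 1, Int.ofNat 1, Int.ofNat 0, Int.ofNat 2, Int.negSucc 1, Int.negSucc 0, Int.ofNat 2, Int.ofNat 0, Int.ofNat 0, Int.ofNat 0, Int.negSucc 1, Int.ofNat 0, Int.ofNat 12, Int.ofNat 0, Int.ofNat 1, Int.ofNat 0, Int.negSucc 0]) (ZT.node 6249 (ZT.leaf [Int.ofNat 25438, Int.ofNat 12146, Int.negSucc 5981, Int.ofNat 1988, Int.ofNat 57, Int.ofNat 3526, Int.ofNat 413, Int.negSucc 971, Int.negSucc 101, Int.ofNat 1, Int.negSucc 0, Int.ofNat 1, Int.ofNat 38, Int.ofNat 41, Int.negSucc 4146, Int.negSucc 31, Int.ofNat 649, Int.ofNat 1, Int.ofNat 3137]) (ZT.leaf [Int.ofNat 186, Int.ofNat 65, Int.negSucc 27, Int.ofNat 3, Int.ofNat 0, Int.ofNat 9, Int.ofNat 3, Int.ofNat 1, Int.negSucc 1, Int.ofNat 0, Int.ofNat 0, Int.ofNat 0, Int.ofNat 3, Int.ofNat 0, Int.negSucc 19, Int.ofNat 2, Int.ofNat 1, Int.ofNat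 0, Int.ofNat 12])))) (ZT.node 6253 (ZT.node 6251 (ZT.leaf [Int.ofNat 1]) (ZT.node 6252 (ZT.leaf [Int.negSucc 5, Int.negSucc 4, Int.negSucc 0, Int.ofNat 0, Int.ofNat 0, Int.ofNat 0, Int.ofNat 0, Int.ofNat 0, Int.ofNat 0, Int.negSucc 0, Int.ofNat 0, Int.ofNat 0, Int.ofNat 0, Int.ofNat 0, Int.ofNat 0, Int.ofNat 0, Int.ofNat 0, Int.ofNat 0, Int.ofNat 0]) (ZT.leaf []))) (ZT.node 6254 (ZT.leaf [Int.negSucc 100, Int.negSucc 9, Int.ofNat 31, Int.negSucc 5, Int.ofNat 0, Int.negSucc 13, Int.ofNat 0, Int.ofNat 2, Int.negSucc 1, Int.ofNat 0, Int.ofNat 0, Int.ofNat 0, Int.ofNat 1, Int.ofNat 0, Int.ofNat 0, Int.ofNat 0, Int.negSucc 1, Int.ofNat 0, Int.negSucc 9]) (ZT.node 6255 (ZT.leaf [Int.ofNat 1]) (ZT.leaf [Int.ofNat 11, Int.ofNat 4, Int.negSucc 0, Int.ofNat 0, Int.negSucc 0, Int.ofNat 0, Int.ofNat 0, Int.negSucc 0, Int.ofNat 0, Int.ofNat 0,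 Int.ofNat 0, Int.ofNat 0, Int.ofNat 0, Int.ofNat 0, Int.ofNat 0, Int.ofNat 0, Int.ofNat 0, Int.ofNat 0, Int.ofNat 0]))))))))))

noncomputable def labT_14 : ZT := (ZT.node 6436 (ZT.node 6346 (ZT.node 6301 (ZT.node 6278 (ZT.node 6267 (ZT.node 6261 (ZT.node 6258 (ZT.node 6257 (ZT.leaf [Int.ofNat 4, Int.ofNat 4, Int.ofNat 0, Int.ofNat 0, Int.ofNat 0, Int.ofNat 0, Int.ofNat 0, Int.ofNat 0, Int.ofNat 0, Int.ofNat 0, Int.ofNat 0]) (ZT.leaf [Int.ofNat 1])) (ZT.node 6259 (ZT.leaf [Int.negSucc 269, Int.negSucc 94, Int.ofNat 65, Int.negSucc 15, Int.ofNat 0, Int.negSucc 32, Int.negSucc 3, Int.ofNat 9, Int.ofNat 0, Int.ofNat 0, Int.ofNat 0, Int.ofNat 0, Int.ofNat 0, Int.negSucc 0, Int.ofNat 35, Int.ofNat 0, Int.negSucc 5, Int.ofNat 0, Int.negSucc 29]) (ZT.node 6260 (ZT.leaf [Int.negSucc 52, Int.ofNat 3, Int.ofNat 14, Int.negSucc 0, Int.ofNat 0,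 Int.negSucc 3, Int.ofNat 0, Int.ofNat 0, Int.negSucc 0, Int.ofNat 0, Int.ofNat 0, Int.ofNat 0, Int.ofNat 0, Int.ofNat 0, Int.negSucc 2, Int.ofNat 0, Int.negSucc 0, Int.ofNat 0, Int.negSucc 2]) (ZT.leaf [Int.ofNat 5, Int.ofNat 2, Int.negSucc 1, Int.ofNat 0, Int.ofNat 0, Int.ofNat 1, Int.ofNat 0, Int.negSucc 0, Int.negSucc 0, Int.negSucc 0, Int.ofNat 0, Int.ofNat 0, Int.ofNat 0, Int.ofNat 0, Int.ofNat 0, Int.ofNat 0, Int.ofNat 0, Int.ofNat 0, Int.ofNat 1])))) (ZT.node 6264 (ZT.node 6262 (ZT.leaf [Int.ofNat 1]) (ZT.node 6263 (ZT.leaf [Int.ofNat 3, Int.ofNat 3, Int.ofNat 0, Int.ofNat 0, Int.ofNat 0, Int.ofNat 0, Int.ofNat 0, Int.ofNat 0, Int.ofNat 0, Int.ofNat 0, Int.negSucc 0]) (ZT.leaf [Int.negSucc 166, Int.negSucc 47, Int.ofNat 41, Int.negSucc 8, Int.ofNat 0, Int.negSucc 21, Int.negSucc 0, Int.ofNat 3, Int.negSucc 0, Int.ofNat 0, Int.ofNat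 0, Int.ofNat 0, Int.ofNat 0, Int.ofNat 0, Int.ofNat 15, Int.ofNat 0, Int.negSucc 1, Int.ofNat 0, Int.negSucc 16]))) (ZT.node 6265 (ZT.leaf [Int.negSucc 125, Int.negSucc 29, Int.ofNat 32, Int.negSucc 5, Int.ofNat 0, Int.negSucc 13, Int.ofNat 0, Int.ofNat 2, Int.negSucc 0, Int.ofNat 0, Int.ofNat 0, Int.ofNat 0, Int.ofNat 0, Int.ofNat 0, Int.ofNat 6, Int.ofNat 0, Int.negSucc 1, Int.ofNat 0, Int.negSucc 10]) (ZT.node 6266 (ZT.leaf [Int.ofNat 1]) (ZT.leaf [Int.negSucc 90, Int.negSucc 32, Int.ofNat 20, Int.negSucc 3, Int.ofNat 0, Int.negSucc 9, Int.ofNat 0, Int.ofNat 1, Int.ofNat 0, Int.ofNat 0, Int.ofNat 0, Int.ofNat 0, Int.negSucc 0, Int.ofNat 0, Int.ofNat 11, Int.ofNat 0, Int.negSucc 0, Int.ofNat 0, Int.negSucc 8]))))) (ZT.node 6272 (ZT.node 6269 (ZT.node 6268 (ZT.leaf []) (ZT.leaf [Int.ofNat 26, Int.negSucc 5, Int.negSucc 8, Int.ofNat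 1, Int.ofNat 0, Int.ofNat 3, Int.ofNat 0, Int.ofNat 0, Int.ofNat 1, Int.ofNat 0, Int.ofNat 0, Int.ofNat 0, Int.ofNat 0, Int.ofNat 0, Int.ofNat 2, Int.ofNat 0, Int.ofNat 1, Int.ofNat 0, Int.ofNat 2])) (ZT.node 6270 (ZT.leaf [Int.ofNat 7, Int.ofNat 3, Int.ofNat 1, Int.ofNat 0, Int.ofNat 0, Int.ofNat 0, Int.ofNat 0, Int.ofNat 0, Int.ofNat 0, Int.ofNat 1, Int.ofNat 0, Int.ofNat 0, Int.ofNat 0, Int.ofNat 0, Int.ofNat 0, Int.ofNat 0, Int.ofNat 1, Int.ofNat 0, Int.ofNat 0]) (ZT.node 6271 (ZT.leaf []) (ZT.leaf [])))) (ZT.node 6275 (ZT.node 6273 (ZT.leaf [Int.ofNat 6, Int.ofNat 4, Int.ofNat 1, Int.ofNat 0, Int.ofNat 0, Int.ofNat 0, Int.ofNat 0, Int.ofNat 0, Int.ofNat 0, Int.ofNat 1, Int.ofNat 0, Int.ofNat 0, Int.ofNat 0, Int.ofNat 0, Int.ofNat 0, Int.ofNat 0, Int.ofNat 0, Int.ofNat 0, Int.ofNat 0]) (ZT.node 6274 (ZT.leaf [Int.negSucc 4, Int.negSucc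 3, Int.negSucc 0, Int.ofNat 0, Int.ofNat 0, Int.ofNat 0, Int.ofNat 0, Int.ofNat 0, Int.ofNat 0, Int.negSucc 0, Int.ofNat 0, Int.ofNat 0, Int.ofNat 0, Int.ofNat 0, Int.ofNat 0, Int.ofNat 0, Int.ofNat 0, Int.ofNat 0, Int.ofNat 0]) (ZT.leaf []))) (ZT.node 6276 (ZT.leaf [Int.negSucc 98, Int.negSucc 8, Int.ofNat 31, Int.negSucc 5, Int.ofNat 0, Int.negSucc 13, Int.ofNat 0, Int.ofNat 2, Int.negSucc 1, Int.ofNat 0, Int.ofNat 0, Int.ofNat 0, Int.ofNat 1, Int.ofNat 0, Int.ofNat 0, Int.ofNat 0, Int.negSucc 1, Int.ofNat 0, Int.negSucc 9]) (ZT.node 6277 (ZT.leaf [Int.ofNat 1]) (ZT.leaf [])))))) (ZT.node 6289 (ZT.node 6283 (ZT.node 6280 (ZT.node 6279 (ZT.leaf [Int.negSucc 6, Int.ofNat 0, Int.ofNat 3, Int.ofNat 0, Int.ofNat 0, Int.negSucc 0, Int.ofNat 0, Int.ofNat 0, Int.ofNat 0, Int.ofNat 0, Int.ofNat 0, Int.ofNat 0, Int.ofNat 0, Int.ofNat 0, Int.ofNat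 0, Int.ofNat 0, Int.ofNat 0, Int.ofNat 0, Int.negSucc 0]) (ZT.leaf [Int.ofNat 7719, Int.ofNat 5405, Int.negSucc 2117, Int.ofNat 1075, Int.ofNat 30, Int.ofNat 1514, Int.ofNat 138, Int.negSucc 426, Int.negSucc 35, Int.negSucc 0, Int.ofNat 0, Int.ofNat 0, Int.negSucc 12, Int.ofNat 16, Int.negSucc 1716, Int.negSucc 34, Int.ofNat 222, Int.ofNat 0, Int.ofNat 1257])) (ZT.node 6281 (ZT.leaf [Int.negSucc 3600, Int.negSucc 236, Int.ofNat 789, Int.ofNat 9, Int.ofNat 7, Int.negSucc 275, Int.negSucc 35, Int.negSucc 22, Int.negSucc 25, Int.ofNat 0, Int.ofNat 0, Int.ofNat 0, Int.negSucc 22, Int.negSucc 9, Int.ofNat 172, Int.negSucc 7, Int.negSucc 2, Int.ofNat 0, Int.negSucc 233]) (ZT.node 6282 (ZT.leaf [Int.negSucc 5721, Int.negSucc 3541, Int.ofNat 1355, Int.negSucc 592, Int.negSucc 16, Int.negSucc 893, Int.negSucc 127, Int.ofNat 294, Int.ofNat 47,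 Int.ofNat 0, Int.ofNat 0, Int.negSucc 0, Int.negSucc 6, Int.negSucc 13, Int.ofNat 1178, Int.ofNat 18, Int.negSucc 156, Int.negSucc 0, Int.negSucc 813]) (ZT.leaf [])))) (ZT.node 6286 (ZT.node 6284 (ZT.leaf [Int.ofNat 168, Int.ofNat 51, Int.negSucc 40, Int.ofNat 9, Int.ofNat 0, Int.ofNat 22, Int.ofNat 1, Int.negSucc 2, Int.ofNat 1, Int.ofNat 0, Int.ofNat 0, Int.ofNat 0, Int.ofNat 0, Int.ofNat 0, Int.negSucc 14, Int.ofNat 0, Int.ofNat 2, Int.ofNat 0, Int.ofNat 17]) (ZT.node 6285 (ZT.leaf [Int.ofNat 1]) (ZT.leaf [Int.ofNat 511, Int.ofNat 290, Int.negSucc 129, Int.ofNat 51, Int.ofNat 0, Int.ofNat 75, Int.ofNat 1, Int.negSucc 3, Int.ofNat 4, Int.ofNat 0, Int.ofNat 0, Int.ofNat 0, Int.ofNat 2, Int.ofNat 4, Int.negSucc 84, Int.negSucc 0, Int.ofNat 5, Int.ofNat 0, Int.ofNat 65]))) (ZT.node 6287 (ZT.leaf [Int.ofNat 1]) (ZT.node 6288 (ZT.leaf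 []) (ZT.leaf []))))) (ZT.node 6295 (ZT.node 6292 (ZT.node 6290 (ZT.leaf []) (ZT.node 6291 (ZT.leaf [Int.ofNat 236, Int.ofNat 208, Int.negSucc 38, Int.ofNat 30, Int.negSucc 0, Int.ofNat 33, Int.ofNat 11, Int.negSucc 11, Int.negSucc 5, Int.negSucc 0, Int.ofNat 0, Int.ofNat 0, Int.ofNat 3, Int.negSucc 0, Int.negSucc 77, Int.ofNat 0, Int.negSucc 0, Int.ofNat 0, Int.ofNat 33]) (ZT.leaf [Int.negSucc 2152, Int.negSucc 1008, Int.ofNat 498, Int.negSucc 158, Int.negSucc 4, Int.negSucc 290, Int.negSucc 50, Int.ofNat 97, Int.ofNat 16, Int.ofNat 0, Int.ofNat 0, Int.ofNat 0, Int.negSucc 1, Int.negSucc 1, Int.ofNat 390, Int.ofNat 3, Int.negSucc 53, Int.ofNat 1, Int.negSucc 265]))) (ZT.node 6293 (ZT.leaf [Int.ofNat 97, Int.ofNat 25, Int.negSucc 19, Int.ofNat 2, Int.ofNat 0, Int.ofNat 10, Int.negSucc 0, Int.ofNat 1, Int.ofNat 1, Int.ofNat 1, Int.ofNat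 0, Int.ofNat 0, Int.ofNat 1, Int.ofNat 0, Int.negSucc 3, Int.ofNat 0, Int.ofNat 3, Int.ofNat 0, Int.ofNat 8]) (ZT.node 6294 (ZT.leaf [Int.ofNat 14, Int.negSucc 3, Int.negSucc 2, Int.ofNat 0, Int.ofNat 0, Int.ofNat 0, Int.ofNat 0, Int.ofNat 1, Int.ofNat 1, Int.ofNat 1, Int.ofNat 0, Int.ofNat 0, Int.ofNat 0, Int.ofNat 0, Int.ofNat 2, Int.ofNat 0, Int.ofNat 0, Int.ofNat 0, Int.ofNat 0]) (ZT.leaf [Int.ofNat 7, Int.ofNat 5, Int.ofNat 1, Int.ofNat 0, Int.ofNat 0, Int.ofNat 0, Int.ofNat 0, Int.ofNat 0, Int.ofNat 0, Int.ofNat 1, Int.ofNat 0, Int.ofNat 0, Int.ofNat 0, Int.ofNat 0, Int.ofNat 0, Int.ofNat 0, Int.ofNat 0, Int.ofNat 0, Int.ofNat 0])))) (ZT.node 6298 (ZT.node 6296 (ZT.leaf [Int.negSucc 22, Int.negSucc 7, Int.ofNat 6, Int.negSucc 1, Int.ofNat 0, Int.negSucc 2, Int.ofNat 0, Int.ofNat 1, Int.ofNat 0, Int.ofNat 0, Int.ofNat 0, Int.ofNat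 0, Int.ofNat 0, Int.ofNat 0, Int.ofNat 5, Int.ofNat 0, Int.negSucc 0, Int.ofNat 0, Int.negSucc 2]) (ZT.node 6297 (ZT.leaf [Int.ofNat 1]) (ZT.leaf [Int.negSucc 2626, Int.negSucc 918, Int.ofNat 650, Int.negSucc 165, Int.negSucc 4, Int.negSucc 354, Int.negSucc 41, Int.ofNat 84, Int.ofNat 0, Int.ofNat 0, Int.ofNat 0, Int.ofNat 0, Int.ofNat 0, Int.negSucc 0, Int.ofNat 342, Int.ofNat 0, Int.negSucc 46, Int.ofNat 0, Int.negSucc 298]))) (ZT.node 6299 (ZT.leaf [Int.ofNat 2686, Int.ofNat 1776, Int.negSucc 675, Int.ofNat 307, Int.ofNat 3, Int.ofNat 483, Int.ofNat 59, Int.negSucc 147, Int.negSucc 17, Int.ofNat 0, Int.ofNat 0, Int.ofNat 1, Int.ofNat 1, Int.ofNat 7, Int.negSucc 577, Int.negSucc 6, Int.ofNat 78, Int.ofNat 1, Int.ofNat 422]) (ZT.node 6300 (ZT.leaf []) (ZT.leaf [Int.ofNat 1]))))))) (ZT.node 6323 (ZT.node 6312 (ZT.node 6306 (ZT.node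 6303 (ZT.node 6302 (ZT.leaf [Int.ofNat 208, Int.ofNat 35, Int.negSucc 56, Int.ofNat 9, Int.ofNat 0, Int.ofNat 25, Int.negSucc 0, Int.negSucc 1, Int.ofNat 2, Int.ofNat 0, Int.ofNat 0, Int.negSucc 0, Int.ofNat 0, Int.ofNat 0, Int.negSucc 2, Int.ofNat 0, Int.ofNat 3, Int.ofNat 0, Int.ofNat 19]) (ZT.leaf [Int.negSucc 195, Int.ofNat 373, Int.negSucc 5, Int.ofNat 88, Int.ofNat 5, Int.ofNat 68, Int.ofNat 0, Int.negSucc 28, Int.negSucc 4, Int.ofNat 0, Int.ofNat 0, Int.negSucc 0, Int.negSucc 6, Int.ofNat 6, Int.negSucc 108, Int.negSucc 6, Int.ofNat 20, Int.ofNat 0, Int.ofNat 54])) (ZT.node 6304 (ZT.leaf []) (ZT.node 6305 (ZT.leaf [Int.negSucc 1543, Int.negSucc 1180, Int.ofNat 429, Int.negSucc 225, Int.negSucc 7, Int.negSucc 313, Int.negSucc 23, Int.ofNat 92, Int.ofNat 10, Int.ofNat 0, Int.ofNat 0, Int.ofNat 0, Int.ofNat 3, Int.negSucc 9, Int.ofNat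 405, Int.ofNat 10, Int.negSucc 64, Int.ofNat 0, Int.negSucc 270]) (ZT.leaf [Int.negSucc 2418, Int.negSucc 2136, Int.ofNat 632, Int.negSucc 383, Int.negSucc 9, Int.negSucc 511, Int.negSucc 61, Int.ofNat 169, Int.ofNat 27, Int.ofNat 0, Int.ofNat 0, Int.ofNat 0, Int.ofNat 2, Int.negSucc 12, Int.ofNat 693, Int.ofNat 16, Int.negSucc 90, Int.ofNat 0, Int.negSucc 451])))) (ZT.node 6309 (ZT.node 6307 (ZT.leaf [Int.ofNat 1]) (ZT.node 6308 (ZT.leaf []) (ZT.leaf [Int.negSucc 15355, Int.negSucc 5242, Int.ofNat 3471, Int.negSucc 772, Int.negSucc 20, Int.negSucc 1743, Int.negSucc 203, Int.ofNat 427, Int.ofNat 33, Int.negSucc 0, Int.ofNat 1, Int.ofNat 0, Int.negSucc 34, Int.negSucc 4, Int.ofNat 1923, Int.negSucc 9, Int.negSucc 348, Int.ofNat 0, Int.negSucc 1571]))) (ZT.node 6310 (ZT.leaf [Int.ofNat 5463, Int.negSucc 331, Int.negSucc 1159, Int.negSucc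 140, Int.negSucc 17, Int.ofNat 246, Int.negSucc 9, Int.ofNat 85, Int.ofNat 57, Int.negSucc 0, Int.ofNat 1, Int.negSucc 0, Int.ofNat 37, Int.ofNat 2, Int.ofNat 34, Int.ofNat 22, Int.ofNat 33, Int.negSucc 0, Int.ofNat 225]) (ZT.node 6311 (ZT.leaf [Int.ofNat 961, Int.negSucc 538, Int.negSucc 30, Int.negSucc 200, Int.negSucc 16, Int.negSucc 109, Int.ofNat 17, Int.ofNat 55, Int.ofNat 0, Int.negSucc 0, Int.ofNat 1, Int.ofNat 0, Int.ofNat 29, Int.negSucc 1, Int.ofNat 92, Int.ofNat 14, Int.negSucc 17, Int.ofNat 0, Int.negSucc 62]) (ZT.leaf [Int.ofNat 1]))))) (ZT.node 6317 (ZT.node 6314 (ZT.node 6313 (ZT.leaf [Int.ofNat 1093, Int.ofNat 940, Int.negSucc 201, Int.ofNat 130, Int.negSucc 1, Int.ofNat 190, Int.ofNat 38, Int.negSucc 45, Int.negSucc 10, Int.negSucc 0, Int.ofNat 1, Int.ofNat 0, Int.ofNat 12, Int.ofNat 11, Int.negSucc 288, Int.negSucc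 5, Int.ofNat 20, Int.ofNat 0, Int.ofNat 175]) (ZT.leaf [])) (ZT.node 6315 (ZT.leaf []) (ZT.node 6316 (ZT.leaf []) (ZT.leaf [Int.ofNat 277, Int.ofNat 223, Int.negSucc 40, Int.ofNat 20, Int.ofNat 0, Int.ofNat 33, Int.ofNat 13, Int.negSucc 20, Int.negSucc 7, Int.ofNat 0, Int.ofNat 0, Int.ofNat 0, Int.ofNat 3, Int.ofNat 0, Int.negSucc 92, Int.ofNat 1, Int.ofNat 11, Int.ofNat 0, Int.ofNat 41])))) (ZT.node 6320 (ZT.node 6318 (ZT.leaf [Int.ofNat 10758, Int.ofNat 3971, Int.negSucc 2412, Int.ofNat 589, Int.ofNat 13, Int.ofNat 1230, Int.ofNat 154, Int.negSucc 292, Int.negSucc 18, Int.ofNat 0, Int.ofNat 0, Int.ofNat 0, Int.ofNat 28, Int.ofNat 8, Int.negSucc 1487, Int.ofNat 1, Int.ofNat 240, Int.ofNat 0, Int.ofNat 1130]) (ZT.node 6319 (ZT.leaf [Int.ofNat 20950, Int.ofNat 10769, Int.negSucc 5090, Int.ofNat 1837, Int.ofNat 44, Int.ofNat 3100, Int.ofNat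 335, Int.negSucc 800, Int.negSucc 69, Int.ofNat 0, Int.ofNat 0, Int.ofNat 0, Int.ofNat 32, Int.ofNat 46, Int.negSucc 3607, Int.negSucc 42, Int.ofNat 476, Int.ofNat 0, Int.ofNat 2708]) (ZT.leaf []))) (ZT.node 6321 (ZT.leaf []) (ZT.node 6322 (ZT.leaf [Int.ofNat 2549, Int.ofNat 741, Int.negSucc 635, Int.ofNat 141, Int.ofNat 4, Int.ofNat 325, Int.ofNat 33, Int.negSucc 68, Int.ofNat 6, Int.ofNat 0, Int.ofNat 1, Int.ofNat 0, Int.negSucc 0, Int.ofNat 1, Int.negSucc 278, Int.ofNat 1, Int.ofNat 45, Int.ofNat 0, Int.ofNat 270]) (ZT.leaf [])))))) (ZT.node 6334 (ZT.node 6328 (ZT.node 6325 (ZT.node 6324 (ZT.leaf []) (ZT.leaf [Int.negSucc 119, Int.negSucc 58, Int.ofNat 33, Int.negSucc 12, Int.negSucc 0, Int.negSucc 22, Int.negSucc 1, Int.ofNat 8, Int.ofNat 0, Int.ofNat 0, Int.ofNat 0, Int.ofNat 0, Int.ofNat 2, Int.ofNat 0, Int.ofNat 21, Int.ofNat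 0, Int.ofNat 0, Int.ofNat 0, Int.negSucc 14])) (ZT.node 6326 (ZT.leaf [Int.ofNat 1]) (ZT.node 6327 (ZT.leaf [Int.ofNat 426, Int.ofNat 124, Int.negSucc 113, Int.ofNat 29, Int.ofNat 1, Int.ofNat 60, Int.ofNat 2, Int.negSucc 11, Int.ofNat 3, Int.ofNat 0, Int.ofNat 0, Int.ofNat 0, Int.negSucc 1, Int.ofNat 1, Int.negSucc 39, Int.ofNat 0, Int.ofNat 2, Int.ofNat 0, Int.ofNat 45]) (ZT.leaf [Int.negSucc 1931, Int.negSucc 1834, Int.ofNat 525, Int.negSucc 350, Int.negSucc 9, Int.negSucc 431, Int.negSucc 35, Int.ofNat 142, Int.ofNat 20, Int.ofNat 0, Int.ofNat 0, Int.ofNat 0, Int.ofNat 5, Int.negSucc 3, Int.ofNat 562, Int.ofNat 14, Int.negSucc 80, Int.ofNat 0, Int.negSucc 371])))) (ZT.node 6331 (ZT.node 6329 (ZT.leaf [Int.negSucc 298, Int.negSucc 124, Int.ofNat 74, Int.negSucc 20, Int.negSucc 0, Int.negSucc 40, Int.negSucc 2, Int.ofNat 11, Int.ofNat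 1, Int.ofNat 1, Int.ofNat 0, Int.ofNat 0, Int.ofNat 0, Int.negSucc 0, Int.ofNat 36, Int.ofNat 1, Int.negSucc 6, Int.ofNat 0, Int.negSucc 35]) (ZT.node 6330 (ZT.leaf [Int.negSucc 2102, Int.negSucc 891, Int.ofNat 471, Int.negSucc 132, Int.negSucc 3, Int.negSucc 265, Int.negSucc 41, Int.ofNat 78, Int.ofNat 11, Int.ofNat 0, Int.ofNat 0, Int.ofNat 0, Int.negSucc 3, Int.negSucc 1, Int.ofNat 332, Int.ofNat 1, Int.negSucc 44, Int.ofNat 0, Int.negSucc 241]) (ZT.leaf [Int.ofNat 1, Int.ofNat 0, Int.ofNat 0, Int.ofNat 0, Int.ofNat 0, Int.ofNat 0, Int.ofNat 0, Int.ofNat 0, Int.ofNat 0, Int.ofNat 0, Int.ofNat 0, Int.ofNat 0, Int.ofNat 0, Int.ofNat 1]))) (ZT.node 6332 (ZT.leaf []) (ZT.node 6333 (ZT.leaf [Int.negSucc 5818, Int.ofNat 24, Int.ofNat 1224, Int.ofNat 115, Int.ofNat 12, Int.negSucc 334, Int.negSucc 29, Int.negSucc 25, Int.negSucc 39, Int.ofNat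 0, Int.ofNat 0, Int.ofNat 0, Int.negSucc 30, Int.negSucc 1, Int.ofNat 117, Int.negSucc 26, Int.negSucc 59, Int.ofNat 0, Int.negSucc 306]) (ZT.leaf [Int.ofNat 1]))))) (ZT.node 6340 (ZT.node 6337 (ZT.node 6335 (ZT.leaf []) (ZT.node 6336 (ZT.leaf [Int.negSucc 4157, Int.ofNat 570, Int.ofNat 985, Int.ofNat 120, Int.ofNat 14, Int.negSucc 240, Int.ofNat 5, Int.negSucc 98, Int.negSucc 67, Int.ofNat 0, Int.ofNat 0, Int.ofNat 0, Int.negSucc 17, Int.negSucc 5, Int.negSucc 165, Int.negSucc 14, Int.ofNat 40, Int.ofNat 0, Int.negSucc 167]) (ZT.leaf []))) (ZT.node 6338 (ZT.leaf [Int.negSucc 11394, Int.negSucc 6415, Int.ofNat 2899, Int.negSucc 1151, Int.negSucc 27, Int.negSucc 1874, Int.negSucc 189, Int.ofNat 484, Int.ofNat 39, Int.ofNat 0, Int.ofNat 0, Int.ofNat 0, Int.negSucc 9, Int.negSucc 31, Int.ofNat 2061, Int.ofNat 33, Int.negSucc 243, Int.ofNat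 0, Int.negSucc 1586]) (ZT.node 6339 (ZT.leaf [Int.ofNat 8, Int.negSucc 9, Int.negSucc 1, Int.negSucc 0, Int.ofNat 0, Int.ofNat 0, Int.negSucc 0, Int.ofNat 1, Int.ofNat 1, Int.ofNat 0, Int.ofNat 0, Int.ofNat 0, Int.ofNat 0, Int.ofNat 0, Int.ofNat 7, Int.ofNat 0, Int.ofNat 0, Int.ofNat 0, Int.negSucc 0]) (ZT.leaf [Int.ofNat 9276, Int.ofNat 3209, Int.negSucc 2015, Int.ofNat 419, Int.ofNat 18, Int.ofNat 1100, Int.ofNat 132, Int.negSucc 346, Int.negSucc 25, Int.negSucc 0, Int.ofNat 1, Int.ofNat 1, Int.negSucc 9, Int.ofNat 0, Int.negSucc 799, Int.ofNat 6, Int.ofNat 227, Int.ofNat 0, Int.ofNat 954])))) (ZT.node 6343 (ZT.node 6341 (ZT.leaf [Int.ofNat 36649, Int.ofNat 11629, Int.negSucc 8284, Int.ofNat 1662, Int.ofNat 8, Int.ofNat 4084, Int.ofNat 480, Int.negSucc 789, Int.ofNat 5, Int.negSucc 0, Int.ofNat 1, Int.ofNat 0, Int.ofNat 131, Int.ofNat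 55, Int.negSucc 4244, Int.ofNat 12, Int.ofNat 618, Int.ofNat 1, Int.ofNat 3640]) (ZT.node 6342 (ZT.leaf [Int.negSucc 85, Int.negSucc 16, Int.ofNat 23, Int.negSucc 2, Int.ofNat 0, Int.negSucc 9, Int.ofNat 0, Int.ofNat 0, Int.negSucc 0, Int.ofNat 0, Int.ofNat 0, Int.ofNat 0, Int.ofNat 0, Int.ofNat 0, Int.ofNat 4, Int.ofNat 0, Int.negSucc 1, Int.ofNat 0, Int.negSucc 7]) (ZT.leaf [Int.ofNat 15, Int.ofNat 2, Int.negSucc 4, Int.ofNat 2, Int.ofNat 0, Int.ofNat 3, Int.ofNat 0, Int.negSucc 0, Int.ofNat 0, Int.ofNat 0, Int.ofNat 0, Int.ofNat 0, Int.ofNat 0, Int.ofNat 0, Int.negSucc 2, Int.ofNat 0, Int.ofNat 1, Int.ofNat 0, Int.ofNat 3]))) (ZT.node 6344 (ZT.leaf [Int.negSucc 6, Int.negSucc 11, Int.ofNat 3, Int.negSucc 1, Int.ofNat 0, Int.negSucc 2, Int.ofNat 0, Int.ofNat 2, Int.ofNat 1, Int.ofNat 1, Int.ofNat 0, Int.ofNat 0, Int.ofNat 0, Int.ofNat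 0, Int.ofNat 7, Int.ofNat 0, Int.negSucc 0, Int.ofNat 0, Int.negSucc 2]) (ZT.node 6345 (ZT.leaf [Int.negSucc 8, Int.ofNat 9, Int.ofNat 2, Int.ofNat 0, Int.ofNat 0, Int.ofNat 0, Int.ofNat 0, Int.negSucc 0, Int.negSucc 0, Int.negSucc 0, Int.ofNat 0, Int.ofNat 0, Int.ofNat 0, Int.ofNat 0, Int.negSucc 3, Int.ofNat 0, Int.ofNat 0, Int.ofNat 0, Int.ofNat 0]) (ZT.leaf [Int.ofNat 13, Int.negSucc 4, Int.negSucc 2, Int.ofNat 0, Int.ofNat 0, Int.ofNat 0, Int.ofNat 0, Int.ofNat 1, Int.ofNat 1, Int.ofNat 1, Int.ofNat 0, Int.ofNat 0, Int.ofNat 0, Int.ofNat 0, Int.ofNat 2, Int.ofNat 0, Int.ofNat 0, Int.ofNat 0, Int.ofNat 0])))))))) (ZT.node 6391 (ZT.node 6368 (ZT.node 6357 (ZT.node 6351 (ZT.node 6348 (ZT.node 6347 (ZT.leaf [Int.ofNat 11, Int.negSucc 2, Int.negSucc 3, Int.ofNat 0, Int.ofNat 0, Int.ofNat 1, Int.ofNat 0, Int.ofNat 0, Int.ofNat 0, Int.ofNat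 0, Int.ofNat 0, Int.ofNat 0, Int.ofNat 0, Int.ofNat 0, Int.ofNat 3, Int.ofNat 0, Int.ofNat 0, Int.ofNat 0, Int.ofNat 1]) (ZT.leaf [Int.ofNat 8, Int.ofNat 12, Int.negSucc 2, Int.ofNat 2, Int.ofNat 0, Int.ofNat 3, Int.ofNat 0, Int.negSucc 1, Int.negSucc 0, Int.negSucc 0, Int.ofNat 0, Int.ofNat 0, Int.ofNat 0, Int.ofNat 0, Int.negSucc 6, Int.ofNat 0, Int.ofNat 1, Int.ofNat 0, Int.ofNat 3])) (ZT.node 6349 (ZT.leaf [Int.negSucc 5490, Int.negSucc 2260, Int.ofNat 1216, Int.negSucc 334, Int.negSucc 3, Int.negSucc 665, Int.negSucc 86, Int.ofNat 151, Int.ofNat 10, Int.ofNat 1, Int.negSucc 0, Int.ofNat 0, Int.negSucc 18, Int.negSucc 10, Int.ofNat 822, Int.ofNat 3, Int.negSucc 111, Int.ofNat 0, Int.negSucc 604]) (ZT.node 6350 (ZT.leaf [Int.ofNat 49, Int.ofNat 1, Int.negSucc 25, Int.ofNat 3, Int.negSucc 1, Int.ofNat 18, Int.ofNat 9, Int.negSucc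 5, Int.negSucc 5, Int.ofNat 1, Int.negSucc 0, Int.ofNat 0, Int.ofNat 2, Int.negSucc 2, Int.ofNat 23, Int.negSucc 0, Int.negSucc 26, Int.ofNat 0, Int.ofNat 10]) (ZT.leaf [Int.ofNat 444, Int.ofNat 274, Int.negSucc 83, Int.ofNat 39, Int.ofNat 3, Int.ofNat 48, Int.ofNat 2, Int.negSucc 11, Int.ofNat 3, Int.negSucc 0, Int.ofNat 1, Int.ofNat 0, Int.ofNat 0, Int.ofNat 5, Int.negSucc 109, Int.negSucc 0, Int.ofNat 36, Int.ofNat 0, Int.ofNat 53])))) (ZT.node 6354 (ZT.node 6352 (ZT.leaf []) (ZT.node 6353 (ZT.leaf [Int.ofNat 51, Int.ofNat 3, Int.negSucc 12, Int.ofNat 1, Int.ofNat 0, Int.ofNat 4, Int.ofNat 0, Int.ofNat 0, Int.ofNat 1, Int.ofNat 0, Int.ofNat 0, Int.ofNat 0, Int.ofNat 0, Int.ofNat 0, Int.ofNat 3, Int.ofNat 0, Int.negSucc 0, Int.ofNat 0, Int.ofNat 3]) (ZT.leaf [Int.negSucc 129, Int.ofNat 38, Int.ofNat 32, Int.ofNat 6, Int.ofNat 0,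 Int.negSucc 3, Int.ofNat 4, Int.negSucc 6, Int.negSucc 3, Int.ofNat 0, Int.ofNat 0, Int.ofNat 0, Int.negSucc 0, Int.ofNat 0, Int.negSucc 16, Int.ofNat 0, Int.ofNat 0, Int.ofNat 0, Int.negSucc 0]))) (ZT.node 6355 (ZT.leaf [Int.negSucc 47, Int.ofNat 1, Int.ofNat 13, Int.negSucc 0, Int.ofNat 0, Int.negSucc 3, Int.ofNat 0, Int.ofNat 0, Int.negSucc 0, Int.ofNat 0, Int.ofNat 0, Int.ofNat 0, Int.ofNat 0, Int.ofNat 0, Int.negSucc 2, Int.ofNat 0, Int.ofNat 1, Int.ofNat 0, Int.negSucc 2]) (ZT.node 6356 (ZT.leaf [Int.negSucc 272, Int.negSucc 112, Int.ofNat 76, Int.negSucc 27, Int.negSucc 0, Int.negSucc 47, Int.negSucc 5, Int.ofNat 12, Int.negSucc 1, Int.negSucc 0, Int.ofNat 0, Int.ofNat 0, Int.ofNat 3, Int.negSucc 0, Int.ofNat 33, Int.ofNat 1, Int.negSucc 0, Int.ofNat 0, Int.negSucc 35]) (ZT.leaf [Int.negSucc 5155, Int.negSucc 2647, Int.ofNat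 1253, Int.negSucc 452, Int.negSucc 10, Int.negSucc 771, Int.negSucc 85, Int.ofNat 197, Int.ofNat 17, Int.ofNat 0, Int.ofNat 0, Int.ofNat 0, Int.negSucc 7, Int.negSucc 10, Int.ofNat 885, Int.ofNat 11, Int.negSucc 112, Int.ofNat 0, Int.negSucc 669]))))) (ZT.node 6362 (ZT.node 6359 (ZT.node 6358 (ZT.leaf []) (ZT.leaf [Int.ofNat 1])) (ZT.node 6360 (ZT.leaf [Int.ofNat 266, Int.ofNat 34, Int.negSucc 67, Int.ofNat 9, Int.ofNat 0, Int.ofNat 26, Int.negSucc 0, Int.ofNat 1, Int.ofNat 3, Int.ofNat 0, Int.ofNat 1, Int.ofNat 0, Int.ofNat 1, Int.negSucc 0, Int.negSucc 0, Int.ofNat 0, Int.ofNat 3, Int.ofNat 0, Int.ofNat 21]) (ZT.node 6361 (ZT.leaf [Int.ofNat 1]) (ZT.leaf [Int.ofNat 12, Int.negSucc 5, Int.negSucc 4, Int.ofNat 0, Int.ofNat 0, Int.ofNat 1, Int.ofNat 0, Int.ofNat 0, Int.ofNat 0, Int.ofNat 0, Int.ofNat 0, Int.ofNat 0, Int.ofNat 0, Int.ofNat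 0, Int.ofNat 4, Int.ofNat 0, Int.ofNat 0, Int.ofNat 0, Int.ofNat 1])))) (ZT.node 6365 (ZT.node 6363 (ZT.leaf []) (ZT.node 6364 (ZT.leaf [Int.ofNat 26, Int.ofNat 4, Int.negSucc 5, Int.ofNat 0, Int.ofNat 0, Int.ofNat 2, Int.ofNat 0, Int.ofNat 1, Int.ofNat 1, Int.ofNat 0, Int.ofNat 0, Int.ofNat 0, Int.ofNat 0, Int.ofNat 0, Int.negSucc 3, Int.ofNat 0, Int.negSucc 0, Int.ofNat 0, Int.ofNat 1]) (ZT.leaf [Int.ofNat 483, Int.ofNat 128, Int.negSucc 122, Int.ofNat 25, Int.ofNat 0, Int.ofNat 58, Int.ofNat 3, Int.negSucc 9, Int.ofNat 2, Int.ofNat 0, Int.ofNat 0, Int.ofNat 0, Int.ofNat 0, Int.ofNat 1, Int.negSucc 37, Int.ofNat 0, Int.ofNat 9, Int.ofNat 0, Int.ofNat 49]))) (ZT.node 6366 (ZT.leaf [Int.ofNat 1]) (ZT.node 6367 (ZT.leaf [Int.ofNat 2420, Int.ofNat 2137, Int.negSucc 631, Int.ofNat 384, Int.ofNat 10, Int.ofNat 512, Int.ofNat 62, Int.negSucc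 168, Int.negSucc 26, Int.ofNat 0, Int.ofNat 0, Int.ofNat 0, Int.negSucc 1, Int.ofNat 13, Int.negSucc 692, Int.negSucc 15, Int.ofNat 91, Int.ofNat 0, Int.ofNat 452]) (ZT.leaf [Int.negSucc 8, Int.negSucc 2, Int.ofNat 1, Int.negSucc 0, Int.ofNat 0, Int.ofNat 0, Int.ofNat 0, Int.ofNat 0, Int.ofNat 0, Int.ofNat 0, Int.ofNat 0, Int.ofNat 0, Int.ofNat 0, Int.ofNat 1, Int.negSucc 1, Int.ofNat 0, Int.ofNat 0, Int.ofNat 0, Int.ofNat 0])))))) (ZT.node 6379 (ZT.node 6373 (ZT.node 6370 (ZT.node 6369 (ZT.leaf []) (ZT.leaf [])) (ZT.node 6371 (ZT.leaf []) (ZT.node 6372 (ZT.leaf [Int.negSucc 1282, Int.negSucc 545, Int.ofNat 279, Int.negSucc 81, Int.negSucc 5, Int.negSucc 149, Int.negSucc 30, Int.ofNat 59, Int.ofNat 12, Int.ofNat 0, Int.ofNat 0, Int.ofNat 1, Int.negSucc 0, Int.ofNat 1, Int.ofNat 255, Int.ofNat 2, Int.negSucc 34, Int.ofNat 1, Int.negSucc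 143]) (ZT.leaf [])))) (ZT.node 6376 (ZT.node 6374 (ZT.leaf [Int.ofNat 14611, Int.ofNat 3020, Int.negSucc 3247, Int.ofNat 391, Int.negSucc 4, Int.ofNat 1377, Int.ofNat 146, Int.negSucc 179, Int.ofNat 38, Int.negSucc 0, Int.ofNat 0, Int.negSucc 0, Int.ofNat 62, Int.ofNat 12, Int.negSucc 1215, Int.ofNat 24, Int.ofNat 196, Int.negSucc 1, Int.ofNat 1218]) (ZT.node 6375 (ZT.leaf [Int.ofNat 2361, Int.ofNat 1663, Int.negSucc 564, Int.ofNat 278, Int.ofNat 4, Int.ofNat 407, Int.ofNat 61, Int.negSucc 131, Int.negSucc 21, Int.ofNat 0, Int.ofNat 1, Int.ofNat 0, Int.ofNat 5, Int.ofNat 8, Int.negSucc 549, Int.negSucc 8, Int.ofNat 67, Int.ofNat 0, Int.ofNat 371]) (ZT.leaf []))) (ZT.node 6377 (ZT.leaf [Int.ofNat 1, Int.ofNat 1]) (ZT.node 6378 (ZT.leaf []) (ZT.leaf []))))) (ZT.node 6385 (ZT.node 6382 (ZT.node 6380 (ZT.leaf [Int.ofNat 25323, Int.ofNat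 12231, Int.negSucc 5920, Int.ofNat 1985, Int.ofNat 56, Int.ofNat 3503, Int.ofNat 420, Int.negSucc 980, Int.negSucc 107, Int.ofNat 1, Int.negSucc 0, Int.ofNat 1, Int.ofNat 40, Int.ofNat 42, Int.negSucc 4178, Int.negSucc 32, Int.ofNat 650, Int.ofNat 1, Int.ofNat 3131]) (ZT.node 6381 (ZT.leaf [Int.ofNat 6183, Int.ofNat 2481, Int.negSucc 1461, Int.ofNat 399, Int.ofNat 7, Int.ofNat 791, Int.ofNat 70, Int.negSucc 168, Int.negSucc 5, Int.ofNat 0, Int.ofNat 0, Int.ofNat 0, Int.ofNat 16, Int.ofNat 11, Int.negSucc 845, Int.negSucc 1, Int.ofNat 143, Int.ofNat 0, Int.ofNat 701]) (ZT.leaf [Int.ofNat 9172, Int.ofNat 2762, Int.negSucc 2008, Int.ofNat 374, Int.ofNat 14, Int.ofNat 953, Int.ofNat 134, Int.negSucc 257, Int.negSucc 26, Int.ofNat 1, Int.negSucc 0, Int.ofNat 0, Int.ofNat 19, Int.negSucc 5, Int.negSucc 1076, Int.ofNat 12, Int.ofNat 206,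 Int.ofNat 0, Int.ofNat 871]))) (ZT.node 6383 (ZT.leaf [Int.negSucc 9768, Int.negSucc 5555, Int.ofNat 2320, Int.negSucc 929, Int.negSucc 22, Int.negSucc 1503, Int.negSucc 208, Int.ofNat 436, Int.ofNat 61, Int.ofNat 1, Int.ofNat 0, Int.ofNat 0, Int.negSucc 17, Int.negSucc 22, Int.ofNat 1927, Int.ofNat 21, Int.negSucc 229, Int.ofNat 0, Int.negSucc 1331]) (ZT.node 6384 (ZT.leaf []) (ZT.leaf [Int.negSucc 410, Int.negSucc 196, Int.ofNat 96, Int.negSucc 35, Int.negSucc 1, Int.negSucc 58, Int.negSucc 8, Int.ofNat 16, Int.negSucc 0, Int.ofNat 0, Int.ofNat 0, Int.ofNat 0, Int.ofNat 2, Int.negSucc 1, Int.ofNat 57, Int.ofNat 2, Int.ofNat 1, Int.ofNat 0, Int.negSucc 47])))) (ZT.node 6388 (ZT.node 6386 (ZT.leaf [Int.ofNat 2626, Int.ofNat 919, Int.negSucc 649, Int.ofNat 166, Int.ofNat 5, Int.ofNat 355, Int.ofNat 42, Int.negSucc 82, Int.ofNat 0, Int.ofNat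 0, Int.ofNat 0, Int.ofNat 0, Int.ofNat 0, Int.ofNat 1, Int.negSucc 341, Int.ofNat 0, Int.ofNat 47, Int.ofNat 0, Int.ofNat 299]) (ZT.node 6387 (ZT.leaf []) (ZT.leaf [Int.ofNat 1065, Int.ofNat 515, Int.negSucc 227, Int.ofNat 67, Int.ofNat 1, Int.ofNat 121, Int.ofNat 17, Int.negSucc 30, Int.negSucc 3, Int.ofNat 0, Int.ofNat 0, Int.ofNat 0, Int.ofNat 8, Int.ofNat 5, Int.negSucc 157, Int.negSucc 2, Int.ofNat 19, Int.ofNat 0, Int.ofNat 120]))) (ZT.node 6389 (ZT.leaf [Int.ofNat 28, Int.negSucc 7, Int.ofNat 1, Int.negSucc 4, Int.negSucc 0, Int.negSucc 3, Int.negSucc 0, Int.ofNat 4, Int.ofNat 0, Int.negSucc 0, Int.ofNat 0, Int.ofNat 0, Int.ofNat 1, Int.ofNat 0, Int.negSucc 0, Int.ofNat 1, Int.negSucc 0, Int.ofNat 0, Int.negSucc 1]) (ZT.node 6390 (ZT.leaf [Int.negSucc 380, Int.negSucc 271, Int.ofNat 75, Int.negSucc 36, Int.negSucc 0, Int.negSucc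 52, Int.negSucc 10, Int.ofNat 17, Int.ofNat 5, Int.ofNat 1, Int.ofNat 0, Int.ofNat 0, Int.negSucc 1, Int.negSucc 2, Int.ofNat 90, Int.ofNat 2, Int.negSucc 6, Int.ofNat 0, Int.negSucc 53]) (ZT.leaf [Int.negSucc 5341, Int.negSucc 1938, Int.ofNat 1254, Int.negSucc 306, Int.negSucc 6, Int.negSucc 665, Int.negSucc 75, Int.ofNat 152, Int.ofNat 3, Int.ofNat 0, Int.ofNat 0, Int.ofNat 0, Int.negSucc 7, Int.negSucc 7, Int.ofNat 703, Int.negSucc 0, Int.negSucc 108, Int.ofNat 0, Int.negSucc 583]))))))) (ZT.node 6413 (ZT.node 6402 (ZT.node 6396 (ZT.node 6393 (ZT.node 6392 (ZT.leaf []) (ZT.leaf [Int.negSucc 928, Int.negSucc 326, Int.ofNat 225, Int.negSucc 50, Int.ofNat 0, Int.negSucc 120, Int.negSucc 8, Int.ofNat 21, Int.negSucc 0, Int.ofNat 0, Int.ofNat 0, Int.ofNat 0, Int.negSucc 2, Int.negSucc 0, Int.ofNat 124, Int.negSucc 0, Int.negSucc 20,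 Int.ofNat 0, Int.negSucc 104])) (ZT.node 6394 (ZT.leaf []) (ZT.node 6395 (ZT.leaf []) (ZT.leaf [Int.ofNat 740, Int.ofNat 235, Int.negSucc 173, Int.ofNat 34, Int.ofNat 0, Int.ofNat 88, Int.ofNat 2, Int.negSucc 6, Int.ofNat 4, Int.ofNat 0, Int.ofNat 0, Int.ofNat 0, Int.ofNat 3, Int.ofNat 2, Int.negSucc 72, Int.ofNat 0, Int.ofNat 14, Int.ofNat 0, Int.ofNat 75])))) (ZT.node 6399 (ZT.node 6397 (ZT.leaf []) (ZT.node 6398 (ZT.leaf [Int.negSucc 165, Int.negSucc 85, Int.ofNat 39, Int.negSucc 13, Int.ofNat 0, Int.negSucc 24, Int.negSucc 5, Int.ofNat 7, Int.ofNat 2, Int.negSucc 0, Int.ofNat 0, Int.ofNat 0, Int.negSucc 0, Int.ofNat 0, Int.ofNat 36, Int.negSucc 0, Int.negSucc 2, Int.ofNat 0, Int.negSucc 21]) (ZT.leaf [Int.ofNat 1]))) (ZT.node 6400 (ZT.leaf [Int.negSucc 901, Int.negSucc 579, Int.ofNat 212, Int.negSucc 94, Int.negSucc 1, Int.negSucc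 139, Int.negSucc 21, Int.ofNat 48, Int.ofNat 9, Int.ofNat 0, Int.ofNat 0, Int.ofNat 0, Int.negSucc 1, Int.negSucc 1, Int.ofNat 197, Int.ofNat 3, Int.negSucc 22, Int.ofNat 0, Int.negSucc 129]) (ZT.node 6401 (ZT.leaf [Int.ofNat 334, Int.ofNat 245, Int.negSucc 78, Int.ofNat 42, Int.ofNat 1, Int.ofNat 50, Int.ofNat 2, Int.negSucc 10, Int.negSucc 0, Int.ofNat 0, Int.ofNat 0, Int.ofNat 0, Int.ofNat 1, Int.ofNat 2, Int.negSucc 61, Int.negSucc 1, Int.ofNat 9, Int.ofNat 0, Int.ofNat 46]) (ZT.leaf []))))) (ZT.node 6407 (ZT.node 6404 (ZT.node 6403 (ZT.leaf [Int.negSucc 1592, Int.negSucc 699, Int.ofNat 370, Int.negSucc 112, Int.negSucc 2, Int.negSucc 203, Int.negSucc 24, Int.ofNat 56, Int.ofNat 6, Int.ofNat 0, Int.ofNat 0, Int.ofNat 0, Int.negSucc 2, Int.negSucc 1, Int.ofNat 253, Int.ofNat 1, Int.negSucc 38, Int.ofNat 0, Int.negSucc 185]) (ZT.leaf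 [Int.ofNat 51, Int.ofNat 4, Int.negSucc 10, Int.ofNat 0, Int.ofNat 0, Int.ofNat 3, Int.negSucc 0, Int.ofNat 1, Int.ofNat 1, Int.ofNat 0, Int.ofNat 0, Int.ofNat 0, Int.ofNat 0, Int.ofNat 0, Int.negSucc 0, Int.ofNat 0, Int.ofNat 2, Int.ofNat 0, Int.ofNat 2])) (ZT.node 6405 (ZT.leaf [Int.ofNat 0, Int.ofNat 0, Int.ofNat 0, Int.ofNat 0, Int.ofNat 0, Int.ofNat 0, Int.ofNat 0, Int.ofNat 0, Int.ofNat 0, Int.ofNat 0, Int.ofNat 0, Int.ofNat 0, Int.negSucc 0]) (ZT.node 6406 (ZT.leaf []) (ZT.leaf [])))) (ZT.node 6410 (ZT.node 6408 (ZT.leaf [Int.ofNat 2540, Int.ofNat 1551, Int.negSucc 606, Int.ofNat 263, Int.ofNat 5, Int.ofNat 405, Int.ofNat 54, Int.negSucc 100, Int.negSucc 13, Int.ofNat 0, Int.ofNat 0, Int.ofNat 0, Int.ofNat 9, Int.ofNat 8, Int.negSucc 538, Int.negSucc 7, Int.ofNat 43, Int.ofNat 0, Int.ofNat 358]) (ZT.node 6409 (ZT.leaf [Int.negSucc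 98, Int.negSucc 24, Int.ofNat 28, Int.negSucc 6, Int.ofNat 0, Int.negSucc 13, Int.ofNat 0, Int.ofNat 3, Int.negSucc 0, Int.ofNat 0, Int.ofNat 0, Int.ofNat 0, Int.ofNat 0, Int.ofNat 0, Int.ofNat 5, Int.ofNat 0, Int.negSucc 1, Int.ofNat 0, Int.negSucc 9]) (ZT.leaf [Int.ofNat 77, Int.ofNat 20, Int.negSucc 23, Int.ofNat 7, Int.ofNat 0, Int.ofNat 12, Int.ofNat 0, Int.negSucc 3, Int.ofNat 0, Int.ofNat 0, Int.ofNat 0, Int.ofNat 0, Int.ofNat 0, Int.ofNat 0, Int.negSucc 2, Int.ofNat 0, Int.ofNat 3, Int.ofNat 0, Int.ofNat 9]))) (ZT.node 6411 (ZT.leaf [Int.ofNat 13, Int.ofNat 8, Int.negSucc 1, Int.ofNat 0, Int.ofNat 0, Int.ofNat 2, Int.ofNat 0, Int.ofNat 0, Int.ofNat 0, Int.ofNat 0, Int.ofNat 0, Int.ofNat 0, Int.ofNat 0, Int.ofNat 0, Int.negSucc 1, Int.ofNat 0, Int.negSucc 0, Int.ofNat 0, Int.ofNat 1]) (ZT.node 6412 (ZT.leaf []) (ZT.leaf [Int.ofNat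 1])))))) (ZT.node 6424 (ZT.node 6418 (ZT.node 6415 (ZT.node 6414 (ZT.leaf [Int.ofNat 7, Int.ofNat 2, Int.negSucc 0, Int.ofNat 0, Int.ofNat 0, Int.ofNat 0, Int.ofNat 0, Int.ofNat 0, Int.ofNat 0, Int.ofNat 0, Int.ofNat 0, Int.ofNat 0, Int.ofNat 0, Int.ofNat 0, Int.negSucc 0]) (ZT.leaf [Int.negSucc 6, Int.negSucc 0, Int.ofNat 2, Int.ofNat 0, Int.ofNat 0, Int.negSucc 0, Int.ofNat 0, Int.ofNat 0, Int.ofNat 0, Int.ofNat 0, Int.ofNat 0, Int.ofNat 0, Int.ofNat 0, Int.ofNat 0, Int.ofNat 0, Int.ofNat 0, Int.ofNat 0, Int.ofNat 0, Int.negSucc 0])) (ZT.node 6416 (ZT.leaf [Int.ofNat 7065, Int.ofNat 4578, Int.negSucc 1657, Int.ofNat 764, Int.ofNat 21, Int.ofNat 1129, Int.ofNat 176, Int.negSucc 372, Int.negSucc 67, Int.ofNat 0, Int.ofNat 0, Int.ofNat 1, Int.ofNat 14, Int.ofNat 17, Int.negSucc 1576, Int.negSucc 22, Int.ofNat 178, Int.ofNat 1, Int.ofNat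 1032]) (ZT.node 6417 (ZT.leaf [Int.negSucc 5423, Int.negSucc 2963, Int.ofNat 1230, Int.negSucc 464, Int.negSucc 9, Int.negSucc 771, Int.negSucc 113, Int.ofNat 236, Int.ofNat 36, Int.ofNat 0, Int.ofNat 0, Int.negSucc 0, Int.negSucc 13, Int.negSucc 10, Int.ofNat 1003, Int.ofNat 11, Int.negSucc 128, Int.ofNat 0, Int.negSucc 708]) (ZT.leaf [])))) (ZT.node 6421 (ZT.node 6419 (ZT.leaf [Int.negSucc 8876, Int.negSucc 2074, Int.ofNat 2069, Int.negSucc 311, Int.ofNat 5, Int.negSucc 904, Int.negSucc 56, Int.ofNat 100, Int.negSucc 37, Int.ofNat 1, Int.negSucc 0, Int.ofNat 1, Int.negSucc 31, Int.negSucc 15, Int.ofNat 731, Int.negSucc 4, Int.negSucc 133, Int.ofNat 1, Int.negSucc 783]) (ZT.node 6420 (ZT.leaf []) (ZT.leaf [Int.ofNat 6931, Int.ofNat 4015, Int.negSucc 1593, Int.ofNat 647, Int.ofNat 18, Int.ofNat 1019, Int.ofNat 144, Int.negSucc 309,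 Int.negSucc 48, Int.ofNat 0, Int.ofNat 0, Int.ofNat 1, Int.ofNat 16, Int.ofNat 19, Int.negSucc 1341, Int.negSucc 18, Int.ofNat 178, Int.ofNat 1, Int.ofNat 935]))) (ZT.node 6422 (ZT.leaf [Int.negSucc 2547, Int.negSucc 740, Int.ofNat 636, Int.negSucc 140, Int.negSucc 3, Int.negSucc 324, Int.negSucc 32, Int.ofNat 69, Int.negSucc 5, Int.ofNat 0, Int.negSucc 0, Int.ofNat 0, Int.ofNat 1, Int.negSucc 0, Int.ofNat 279, Int.negSucc 0, Int.negSucc 44, Int.ofNat 0, Int.negSucc 269]) (ZT.node 6423 (ZT.leaf [Int.ofNat 51378, Int.ofNat 21051, Int.negSucc 11666, Int.ofNat 3213, Int.ofNat 57, Int.ofNat 6494, Int.ofNat 849, Int.negSucc 1663, Int.negSucc 157, Int.negSucc 0, Int.ofNat 1, Int.ofNat 1, Int.ofNat 131, Int.ofNat 60, Int.negSucc 7427, Int.negSucc 13, Int.ofNat 1109, Int.ofNat 2, Int.ofNat 5801]) (ZT.leaf []))))) (ZT.node 6430 (ZT.node 6427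 (ZT.node 6425 (ZT.leaf [Int.ofNat 1926, Int.ofNat 1790, Int.negSucc 625, Int.ofNat 390, Int.ofNat 23, Int.ofNat 473, Int.ofNat 35, Int.negSucc 156, Int.negSucc 13, Int.ofNat 1, Int.negSucc 0, Int.ofNat 0, Int.negSucc 21, Int.ofNat 6, Int.negSucc 529, Int.negSucc 17, Int.ofNat 81, Int.negSucc 0, Int.ofNat 392]) (ZT.node 6426 (ZT.leaf [Int.negSucc 65, Int.negSucc 15, Int.ofNat 8, Int.ofNat 1, Int.ofNat 0, Int.negSucc 1, Int.negSucc 0, Int.negSucc 0, Int.ofNat 0, Int.negSucc 0, Int.ofNat 0, Int.ofNat 0, Int.negSucc 0, Int.ofNat 0, Int.ofNat 1, Int.ofNat 0, Int.ofNat 0, Int.ofNat 0, Int.negSucc 2]) (ZT.leaf [Int.negSucc 13, Int.negSucc 4, Int.ofNat 3, Int.ofNat 0, Int.ofNat 0, Int.negSucc 0, Int.ofNat 0, Int.ofNat 0, Int.ofNat 0, Int.ofNat 0, Int.ofNat 0, Int.ofNat 0, Int.ofNat 0, Int.ofNat 0, Int.ofNat 0, Int.ofNat 0, Int.ofNat 0, Int.ofNat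 0, Int.negSucc 0]))) (ZT.node 6428 (ZT.leaf []) (ZT.node 6429 (ZT.leaf [Int.negSucc 24, Int.ofNat 16, Int.ofNat 10, Int.ofNat 0, Int.ofNat 0, Int.negSucc 2, Int.ofNat 1, Int.ofNat 0, Int.negSucc 1, Int.negSucc 0, Int.ofNat 0, Int.ofNat 0, Int.ofNat 1, Int.ofNat 0, Int.negSucc 10, Int.ofNat 0, Int.negSucc 0, Int.ofNat 0, Int.negSucc 0]) (ZT.leaf [Int.negSucc 90, Int.negSucc 26, Int.ofNat 23, Int.negSucc 3, Int.ofNat 0, Int.negSucc 9, Int.ofNat 0, Int.ofNat 1, Int.ofNat 0, Int.ofNat 1, Int.ofNat 0, Int.ofNat 0, Int.negSucc 0, Int.ofNat 0, Int.ofNat 11, Int.ofNat 0, Int.negSucc 0, Int.ofNat 0, Int.negSucc 8])))) (ZT.node 6433 (ZT.node 6431 (ZT.leaf [Int.ofNat 1]) (ZT.node 6432 (ZT.leaf [Int.ofNat 387, Int.ofNat 115, Int.negSucc 89, Int.ofNat 18, Int.ofNat 0, Int.ofNat 43, Int.ofNat 2, Int.negSucc 6, Int.ofNat 1, Int.ofNat 0, Int.ofNat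 0, Int.ofNat 0, Int.ofNat 1, Int.ofNat 1, Int.negSucc 33, Int.ofNat 0, Int.ofNat 7, Int.ofNat 0, Int.ofNat 37]) (ZT.leaf []))) (ZT.node 6434 (ZT.leaf [Int.negSucc 74, Int.negSucc 11, Int.ofNat 23, Int.negSucc 4, Int.ofNat 0, Int.negSucc 10, Int.ofNat 0, Int.ofNat 2, Int.negSucc 0, Int.ofNat 0, Int.ofNat 0, Int.ofNat 0, Int.ofNat 1, Int.ofNat 0, Int.ofNat 2, Int.ofNat 0, Int.negSucc 0, Int.ofNat 0, Int.negSucc 7]) (ZT.node 6435 (ZT.leaf [Int.ofNat 0, Int.ofNat 0, Int.ofNat 0, Int.ofNat 0, Int.ofNat 0, Int.ofNat 0, Int.ofNat 0, Int.ofNat 0, Int.ofNat 0, Int.ofNat 0, Int.ofNat 0, Int.ofNat 0, Int.ofNat 0, Int.negSucc 0]) (ZT.leaf []))))))))) (ZT.node 6526 (ZT.node 6481 (ZT.node 6458 (ZT.node 6447 (ZT.node 6441 (ZT.node 6438 (ZT.node 6437 (ZT.leaf [Int.ofNat 14242, Int.ofNat 6796, Int.negSucc 3303, Int.ofNat 1096, Int.ofNat 27, Int.ofNat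 1965, Int.ofNat 266, Int.negSucc 532, Int.negSucc 60, Int.ofNat 0, Int.ofNat 0, Int.ofNat 1, Int.ofNat 31, Int.ofNat 21, Int.negSucc 2433, Int.negSucc 18, Int.ofNat 318, Int.ofNat 1, Int.ofNat 1755]) (ZT.leaf [Int.ofNat 4783, Int.ofNat 1700, Int.negSucc 1104, Int.ofNat 258, Int.ofNat 5, Int.ofNat 577, Int.ofNat 67, Int.negSucc 128, Int.negSucc 3, Int.ofNat 0, Int.ofNat 0, Int.ofNat 0, Int.ofNat 11, Int.ofNat 6, Int.negSucc 633, Int.ofNat 3, Int.ofNat 101, Int.ofNat 0, Int.ofNat 512])) (ZT.node 6439 (ZT.leaf [Int.negSucc 5345, Int.negSucc 1938, Int.ofNat 1254, Int.negSucc 306, Int.negSucc 6, Int.negSucc 665, Int.negSucc 75, Int.ofNat 152, Int.ofNat 3, Int.ofNat 0, Int.ofNat 0, Int.ofNat 0, Int.negSucc 7, Int.negSucc 7, Int.ofNat 703, Int.negSucc 0, Int.negSucc 108, Int.ofNat 0, Int.negSucc 583]) (ZT.node 6440 (ZT.leaf [Int.negSucc 221,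 Int.negSucc 73, Int.ofNat 56, Int.negSucc 10, Int.ofNat 0, Int.negSucc 27, Int.negSucc 1, Int.ofNat 5, Int.ofNat 1, Int.ofNat 0, Int.ofNat 0, Int.ofNat 0, Int.negSucc 0, Int.ofNat 0, Int.ofNat 29, Int.negSucc 0, Int.negSucc 5, Int.ofNat 0, Int.negSucc 23]) (ZT.leaf [Int.ofNat 9, Int.negSucc 3, Int.negSucc 3, Int.ofNat 0, Int.ofNat 0, Int.ofNat 1, Int.ofNat 0, Int.ofNat 0, Int.ofNat 0, Int.ofNat 0, Int.ofNat 0, Int.ofNat 0, Int.ofNat 0, Int.ofNat 0, Int.ofNat 3, Int.ofNat 0, Int.ofNat 0, Int.ofNat 0, Int.ofNat 1])))) (ZT.node 6444 (ZT.node 6442 (ZT.leaf [Int.ofNat 2, Int.ofNat 0, Int.ofNat 0, Int.ofNat 0, Int.ofNat 0, Int.ofNat 0, Int.ofNat 0, Int.ofNat 0, Int.ofNat 0, Int.ofNat 0, Int.ofNat 0, Int.ofNat 0, Int.ofNat 0, Int.ofNat 0, Int.negSucc 1]) (ZT.node 6443 (ZT.leaf [Int.ofNat 1, Int.ofNat 0, Int.ofNat 0, Int.ofNat 0, Int.ofNat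 0, Int.ofNat 0, Int.ofNat 0, Int.ofNat 0, Int.ofNat 0, Int.ofNat 0, Int.ofNat 0, Int.ofNat 0, Int.ofNat 0, Int.ofNat 0, Int.negSucc 1]) (ZT.leaf [Int.ofNat 4843, Int.ofNat 1758, Int.negSucc 1111, Int.ofNat 264, Int.ofNat 5, Int.ofNat 582, Int.ofNat 69, Int.negSucc 129, Int.negSucc 5, Int.ofNat 0, Int.ofNat 0, Int.ofNat 0, Int.ofNat 13, Int.ofNat 6, Int.negSucc 652, Int.ofNat 3, Int.ofNat 102, Int.ofNat 0, Int.ofNat 519]))) (ZT.node 6445 (ZT.leaf [Int.negSucc 25043, Int.negSucc 12106, Int.ofNat 5870, Int.negSucc 1969, Int.negSucc 54, Int.negSucc 3499, Int.negSucc 426, Int.ofNat 987, Int.ofNat 108, Int.ofNat 0, Int.ofNat 1, Int.negSucc 0, Int.negSucc 35, Int.negSucc 39, Int.ofNat 4149, Int.ofNat 32, Int.negSucc 637, Int.negSucc 0, Int.negSucc 3115]) (ZT.node 6446 (ZT.leaf [Int.negSucc 28, Int.ofNat 0, Int.ofNat 6, Int.ofNat 0, Int.ofNat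 0, Int.negSucc 0, Int.ofNat 0, Int.negSucc 0, Int.negSucc 0, Int.negSucc 0, Int.ofNat 0, Int.ofNat 0, Int.ofNat 0, Int.ofNat 0, Int.negSucc 1, Int.ofNat 0, Int.ofNat 0, Int.ofNat 0, Int.negSucc 0]) (ZT.leaf [Int.ofNat 1]))))) (ZT.node 6452 (ZT.node 6449 (ZT.node 6448 (ZT.leaf [Int.negSucc 40, Int.negSucc 32, Int.negSucc 1, Int.ofNat 1, Int.ofNat 0, Int.ofNat 2, Int.negSucc 1, Int.negSucc 0, Int.ofNat 2, Int.ofNat 0, Int.ofNat 0, Int.ofNat 0, Int.negSucc 1, Int.ofNat 0, Int.ofNat 12, Int.ofNat 0, Int.ofNat 1, Int.ofNat 0, Int.negSucc 0]) (ZT.leaf [])) (ZT.node 6450 (ZT.leaf [Int.negSucc 9, Int.ofNat 3, Int.ofNat 4, Int.ofNat 0, Int.ofNat 0, Int.negSucc 0, Int.ofNat 0, Int.ofNat 0, Int.ofNat 0, Int.ofNat 0, Int.ofNat 0, Int.ofNat 0, Int.ofNat 0, Int.ofNat 0, Int.negSucc 2, Int.ofNat 0, Int.ofNat 0, Int.ofNat 0, Int.negSucc 0]) (ZT.node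 6451 (ZT.leaf [Int.ofNat 1]) (ZT.leaf [Int.negSucc 532, Int.negSucc 213, Int.ofNat 134, Int.negSucc 38, Int.negSucc 0, Int.negSucc 75, Int.negSucc 5, Int.ofNat 16, Int.negSucc 0, Int.ofNat 0, Int.ofNat 0, Int.ofNat 0, Int.ofNat 0, Int.negSucc 0, Int.ofNat 70, Int.ofNat 1, Int.negSucc 10, Int.ofNat 0, Int.negSucc 63])))) (ZT.node 6455 (ZT.node 6453 (ZT.leaf [Int.ofNat 1834, Int.ofNat 906, Int.negSucc 391, Int.ofNat 130, Int.ofNat 6, Int.ofNat 241, Int.ofNat 62, Int.negSucc 111, Int.negSucc 23, Int.ofNat 0, Int.ofNat 0, Int.ofNat 0, Int.negSucc 0, Int.negSucc 0, Int.negSucc 441, Int.ofNat 2, Int.ofNat 57, Int.ofNat 0, Int.ofNat 236]) (ZT.node 6454 (ZT.leaf [Int.ofNat 4, Int.ofNat 3, Int.ofNat 0, Int.ofNat 0, Int.ofNat 0, Int.ofNat 0, Int.ofNat 0, Int.ofNat 0, Int.ofNat 0, Int.ofNat 0, Int.ofNat 0, Int.ofNat 0, Int.ofNat 0, Int.ofNat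 0, Int.negSucc 0]) (ZT.leaf [Int.negSucc 0, Int.ofNat 0, Int.ofNat 0, Int.ofNat 0, Int.ofNat 0, Int.ofNat 0, Int.ofNat 0, Int.ofNat 0, Int.ofNat 0, Int.ofNat 0, Int.ofNat 0, Int.ofNat 0, Int.ofNat 0, Int.ofNat 0, Int.ofNat 2]))) (ZT.node 6456 (ZT.leaf [Int.ofNat 1]) (ZT.node 6457 (ZT.leaf [Int.negSucc 75, Int.negSucc 19, Int.ofNat 24, Int.negSucc 6, Int.ofNat 0, Int.negSucc 11, Int.ofNat 0, Int.ofNat 4, Int.ofNat 0, Int.ofNat 0, Int.ofNat 0, Int.ofNat 0, Int.ofNat 0, Int.ofNat 0, Int.ofNat 3, Int.ofNat 0, Int.negSucc 2, Int.ofNat 0, Int.negSucc 8]) (ZT.leaf [Int.ofNat 1362, Int.ofNat 1040, Int.negSucc 314, Int.ofNat 167, Int.ofNat 1, Int.ofNat 244, Int.ofNat 41, Int.negSucc 80, Int.negSucc 13, Int.ofNat 0, Int.ofNat 0, Int.ofNat 0, Int.ofNat 4, Int.ofNat 5, Int.negSucc 339, Int.negSucc 5, Int.ofNat 35, Int.ofNat 0, Int.ofNat 222]))))))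 (ZT.node 6469 (ZT.node 6463 (ZT.node 6460 (ZT.node 6459 (ZT.leaf [Int.ofNat 1]) (ZT.leaf [Int.negSucc 2153, Int.negSucc 1009, Int.ofNat 498, Int.negSucc 158, Int.negSucc 4, Int.negSucc 290, Int.negSucc 50, Int.ofNat 97, Int.ofNat 16, Int.ofNat 0, Int.ofNat 0, Int.ofNat 0, Int.negSucc 1, Int.negSucc 1, Int.ofNat 390, Int.ofNat 3, Int.negSucc 53, Int.ofNat 1, Int.negSucc 265])) (ZT.node 6461 (ZT.leaf []) (ZT.node 6462 (ZT.leaf [Int.negSucc 1456, Int.negSucc 1671, Int.ofNat 393, Int.negSucc 303, Int.negSucc 8, Int.negSucc 368, Int.negSucc 40, Int.ofNat 120, Int.ofNat 23, Int.ofNat 0, Int.ofNat 0, Int.ofNat 0, Int.ofNat 2, Int.negSucc 12, Int.ofNat 528, Int.ofNat 12, Int.negSucc 63, Int.ofNat 0, Int.negSucc 321]) (ZT.leaf [Int.negSucc 236, Int.negSucc 49, Int.ofNat 55, Int.negSucc 8, Int.ofNat 0, Int.negSucc 25, Int.negSucc 1, Int.negSucc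 2, Int.negSucc 1, Int.ofNat 0, Int.ofNat 0, Int.ofNat 0, Int.negSucc 1, Int.ofNat 0, Int.ofNat 9, Int.ofNat 0, Int.ofNat 0, Int.ofNat 0, Int.negSucc 19])))) (ZT.node 6466 (ZT.node 6464 (ZT.leaf [Int.ofNat 3482, Int.ofNat 1408, Int.negSucc 806, Int.ofNat 226, Int.ofNat 4, Int.ofNat 438, Int.ofNat 43, Int.negSucc 94, Int.negSucc 3, Int.ofNat 0, Int.ofNat 0, Int.ofNat 0, Int.ofNat 12, Int.ofNat 3, Int.negSucc 473, Int.negSucc 1, Int.ofNat 70, Int.ofNat 0, Int.ofNat 386]) (ZT.node 6465 (ZT.leaf [Int.ofNat 4364, Int.ofNat 2386, Int.negSucc 1050, Int.ofNat 415, Int.ofNat 13, Int.ofNat 664, Int.ofNat 77, Int.negSucc 184, Int.negSucc 21, Int.ofNat 1, Int.ofNat 0, Int.ofNat 1, Int.ofNat 4, Int.ofNat 8, Int.negSucc 796, Int.negSucc 9, Int.ofNat 116, Int.ofNat 1, Int.ofNat 584]) (ZT.leaf [Int.negSucc 6818, Int.negSucc 4555, Int.ofNat 1664, Int.negSucc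 786, Int.negSucc 22, Int.negSucc 1151, Int.negSucc 133, Int.ofNat 337, Int.ofNat 49, Int.ofNat 0, Int.ofNat 0, Int.negSucc 0, Int.negSucc 8, Int.negSucc 25, Int.ofNat 1482, Int.ofNat 25, Int.negSucc 198, Int.negSucc 0, Int.negSucc 1022]))) (ZT.node 6467 (ZT.leaf []) (ZT.node 6468 (ZT.leaf [Int.ofNat 1]) (ZT.leaf [Int.ofNat 1541, Int.ofNat 695, Int.negSucc 358, Int.ofNat 113, Int.ofNat 3, Int.ofNat 201, Int.ofNat 26, Int.negSucc 56, Int.negSucc 6, Int.ofNat 0, Int.ofNat 0, Int.ofNat 0, Int.ofNat 3, Int.ofNat 2, Int.negSucc 251, Int.negSucc 0, Int.ofNat 37, Int.ofNat 0, Int.ofNat 184]))))) (ZT.node 6475 (ZT.node 6472 (ZT.node 6470 (ZT.leaf [Int.ofNat 430, Int.ofNat 199, Int.negSucc 99, Int.ofNat 31, Int.ofNat 1, Int.ofNat 59, Int.ofNat 5, Int.negSucc 12, Int.negSucc 0, Int.negSucc 0, Int.ofNat 0, Int.ofNat 0, Int.ofNat 1, Int.ofNat 1,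 Int.negSucc 61, Int.negSucc 0, Int.ofNat 8, Int.ofNat 0, Int.ofNat 51]) (ZT.node 6471 (ZT.leaf [Int.ofNat 710, Int.ofNat 360, Int.negSucc 167, Int.ofNat 61, Int.ofNat 2, Int.ofNat 102, Int.ofNat 12, Int.negSucc 25, Int.negSucc 1, Int.ofNat 0, Int.ofNat 0, Int.ofNat 0, Int.ofNat 1, Int.ofNat 2, Int.negSucc 114, Int.negSucc 1, Int.ofNat 13, Int.ofNat 0, Int.ofNat 89]) (ZT.leaf [Int.ofNat 78, Int.negSucc 501, Int.negSucc 57, Int.negSucc 75, Int.negSucc 4, Int.negSucc 29, Int.negSucc 38, Int.ofNat 65, Int.ofNat 31, Int.ofNat 0, Int.ofNat 0, Int.ofNat 0, Int.negSucc 0, Int.ofNat 2, Int.ofNat 270, Int.ofNat 0, Int.negSucc 14, Int.ofNat 0, Int.negSucc 60]))) (ZT.node 6473 (ZT.leaf []) (ZT.node 6474 (ZT.leaf []) (ZT.leaf [Int.ofNat 1])))) (ZT.node 6478 (ZT.node 6476 (ZT.leaf [Int.negSucc 1, Int.negSucc 0]) (ZT.node 6477 (ZT.leaf [Int.ofNat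 15, Int.ofNat 2, Int.negSucc 5, Int.ofNat 2, Int.ofNat 0, Int.ofNat 2, Int.ofNat 0, Int.negSucc 0, Int.ofNat 0, Int.ofNat 0, Int.ofNat 0, Int.ofNat 0, Int.ofNat 0, Int.ofNat 0, Int.negSucc 0, Int.ofNat 0, Int.ofNat 2, Int.ofNat 0, Int.ofNat 2]) (ZT.leaf [Int.negSucc 385, Int.negSucc 114, Int.ofNat 90, Int.negSucc 17, Int.ofNat 0, Int.negSucc 42, Int.negSucc 1, Int.ofNat 7, Int.negSucc 0, Int.ofNat 0, Int.ofNat 0, Int.ofNat 0, Int.negSucc 0, Int.negSucc 0, Int.ofNat 34, Int.ofNat 0, Int.negSucc 6, Int.ofNat 0, Int.negSucc 36]))) (ZT.node 6479 (ZT.leaf []) (ZT.node 6480 (ZT.leaf [Int.ofNat 12, Int.negSucc 7, Int.negSucc 3, Int.negSucc 0, Int.ofNat 0, Int.ofNat 0, Int.ofNat 0, Int.ofNat 1, Int.ofNat 1, Int.ofNat 0, Int.ofNat 0, Int.ofNat 0, Int.ofNat 0, Int.ofNat 0, Int.ofNat 5, Int.ofNat 0, Int.ofNat 0, Int.ofNat 0, Int.ofNat 0]) (ZT.leaf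 [Int.negSucc 26249, Int.negSucc 12454, Int.ofNat 6176, Int.negSucc 2040, Int.negSucc 57, Int.negSucc 3635, Int.negSucc 422, Int.ofNat 989, Int.ofNat 98, Int.negSucc 0, Int.ofNat 1, Int.negSucc 0, Int.negSucc 37, Int.negSucc 42, Int.ofNat 4238, Int.ofNat 33, Int.negSucc 656, Int.negSucc 0, Int.negSucc 3225]))))))) (ZT.node 6503 (ZT.node 6492 (ZT.node 6486 (ZT.node 6483 (ZT.node 6482 (ZT.leaf [Int.ofNat 27167, Int.ofNat 12782, Int.negSucc 6346, Int.ofNat 2073, Int.ofNat 58, Int.ofNat 3739, Int.ofNat 461, Int.negSucc 1042, Int.negSucc 108, Int.ofNat 2, Int.negSucc 0, Int.ofNat 1, Int.ofNat 37, Int.ofNat 42, Int.negSucc 4404, Int.negSucc 30, Int.ofNat 679, Int.ofNat 1, Int.ofNat 3323]) (ZT.leaf [Int.ofNat 28585, Int.ofNat 13797, Int.negSucc 6740, Int.ofNat 2269, Int.ofNat 62, Int.ofNat 4003, Int.ofNat 468, Int.negSucc 1093, Int.negSucc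 111, Int.ofNat 2, Int.negSucc 0, Int.ofNat 1, Int.ofNat 41, Int.ofNat 50, Int.negSucc 4694, Int.negSucc 39, Int.ofNat 720, Int.ofNat 1, Int.ofNat 3554])) (ZT.node 6484 (ZT.leaf []) (ZT.node 6485 (ZT.leaf [Int.negSucc 914, Int.negSucc 323, Int.ofNat 171, Int.negSucc 31, Int.ofNat 0, Int.negSucc 102, Int.negSucc 37, Int.ofNat 54, Int.ofNat 11, Int.negSucc 0, Int.ofNat 0, Int.ofNat 0, Int.ofNat 1, Int.ofNat 1, Int.ofNat 167, Int.negSucc 1, Int.negSucc 21, Int.ofNat 0, Int.negSucc 96]) (ZT.leaf [])))) (ZT.node 6489 (ZT.node 6487 (ZT.leaf []) (ZT.node 6488 (ZT.leaf [Int.ofNat 5153, Int.negSucc 345, Int.negSucc 1037, Int.negSucc 182, Int.negSucc 11, Int.ofNat 219, Int.ofNat 29, Int.ofNat 37, Int.ofNat 32, Int.ofNat 0, Int.ofNat 0, Int.ofNat 0, Int.ofNat 31, Int.negSucc 1, Int.negSucc 30, Int.ofNat 29, Int.ofNat 50, Int.ofNat 0, Int.ofNat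 217]) (ZT.leaf []))) (ZT.node 6490 (ZT.leaf [Int.ofNat 117, Int.ofNat 77, Int.negSucc 45, Int.ofNat 21, Int.ofNat 1, Int.ofNat 29, Int.negSucc 2, Int.negSucc 12, Int.negSucc 0, Int.ofNat 0, Int.ofNat 0, Int.ofNat 0, Int.negSucc 1, Int.ofNat 0, Int.negSucc 28, Int.negSucc 0, Int.ofNat 13, Int.ofNat 0, Int.ofNat 24]) (ZT.node 6491 (ZT.leaf [Int.ofNat 5, Int.ofNat 1, Int.ofNat 0, Int.ofNat 0, Int.ofNat 0, Int.ofNat 0, Int.ofNat 1, Int.ofNat 0, Int.ofNat 0, Int.ofNat 0, Int.ofNat 1]) (ZT.leaf []))))) (ZT.node 6497 (ZT.node 6494 (ZT.node 6493 (ZT.leaf [Int.negSucc 352, Int.negSucc 87, Int.ofNat 90, Int.negSucc 17, Int.ofNat 0, Int.negSucc 41, Int.ofNat 0, Int.ofNat 6, Int.negSucc 2, Int.negSucc 0, Int.ofNat 0, Int.ofNat 0, Int.ofNat 0, Int.negSucc 0, Int.ofNat 24, Int.ofNat 0, Int.negSucc 6, Int.ofNat 0, Int.negSucc 33]) (ZT.leaf [Int.ofNat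 1])) (ZT.node 6495 (ZT.leaf [Int.ofNat 1]) (ZT.node 6496 (ZT.leaf [Int.negSucc 42, Int.negSucc 39, Int.ofNat 3, Int.negSucc 3, Int.ofNat 0, Int.negSucc 2, Int.negSucc 1, Int.negSucc 1, Int.ofNat 0, Int.ofNat 0, Int.ofNat 0, Int.ofNat 0, Int.negSucc 1, Int.ofNat 0, Int.ofNat 15, Int.ofNat 0, Int.ofNat 0, Int.ofNat 0, Int.negSucc 4]) (ZT.leaf [Int.negSucc 453, Int.negSucc 446, Int.ofNat 125, Int.negSucc 83, Int.negSucc 1, Int.negSucc 111, Int.negSucc 11, Int.ofNat 32, Int.ofNat 4, Int.ofNat 0, Int.ofNat 0, Int.ofNat 0, Int.ofNat 2, Int.negSucc 3, Int.ofNat 149, Int.ofNat 4, Int.negSucc 13, Int.ofNat 0, Int.negSucc 92])))) (ZT.node 6500 (ZT.node 6498 (ZT.leaf [Int.negSucc 902, Int.negSucc 1467, Int.ofNat 267, Int.negSucc 270, Int.negSucc 9, Int.negSucc 305, Int.negSucc 41, Int.ofNat 122, Int.ofNat 27, Int.ofNat 0, Int.ofNat 0, Int.ofNat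 0, Int.ofNat 5, Int.negSucc 10, Int.ofNat 495, Int.ofNat 14, Int.negSucc 62, Int.ofNat 0, Int.negSucc 269]) (ZT.node 6499 (ZT.leaf [Int.negSucc 47, Int.negSucc 22, Int.ofNat 9, Int.negSucc 0, Int.ofNat 0, Int.negSucc 5, Int.ofNat 1, Int.negSucc 0, Int.ofNat 0, Int.ofNat 0, Int.ofNat 0, Int.ofNat 0, Int.negSucc 0, Int.ofNat 0, Int.ofNat 7, Int.ofNat 0, Int.negSucc 1, Int.ofNat 0, Int.negSucc 4]) (ZT.leaf [Int.ofNat 96, Int.ofNat 33, Int.negSucc 20, Int.ofNat 4, Int.ofNat 0, Int.ofNat 10, Int.ofNat 0, Int.ofNat 0, Int.ofNat 0, Int.ofNat 0, Int.ofNat 0, Int.ofNat 0, Int.ofNat 1, Int.ofNat 0, Int.negSucc 10, Int.ofNat 0, Int.ofNat 2, Int.ofNat 0, Int.ofNat 9]))) (ZT.node 6501 (ZT.leaf [Int.negSucc 4449, Int.ofNat 666, Int.ofNat 968, Int.ofNat 177, Int.ofNat 17, Int.negSucc 195, Int.ofNat 0, Int.negSucc 110, Int.negSucc 64, Int.ofNat 0,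 Int.ofNat 0, Int.ofNat 0, Int.negSucc 26, Int.negSucc 2, Int.negSucc 188, Int.negSucc 18, Int.ofNat 38, Int.ofNat 0, Int.negSucc 143]) (ZT.node 6502 (ZT.leaf [Int.ofNat 364, Int.ofNat 29, Int.negSucc 72, Int.negSucc 1, Int.ofNat 0, Int.ofNat 18, Int.negSucc 0, Int.ofNat 9, Int.ofNat 3, Int.ofNat 0, Int.ofNat 0, Int.ofNat 0, Int.ofNat 4, Int.ofNat 0, Int.negSucc 1, Int.ofNat 2, Int.ofNat 2, Int.ofNat 0, Int.ofNat 17]) (ZT.leaf [])))))) (ZT.node 6514 (ZT.node 6508 (ZT.node 6505 (ZT.node 6504 (ZT.leaf [Int.ofNat 7665, Int.ofNat 3467, Int.negSucc 1874, Int.ofNat 604, Int.ofNat 17, Int.ofNat 1078, Int.ofNat 115, Int.negSucc 270, Int.negSucc 13, Int.ofNat 1, Int.negSucc 0, Int.ofNat 0, Int.ofNat 7, Int.ofNat 15, Int.negSucc 1246, Int.negSucc 9, Int.ofNat 172, Int.ofNat 0, Int.ofNat 941]) (ZT.leaf [Int.negSucc 18954, Int.negSucc 4242, Int.ofNat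 4219, Int.negSucc 553, Int.negSucc 10, Int.negSucc 1832, Int.negSucc 179, Int.ofNat 305, Int.negSucc 28, Int.negSucc 0, Int.ofNat 0, Int.ofNat 0, Int.negSucc 55, Int.ofNat 1, Int.ofNat 1635, Int.negSucc 36, Int.negSucc 348, Int.ofNat 0, Int.negSucc 1616])) (ZT.node 6506 (ZT.leaf []) (ZT.node 6507 (ZT.leaf []) (ZT.leaf [Int.ofNat 1, Int.ofNat 1])))) (ZT.node 6511 (ZT.node 6509 (ZT.leaf [Int.ofNat 3, Int.ofNat 4, Int.ofNat 0, Int.ofNat 0, Int.ofNat 0, Int.ofNat 0, Int.ofNat 0, Int.ofNat 0, Int.ofNat 0, Int.ofNat 0, Int.ofNat 0, Int.ofNat 0, Int.ofNat 0, Int.ofNat 0, Int.negSucc 0, Int.ofNat 0, Int.ofNat 0, Int.ofNat 0, Int.ofNat 0]) (ZT.node 6510 (ZT.leaf []) (ZT.leaf []))) (ZT.node 6512 (ZT.leaf []) (ZT.node 6513 (ZT.leaf [Int.negSucc 1, Int.negSucc 3, Int.ofNat 0, Int.ofNat 0, Int.ofNat 0, Int.ofNat 0, Int.ofNat 0, Int.ofNat 0, Int.ofNat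 0, Int.ofNat 0, Int.ofNat 0, Int.ofNat 0, Int.ofNat 0, Int.ofNat 0, Int.ofNat 1, Int.ofNat 0, Int.ofNat 0, Int.ofNat 0, Int.ofNat 0]) (ZT.leaf [Int.ofNat 1]))))) (ZT.node 6520 (ZT.node 6517 (ZT.node 6515 (ZT.leaf []) (ZT.node 6516 (ZT.leaf [Int.ofNat 1]) (ZT.leaf [Int.negSucc 165, Int.negSucc 48, Int.ofNat 41, Int.negSucc 8, Int.ofNat 0, Int.negSucc 21, Int.ofNat 0, Int.ofNat 3, Int.negSucc 0, Int.ofNat 0, Int.ofNat 0, Int.ofNat 0, Int.ofNat 0, Int.ofNat 0, Int.ofNat 15, Int.ofNat 0, Int.negSucc 1, Int.ofNat 0, Int.negSucc 16]))) (ZT.node 6518 (ZT.leaf [Int.ofNat 157, Int.ofNat 40, Int.negSucc 42, Int.ofNat 9, Int.ofNat 0, Int.ofNat 19, Int.ofNat 0, Int.negSucc 3, Int.ofNat 1, Int.ofNat 0, Int.ofNat 0, Int.ofNat 0, Int.ofNat 0, Int.ofNat 1, Int.negSucc 10, Int.ofNat 0, Int.ofNat 5, Int.ofNat 0, Int.ofNat 16]) (ZT.node 6519 (ZT.leaf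 [Int.ofNat 5, Int.ofNat 2, Int.ofNat 0, Int.negSucc 0, Int.ofNat 0, Int.ofNat 0, Int.ofNat 0, Int.ofNat 0, Int.ofNat 0, Int.ofNat 0, Int.ofNat 0, Int.ofNat 0, Int.ofNat 0, Int.ofNat 0, Int.negSucc 1]) (ZT.leaf [Int.ofNat 1])))) (ZT.node 6523 (ZT.node 6521 (ZT.leaf []) (ZT.node 6522 (ZT.leaf [Int.ofNat 0, Int.negSucc 0]) (ZT.leaf [Int.ofNat 0, Int.negSucc 0]))) (ZT.node 6524 (ZT.leaf [Int.negSucc 77, Int.negSucc 6, Int.ofNat 23, Int.negSucc 3, Int.ofNat 0, Int.negSucc 9, Int.ofNat 0, Int.ofNat 0, Int.negSucc 0, Int.ofNat 0, Int.ofNat 0, Int.ofNat 0, Int.ofNat 0, Int.ofNat 0, Int.ofNat 0, Int.negSucc 0, Int.negSucc 1, Int.ofNat 0, Int.negSucc 7]) (ZT.node 6525 (ZT.leaf [Int.ofNat 2, Int.ofNat 1]) (ZT.leaf [Int.ofNat 38, Int.ofNat 7, Int.negSucc 10, Int.ofNat 2, Int.ofNat 0, Int.ofNat 4, Int.ofNat 1, Int.negSucc 0, Int.ofNat 0, Int.ofNat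 0, Int.ofNat 0, Int.ofNat 0, Int.ofNat 0, Int.ofNat 0, Int.negSucc 4, Int.ofNat 0, Int.ofNat 1, Int.ofNat 0, Int.ofNat 4])))))))) (ZT.node 6571 (ZT.node 6548 (ZT.node 6537 (ZT.node 6531 (ZT.node 6528 (ZT.node 6527 (ZT.leaf [Int.ofNat 53, Int.ofNat 123, Int.negSucc 0, Int.ofNat 16, Int.ofNat 1, Int.ofNat 10, Int.ofNat 5, Int.negSucc 7, Int.negSucc 4, Int.ofNat 0, Int.ofNat 0, Int.ofNat 0, Int.ofNat 2, Int.ofNat 0, Int.negSucc 50, Int.negSucc 0, Int.ofNat 6, Int.ofNat 0, Int.ofNat 15]) (ZT.leaf [Int.ofNat 2, Int.negSucc 0, Int.ofNat 0, Int.ofNat 0, Int.ofNat 0, Int.ofNat 0, Int.ofNat 0, Int.ofNat 0, Int.ofNat 0, Int.ofNat 0, Int.ofNat 0, Int.ofNat 0, Int.ofNat 0, Int.ofNat 0, Int.ofNat 1])) (ZT.node 6529 (ZT.leaf [Int.ofNat 1155, Int.ofNat 536, Int.negSucc 270, Int.ofNat 89, Int.ofNat 3, Int.ofNat 157, Int.ofNat 19, Int.negSucc 39, Int.negSucc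 3, Int.ofNat 0, Int.ofNat 0, Int.ofNat 0, Int.ofNat 2, Int.ofNat 3, Int.negSucc 185, Int.negSucc 1, Int.ofNat 27, Int.ofNat 0, Int.ofNat 141]) (ZT.node 6530 (ZT.leaf [Int.negSucc 6183, Int.negSucc 2480, Int.ofNat 1462, Int.negSucc 398, Int.negSucc 6, Int.negSucc 790, Int.negSucc 69, Int.ofNat 169, Int.ofNat 6, Int.ofNat 0, Int.ofNat 0, Int.ofNat 0, Int.negSucc 15, Int.negSucc 10, Int.ofNat 846, Int.ofNat 2, Int.negSucc 142, Int.ofNat 0, Int.negSucc 700]) (ZT.leaf [Int.ofNat 291, Int.negSucc 35, Int.negSucc 82, Int.ofNat 2, Int.negSucc 0, Int.ofNat 24, Int.negSucc 13, Int.ofNat 20, Int.ofNat 14, Int.ofNat 0, Int.ofNat 0, Int.ofNat 0, Int.negSucc 0, Int.ofNat 3, Int.ofNat 75, Int.negSucc 1, Int.negSucc 9, Int.ofNat 0, Int.ofNat 5])))) (ZT.node 6534 (ZT.node 6532 (ZT.leaf [Int.negSucc 96, Int.negSucc 25, Int.ofNat 20, Int.negSucc 1, Int.ofNat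 0, Int.negSucc 9, Int.ofNat 1, Int.negSucc 0, Int.negSucc 0, Int.negSucc 0, Int.ofNat 0, Int.ofNat 0, Int.negSucc 0, Int.ofNat 0, Int.ofNat 4, Int.ofNat 0, Int.negSucc 2, Int.ofNat 0, Int.negSucc 7]) (ZT.node 6533 (ZT.leaf [Int.ofNat 1, Int.ofNat 0, Int.ofNat 0, Int.ofNat 0, Int.ofNat 0, Int.ofNat 0, Int.ofNat 0, Int.ofNat 0, Int.ofNat 0, Int.ofNat 0, Int.ofNat 0, Int.ofNat 0, Int.ofNat 0, Int.ofNat 0, Int.ofNat 0, Int.ofNat 0, Int.negSucc 1]) (ZT.leaf [Int.ofNat 3, Int.ofNat 1, Int.ofNat 0, Int.ofNat 0, Int.ofNat 0, Int.ofNat 0, Int.ofNat 0, Int.ofNat 0, Int.ofNat 0, Int.ofNat 0, Int.ofNat 0, Int.ofNat 0, Int.ofNat 0, Int.ofNat 0, Int.ofNat 0, Int.ofNat 0, Int.negSucc 0]))) (ZT.node 6535 (ZT.leaf [Int.ofNat 1]) (ZT.node 6536 (ZT.leaf [Int.ofNat 90, Int.ofNat 27, Int.negSucc 22, Int.ofNat 4, Int.ofNat 0, Int.ofNat 10, Int.ofNat 0,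 Int.negSucc 0, Int.ofNat 0, Int.negSucc 0, Int.ofNat 0, Int.ofNat 0, Int.ofNat 1, Int.ofNat 0, Int.negSucc 10, Int.ofNat 0, Int.ofNat 1, Int.ofNat 0, Int.ofNat 9]) (ZT.leaf [Int.ofNat 1688, Int.ofNat 1662, Int.negSucc 445, Int.ofNat 300, Int.ofNat 9, Int.ofNat 383, Int.ofNat 36, Int.negSucc 111, Int.negSucc 17, Int.ofNat 0, Int.ofNat 0, Int.ofNat 0, Int.ofNat 0, Int.ofNat 13, Int.negSucc 514, Int.negSucc 11, Int.ofNat 65, Int.ofNat 0, Int.ofNat 331]))))) (ZT.node 6542 (ZT.node 6539 (ZT.node 6538 (ZT.leaf [Int.ofNat 101, Int.ofNat 27, Int.negSucc 20, Int.ofNat 2, Int.ofNat 0, Int.ofNat 10, Int.negSucc 0, Int.ofNat 1, Int.ofNat 1, Int.ofNat 0, Int.ofNat 0, Int.ofNat 0, Int.ofNat 1, Int.ofNat 0, Int.negSucc 3, Int.ofNat 0, Int.ofNat 1, Int.ofNat 0, Int.ofNat 8]) (ZT.leaf [])) (ZT.node 6540 (ZT.leaf [Int.ofNat 28308, Int.ofNat 10436, Int.negSucc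 6446, Int.ofNat 1599, Int.ofNat 36, Int.ofNat 3433, Int.ofNat 402, Int.negSucc 843, Int.negSucc 52, Int.negSucc 0, Int.ofNat 1, Int.ofNat 1, Int.ofNat 59, Int.ofNat 17, Int.negSucc 3607, Int.ofNat 9, Int.ofNat 635, Int.ofNat 1, Int.ofNat 3035]) (ZT.node 6541 (ZT.leaf []) (ZT.leaf [Int.negSucc 25, Int.negSucc 17, Int.ofNat 20, Int.negSucc 10, Int.negSucc 0, Int.negSucc 9, Int.negSucc 0, Int.ofNat 9, Int.ofNat 1, Int.ofNat 0, Int.ofNat 1, Int.ofNat 0, Int.ofNat 2, Int.negSucc 0, Int.ofNat 5, Int.ofNat 1, Int.negSucc 3, Int.ofNat 0, Int.negSucc 7])))) (ZT.node 6545 (ZT.node 6543 (ZT.leaf [Int.negSucc 468, Int.negSucc 264, Int.ofNat 105, Int.negSucc 41, Int.negSucc 0, Int.negSucc 62, Int.negSucc 10, Int.ofNat 18, Int.ofNat 3, Int.ofNat 0, Int.ofNat 0, Int.ofNat 0, Int.negSucc 1, Int.negSucc 1, Int.ofNat 85, Int.ofNat 2, Int.negSucc 9,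 Int.ofNat 0, Int.negSucc 60]) (ZT.node 6544 (ZT.leaf [Int.ofNat 1]) (ZT.leaf [Int.ofNat 741, Int.ofNat 586, Int.negSucc 154, Int.ofNat 88, Int.ofNat 4, Int.ofNat 123, Int.ofNat 43, Int.negSucc 71, Int.negSucc 20, Int.ofNat 0, Int.ofNat 0, Int.ofNat 0, Int.negSucc 0, Int.ofNat 0, Int.negSucc 268, Int.negSucc 2, Int.ofNat 29, Int.negSucc 0, Int.ofNat 125]))) (ZT.node 6546 (ZT.leaf []) (ZT.node 6547 (ZT.leaf []) (ZT.leaf [])))))) (ZT.node 6559 (ZT.node 6553 (ZT.node 6550 (ZT.node 6549 (ZT.leaf [Int.ofNat 1]) (ZT.leaf [Int.negSucc 481, Int.negSucc 127, Int.ofNat 123, Int.negSucc 24, Int.ofNat 0, Int.negSucc 57, Int.negSucc 2, Int.ofNat 10, Int.negSucc 1, Int.ofNat 0, Int.ofNat 0, Int.ofNat 1, Int.ofNat 0, Int.negSucc 0, Int.ofNat 38, Int.ofNat 0, Int.negSucc 8, Int.ofNat 0, Int.negSucc 48])) (ZT.node 6551 (ZT.leaf [Int.negSucc 625, Int.negSucc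 222, Int.ofNat 152, Int.negSucc 36, Int.negSucc 0, Int.negSucc 78, Int.negSucc 6, Int.ofNat 16, Int.ofNat 0, Int.ofNat 0, Int.ofNat 0, Int.ofNat 0, Int.negSucc 0, Int.negSucc 0, Int.ofNat 72, Int.ofNat 0, Int.negSucc 10, Int.ofNat 0, Int.negSucc 67]) (ZT.node 6552 (ZT.leaf [Int.ofNat 75, Int.ofNat 11, Int.negSucc 22, Int.ofNat 5, Int.ofNat 0, Int.ofNat 11, Int.ofNat 0, Int.negSucc 1, Int.ofNat 1, Int.ofNat 0, Int.ofNat 0, Int.ofNat 0, Int.negSucc 0, Int.ofNat 1, Int.negSucc 1, Int.ofNat 0, Int.ofNat 1, Int.ofNat 0, Int.ofNat 8]) (ZT.leaf [])))) (ZT.node 6556 (ZT.node 6554 (ZT.leaf []) (ZT.node 6555 (ZT.leaf [Int.ofNat 4658, Int.ofNat 3247, Int.negSucc 1273, Int.ofNat 648, Int.ofNat 9, Int.ofNat 877, Int.ofNat 63, Int.negSucc 198, Int.negSucc 8, Int.negSucc 0, Int.ofNat 1, Int.negSucc 0, Int.ofNat 5, Int.ofNat 18, Int.negSucc 998, Int.negSucc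 27, Int.ofNat 85, Int.ofNat 0, Int.ofNat 735]) (ZT.leaf [Int.negSucc 73, Int.negSucc 10, Int.ofNat 23, Int.negSucc 4, Int.ofNat 0, Int.negSucc 10, Int.ofNat 0, Int.ofNat 2, Int.negSucc 0, Int.ofNat 0, Int.ofNat 0, Int.ofNat 0, Int.ofNat 1, Int.negSucc 0, Int.ofNat 2, Int.ofNat 0, Int.negSucc 0, Int.ofNat 0, Int.negSucc 7]))) (ZT.node 6557 (ZT.leaf [Int.negSucc 22, Int.negSucc 3, Int.ofNat 4, Int.ofNat 1, Int.ofNat 0, Int.ofNat 0, Int.ofNat 0, Int.negSucc 0, Int.ofNat 0, Int.ofNat 0, Int.ofNat 0, Int.ofNat 0, Int.negSucc 0, Int.ofNat 0, Int.ofNat 2, Int.ofNat 0, Int.ofNat 0, Int.ofNat 0, Int.negSucc 0]) (ZT.node 6558 (ZT.leaf []) (ZT.leaf [Int.ofNat 1]))))) (ZT.node 6565 (ZT.node 6562 (ZT.node 6560 (ZT.leaf []) (ZT.node 6561 (ZT.leaf [Int.ofNat 3253, Int.ofNat 112, Int.negSucc 702, Int.negSucc 39, Int.negSucc 4, Int.ofNat 220, Int.ofNat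 12, Int.negSucc 12, Int.ofNat 18, Int.ofNat 0, Int.ofNat 0, Int.ofNat 0, Int.ofNat 12, Int.negSucc 0, Int.negSucc 63, Int.ofNat 13, Int.ofNat 60, Int.ofNat 0, Int.ofNat 202]) (ZT.leaf [Int.ofNat 1]))) (ZT.node 6563 (ZT.leaf [Int.negSucc 897, Int.ofNat 178, Int.ofNat 200, Int.ofNat 46, Int.ofNat 6, Int.negSucc 47, Int.negSucc 1, Int.negSucc 4, Int.negSucc 9, Int.ofNat 0, Int.ofNat 0, Int.ofNat 0, Int.negSucc 2, Int.ofNat 4, Int.negSucc 63, Int.negSucc 7, Int.ofNat 0, Int.ofNat 1, Int.negSucc 36]) (ZT.node 6564 (ZT.leaf [Int.negSucc 128, Int.ofNat 37, Int.ofNat 32, Int.ofNat 6, Int.ofNat 0, Int.negSucc 3, Int.ofNat 4, Int.negSucc 6, Int.negSucc 3, Int.ofNat 0, Int.ofNat 0, Int.ofNat 0, Int.negSucc 0, Int.ofNat 0, Int.negSucc 16, Int.ofNat 0, Int.ofNat 0, Int.ofNat 0, Int.negSucc 0]) (ZT.leaf [Int.ofNat 186, Int.ofNat 97, Int.negSucc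 61, Int.ofNat 24, Int.ofNat 1, Int.ofNat 36, Int.negSucc 1, Int.negSucc 11, Int.negSucc 0, Int.ofNat 0, Int.ofNat 0, Int.ofNat 0, Int.negSucc 0, Int.ofNat 0, Int.negSucc 32, Int.ofNat 0, Int.ofNat 14, Int.ofNat 0, Int.ofNat 31])))) (ZT.node 6568 (ZT.node 6566 (ZT.leaf [Int.ofNat 298, Int.ofNat 125, Int.negSucc 73, Int.ofNat 21, Int.ofNat 1, Int.ofNat 41, Int.ofNat 3, Int.negSucc 10, Int.negSucc 0, Int.negSucc 0, Int.ofNat 0, Int.ofNat 0, Int.ofNat 0, Int.ofNat 1, Int.negSucc 35, Int.negSucc 0, Int.ofNat 7, Int.ofNat 0, Int.ofNat 36]) (ZT.node 6567 (ZT.leaf [Int.ofNat 31, Int.ofNat 1, Int.negSucc 5, Int.ofNat 0, Int.ofNat 0, Int.ofNat 1, Int.ofNat 0, Int.ofNat 1, Int.ofNat 1, Int.ofNat 1, Int.ofNat 0, Int.ofNat 0, Int.ofNat 0, Int.ofNat 0, Int.ofNat 2, Int.ofNat 0, Int.ofNat 0, Int.ofNat 0, Int.ofNat 1]) (ZT.leaf [Int.ofNat 1]))) (ZT.node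 6569 (ZT.leaf [Int.ofNat 1]) (ZT.node 6570 (ZT.leaf [Int.ofNat 1]) (ZT.leaf [Int.negSucc 907, Int.negSucc 390, Int.ofNat 199, Int.negSucc 53, Int.negSucc 0, Int.negSucc 107, Int.negSucc 7, Int.ofNat 16, Int.ofNat 1, Int.ofNat 0, Int.ofNat 0, Int.ofNat 0, Int.negSucc 5, Int.negSucc 1, Int.ofNat 135, Int.ofNat 1, Int.negSucc 21, Int.ofNat 0, Int.negSucc 99]))))))) (ZT.node 6593 (ZT.node 6582 (ZT.node 6576 (ZT.node 6573 (ZT.node 6572 (ZT.leaf [Int.negSucc 0, Int.ofNat 1, Int.ofNat 1]) (ZT.leaf [Int.negSucc 2, Int.negSucc 13, Int.negSucc 0, Int.negSucc 2, Int.ofNat 0, Int.negSucc 0, Int.negSucc 1, Int.ofNat 1, Int.ofNat 0, Int.negSucc 0, Int.ofNat 0, Int.ofNat 0, Int.ofNat 0, Int.ofNat 0, Int.ofNat 5, Int.ofNat 0, Int.ofNat 1, Int.ofNat 0, Int.negSucc 0])) (ZT.node 6574 (ZT.leaf [Int.ofNat 168, Int.ofNat 37, Int.negSucc 42, Int.ofNat 6,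 Int.ofNat 1, Int.ofNat 21, Int.negSucc 0, Int.negSucc 1, Int.ofNat 1, Int.negSucc 0, Int.ofNat 0, Int.ofNat 0, Int.ofNat 0, Int.ofNat 0, Int.negSucc 9, Int.ofNat 0, Int.ofNat 3, Int.ofNat 0, Int.ofNat 16]) (ZT.node 6575 (ZT.leaf [Int.ofNat 1, Int.ofNat 2, Int.ofNat 1]) (ZT.leaf [Int.ofNat 1134, Int.ofNat 1037, Int.negSucc 300, Int.ofNat 195, Int.ofNat 9, Int.ofNat 235, Int.ofNat 24, Int.negSucc 73, Int.negSucc 12, Int.ofNat 0, Int.ofNat 0, Int.negSucc 0, Int.ofNat 0, Int.ofNat 9, Int.negSucc 372, Int.negSucc 10, Int.ofNat 50, Int.ofNat 0, Int.ofNat 211])))) (ZT.node 6579 (ZT.node 6577 (ZT.leaf [Int.ofNat 644, Int.ofNat 404, Int.negSucc 152, Int.ofNat 67, Int.ofNat 2, Int.ofNat 104, Int.ofNat 15, Int.negSucc 30, Int.negSucc 5, Int.negSucc 0, Int.ofNat 0, Int.ofNat 0, Int.ofNat 1, Int.ofNat 2, Int.negSucc 130, Int.negSucc 1, Int.ofNat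 15, Int.ofNat 0, Int.ofNat 94]) (ZT.node 6578 (ZT.leaf []) (ZT.leaf [Int.ofNat 108, Int.negSucc 56, Int.ofNat 12, Int.negSucc 24, Int.negSucc 0, Int.negSucc 20, Int.ofNat 5, Int.negSucc 2, Int.negSucc 3, Int.negSucc 0, Int.ofNat 0, Int.ofNat 0, Int.ofNat 2, Int.negSucc 1, Int.ofNat 10, Int.ofNat 2, Int.ofNat 5, Int.ofNat 0, Int.negSucc 10]))) (ZT.node 6580 (ZT.leaf [Int.negSucc 125, Int.negSucc 4, Int.ofNat 36, Int.negSucc 5, Int.ofNat 0, Int.negSucc 12, Int.ofNat 0, Int.ofNat 0, Int.negSucc 1, Int.ofNat 0, Int.negSucc 0, Int.ofNat 0, Int.ofNat 0, Int.ofNat 1, Int.negSucc 6, Int.ofNat 0, Int.ofNat 1, Int.ofNat 0, Int.negSucc 8]) (ZT.node 6581 (ZT.leaf [Int.ofNat 366, Int.ofNat 277, Int.negSucc 80, Int.ofNat 42, Int.ofNat 2, Int.ofNat 58, Int.ofNat 12, Int.negSucc 20, Int.negSucc 4, Int.ofNat 0, Int.ofNat 0, Int.ofNat 0, Int.ofNat 1,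 Int.ofNat 3, Int.negSucc 84, Int.negSucc 2, Int.ofNat 8, Int.ofNat 0, Int.ofNat 57]) (ZT.leaf [Int.negSucc 12, Int.negSucc 1, Int.ofNat 3, Int.ofNat 0, Int.ofNat 0, Int.negSucc 0, Int.ofNat 0, Int.ofNat 0, Int.ofNat 0, Int.ofNat 0, Int.ofNat 0, Int.ofNat 0, Int.ofNat 0, Int.ofNat 0, Int.ofNat 0, Int.ofNat 0, Int.ofNat 0, Int.ofNat 0, Int.negSucc 0]))))) (ZT.node 6587 (ZT.node 6584 (ZT.node 6583 (ZT.leaf [Int.negSucc 642, Int.negSucc 403, Int.ofNat 153, Int.negSucc 66, Int.negSucc 1, Int.negSucc 103, Int.negSucc 14, Int.ofNat 31, Int.ofNat 6, Int.ofNat 1, Int.ofNat 0, Int.ofNat 0, Int.negSucc 0, Int.negSucc 1, Int.ofNat 131, Int.ofNat 2, Int.negSucc 14, Int.ofNat 0, Int.negSucc 93]) (ZT.leaf [Int.ofNat 380, Int.ofNat 272, Int.negSucc 74, Int.ofNat 37, Int.ofNat 1, Int.ofNat 53, Int.ofNat 11, Int.negSucc 16, Int.negSucc 4, Int.negSucc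 0, Int.ofNat 0, Int.ofNat 0, Int.ofNat 2, Int.ofNat 3, Int.negSucc 89, Int.negSucc 1, Int.ofNat 7, Int.ofNat 0, Int.ofNat 54])) (ZT.node 6585 (ZT.leaf [Int.ofNat 1]) (ZT.node 6586 (ZT.leaf []) (ZT.leaf [Int.ofNat 1])))) (ZT.node 6590 (ZT.node 6588 (ZT.leaf []) (ZT.node 6589 (ZT.leaf [Int.ofNat 484, Int.ofNat 281, Int.negSucc 100, Int.ofNat 39, Int.ofNat 1, Int.ofNat 68, Int.ofNat 14, Int.negSucc 25, Int.negSucc 3, Int.ofNat 0, Int.ofNat 0, Int.ofNat 0, Int.ofNat 0, Int.ofNat 2, Int.negSucc 104, Int.negSucc 0, Int.ofNat 12, Int.ofNat 0, Int.ofNat 65]) (ZT.leaf [Int.negSucc 32, Int.negSucc 8, Int.ofNat 9, Int.negSucc 1, Int.ofNat 0, Int.negSucc 3, Int.ofNat 0, Int.ofNat 1, Int.ofNat 0, Int.ofNat 0, Int.ofNat 0, Int.ofNat 0, Int.ofNat 0, Int.ofNat 0, Int.ofNat 4, Int.ofNat 0, Int.negSucc 0, Int.ofNat 0, Int.negSucc 2]))) (ZT.node 6591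 (ZT.leaf []) (ZT.node 6592 (ZT.leaf []) (ZT.leaf [Int.ofNat 238, Int.ofNat 50, Int.negSucc 54, Int.ofNat 9, Int.ofNat 0, Int.ofNat 26, Int.ofNat 2, Int.ofNat 3, Int.ofNat 2, Int.ofNat 0, Int.ofNat 0, Int.ofNat 0, Int.ofNat 2, Int.ofNat 0, Int.negSucc 8, Int.ofNat 0, Int.ofNat 0, Int.ofNat 0, Int.ofNat 20])))))) (ZT.node 6604 (ZT.node 6598 (ZT.node 6595 (ZT.node 6594 (ZT.leaf []) (ZT.leaf [Int.negSucc 10439, Int.negSucc 7068, Int.ofNat 2781, Int.negSucc 1364, Int.negSucc 34, Int.negSucc 1955, Int.negSucc 198, Int.ofNat 539, Int.ofNat 50, Int.ofNat 1, Int.ofNat 0, Int.ofNat 0, Int.ofNat 6, Int.negSucc 24, Int.ofNat 2287, Int.ofNat 44, Int.negSucc 266, Int.ofNat 0, Int.negSucc 1645])) (ZT.node 6596 (ZT.leaf [Int.ofNat 3]) (ZT.node 6597 (ZT.leaf [Int.negSucc 11915, Int.negSucc 7873, Int.ofNat 3112, Int.negSucc 1493, Int.negSucc 37, Int.negSucc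 2168, Int.negSucc 235, Int.ofNat 613, Int.ofNat 64, Int.ofNat 1, Int.ofNat 0, Int.ofNat 0, Int.ofNat 1, Int.negSucc 25, Int.ofNat 2644, Int.ofNat 44, Int.negSucc 313, Int.ofNat 0, Int.negSucc 1848]) (ZT.leaf [Int.ofNat 794, Int.ofNat 357, Int.negSucc 174, Int.ofNat 50, Int.ofNat 1, Int.ofNat 98, Int.ofNat 7, Int.negSucc 14, Int.negSucc 0, Int.ofNat 0, Int.ofNat 0, Int.ofNat 0, Int.ofNat 5, Int.ofNat 2, Int.negSucc 123, Int.negSucc 0, Int.ofNat 20, Int.ofNat 0, Int.ofNat 90])))) (ZT.node 6601 (ZT.node 6599 (ZT.leaf []) (ZT.node 6600 (ZT.leaf [Int.negSucc 0, Int.negSucc 0, Int.ofNat 0, Int.ofNat 0, Int.ofNat 0, Int.ofNat 0, Int.ofNat 0, Int.ofNat 0, Int.ofNat 0, Int.ofNat 0, Int.ofNat 0, Int.ofNat 0, Int.ofNat 0, Int.ofNat 0, Int.ofNat 1]) (ZT.leaf []))) (ZT.node 6602 (ZT.leaf []) (ZT.node 6603 (ZT.leaf []) (ZT.leaf [Int.ofNat 453, Int.ofNat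 866, Int.negSucc 148, Int.ofNat 164, Int.ofNat 7, Int.ofNat 168, Int.ofNat 15, Int.negSucc 66, Int.negSucc 13, Int.ofNat 0, Int.ofNat 0, Int.ofNat 0, Int.negSucc 4, Int.ofNat 8, Int.negSucc 284, Int.negSucc 9, Int.ofNat 41, Int.ofNat 0, Int.ofNat 153]))))) (ZT.node 6610 (ZT.node 6607 (ZT.node 6605 (ZT.leaf [Int.ofNat 1, Int.ofNat 0, Int.ofNat 0, Int.ofNat 0, Int.ofNat 0, Int.ofNat 0, Int.ofNat 0, Int.ofNat 0, Int.ofNat 0, Int.ofNat 0, Int.ofNat 0, Int.ofNat 0, Int.ofNat 0, Int.ofNat 0, Int.ofNat 0, Int.ofNat 0, Int.ofNat 0, Int.negSucc 0]) (ZT.node 6606 (ZT.leaf [Int.ofNat 2236, Int.ofNat 1022, Int.negSucc 515, Int.ofNat 161, Int.ofNat 5, Int.ofNat 300, Int.ofNat 50, Int.negSucc 94, Int.negSucc 14, Int.ofNat 0, Int.ofNat 0, Int.ofNat 0, Int.ofNat 3, Int.ofNat 2, Int.negSucc 393, Int.negSucc 2, Int.ofNat 52, Int.ofNat 0, Int.ofNat 274])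 (ZT.leaf [Int.ofNat 2104, Int.ofNat 892, Int.negSucc 470, Int.ofNat 133, Int.ofNat 4, Int.ofNat 266, Int.ofNat 42, Int.negSucc 77, Int.negSucc 10, Int.ofNat 0, Int.ofNat 0, Int.ofNat 0, Int.ofNat 4, Int.ofNat 2, Int.negSucc 331, Int.negSucc 0, Int.ofNat 45, Int.ofNat 0, Int.ofNat 242]))) (ZT.node 6608 (ZT.leaf []) (ZT.node 6609 (ZT.leaf []) (ZT.leaf [Int.negSucc 484, Int.negSucc 127, Int.ofNat 123, Int.negSucc 24, Int.ofNat 0, Int.negSucc 57, Int.negSucc 2, Int.ofNat 10, Int.negSucc 1, Int.ofNat 0, Int.ofNat 0, Int.ofNat 0, Int.ofNat 0, Int.negSucc 0, Int.ofNat 38, Int.ofNat 0, Int.negSucc 8, Int.ofNat 0, Int.negSucc 48])))) (ZT.node 6613 (ZT.node 6611 (ZT.leaf [Int.negSucc 249, Int.negSucc 102, Int.ofNat 59, Int.negSucc 15, Int.ofNat 0, Int.negSucc 31, Int.negSucc 3, Int.ofNat 10, Int.ofNat 1, Int.ofNat 0, Int.ofNat 0, Int.ofNat 0,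 Int.ofNat 0, Int.negSucc 0, Int.ofNat 37, Int.ofNat 0, Int.negSucc 5, Int.ofNat 0, Int.negSucc 28]) (ZT.node 6612 (ZT.leaf [Int.ofNat 1]) (ZT.leaf [Int.ofNat 81, Int.ofNat 8, Int.negSucc 22, Int.ofNat 4, Int.ofNat 0, Int.ofNat 10, Int.ofNat 0, Int.ofNat 0, Int.ofNat 1, Int.ofNat 0, Int.ofNat 0, Int.ofNat 0, Int.ofNat 0, Int.ofNat 0, Int.ofNat 0, Int.ofNat 1, Int.ofNat 2, Int.ofNat 0, Int.ofNat 8]))) (ZT.node 6614 (ZT.leaf [Int.negSucc 5388, Int.negSucc 2656, Int.ofNat 1254, Int.negSucc 425, Int.negSucc 14, Int.negSucc 723, Int.negSucc 78, Int.ofNat 205, Int.ofNat 26, Int.ofNat 0, Int.ofNat 0, Int.ofNat 0, Int.negSucc 7, Int.negSucc 10, Int.ofNat 973, Int.ofNat 7, Int.negSucc 161, Int.ofNat 0, Int.negSucc 666]) (ZT.node 6615 (ZT.leaf [Int.ofNat 4780, Int.ofNat 1699, Int.negSucc 1104, Int.ofNat 258, Int.ofNat 5, Int.ofNat 577, Int.ofNat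 67, Int.negSucc 128, Int.negSucc 3, Int.ofNat 0, Int.ofNat 0, Int.ofNat 0, Int.ofNat 11, Int.ofNat 6, Int.negSucc 633, Int.ofNat 3, Int.ofNat 101, Int.ofNat 0, Int.ofNat 512]) (ZT.leaf [Int.ofNat 1359, Int.ofNat 350, Int.negSucc 304, Int.ofNat 38, Int.ofNat 1, Int.ofNat 144, Int.ofNat 26, Int.negSucc 34, Int.negSucc 1, Int.ofNat 0, Int.ofNat 0, Int.ofNat 0, Int.ofNat 1, Int.ofNat 3, Int.negSucc 178, Int.ofNat 5, Int.ofNat 32, Int.ofNat 0, Int.ofNat 133]))))))))))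

noncomputable def labT_15 : ZT := (ZT.node 6796 (ZT.node 6706 (ZT.node 6661 (ZT.node 6638 (ZT.node 6627 (ZT.node 6621 (ZT.node 6618 (ZT.node 6617 (ZT.leaf [Int.ofNat 659, Int.ofNat 332, Int.negSucc 183, Int.ofNat 69, Int.ofNat 0, Int.ofNat 116, Int.ofNat 2, Int.negSucc 11, Int.ofNat 7, Int.ofNat 0, Int.ofNat 0, Int.ofNat 0, Int.ofNat 0, Int.ofNat 4, Int.negSucc 92, Int.negSucc 1, Int.ofNat 10, Int.ofNat 0, Int.ofNat 91]) (ZT.leaf [])) (ZT.node 6619 (ZT.leaf [Int.ofNat 1272, Int.ofNat 1501, Int.negSucc 340, Int.ofNat 282, Int.ofNat 10, Int.ofNat 316, Int.ofNat 34, Int.negSucc 129, Int.negSucc 26, Int.ofNat 0, Int.ofNat 0, Int.ofNat 0, Int.negSucc 4, Int.ofNat 0, Int.negSucc 468, Int.negSucc 11, Int.ofNat 71, Int.ofNat 0, Int.ofNat 281]) (ZT.node 6620 (ZT.leaf [Int.ofNat 10270, Int.ofNat 3983, Int.negSucc 2342, Int.ofNat 621, Int.ofNat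 21, Int.ofNat 1262, Int.ofNat 163, Int.negSucc 355, Int.negSucc 38, Int.ofNat 1, Int.negSucc 0, Int.ofNat 0, Int.ofNat 12, Int.ofNat 1, Int.negSucc 1468, Int.ofNat 3, Int.ofNat 255, Int.ofNat 0, Int.ofNat 1131]) (ZT.leaf [Int.ofNat 1])))) (ZT.node 6624 (ZT.node 6622 (ZT.leaf [Int.ofNat 48, Int.ofNat 22, Int.negSucc 8, Int.ofNat 1, Int.ofNat 0, Int.ofNat 6, Int.negSucc 0, Int.ofNat 1, Int.ofNat 0, Int.ofNat 0, Int.ofNat 0, Int.ofNat 0, Int.ofNat 1, Int.ofNat 0, Int.negSucc 6, Int.ofNat 0, Int.ofNat 2, Int.ofNat 0, Int.ofNat 5]) (ZT.node 6623 (ZT.leaf []) (ZT.leaf [Int.ofNat 1]))) (ZT.node 6625 (ZT.leaf [Int.negSucc 50, Int.negSucc 2, Int.ofNat 11, Int.ofNat 0, Int.ofNat 0, Int.negSucc 2, Int.ofNat 1, Int.negSucc 0, Int.negSucc 0, Int.ofNat 0, Int.ofNat 0, Int.ofNat 0, Int.ofNat 0, Int.ofNat 0, Int.ofNat 1, Int.ofNat 0, Int.negSucc 1,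 Int.ofNat 0, Int.negSucc 1]) (ZT.node 6626 (ZT.leaf [Int.negSucc 125, Int.negSucc 63, Int.ofNat 23, Int.negSucc 6, Int.negSucc 0, Int.negSucc 6, Int.negSucc 1, Int.ofNat 3, Int.ofNat 2, Int.ofNat 0, Int.ofNat 0, Int.ofNat 0, Int.negSucc 0, Int.ofNat 0, Int.ofNat 27, Int.ofNat 0, Int.negSucc 4, Int.ofNat 0, Int.negSucc 10]) (ZT.leaf [Int.negSucc 1595, Int.negSucc 702, Int.ofNat 371, Int.negSucc 115, Int.negSucc 2, Int.negSucc 204, Int.negSucc 25, Int.ofNat 57, Int.ofNat 6, Int.negSucc 0, Int.ofNat 0, Int.ofNat 0, Int.negSucc 2, Int.negSucc 1, Int.ofNat 257, Int.ofNat 1, Int.negSucc 37, Int.ofNat 0, Int.negSucc 186]))))) (ZT.node 6632 (ZT.node 6629 (ZT.node 6628 (ZT.leaf [Int.ofNat 1]) (ZT.leaf [Int.negSucc 361, Int.ofNat 100, Int.ofNat 122, Int.ofNat 3, Int.ofNat 3, Int.negSucc 39, Int.ofNat 19, Int.negSucc 31, Int.negSucc 19, Int.ofNat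 1, Int.negSucc 0, Int.ofNat 0, Int.ofNat 0, Int.negSucc 2, Int.negSucc 116, Int.ofNat 2, Int.ofNat 11, Int.ofNat 0, Int.negSucc 13])) (ZT.node 6630 (ZT.leaf []) (ZT.node 6631 (ZT.leaf [Int.ofNat 4, Int.ofNat 3, Int.ofNat 0, Int.ofNat 0, Int.ofNat 0, Int.ofNat 0, Int.ofNat 0, Int.ofNat 0, Int.ofNat 0, Int.ofNat 0, Int.ofNat 0, Int.ofNat 0, Int.ofNat 0, Int.ofNat 0, Int.ofNat 1]) (ZT.leaf [Int.negSucc 2, Int.negSucc 3])))) (ZT.node 6635 (ZT.node 6633 (ZT.leaf [Int.ofNat 29, Int.ofNat 5, Int.negSucc 5, Int.ofNat 0, Int.ofNat 0, Int.ofNat 2, Int.ofNat 0, Int.ofNat 1, Int.ofNat 1, Int.ofNat 0, Int.ofNat 0, Int.ofNat 0, Int.ofNat 0, Int.ofNat 0, Int.negSucc 3, Int.ofNat 0, Int.negSucc 0, Int.ofNat 0, Int.ofNat 1]) (ZT.node 6634 (ZT.leaf [Int.ofNat 1, Int.ofNat 1, Int.ofNat 0, Int.ofNat 0, Int.ofNat 0, Int.ofNat 0, Int.ofNat 0, Int.ofNat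 0, Int.ofNat 0, Int.ofNat 0, Int.ofNat 0, Int.ofNat 0, Int.ofNat 0, Int.ofNat 0, Int.negSucc 0]) (ZT.leaf [Int.ofNat 0, Int.ofNat 1, Int.ofNat 0, Int.ofNat 0, Int.ofNat 0, Int.ofNat 0, Int.ofNat 0, Int.ofNat 0, Int.ofNat 0, Int.ofNat 0, Int.ofNat 0, Int.ofNat 0, Int.ofNat 0, Int.ofNat 0, Int.negSucc 0]))) (ZT.node 6636 (ZT.leaf []) (ZT.node 6637 (ZT.leaf [Int.negSucc 378, Int.negSucc 271, Int.ofNat 75, Int.negSucc 36, Int.negSucc 0, Int.negSucc 52, Int.negSucc 10, Int.ofNat 17, Int.ofNat 5, Int.ofNat 1, Int.ofNat 0, Int.ofNat 0, Int.negSucc 1, Int.negSucc 2, Int.ofNat 90, Int.ofNat 2, Int.negSucc 6, Int.ofNat 0, Int.negSucc 53]) (ZT.leaf [Int.negSucc 296, Int.negSucc 124, Int.ofNat 74, Int.negSucc 20, Int.negSucc 0, Int.negSucc 40, Int.negSucc 2, Int.ofNat 11, Int.ofNat 1, Int.ofNat 1, Int.ofNat 0, Int.ofNat 0, Int.ofNat 0, Int.negSucc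 0, Int.ofNat 36, Int.ofNat 1, Int.negSucc 6, Int.ofNat 0, Int.negSucc 35])))))) (ZT.node 6649 (ZT.node 6643 (ZT.node 6640 (ZT.node 6639 (ZT.leaf []) (ZT.leaf [Int.negSucc 3285, Int.negSucc 2377, Int.ofNat 877, Int.negSucc 446, Int.negSucc 12, Int.negSucc 644, Int.negSucc 66, Int.ofNat 183, Int.ofNat 20, Int.ofNat 0, Int.ofNat 0, Int.ofNat 0, Int.ofNat 5, Int.negSucc 13, Int.ofNat 759, Int.ofNat 17, Int.negSucc 98, Int.ofNat 0, Int.negSucc 547])) (ZT.node 6641 (ZT.leaf [Int.ofNat 6154, Int.ofNat 3971, Int.negSucc 1588, Int.ofNat 737, Int.ofNat 17, Int.ofNat 1126, Int.ofNat 136, Int.negSucc 301, Int.negSucc 27, Int.negSucc 0, Int.ofNat 0, Int.ofNat 0, Int.ofNat 1, Int.ofNat 22, Int.negSucc 1260, Int.negSucc 26, Int.ofNat 129, Int.ofNat 0, Int.ofNat 943]) (ZT.node 6642 (ZT.leaf []) (ZT.leaf [Int.negSucc 15638, Int.negSucc 4040, Int.ofNat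 3230, Int.negSucc 433, Int.negSucc 20, Int.negSucc 1377, Int.negSucc 223, Int.ofNat 380, Int.ofNat 52, Int.negSucc 1, Int.ofNat 1, Int.ofNat 0, Int.negSucc 45, Int.ofNat 14, Int.ofNat 1864, Int.negSucc 45, Int.negSucc 354, Int.ofNat 1, Int.negSucc 1355])))) (ZT.node 6646 (ZT.node 6644 (ZT.leaf []) (ZT.node 6645 (ZT.leaf [Int.negSucc 23122, Int.negSucc 9294, Int.ofNat 5304, Int.negSucc 1489, Int.negSucc 49, Int.negSucc 2860, Int.negSucc 355, Int.ofNat 798, Int.ofNat 86, Int.negSucc 0, Int.ofNat 1, Int.ofNat 0, Int.negSucc 31, Int.ofNat 0, Int.ofNat 3532, Int.negSucc 11, Int.negSucc 573, Int.ofNat 1, Int.negSucc 2582]) (ZT.leaf [Int.negSucc 29458, Int.negSucc 12656, Int.ofNat 6816, Int.negSucc 1992, Int.negSucc 28, Int.negSucc 3854, Int.negSucc 476, Int.ofNat 900, Int.ofNat 61, Int.ofNat 1, Int.negSucc 0, Int.ofNat 1, Int.negSucc 84,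 Int.negSucc 64, Int.ofNat 4427, Int.ofNat 35, Int.negSucc 570, Int.ofNat 0, Int.negSucc 3420]))) (ZT.node 6647 (ZT.leaf []) (ZT.node 6648 (ZT.leaf [Int.ofNat 1191, Int.ofNat 587, Int.negSucc 332, Int.ofNat 123, Int.ofNat 6, Int.ofNat 186, Int.ofNat 8, Int.negSucc 39, Int.ofNat 2, Int.ofNat 1, Int.negSucc 0, Int.ofNat 0, Int.ofNat 0, Int.ofNat 5, Int.negSucc 196, Int.negSucc 4, Int.ofNat 27, Int.ofNat 0, Int.ofNat 157]) (ZT.leaf [Int.negSucc 2655, Int.negSucc 1429, Int.ofNat 559, Int.negSucc 173, Int.ofNat 1, Int.negSucc 361, Int.negSucc 67, Int.ofNat 137, Int.ofNat 28, Int.ofNat 1, Int.ofNat 0, Int.ofNat 0, Int.negSucc 8, Int.negSucc 7, Int.ofNat 517, Int.ofNat 2, Int.negSucc 97, Int.ofNat 0, Int.negSucc 358]))))) (ZT.node 6655 (ZT.node 6652 (ZT.node 6650 (ZT.leaf [Int.negSucc 1087, Int.ofNat 222, Int.ofNat 202, Int.ofNat 81, Int.ofNat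 3, Int.negSucc 16, Int.ofNat 2, Int.negSucc 15, Int.negSucc 8, Int.ofNat 0, Int.ofNat 0, Int.ofNat 0, Int.negSucc 4, Int.negSucc 0, Int.negSucc 53, Int.negSucc 6, Int.negSucc 31, Int.negSucc 0, Int.negSucc 26]) (ZT.node 6651 (ZT.leaf [Int.ofNat 4, Int.negSucc 0, Int.ofNat 0, Int.ofNat 0, Int.ofNat 0, Int.ofNat 0, Int.ofNat 0, Int.ofNat 0, Int.ofNat 0, Int.ofNat 0, Int.ofNat 0, Int.ofNat 0, Int.ofNat 0, Int.ofNat 0, Int.ofNat 1, Int.ofNat 0, Int.ofNat 0, Int.ofNat 0, Int.ofNat 0]) (ZT.leaf [Int.negSucc 7663, Int.negSucc 3466, Int.ofNat 1875, Int.negSucc 603, Int.negSucc 16, Int.negSucc 1077, Int.negSucc 114, Int.ofNat 271, Int.ofNat 14, Int.negSucc 0, Int.ofNat 1, Int.ofNat 0, Int.negSucc 6, Int.negSucc 14, Int.ofNat 1247, Int.ofNat 10, Int.negSucc 171, Int.ofNat 0, Int.negSucc 940]))) (ZT.node 6653 (ZT.leaf []) (ZT.node 6654 (ZT.leaf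 [Int.ofNat 6911, Int.ofNat 4036, Int.negSucc 1648, Int.ofNat 678, Int.ofNat 16, Int.ofNat 1073, Int.ofNat 131, Int.negSucc 296, Int.negSucc 38, Int.ofNat 1, Int.ofNat 0, Int.ofNat 1, Int.ofNat 12, Int.ofNat 23, Int.negSucc 1325, Int.negSucc 18, Int.ofNat 173, Int.ofNat 1, Int.ofNat 955]) (ZT.leaf [])))) (ZT.node 6658 (ZT.node 6656 (ZT.leaf [Int.ofNat 166, Int.ofNat 86, Int.negSucc 38, Int.ofNat 14, Int.ofNat 0, Int.ofNat 25, Int.ofNat 6, Int.negSucc 6, Int.negSucc 1, Int.ofNat 1, Int.ofNat 0, Int.ofNat 0, Int.ofNat 1, Int.ofNat 0, Int.negSucc 35, Int.ofNat 1, Int.ofNat 3, Int.ofNat 0, Int.ofNat 22]) (ZT.node 6657 (ZT.leaf [Int.negSucc 1093, Int.negSucc 1510, Int.ofNat 299, Int.negSucc 273, Int.negSucc 9, Int.negSucc 313, Int.negSucc 45, Int.ofNat 121, Int.ofNat 28, Int.ofNat 0, Int.ofNat 0, Int.ofNat 0, Int.ofNat 3, Int.negSucc 10,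 Int.ofNat 507, Int.ofNat 12, Int.negSucc 62, Int.ofNat 0, Int.negSucc 280]) (ZT.leaf [Int.ofNat 8364, Int.ofNat 2358, Int.negSucc 1761, Int.ofNat 262, Int.ofNat 5, Int.ofNat 762, Int.ofNat 114, Int.negSucc 166, Int.negSucc 18, Int.ofNat 1, Int.ofNat 0, Int.ofNat 1, Int.ofNat 44, Int.ofNat 8, Int.negSucc 922, Int.ofNat 15, Int.ofNat 170, Int.ofNat 1, Int.ofNat 751]))) (ZT.node 6659 (ZT.leaf [Int.ofNat 18943, Int.ofNat 8318, Int.negSucc 4328, Int.ofNat 1304, Int.ofNat 37, Int.ofNat 2457, Int.ofNat 343, Int.negSucc 693, Int.negSucc 87, Int.ofNat 0, Int.negSucc 0, Int.ofNat 0, Int.ofNat 37, Int.ofNat 17, Int.negSucc 3003, Int.negSucc 8, Int.ofNat 436, Int.ofNat 0, Int.ofNat 2203]) (ZT.node 6660 (ZT.leaf [Int.ofNat 457, Int.ofNat 211, Int.negSucc 111, Int.ofNat 35, Int.ofNat 1, Int.ofNat 66, Int.ofNat 9, Int.negSucc 17, Int.negSucc 2, Int.ofNat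 0, Int.ofNat 0, Int.ofNat 0, Int.ofNat 1, Int.ofNat 1, Int.negSucc 71, Int.ofNat 0, Int.ofNat 10, Int.ofNat 0, Int.ofNat 58]) (ZT.leaf [Int.ofNat 1]))))))) (ZT.node 6683 (ZT.node 6672 (ZT.node 6666 (ZT.node 6663 (ZT.node 6662 (ZT.leaf [Int.ofNat 0, Int.negSucc 0, Int.ofNat 0, Int.ofNat 0, Int.ofNat 0, Int.ofNat 0, Int.ofNat 0, Int.ofNat 0, Int.ofNat 1]) (ZT.leaf [Int.negSucc 506, Int.negSucc 130, Int.ofNat 127, Int.negSucc 23, Int.ofNat 0, Int.negSucc 57, Int.negSucc 2, Int.ofNat 9, Int.negSucc 1, Int.ofNat 0, Int.ofNat 0, Int.ofNat 0, Int.negSucc 0, Int.negSucc 0, Int.ofNat 40, Int.ofNat 0, Int.negSucc 8, Int.ofNat 0, Int.negSucc 49])) (ZT.node 6664 (ZT.leaf [Int.ofNat 1]) (ZT.node 6665 (ZT.leaf [Int.negSucc 17, Int.negSucc 9, Int.ofNat 5, Int.ofNat 0, Int.ofNat 0, Int.negSucc 2, Int.ofNat 0, Int.ofNat 0, Int.ofNat 0, Int.ofNat 0,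 Int.ofNat 0, Int.ofNat 0, Int.ofNat 0, Int.ofNat 0, Int.ofNat 2, Int.ofNat 0, Int.ofNat 1, Int.ofNat 0, Int.negSucc 1]) (ZT.leaf [Int.negSucc 23, Int.negSucc 1, Int.ofNat 5, Int.ofNat 1, Int.ofNat 0, Int.ofNat 0, Int.ofNat 0, Int.negSucc 0, Int.ofNat 0, Int.ofNat 0, Int.ofNat 0, Int.ofNat 0, Int.negSucc 0, Int.ofNat 0, Int.ofNat 0, Int.ofNat 0, Int.ofNat 0, Int.ofNat 0, Int.ofNat 0])))) (ZT.node 6669 (ZT.node 6667 (ZT.leaf [Int.negSucc 49, Int.negSucc 2, Int.ofNat 12, Int.negSucc 0, Int.ofNat 0, Int.negSucc 3, Int.ofNat 0, Int.ofNat 0, Int.negSucc 0, Int.negSucc 0, Int.ofNat 0, Int.ofNat 0, Int.ofNat 0, Int.ofNat 0, Int.negSucc 1, Int.ofNat 0, Int.negSucc 0, Int.ofNat 0, Int.negSucc 2]) (ZT.node 6668 (ZT.leaf []) (ZT.leaf []))) (ZT.node 6670 (ZT.leaf [Int.negSucc 42, Int.negSucc 38, Int.ofNat 3, Int.negSucc 3, Int.ofNat 0, Int.negSucc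 2, Int.negSucc 1, Int.negSucc 1, Int.ofNat 1, Int.ofNat 0, Int.ofNat 0, Int.ofNat 0, Int.negSucc 1, Int.ofNat 0, Int.ofNat 15, Int.negSucc 0, Int.ofNat 0, Int.ofNat 0, Int.negSucc 4]) (ZT.node 6671 (ZT.leaf [Int.ofNat 0, Int.ofNat 0, Int.ofNat 0, Int.ofNat 0, Int.ofNat 0, Int.ofNat 0, Int.ofNat 0, Int.ofNat 0, Int.ofNat 0, Int.ofNat 0, Int.ofNat 0, Int.ofNat 0, Int.ofNat 0, Int.ofNat 0, Int.ofNat 0, Int.ofNat 1]) (ZT.leaf []))))) (ZT.node 6677 (ZT.node 6674 (ZT.node 6673 (ZT.leaf []) (ZT.leaf [])) (ZT.node 6675 (ZT.leaf [Int.ofNat 1]) (ZT.node 6676 (ZT.leaf []) (ZT.leaf [Int.negSucc 708, Int.negSucc 359, Int.ofNat 168, Int.negSucc 60, Int.negSucc 1, Int.negSucc 101, Int.negSucc 11, Int.ofNat 26, Int.ofNat 2, Int.ofNat 0, Int.ofNat 0, Int.ofNat 0, Int.negSucc 0, Int.negSucc 1, Int.ofNat 115, Int.ofNat 2, Int.negSucc 12, Int.ofNat 0,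 Int.negSucc 88])))) (ZT.node 6680 (ZT.node 6678 (ZT.leaf [Int.ofNat 15356, Int.ofNat 5243, Int.negSucc 3470, Int.ofNat 773, Int.ofNat 21, Int.ofNat 1744, Int.ofNat 204, Int.negSucc 426, Int.negSucc 32, Int.ofNat 1, Int.negSucc 0, Int.ofNat 0, Int.ofNat 35, Int.ofNat 5, Int.negSucc 1922, Int.ofNat 10, Int.ofNat 349, Int.ofNat 0, Int.ofNat 1572]) (ZT.node 6679 (ZT.leaf [Int.negSucc 0, Int.ofNat 1, Int.ofNat 0, Int.ofNat 0, Int.ofNat 0, Int.ofNat 0, Int.ofNat 0, Int.ofNat 0, Int.ofNat 0, Int.ofNat 0, Int.ofNat 0, Int.ofNat 0, Int.ofNat 0, Int.ofNat 0, Int.negSucc 0]) (ZT.leaf [Int.negSucc 95, Int.negSucc 24, Int.ofNat 20, Int.negSucc 1, Int.ofNat 0, Int.negSucc 9, Int.ofNat 1, Int.negSucc 0, Int.negSucc 0, Int.negSucc 0, Int.ofNat 0, Int.ofNat 0, Int.negSucc 0, Int.ofNat 0, Int.ofNat 4, Int.ofNat 0, Int.negSucc 2, Int.ofNat 0, Int.negSucc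 7]))) (ZT.node 6681 (ZT.leaf []) (ZT.node 6682 (ZT.leaf [Int.negSucc 2800, Int.negSucc 386, Int.ofNat 647, Int.negSucc 43, Int.negSucc 1, Int.negSucc 260, Int.negSucc 21, Int.ofNat 51, Int.negSucc 10, Int.ofNat 0, Int.ofNat 0, Int.ofNat 0, Int.ofNat 1, Int.ofNat 0, Int.ofNat 164, Int.negSucc 8, Int.negSucc 65, Int.ofNat 0, Int.negSucc 225]) (ZT.leaf [Int.ofNat 2730, Int.ofNat 1162, Int.negSucc 659, Int.ofNat 190, Int.ofNat 8, Int.ofNat 376, Int.ofNat 30, Int.negSucc 84, Int.ofNat 1, Int.ofNat 0, Int.ofNat 0, Int.ofNat 0, Int.ofNat 2, Int.ofNat 7, Int.negSucc 420, Int.ofNat 0, Int.ofNat 86, Int.ofNat 0, Int.ofNat 330])))))) (ZT.node 6694 (ZT.node 6688 (ZT.node 6685 (ZT.node 6684 (ZT.leaf [Int.negSucc 143, Int.negSucc 30, Int.ofNat 35, Int.negSucc 4, Int.ofNat 0, Int.negSucc 13, Int.ofNat 0, Int.ofNat 1, Int.negSucc 0, Int.ofNat 0, Int.ofNat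 0, Int.ofNat 0, Int.negSucc 0, Int.ofNat 0, Int.ofNat 8, Int.ofNat 0, Int.negSucc 1, Int.ofNat 0, Int.negSucc 11]) (ZT.leaf [Int.ofNat 76, Int.ofNat 12, Int.negSucc 22, Int.ofNat 5, Int.ofNat 0, Int.ofNat 11, Int.ofNat 0, Int.negSucc 1, Int.ofNat 1, Int.ofNat 0, Int.ofNat 0, Int.ofNat 0, Int.negSucc 0, Int.ofNat 0, Int.negSucc 1, Int.ofNat 0, Int.ofNat 1, Int.ofNat 0, Int.ofNat 8])) (ZT.node 6686 (ZT.leaf [Int.ofNat 3]) (ZT.node 6687 (ZT.leaf [Int.ofNat 4, Int.ofNat 1]) (ZT.leaf [Int.ofNat 446, Int.ofNat 431, Int.negSucc 151, Int.ofNat 90, Int.ofNat 3, Int.ofNat 121, Int.ofNat 8, Int.negSucc 29, Int.negSucc 0, Int.ofNat 0, Int.ofNat 0, Int.ofNat 0, Int.negSucc 2, Int.ofNat 4, Int.negSucc 132, Int.negSucc 3, Int.ofNat 10, Int.ofNat 0, Int.ofNat 99])))) (ZT.node 6691 (ZT.node 6689 (ZT.leaf []) (ZT.node 6690 (ZT.leaf [Int.negSucc 3, Int.ofNat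 16, Int.ofNat 5, Int.ofNat 3, Int.ofNat 0, Int.ofNat 0, Int.ofNat 2, Int.negSucc 0, Int.ofNat 0, Int.ofNat 1, Int.ofNat 0, Int.ofNat 0, Int.ofNat 0, Int.ofNat 0, Int.negSucc 7, Int.ofNat 0, Int.negSucc 0, Int.ofNat 0, Int.ofNat 0]) (ZT.leaf []))) (ZT.node 6692 (ZT.leaf [Int.ofNat 1]) (ZT.node 6693 (ZT.leaf [Int.ofNat 1]) (ZT.leaf [Int.negSucc 1, Int.negSucc 2]))))) (ZT.node 6700 (ZT.node 6697 (ZT.node 6695 (ZT.leaf [Int.ofNat 2, Int.ofNat 2]) (ZT.node 6696 (ZT.leaf [Int.negSucc 4841, Int.negSucc 1755, Int.ofNat 1112, Int.negSucc 263, Int.negSucc 4, Int.negSucc 581, Int.negSucc 68, Int.ofNat 130, Int.ofNat 6, Int.ofNat 0, Int.ofNat 0, Int.ofNat 0, Int.negSucc 12, Int.negSucc 5, Int.ofNat 653, Int.negSucc 2, Int.negSucc 101, Int.ofNat 0, Int.negSucc 518]) (ZT.leaf []))) (ZT.node 6698 (ZT.leaf [Int.ofNat 124, Int.ofNat 12, Int.negSucc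 35, Int.ofNat 5, Int.ofNat 0, Int.ofNat 14, Int.ofNat 0, Int.negSucc 0, Int.ofNat 2, Int.ofNat 0, Int.ofNat 0, Int.ofNat 0, Int.ofNat 0, Int.ofNat 0, Int.ofNat 0, Int.ofNat 0, Int.ofNat 2, Int.ofNat 0, Int.ofNat 10]) (ZT.node 6699 (ZT.leaf []) (ZT.leaf [Int.negSucc 113, Int.negSucc 76, Int.ofNat 46, Int.negSucc 20, Int.negSucc 0, Int.negSucc 28, Int.ofNat 3, Int.ofNat 13, Int.ofNat 1, Int.ofNat 0, Int.ofNat 0, Int.ofNat 0, Int.ofNat 2, Int.ofNat 0, Int.ofNat 29, Int.ofNat 1, Int.negSucc 12, Int.ofNat 0, Int.negSucc 23])))) (ZT.node 6703 (ZT.node 6701 (ZT.leaf []) (ZT.node 6702 (ZT.leaf []) (ZT.leaf [Int.ofNat 1]))) (ZT.node 6704 (ZT.leaf [Int.ofNat 1]) (ZT.node 6705 (ZT.leaf []) (ZT.leaf [Int.negSucc 1363, Int.negSucc 1039, Int.ofNat 315, Int.negSucc 166, Int.negSucc 0, Int.negSucc 243, Int.negSucc 40, Int.ofNat 81, Int.ofNat 14, Int.ofNat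 0, Int.ofNat 0, Int.ofNat 0, Int.negSucc 3, Int.negSucc 4, Int.ofNat 340, Int.ofNat 6, Int.negSucc 34, Int.ofNat 0, Int.negSucc 221])))))))) (ZT.node 6751 (ZT.node 6728 (ZT.node 6717 (ZT.node 6711 (ZT.node 6708 (ZT.node 6707 (ZT.leaf [Int.ofNat 54243, Int.ofNat 21152, Int.negSucc 12598, Int.ofNat 3379, Int.ofNat 78, Int.ofNat 6786, Int.ofNat 808, Int.negSucc 1659, Int.negSucc 112, Int.ofNat 0, Int.ofNat 0, Int.ofNat 0, Int.ofNat 116, Int.ofNat 52, Int.negSucc 7712, Int.negSucc 5, Int.ofNat 1122, Int.negSucc 0, Int.ofNat 6013]) (ZT.leaf [Int.negSucc 20665, Int.negSucc 7249, Int.ofNat 4696, Int.negSucc 1071, Int.negSucc 22, Int.negSucc 2394, Int.negSucc 279, Int.ofNat 541, Int.ofNat 28, Int.negSucc 0, Int.ofNat 1, Int.ofNat 0, Int.negSucc 57, Int.negSucc 24, Int.ofNat 2610, Int.negSucc 2, Int.negSucc 426, Int.ofNat 0, Int.negSucc 2144]))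 (ZT.node 6709 (ZT.leaf [Int.ofNat 1492, Int.ofNat 2790, Int.negSucc 450, Int.ofNat 493, Int.ofNat 12, Int.ofNat 534, Int.ofNat 91, Int.negSucc 221, Int.negSucc 50, Int.ofNat 0, Int.negSucc 0, Int.ofNat 0, Int.ofNat 0, Int.ofNat 26, Int.negSucc 909, Int.negSucc 32, Int.ofNat 73, Int.ofNat 0, Int.ofNat 497]) (ZT.node 6710 (ZT.leaf [Int.ofNat 3980, Int.negSucc 930, Int.negSucc 862, Int.negSucc 218, Int.negSucc 17, Int.ofNat 133, Int.negSucc 10, Int.ofNat 129, Int.ofNat 68, Int.ofNat 0, Int.ofNat 0, Int.ofNat 0, Int.ofNat 25, Int.ofNat 1, Int.ofNat 274, Int.ofNat 21, Int.negSucc 47, Int.ofNat 0, Int.ofNat 83]) (ZT.leaf [Int.ofNat 772, Int.ofNat 354, Int.negSucc 200, Int.ofNat 70, Int.ofNat 0, Int.ofNat 117, Int.ofNat 4, Int.negSucc 12, Int.ofNat 6, Int.ofNat 0, Int.ofNat 0, Int.ofNat 0, Int.ofNat 0, Int.ofNat 4, Int.negSucc 91, Int.negSucc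 0, Int.ofNat 14, Int.ofNat 0, Int.ofNat 95])))) (ZT.node 6714 (ZT.node 6712 (ZT.leaf [Int.negSucc 6367, Int.negSucc 699, Int.ofNat 1388, Int.negSucc 25, Int.ofNat 7, Int.negSucc 470, Int.negSucc 48, Int.ofNat 12, Int.negSucc 26, Int.ofNat 0, Int.ofNat 0, Int.ofNat 0, Int.negSucc 35, Int.negSucc 3, Int.ofNat 371, Int.negSucc 19, Int.negSucc 77, Int.ofNat 0, Int.negSucc 440]) (ZT.node 6713 (ZT.leaf []) (ZT.leaf []))) (ZT.node 6715 (ZT.leaf []) (ZT.node 6716 (ZT.leaf [Int.ofNat 649, Int.ofNat 419, Int.negSucc 151, Int.ofNat 70, Int.ofNat 2, Int.ofNat 105, Int.ofNat 17, Int.negSucc 31, Int.negSucc 5, Int.ofNat 0, Int.ofNat 0, Int.ofNat 0, Int.ofNat 1, Int.ofNat 2, Int.negSucc 135, Int.negSucc 1, Int.ofNat 14, Int.ofNat 0, Int.ofNat 95]) (ZT.leaf [Int.negSucc 25615, Int.negSucc 12451, Int.ofNat 5994, Int.negSucc 2021, Int.negSucc 56, Int.negSucc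 3559, Int.negSucc 429, Int.ofNat 1001, Int.ofNat 112, Int.negSucc 0, Int.ofNat 1, Int.negSucc 0, Int.negSucc 39, Int.negSucc 41, Int.ofNat 4252, Int.ofNat 34, Int.negSucc 656, Int.negSucc 0, Int.negSucc 3180]))))) (ZT.node 6722 (ZT.node 6719 (ZT.node 6718 (ZT.leaf [Int.ofNat 127, Int.ofNat 64, Int.negSucc 22, Int.ofNat 7, Int.ofNat 1, Int.ofNat 7, Int.ofNat 2, Int.negSucc 2, Int.negSucc 1, Int.ofNat 0, Int.ofNat 0, Int.ofNat 0, Int.ofNat 1, Int.ofNat 0, Int.negSucc 26, Int.ofNat 0, Int.ofNat 5, Int.ofNat 0, Int.ofNat 11]) (ZT.leaf [])) (ZT.node 6720 (ZT.leaf []) (ZT.node 6721 (ZT.leaf []) (ZT.leaf [Int.negSucc 450, Int.negSucc 540, Int.ofNat 109, Int.negSucc 85, Int.negSucc 1, Int.negSucc 100, Int.negSucc 18, Int.ofNat 35, Int.ofNat 10, Int.ofNat 0, Int.ofNat 0, Int.ofNat 0, Int.negSucc 3, Int.negSucc 3, Int.ofNat 195, Int.ofNat 3,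 Int.negSucc 12, Int.ofNat 0, Int.negSucc 100])))) (ZT.node 6725 (ZT.node 6723 (ZT.leaf [Int.negSucc 94, Int.negSucc 131, Int.negSucc 41, Int.ofNat 10, Int.ofNat 4, Int.ofNat 11, Int.negSucc 11, Int.negSucc 6, Int.ofNat 2, Int.ofNat 1, Int.negSucc 0, Int.ofNat 0, Int.negSucc 8, Int.negSucc 5, Int.ofNat 48, Int.ofNat 3, Int.ofNat 3, Int.ofNat 0, Int.negSucc 5]) (ZT.node 6724 (ZT.leaf [Int.negSucc 73, Int.negSucc 20, Int.ofNat 16, Int.negSucc 2, Int.ofNat 0, Int.negSucc 6, Int.negSucc 0, Int.negSucc 0, Int.ofNat 0, Int.ofNat 0, Int.ofNat 0, Int.ofNat 0, Int.negSucc 0, Int.ofNat 0, Int.ofNat 4, Int.negSucc 0, Int.negSucc 0, Int.ofNat 0, Int.negSucc 6]) (ZT.leaf [Int.ofNat 1840, Int.ofNat 341, Int.negSucc 398, Int.ofNat 35, Int.negSucc 1, Int.ofNat 180, Int.ofNat 42, Int.negSucc 51, Int.negSucc 7, Int.ofNat 1, Int.negSucc 0, Int.ofNat 0,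 Int.ofNat 5, Int.negSucc 4, Int.negSucc 168, Int.ofNat 5, Int.ofNat 11, Int.ofNat 0, Int.ofNat 158]))) (ZT.node 6726 (ZT.leaf [Int.ofNat 27, Int.negSucc 0, Int.negSucc 5, Int.ofNat 0, Int.ofNat 0, Int.ofNat 1, Int.ofNat 0, Int.ofNat 1, Int.ofNat 1, Int.ofNat 1, Int.ofNat 0, Int.ofNat 0, Int.ofNat 0, Int.ofNat 0, Int.ofNat 2, Int.ofNat 0, Int.ofNat 0, Int.ofNat 0, Int.ofNat 1]) (ZT.node 6727 (ZT.leaf []) (ZT.leaf [Int.negSucc 3386, Int.negSucc 1144, Int.ofNat 724, Int.negSucc 150, Int.ofNat 0, Int.negSucc 355, Int.negSucc 43, Int.ofNat 66, Int.negSucc 0, Int.ofNat 1, Int.negSucc 0, Int.ofNat 0, Int.negSucc 13, Int.negSucc 5, Int.ofNat 426, Int.negSucc 1, Int.negSucc 65, Int.ofNat 0, Int.negSucc 328])))))) (ZT.node 6739 (ZT.node 6733 (ZT.node 6730 (ZT.node 6729 (ZT.leaf [Int.ofNat 5393, Int.ofNat 2129, Int.negSucc 1257, Int.ofNat 345,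 Int.ofNat 8, Int.ofNat 677, Int.ofNat 75, Int.negSucc 157, Int.negSucc 7, Int.ofNat 0, Int.ofNat 0, Int.ofNat 0, Int.ofNat 10, Int.ofNat 5, Int.negSucc 773, Int.ofNat 0, Int.ofNat 115, Int.ofNat 0, Int.ofNat 599]) (ZT.leaf [Int.negSucc 455, Int.negSucc 865, Int.ofNat 149, Int.negSucc 163, Int.negSucc 6, Int.negSucc 167, Int.negSucc 14, Int.ofNat 67, Int.ofNat 14, Int.ofNat 0, Int.ofNat 0, Int.ofNat 0, Int.ofNat 5, Int.negSucc 7, Int.ofNat 287, Int.ofNat 10, Int.negSucc 40, Int.ofNat 0, Int.negSucc 152])) (ZT.node 6731 (ZT.leaf []) (ZT.node 6732 (ZT.leaf []) (ZT.leaf [Int.negSucc 0, Int.negSucc 2, Int.ofNat 0, Int.ofNat 0, Int.ofNat 0, Int.ofNat 0, Int.ofNat 0, Int.ofNat 0, Int.ofNat 0, Int.ofNat 0, Int.ofNat 0, Int.ofNat 0, Int.ofNat 0, Int.ofNat 0, Int.ofNat 1, Int.ofNat 0, Int.ofNat 0, Int.ofNat 0, Int.ofNat 0])))) (ZT.node 6736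 (ZT.node 6734 (ZT.leaf []) (ZT.node 6735 (ZT.leaf [Int.ofNat 12315, Int.ofNat 5819, Int.negSucc 2880, Int.ofNat 986, Int.ofNat 24, Int.ofNat 1609, Int.ofNat 249, Int.negSucc 403, Int.negSucc 71, Int.ofNat 1, Int.negSucc 2, Int.ofNat 0, Int.ofNat 60, Int.ofNat 14, Int.negSucc 2595, Int.negSucc 3, Int.ofNat 255, Int.ofNat 0, Int.ofNat 1495]) (ZT.leaf []))) (ZT.node 6737 (ZT.leaf [Int.negSucc 114, Int.negSucc 21, Int.ofNat 34, Int.negSucc 5, Int.ofNat 0, Int.negSucc 13, Int.negSucc 0, Int.ofNat 2, Int.negSucc 0, Int.ofNat 0, Int.ofNat 0, Int.ofNat 0, Int.ofNat 0, Int.ofNat 0, Int.ofNat 7, Int.ofNat 0, Int.negSucc 1, Int.ofNat 0, Int.negSucc 10]) (ZT.node 6738 (ZT.leaf [Int.ofNat 493, Int.ofNat 1423, Int.negSucc 209, Int.ofNat 274, Int.ofNat 3, Int.ofNat 290, Int.ofNat 34, Int.negSucc 77, Int.negSucc 7, Int.ofNat 0, Int.ofNat 0, Int.negSucc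 0, Int.negSucc 3, Int.ofNat 18, Int.negSucc 329, Int.negSucc 24, Int.ofNat 4, Int.ofNat 0, Int.ofNat 233]) (ZT.leaf [Int.negSucc 465, Int.negSucc 264, Int.ofNat 105, Int.negSucc 41, Int.negSucc 0, Int.negSucc 62, Int.negSucc 10, Int.ofNat 18, Int.ofNat 3, Int.ofNat 0, Int.negSucc 0, Int.ofNat 0, Int.negSucc 1, Int.negSucc 1, Int.ofNat 85, Int.ofNat 2, Int.negSucc 9, Int.ofNat 0, Int.negSucc 60]))))) (ZT.node 6745 (ZT.node 6742 (ZT.node 6740 (ZT.leaf [Int.negSucc 1988, Int.negSucc 926, Int.ofNat 486, Int.negSucc 155, Int.negSucc 7, Int.negSucc 287, Int.negSucc 27, Int.ofNat 78, Int.ofNat 3, Int.ofNat 0, Int.ofNat 0, Int.ofNat 0, Int.ofNat 1, Int.negSucc 4, Int.ofNat 348, Int.ofNat 0, Int.negSucc 71, Int.ofNat 0, Int.negSucc 254]) (ZT.node 6741 (ZT.leaf [Int.ofNat 105, Int.ofNat 26, Int.negSucc 36, Int.ofNat 14, Int.ofNat 1, Int.ofNat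 23, Int.ofNat 0, Int.negSucc 4, Int.ofNat 4, Int.ofNat 0, Int.ofNat 0, Int.ofNat 0, Int.negSucc 3, Int.ofNat 1, Int.ofNat 3, Int.negSucc 1, Int.negSucc 1, Int.ofNat 0, Int.ofNat 14]) (ZT.leaf [Int.ofNat 5344, Int.ofNat 1939, Int.negSucc 1253, Int.ofNat 307, Int.ofNat 7, Int.ofNat 666, Int.ofNat 76, Int.negSucc 151, Int.negSucc 2, Int.ofNat 0, Int.ofNat 0, Int.ofNat 0, Int.ofNat 8, Int.ofNat 8, Int.negSucc 702, Int.ofNat 1, Int.ofNat 109, Int.ofNat 0, Int.ofNat 584]))) (ZT.node 6743 (ZT.leaf [Int.negSucc 1, Int.negSucc 3, Int.negSucc 0, Int.ofNat 0, Int.ofNat 0, Int.ofNat 0, Int.negSucc 0, Int.ofNat 0, Int.ofNat 0, Int.ofNat 0, Int.ofNat 0, Int.ofNat 0, Int.ofNat 0, Int.ofNat 0, Int.ofNat 1]) (ZT.node 6744 (ZT.leaf [Int.negSucc 103, Int.negSucc 25, Int.ofNat 37, Int.negSucc 13, Int.negSucc 0, Int.negSucc 22, Int.ofNat 0, Int.ofNat 5,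 Int.negSucc 3, Int.ofNat 0, Int.ofNat 0, Int.ofNat 0, Int.ofNat 4, Int.negSucc 0, Int.negSucc 2, Int.ofNat 2, Int.ofNat 2, Int.ofNat 0, Int.negSucc 13]) (ZT.leaf [Int.ofNat 2, Int.ofNat 0, Int.negSucc 0, Int.ofNat 0, Int.ofNat 0, Int.ofNat 0, Int.ofNat 0, Int.ofNat 0, Int.ofNat 0, Int.ofNat 0, Int.ofNat 0, Int.ofNat 0, Int.ofNat 0, Int.ofNat 0, Int.ofNat 0, Int.ofNat 0, Int.ofNat 1, Int.ofNat 0, Int.ofNat 0])))) (ZT.node 6748 (ZT.node 6746 (ZT.leaf [Int.negSucc 258, Int.negSucc 158, Int.ofNat 58, Int.negSucc 24, Int.ofNat 0, Int.negSucc 37, Int.negSucc 5, Int.ofNat 11, Int.ofNat 2, Int.ofNat 0, Int.ofNat 0, Int.ofNat 0, Int.negSucc 0, Int.negSucc 0, Int.ofNat 52, Int.ofNat 1, Int.negSucc 4, Int.ofNat 0, Int.negSucc 34]) (ZT.node 6747 (ZT.leaf [Int.ofNat 34, Int.ofNat 9, Int.negSucc 8, Int.ofNat 2, Int.ofNat 0, Int.ofNat 4, Int.ofNat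 0, Int.negSucc 0, Int.ofNat 0, Int.ofNat 0, Int.ofNat 0, Int.ofNat 0, Int.ofNat 0, Int.ofNat 0, Int.negSucc 3, Int.ofNat 0, Int.ofNat 1, Int.ofNat 0, Int.ofNat 3]) (ZT.leaf [Int.negSucc 31, Int.ofNat 0, Int.ofNat 6, Int.ofNat 0, Int.ofNat 0, Int.negSucc 0, Int.ofNat 0, Int.negSucc 0, Int.negSucc 0, Int.negSucc 0, Int.ofNat 0, Int.ofNat 0, Int.ofNat 0, Int.ofNat 0, Int.negSucc 1, Int.ofNat 0, Int.ofNat 0, Int.ofNat 0, Int.negSucc 0]))) (ZT.node 6749 (ZT.leaf [Int.ofNat 24, Int.negSucc 5, Int.negSucc 4, Int.negSucc 2, Int.ofNat 0, Int.ofNat 0, Int.negSucc 0, Int.ofNat 2, Int.ofNat 1, Int.ofNat 0, Int.ofNat 0, Int.ofNat 0, Int.ofNat 0, Int.ofNat 0, Int.ofNat 6, Int.ofNat 0, Int.ofNat 1, Int.ofNat 0, Int.ofNat 0]) (ZT.node 6750 (ZT.leaf [Int.ofNat 69, Int.ofNat 36, Int.negSucc 29, Int.ofNat 16, Int.ofNat 1, Int.ofNat 23, Int.ofNat 2, Int.negSucc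 6, Int.ofNat 3, Int.ofNat 0, Int.ofNat 0, Int.ofNat 0, Int.negSucc 3, Int.ofNat 2, Int.negSucc 4, Int.negSucc 1, Int.negSucc 2, Int.ofNat 0, Int.ofNat 14]) (ZT.leaf []))))))) (ZT.node 6773 (ZT.node 6762 (ZT.node 6756 (ZT.node 6753 (ZT.node 6752 (ZT.leaf []) (ZT.leaf [])) (ZT.node 6754 (ZT.leaf []) (ZT.node 6755 (ZT.leaf [Int.ofNat 534, Int.ofNat 214, Int.negSucc 133, Int.ofNat 39, Int.ofNat 1, Int.ofNat 76, Int.ofNat 6, Int.negSucc 15, Int.ofNat 1, Int.ofNat 0, Int.ofNat 0, Int.ofNat 0, Int.ofNat 0, Int.ofNat 1, Int.negSucc 69, Int.negSucc 0, Int.ofNat 11, Int.ofNat 0, Int.ofNat 64]) (ZT.leaf [Int.ofNat 13, Int.negSucc 9, Int.negSucc 7, Int.ofNat 1, Int.ofNat 0, Int.ofNat 3, Int.negSucc 0, Int.negSucc 0, Int.ofNat 1, Int.ofNat 0, Int.ofNat 0, Int.ofNat 0, Int.negSucc 0, Int.ofNat 0, Int.ofNat 4, Int.ofNat 0, Int.ofNat 1, Int.ofNat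 0, Int.ofNat 2])))) (ZT.node 6759 (ZT.node 6757 (ZT.leaf [Int.negSucc 77, Int.negSucc 6, Int.ofNat 23, Int.negSucc 3, Int.ofNat 0, Int.negSucc 9, Int.ofNat 0, Int.ofNat 0, Int.negSucc 0, Int.ofNat 0, Int.ofNat 0, Int.ofNat 0, Int.ofNat 0, Int.ofNat 0, Int.ofNat 0, Int.negSucc 0, Int.negSucc 1, Int.ofNat 0, Int.negSucc 7]) (ZT.node 6758 (ZT.leaf []) (ZT.leaf [Int.negSucc 9, Int.ofNat 8, Int.ofNat 2, Int.ofNat 1, Int.ofNat 0, Int.ofNat 0, Int.ofNat 0, Int.negSucc 0, Int.negSucc 0, Int.negSucc 0, Int.ofNat 0, Int.ofNat 0, Int.ofNat 0, Int.ofNat 0, Int.negSucc 6, Int.ofNat 0, Int.ofNat 0, Int.ofNat 0, Int.ofNat 1]))) (ZT.node 6760 (ZT.leaf []) (ZT.node 6761 (ZT.leaf [Int.ofNat 1, Int.ofNat 0, Int.ofNat 0, Int.ofNat 0, Int.ofNat 0, Int.ofNat 0, Int.ofNat 0, Int.ofNat 0, Int.ofNat 0, Int.ofNat 0, Int.negSucc 0]) (ZT.leaf [Int.ofNat 3179,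 Int.ofNat 2151, Int.negSucc 728, Int.ofNat 341, Int.ofNat 6, Int.ofNat 523, Int.ofNat 81, Int.negSucc 171, Int.negSucc 30, Int.ofNat 0, Int.ofNat 0, Int.ofNat 1, Int.ofNat 8, Int.ofNat 10, Int.negSucc 717, Int.negSucc 10, Int.ofNat 90, Int.ofNat 0, Int.ofNat 480]))))) (ZT.node 6767 (ZT.node 6764 (ZT.node 6763 (ZT.leaf [Int.ofNat 2238, Int.ofNat 1023, Int.negSucc 515, Int.ofNat 161, Int.ofNat 5, Int.ofNat 300, Int.ofNat 50, Int.negSucc 94, Int.negSucc 14, Int.ofNat 0, Int.ofNat 0, Int.ofNat 0, Int.ofNat 3, Int.ofNat 2, Int.negSucc 393, Int.negSucc 2, Int.ofNat 52, Int.negSucc 0, Int.ofNat 274]) (ZT.leaf [Int.ofNat 10, Int.negSucc 7, Int.negSucc 1, Int.negSucc 0, Int.ofNat 0, Int.ofNat 0, Int.ofNat 0, Int.ofNat 1, Int.ofNat 1, Int.ofNat 1, Int.ofNat 0, Int.ofNat 0, Int.ofNat 0, Int.ofNat 0, Int.ofNat 7, Int.ofNat 0, Int.ofNat 0, Int.ofNat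 0, Int.negSucc 0])) (ZT.node 6765 (ZT.leaf [Int.ofNat 1]) (ZT.node 6766 (ZT.leaf []) (ZT.leaf [Int.negSucc 4245, Int.negSucc 3298, Int.ofNat 1065, Int.negSucc 584, Int.negSucc 13, Int.negSucc 807, Int.negSucc 97, Int.ofNat 224, Int.ofNat 34, Int.ofNat 0, Int.ofNat 0, Int.ofNat 0, Int.negSucc 5, Int.negSucc 21, Int.ofNat 1083, Int.ofNat 21, Int.negSucc 105, Int.ofNat 0, Int.negSucc 705])))) (ZT.node 6770 (ZT.node 6768 (ZT.leaf [Int.negSucc 2168, Int.negSucc 1490, Int.ofNat 513, Int.negSucc 253, Int.negSucc 3, Int.negSucc 363, Int.negSucc 56, Int.ofNat 99, Int.ofNat 18, Int.ofNat 0, Int.ofNat 0, Int.ofNat 0, Int.negSucc 7, Int.negSucc 7, Int.ofNat 524, Int.ofNat 8, Int.negSucc 36, Int.ofNat 0, Int.negSucc 327]) (ZT.node 6769 (ZT.leaf [Int.ofNat 24089, Int.ofNat 11695, Int.negSucc 5565, Int.ofNat 1885, Int.ofNat 53, Int.ofNat 3282, Int.ofNat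 461, Int.negSucc 953, Int.negSucc 134, Int.ofNat 0, Int.negSucc 0, Int.ofNat 1, Int.ofNat 47, Int.ofNat 32, Int.negSucc 4137, Int.negSucc 27, Int.ofNat 568, Int.ofNat 1, Int.ofNat 2959]) (ZT.leaf [Int.negSucc 9890, Int.negSucc 6894, Int.ofNat 2631, Int.negSucc 1328, Int.negSucc 33, Int.negSucc 1877, Int.negSucc 194, Int.ofNat 526, Int.ofNat 54, Int.ofNat 1, Int.ofNat 0, Int.ofNat 0, Int.ofNat 5, Int.negSucc 23, Int.ofNat 2241, Int.ofNat 43, Int.negSucc 258, Int.ofNat 0, Int.negSucc 1584]))) (ZT.node 6771 (ZT.leaf [Int.negSucc 166, Int.negSucc 36, Int.ofNat 43, Int.negSucc 5, Int.negSucc 0, Int.negSucc 20, Int.ofNat 1, Int.ofNat 2, Int.negSucc 0, Int.ofNat 1, Int.ofNat 0, Int.ofNat 0, Int.ofNat 0, Int.ofNat 0, Int.ofNat 10, Int.ofNat 0, Int.negSucc 2, Int.ofNat 0, Int.negSucc 15]) (ZT.node 6772 (ZT.leaf [Int.negSucc 684, Int.negSucc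 344, Int.ofNat 178, Int.negSucc 65, Int.ofNat 0, Int.negSucc 106, Int.negSucc 3, Int.ofNat 13, Int.negSucc 4, Int.ofNat 0, Int.ofNat 0, Int.ofNat 0, Int.ofNat 0, Int.negSucc 3, Int.ofNat 92, Int.ofNat 2, Int.negSucc 11, Int.ofNat 0, Int.negSucc 86]) (ZT.leaf [Int.negSucc 421, Int.negSucc 21, Int.ofNat 10, Int.ofNat 39, Int.ofNat 3, Int.ofNat 24, Int.negSucc 9, Int.negSucc 3, Int.ofNat 6, Int.ofNat 1, Int.ofNat 0, Int.ofNat 0, Int.negSucc 9, Int.ofNat 2, Int.ofNat 17, Int.negSucc 2, Int.negSucc 5, Int.ofNat 0, Int.ofNat 1])))))) (ZT.node 6784 (ZT.node 6778 (ZT.node 6775 (ZT.node 6774 (ZT.leaf [Int.ofNat 226, Int.negSucc 780, Int.ofNat 128, Int.negSucc 230, Int.negSucc 17, Int.negSucc 181, Int.ofNat 16, Int.ofNat 60, Int.negSucc 1, Int.negSucc 0, Int.ofNat 1, Int.ofNat 0, Int.ofNat 24, Int.negSucc 3, Int.ofNat 140, Int.ofNat 15, Int.negSucc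 26, Int.ofNat 0, Int.negSucc 125]) (ZT.leaf [Int.ofNat 3, Int.ofNat 0, Int.ofNat 0, Int.ofNat 0, Int.ofNat 0, Int.ofNat 0, Int.ofNat 1, Int.ofNat 0, Int.ofNat 0, Int.ofNat 0, Int.ofNat 1])) (ZT.node 6776 (ZT.leaf [Int.negSucc 3, Int.negSucc 0, Int.ofNat 0, Int.ofNat 0, Int.ofNat 0, Int.ofNat 0, Int.negSucc 0, Int.ofNat 0, Int.ofNat 0, Int.ofNat 0, Int.negSucc 0]) (ZT.node 6777 (ZT.leaf [Int.ofNat 1084, Int.ofNat 355, Int.negSucc 193, Int.ofNat 30, Int.negSucc 2, Int.ofNat 92, Int.ofNat 12, Int.negSucc 7, Int.ofNat 1, Int.negSucc 0, Int.ofNat 0, Int.ofNat 0, Int.ofNat 10, Int.ofNat 2, Int.negSucc 109, Int.ofNat 1, Int.ofNat 16, Int.ofNat 0, Int.ofNat 90]) (ZT.leaf [Int.negSucc 428, Int.negSucc 452, Int.ofNat 122, Int.negSucc 89, Int.negSucc 0, Int.negSucc 108, Int.negSucc 13, Int.ofNat 26, Int.ofNat 4, Int.ofNat 0, Int.ofNat 1, Int.ofNat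 0, Int.negSucc 0, Int.negSucc 1, Int.ofNat 142, Int.ofNat 4, Int.negSucc 2, Int.ofNat 0, Int.negSucc 88])))) (ZT.node 6781 (ZT.node 6779 (ZT.leaf [Int.negSucc 12, Int.ofNat 5, Int.ofNat 2, Int.ofNat 1, Int.ofNat 0, Int.ofNat 0, Int.ofNat 0, Int.negSucc 0, Int.negSucc 0, Int.negSucc 0, Int.ofNat 0, Int.ofNat 0, Int.ofNat 0, Int.ofNat 0, Int.negSucc 5, Int.ofNat 0, Int.ofNat 0, Int.ofNat 0, Int.ofNat 0]) (ZT.node 6780 (ZT.leaf []) (ZT.leaf [Int.ofNat 11, Int.negSucc 7, Int.negSucc 1, Int.negSucc 0, Int.ofNat 0, Int.ofNat 0, Int.ofNat 0, Int.ofNat 1, Int.ofNat 1, Int.ofNat 1, Int.ofNat 0, Int.ofNat 0, Int.ofNat 0, Int.ofNat 0, Int.ofNat 7, Int.ofNat 0, Int.ofNat 0, Int.ofNat 0, Int.negSucc 0]))) (ZT.node 6782 (ZT.leaf [Int.negSucc 5878, Int.negSucc 3927, Int.ofNat 1407, Int.negSucc 647, Int.negSucc 8, Int.negSucc 1005, Int.negSucc 139,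 Int.ofNat 320, Int.ofNat 49, Int.ofNat 0, Int.ofNat 0, Int.negSucc 1, Int.negSucc 8, Int.negSucc 16, Int.ofNat 1298, Int.ofNat 18, Int.negSucc 167, Int.negSucc 0, Int.negSucc 901]) (ZT.node 6783 (ZT.leaf [Int.ofNat 4818, Int.ofNat 2057, Int.negSucc 1061, Int.ofNat 313, Int.ofNat 7, Int.ofNat 590, Int.ofNat 93, Int.negSucc 174, Int.negSucc 29, Int.ofNat 0, Int.ofNat 0, Int.ofNat 1, Int.ofNat 17, Int.ofNat 1, Int.negSucc 839, Int.ofNat 6, Int.ofNat 111, Int.ofNat 0, Int.ofNat 557]) (ZT.leaf [Int.ofNat 0, Int.ofNat 0, Int.ofNat 0, Int.ofNat 0, Int.ofNat 0, Int.ofNat 0, Int.ofNat 0, Int.ofNat 0, Int.ofNat 0, Int.ofNat 0, Int.ofNat 0, Int.ofNat 0, Int.ofNat 0, Int.ofNat 0, Int.ofNat 0, Int.ofNat 0, Int.ofNat 0, Int.ofNat 1]))))) (ZT.node 6790 (ZT.node 6787 (ZT.node 6785 (ZT.leaf []) (ZT.node 6786 (ZT.leaf []) (ZT.leaf []))) (ZT.node 6788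 (ZT.leaf []) (ZT.node 6789 (ZT.leaf [Int.ofNat 17, Int.ofNat 2, Int.negSucc 2, Int.ofNat 0, Int.ofNat 0, Int.ofNat 1, Int.ofNat 0, Int.ofNat 0, Int.ofNat 0, Int.ofNat 0, Int.ofNat 0, Int.ofNat 0, Int.ofNat 0, Int.ofNat 0, Int.ofNat 0, Int.ofNat 0, Int.ofNat 0, Int.ofNat 0, Int.ofNat 0]) (ZT.leaf [Int.ofNat 156, Int.ofNat 325, Int.negSucc 65, Int.ofNat 67, Int.ofNat 2, Int.ofNat 68, Int.ofNat 6, Int.negSucc 14, Int.negSucc 2, Int.negSucc 0, Int.ofNat 0, Int.ofNat 0, Int.ofNat 1, Int.ofNat 4, Int.negSucc 108, Int.negSucc 3, Int.ofNat 2, Int.ofNat 0, Int.ofNat 60])))) (ZT.node 6793 (ZT.node 6791 (ZT.leaf []) (ZT.node 6792 (ZT.leaf [Int.ofNat 1]) (ZT.leaf [Int.ofNat 27, Int.ofNat 18, Int.negSucc 19, Int.ofNat 11, Int.ofNat 1, Int.ofNat 10, Int.ofNat 1, Int.negSucc 8, Int.negSucc 0, Int.ofNat 0, Int.negSucc 0, Int.ofNat 0, Int.negSucc 1,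 Int.ofNat 1, Int.negSucc 4, Int.negSucc 0, Int.ofNat 4, Int.ofNat 0, Int.ofNat 8]))) (ZT.node 6794 (ZT.leaf []) (ZT.node 6795 (ZT.leaf [Int.ofNat 1]) (ZT.leaf [Int.negSucc 329, Int.negSucc 123, Int.ofNat 80, Int.negSucc 20, Int.negSucc 0, Int.negSucc 41, Int.negSucc 2, Int.ofNat 10, Int.ofNat 0, Int.ofNat 0, Int.ofNat 0, Int.ofNat 0, Int.ofNat 0, Int.negSucc 1, Int.ofNat 34, Int.ofNat 1, Int.negSucc 6, Int.ofNat 0, Int.negSucc 36]))))))))) (ZT.node 6886 (ZT.node 6841 (ZT.node 6818 (ZT.node 6807 (ZT.node 6801 (ZT.node 6798 (ZT.node 6797 (ZT.leaf [Int.negSucc 17, Int.negSucc 3, Int.ofNat 4, Int.ofNat 0, Int.ofNat 0, Int.negSucc 1, Int.ofNat 0, Int.negSucc 0, Int.negSucc 0, Int.ofNat 0, Int.ofNat 0, Int.ofNat 0, Int.ofNat 0, Int.ofNat 0, Int.ofNat 2, Int.ofNat 0, Int.ofNat 1, Int.ofNat 0, Int.negSucc 0]) (ZT.leaf [Int.negSucc 16942, Int.negSucc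 7622, Int.ofNat 3879, Int.negSucc 1209, Int.negSucc 36, Int.negSucc 2226, Int.negSucc 319, Int.ofNat 651, Int.ofNat 87, Int.ofNat 0, Int.ofNat 1, Int.ofNat 0, Int.negSucc 29, Int.negSucc 14, Int.ofNat 2763, Int.ofNat 11, Int.negSucc 396, Int.ofNat 0, Int.negSucc 1995])) (ZT.node 6799 (ZT.leaf [Int.ofNat 4451, Int.negSucc 665, Int.negSucc 967, Int.negSucc 176, Int.negSucc 16, Int.ofNat 196, Int.ofNat 0, Int.ofNat 111, Int.ofNat 65, Int.ofNat 0, Int.ofNat 0, Int.ofNat 0, Int.ofNat 27, Int.ofNat 3, Int.ofNat 189, Int.ofNat 19, Int.negSucc 37, Int.ofNat 0, Int.ofNat 144]) (ZT.node 6800 (ZT.leaf [Int.negSucc 692, Int.negSucc 335, Int.ofNat 180, Int.negSucc 64, Int.ofNat 0, Int.negSucc 106, Int.negSucc 3, Int.ofNat 12, Int.negSucc 5, Int.negSucc 0, Int.ofNat 0, Int.ofNat 0, Int.ofNat 0, Int.negSucc 3, Int.ofNat 85, Int.ofNat 2, Int.negSucc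 11, Int.ofNat 0, Int.negSucc 85]) (ZT.leaf [Int.negSucc 42848, Int.negSucc 14735, Int.ofNat 9700, Int.negSucc 2226, Int.negSucc 49, Int.negSucc 4910, Int.negSucc 617, Int.ofNat 1176, Int.ofNat 74, Int.ofNat 0, Int.ofNat 0, Int.ofNat 0, Int.negSucc 105, Int.negSucc 19, Int.ofNat 5652, Int.negSucc 26, Int.negSucc 877, Int.ofNat 1, Int.negSucc 4425])))) (ZT.node 6804 (ZT.node 6802 (ZT.leaf []) (ZT.node 6803 (ZT.leaf []) (ZT.leaf [Int.ofNat 1]))) (ZT.node 6805 (ZT.leaf []) (ZT.node 6806 (ZT.leaf [Int.ofNat 9, Int.negSucc 4, Int.negSucc 1, Int.ofNat 0, Int.ofNat 0, Int.ofNat 0, Int.ofNat 0, Int.ofNat 1, Int.ofNat 1, Int.ofNat 1, Int.ofNat 0, Int.ofNat 0, Int.ofNat 0, Int.ofNat 0, Int.ofNat 3, Int.ofNat 0, Int.ofNat 0, Int.ofNat 0, Int.ofNat 0]) (ZT.leaf []))))) (ZT.node 6812 (ZT.node 6809 (ZT.node 6808 (ZT.leaf [Int.negSucc 3, Int.negSucc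 1, Int.ofNat 2, Int.ofNat 0, Int.ofNat 0, Int.negSucc 0, Int.ofNat 0, Int.ofNat 1, Int.ofNat 1, Int.ofNat 1, Int.ofNat 0, Int.ofNat 0, Int.ofNat 0, Int.ofNat 0, Int.ofNat 0, Int.ofNat 0, Int.ofNat 0, Int.ofNat 0, Int.negSucc 0]) (ZT.leaf [Int.negSucc 5, Int.negSucc 1, Int.ofNat 1, Int.ofNat 0, Int.ofNat 0, Int.ofNat 0, Int.ofNat 0, Int.ofNat 0, Int.ofNat 0, Int.ofNat 0, Int.ofNat 0, Int.ofNat 0, Int.ofNat 0, Int.ofNat 0, Int.ofNat 1])) (ZT.node 6810 (ZT.leaf [Int.negSucc 2356, Int.negSucc 1499, Int.ofNat 564, Int.negSucc 256, Int.negSucc 4, Int.negSucc 384, Int.negSucc 54, Int.ofNat 101, Int.ofNat 15, Int.ofNat 0, Int.ofNat 0, Int.ofNat 0, Int.negSucc 7, Int.negSucc 7, Int.ofNat 524, Int.ofNat 8, Int.negSucc 38, Int.ofNat 0, Int.negSucc 340]) (ZT.node 6811 (ZT.leaf [Int.ofNat 470, Int.ofNat 265, Int.negSucc 104, Int.ofNat 42, Int.ofNat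 1, Int.ofNat 63, Int.ofNat 11, Int.negSucc 17, Int.negSucc 2, Int.ofNat 0, Int.ofNat 0, Int.ofNat 0, Int.ofNat 2, Int.ofNat 2, Int.negSucc 84, Int.negSucc 1, Int.ofNat 10, Int.ofNat 0, Int.ofNat 61]) (ZT.leaf [Int.ofNat 468, Int.ofNat 265, Int.negSucc 104, Int.ofNat 42, Int.ofNat 1, Int.ofNat 63, Int.ofNat 11, Int.negSucc 17, Int.negSucc 2, Int.ofNat 0, Int.ofNat 1, Int.ofNat 0, Int.ofNat 2, Int.ofNat 2, Int.negSucc 84, Int.negSucc 1, Int.ofNat 10, Int.ofNat 0, Int.ofNat 61])))) (ZT.node 6815 (ZT.node 6813 (ZT.leaf [Int.ofNat 20, Int.ofNat 10, Int.negSucc 4, Int.ofNat 0, Int.ofNat 0, Int.ofNat 3, Int.ofNat 0, Int.ofNat 0, Int.ofNat 0, Int.ofNat 0, Int.ofNat 0, Int.ofNat 0, Int.ofNat 0, Int.ofNat 0, Int.negSucc 1, Int.ofNat 0, Int.negSucc 0, Int.ofNat 0, Int.ofNat 2]) (ZT.node 6814 (ZT.leaf [Int.ofNat 0, Int.negSucc 1, Int.ofNat 0,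 Int.ofNat 0, Int.ofNat 0, Int.ofNat 0, Int.ofNat 0, Int.ofNat 0, Int.ofNat 0, Int.ofNat 0, Int.ofNat 0, Int.ofNat 0, Int.ofNat 0, Int.ofNat 0, Int.ofNat 1]) (ZT.leaf [Int.negSucc 128, Int.ofNat 37, Int.ofNat 32, Int.ofNat 6, Int.ofNat 0, Int.negSucc 3, Int.ofNat 4, Int.negSucc 6, Int.negSucc 3, Int.ofNat 0, Int.ofNat 0, Int.ofNat 0, Int.negSucc 0, Int.ofNat 0, Int.negSucc 16, Int.ofNat 0, Int.ofNat 0, Int.ofNat 0, Int.negSucc 0]))) (ZT.node 6816 (ZT.leaf [Int.ofNat 167, Int.ofNat 86, Int.negSucc 38, Int.ofNat 14, Int.ofNat 0, Int.ofNat 25, Int.ofNat 6, Int.negSucc 6, Int.negSucc 1, Int.ofNat 1, Int.ofNat 0, Int.ofNat 0, Int.ofNat 1, Int.ofNat 0, Int.negSucc 35, Int.ofNat 1, Int.ofNat 3, Int.ofNat 0, Int.ofNat 22]) (ZT.node 6817 (ZT.leaf [Int.ofNat 36, Int.negSucc 7, Int.negSucc 5, Int.negSucc 1, Int.ofNat 0, Int.ofNat 0, Int.negSucc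 0, Int.ofNat 2, Int.ofNat 1, Int.ofNat 0, Int.ofNat 0, Int.ofNat 0, Int.ofNat 0, Int.negSucc 0, Int.ofNat 8, Int.ofNat 0, Int.ofNat 1, Int.ofNat 0, Int.ofNat 0]) (ZT.leaf [Int.ofNat 377, Int.ofNat 271, Int.negSucc 74, Int.ofNat 37, Int.ofNat 1, Int.ofNat 53, Int.ofNat 11, Int.negSucc 16, Int.negSucc 4, Int.negSucc 0, Int.ofNat 0, Int.ofNat 0, Int.ofNat 2, Int.ofNat 3, Int.negSucc 89, Int.negSucc 1, Int.ofNat 7, Int.ofNat 0, Int.ofNat 54])))))) (ZT.node 6829 (ZT.node 6823 (ZT.node 6820 (ZT.node 6819 (ZT.leaf [Int.ofNat 1]) (ZT.leaf [Int.negSucc 3209, Int.negSucc 2155, Int.ofNat 735, Int.negSucc 340, Int.negSucc 5, Int.negSucc 524, Int.negSucc 80, Int.ofNat 171, Int.ofNat 30, Int.ofNat 0, Int.ofNat 0, Int.negSucc 0, Int.negSucc 7, Int.negSucc 9, Int.ofNat 722, Int.ofNat 11, Int.negSucc 88, Int.ofNat 0, Int.negSucc 480])) (ZT.node 6821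 (ZT.leaf [Int.negSucc 494, Int.negSucc 173, Int.ofNat 141, Int.negSucc 32, Int.ofNat 1, Int.negSucc 82, Int.negSucc 1, Int.ofNat 16, Int.negSucc 1, Int.ofNat 0, Int.ofNat 0, Int.negSucc 0, Int.ofNat 1, Int.negSucc 0, Int.ofNat 40, Int.negSucc 0, Int.negSucc 14, Int.ofNat 0, Int.negSucc 65]) (ZT.node 6822 (ZT.leaf [Int.ofNat 10822, Int.ofNat 1987, Int.negSucc 2167, Int.ofNat 121, Int.ofNat 14, Int.ofNat 788, Int.ofNat 131, Int.negSucc 204, Int.negSucc 21, Int.ofNat 2, Int.negSucc 0, Int.negSucc 0, Int.ofNat 29, Int.negSucc 14, Int.negSucc 1024, Int.ofNat 40, Int.ofNat 244, Int.negSucc 0, Int.ofNat 799]) (ZT.leaf [])))) (ZT.node 6826 (ZT.node 6824 (ZT.leaf [Int.ofNat 324, Int.ofNat 181, Int.negSucc 63, Int.ofNat 22, Int.ofNat 1, Int.ofNat 39, Int.ofNat 9, Int.negSucc 10, Int.negSucc 2, Int.ofNat 0, Int.ofNat 0, Int.ofNat 0, Int.ofNat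 2, Int.ofNat 1, Int.negSucc 61, Int.ofNat 0, Int.ofNat 0, Int.ofNat 0, Int.ofNat 36]) (ZT.node 6825 (ZT.leaf [Int.ofNat 49, Int.ofNat 23, Int.negSucc 8, Int.ofNat 1, Int.ofNat 0, Int.ofNat 6, Int.negSucc 0, Int.ofNat 1, Int.ofNat 0, Int.ofNat 0, Int.ofNat 0, Int.ofNat 0, Int.ofNat 1, Int.ofNat 0, Int.negSucc 6, Int.ofNat 0, Int.ofNat 2, Int.ofNat 0, Int.ofNat 5]) (ZT.leaf [Int.negSucc 49, Int.negSucc 22, Int.ofNat 9, Int.negSucc 0, Int.ofNat 0, Int.negSucc 5, Int.ofNat 1, Int.negSucc 0, Int.ofNat 0, Int.ofNat 0, Int.ofNat 0, Int.ofNat 0, Int.negSucc 0, Int.ofNat 0, Int.ofNat 7, Int.ofNat 0, Int.negSucc 1, Int.ofNat 0, Int.negSucc 4]))) (ZT.node 6827 (ZT.leaf [Int.ofNat 2521, Int.ofNat 2186, Int.negSucc 620, Int.ofNat 371, Int.ofNat 10, Int.ofNat 490, Int.ofNat 58, Int.negSucc 150, Int.negSucc 26, Int.ofNat 0, Int.ofNat 0, Int.ofNat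 0, Int.ofNat 6, Int.ofNat 18, Int.negSucc 685, Int.negSucc 14, Int.ofNat 83, Int.ofNat 0, Int.ofNat 442]) (ZT.node 6828 (ZT.leaf []) (ZT.leaf [Int.negSucc 24, Int.negSucc 3, Int.ofNat 6, Int.ofNat 0, Int.ofNat 0, Int.negSucc 1, Int.ofNat 0, Int.negSucc 0, Int.negSucc 0, Int.ofNat 0, Int.ofNat 0, Int.ofNat 0, Int.ofNat 0, Int.ofNat 0, Int.ofNat 4, Int.ofNat 0, Int.ofNat 1, Int.ofNat 0, Int.negSucc 0]))))) (ZT.node 6835 (ZT.node 6832 (ZT.node 6830 (ZT.leaf [Int.negSucc 0, Int.negSucc 0]) (ZT.node 6831 (ZT.leaf [Int.negSucc 8, Int.ofNat 12, Int.ofNat 8, Int.negSucc 0, Int.ofNat 0, Int.negSucc 2, Int.ofNat 1, Int.ofNat 1, Int.negSucc 0, Int.ofNat 0, Int.ofNat 0, Int.ofNat 0, Int.ofNat 1, Int.ofNat 0, Int.negSucc 4, Int.ofNat 0, Int.negSucc 0, Int.ofNat 0, Int.negSucc 0]) (ZT.leaf []))) (ZT.node 6833 (ZT.leaf [Int.negSucc 1]) (ZT.node 6834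 (ZT.leaf [Int.negSucc 2628, Int.negSucc 309, Int.ofNat 588, Int.negSucc 20, Int.negSucc 0, Int.negSucc 222, Int.negSucc 16, Int.ofNat 39, Int.negSucc 9, Int.ofNat 0, Int.ofNat 0, Int.ofNat 0, Int.negSucc 2, Int.ofNat 1, Int.ofNat 143, Int.negSucc 9, Int.negSucc 64, Int.ofNat 0, Int.negSucc 197]) (ZT.leaf [Int.negSucc 96, Int.negSucc 23, Int.ofNat 28, Int.negSucc 6, Int.ofNat 0, Int.negSucc 13, Int.ofNat 0, Int.ofNat 3, Int.negSucc 0, Int.ofNat 0, Int.ofNat 0, Int.ofNat 0, Int.ofNat 0, Int.ofNat 0, Int.ofNat 5, Int.ofNat 0, Int.negSucc 1, Int.ofNat 0, Int.negSucc 9])))) (ZT.node 6838 (ZT.node 6836 (ZT.leaf [Int.ofNat 1]) (ZT.node 6837 (ZT.leaf []) (ZT.leaf []))) (ZT.node 6839 (ZT.leaf []) (ZT.node 6840 (ZT.leaf [Int.ofNat 171, Int.negSucc 494, Int.ofNat 60, Int.negSucc 130, Int.negSucc 6, Int.negSucc 108, Int.ofNat 3, Int.ofNat 36,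 Int.ofNat 2, Int.negSucc 0, Int.ofNat 1, Int.ofNat 0, Int.ofNat 10, Int.negSucc 8, Int.ofNat 144, Int.ofNat 10, Int.negSucc 19, Int.negSucc 0, Int.negSucc 81]) (ZT.leaf []))))))) (ZT.node 6863 (ZT.node 6852 (ZT.node 6846 (ZT.node 6843 (ZT.node 6842 (ZT.leaf [Int.negSucc 13, Int.negSucc 1, Int.ofNat 5, Int.negSucc 1, Int.ofNat 0, Int.negSucc 2, Int.ofNat 0, Int.ofNat 1, Int.ofNat 0, Int.ofNat 0, Int.ofNat 0, Int.ofNat 0, Int.ofNat 0, Int.ofNat 0, Int.ofNat 3, Int.ofNat 0, Int.negSucc 0, Int.ofNat 0, Int.negSucc 2]) (ZT.leaf [Int.ofNat 94, Int.ofNat 0, Int.negSucc 30, Int.ofNat 5, Int.ofNat 0, Int.ofNat 13, Int.negSucc 0, Int.negSucc 0, Int.ofNat 2, Int.ofNat 0, Int.ofNat 0, Int.ofNat 0, Int.negSucc 0, Int.ofNat 0, Int.ofNat 4, Int.ofNat 1, Int.ofNat 3, Int.ofNat 0, Int.ofNat 10])) (ZT.node 6844 (ZT.leaf []) (ZT.node 6845 (ZT.leaf [Int.ofNat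 486, Int.ofNat 128, Int.negSucc 122, Int.ofNat 25, Int.ofNat 0, Int.ofNat 58, Int.ofNat 3, Int.negSucc 9, Int.ofNat 2, Int.ofNat 0, Int.ofNat 0, Int.ofNat 0, Int.ofNat 0, Int.ofNat 1, Int.negSucc 37, Int.ofNat 0, Int.ofNat 9, Int.ofNat 0, Int.ofNat 49]) (ZT.leaf [Int.ofNat 494, Int.ofNat 201, Int.negSucc 118, Int.ofNat 33, Int.ofNat 1, Int.ofNat 66, Int.ofNat 7, Int.negSucc 15, Int.negSucc 1, Int.ofNat 0, Int.ofNat 0, Int.ofNat 0, Int.ofNat 1, Int.ofNat 0, Int.negSucc 63, Int.ofNat 0, Int.ofNat 11, Int.ofNat 0, Int.ofNat 58])))) (ZT.node 6849 (ZT.node 6847 (ZT.leaf [Int.ofNat 19, Int.ofNat 4, Int.negSucc 3, Int.ofNat 0, Int.ofNat 0, Int.ofNat 2, Int.ofNat 0, Int.ofNat 1, Int.ofNat 1, Int.ofNat 0, Int.ofNat 0, Int.ofNat 0, Int.ofNat 0, Int.ofNat 0, Int.negSucc 1, Int.ofNat 0, Int.negSucc 0, Int.ofNat 0, Int.ofNat 1]) (ZT.node 6848 (ZT.leaf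 []) (ZT.leaf [Int.ofNat 37, Int.negSucc 31, Int.negSucc 19, Int.ofNat 0, Int.ofNat 0, Int.ofNat 7, Int.negSucc 1, Int.negSucc 1, Int.ofNat 2, Int.ofNat 0, Int.ofNat 0, Int.ofNat 0, Int.negSucc 1, Int.ofNat 0, Int.ofNat 15, Int.ofNat 0, Int.ofNat 2, Int.ofNat 0, Int.ofNat 3]))) (ZT.node 6850 (ZT.leaf [Int.ofNat 1]) (ZT.node 6851 (ZT.leaf [Int.ofNat 42, Int.ofNat 33, Int.ofNat 2, Int.negSucc 0, Int.ofNat 0, Int.negSucc 1, Int.ofNat 2, Int.ofNat 1, Int.negSucc 1, Int.ofNat 0, Int.ofNat 0, Int.ofNat 0, Int.ofNat 2, Int.ofNat 0, Int.negSucc 11, Int.ofNat 0, Int.negSucc 0, Int.ofNat 0, Int.ofNat 1]) (ZT.leaf [Int.ofNat 3, Int.ofNat 1]))))) (ZT.node 6857 (ZT.node 6854 (ZT.node 6853 (ZT.leaf []) (ZT.leaf [])) (ZT.node 6855 (ZT.leaf [Int.negSucc 2, Int.negSucc 2, Int.ofNat 0, Int.ofNat 0, Int.ofNat 0, Int.ofNat 0, Int.ofNat 0, Int.ofNat 0,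 Int.ofNat 0, Int.ofNat 0, Int.ofNat 0, Int.ofNat 0, Int.ofNat 0, Int.ofNat 0, Int.ofNat 1]) (ZT.node 6856 (ZT.leaf [Int.ofNat 499, Int.ofNat 905, Int.negSucc 151, Int.ofNat 168, Int.ofNat 7, Int.ofNat 171, Int.ofNat 17, Int.negSucc 64, Int.negSucc 14, Int.ofNat 0, Int.ofNat 0, Int.ofNat 0, Int.negSucc 2, Int.ofNat 8, Int.negSucc 301, Int.negSucc 8, Int.ofNat 41, Int.ofNat 0, Int.ofNat 158]) (ZT.leaf [Int.ofNat 363, Int.ofNat 732, Int.negSucc 190, Int.ofNat 174, Int.ofNat 11, Int.ofNat 179, Int.ofNat 3, Int.negSucc 73, Int.negSucc 11, Int.ofNat 1, Int.negSucc 0, Int.ofNat 0, Int.negSucc 13, Int.ofNat 2, Int.negSucc 238, Int.negSucc 5, Int.ofNat 44, Int.ofNat 0, Int.ofNat 147])))) (ZT.node 6860 (ZT.node 6858 (ZT.leaf []) (ZT.node 6859 (ZT.leaf []) (ZT.leaf [Int.ofNat 6821, Int.ofNat 4556, Int.negSucc 1663, Int.ofNat 787, Int.ofNat 23,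 Int.ofNat 1152, Int.ofNat 134, Int.negSucc 336, Int.negSucc 48, Int.ofNat 0, Int.ofNat 0, Int.ofNat 1, Int.ofNat 9, Int.ofNat 26, Int.negSucc 1481, Int.negSucc 24, Int.ofNat 199, Int.ofNat 1, Int.ofNat 1023]))) (ZT.node 6861 (ZT.leaf [Int.ofNat 495, Int.ofNat 202, Int.negSucc 118, Int.ofNat 33, Int.ofNat 1, Int.ofNat 66, Int.ofNat 7, Int.negSucc 15, Int.negSucc 1, Int.ofNat 0, Int.ofNat 0, Int.ofNat 0, Int.ofNat 1, Int.ofNat 0, Int.negSucc 63, Int.ofNat 0, Int.ofNat 11, Int.ofNat 0, Int.ofNat 58]) (ZT.node 6862 (ZT.leaf [Int.ofNat 30, Int.ofNat 0, Int.negSucc 5, Int.ofNat 0, Int.ofNat 0, Int.ofNat 1, Int.ofNat 0, Int.ofNat 1, Int.ofNat 1, Int.ofNat 1, Int.ofNat 0, Int.ofNat 0, Int.ofNat 0, Int.ofNat 0, Int.ofNat 2, Int.ofNat 0, Int.ofNat 0, Int.ofNat 0, Int.ofNat 1]) (ZT.leaf [])))))) (ZT.node 6874 (ZT.node 6868 (ZT.node 6865 (ZT.node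 6864 (ZT.leaf [Int.negSucc 25436, Int.negSucc 12145, Int.ofNat 5982, Int.negSucc 1987, Int.negSucc 56, Int.negSucc 3525, Int.negSucc 412, Int.ofNat 972, Int.ofNat 102, Int.negSucc 0, Int.ofNat 1, Int.negSucc 0, Int.negSucc 37, Int.negSucc 40, Int.ofNat 4147, Int.ofNat 32, Int.negSucc 648, Int.negSucc 0, Int.negSucc 3136]) (ZT.leaf [Int.ofNat 4671, Int.ofNat 1440, Int.negSucc 1043, Int.ofNat 198, Int.ofNat 3, Int.ofNat 514, Int.ofNat 63, Int.negSucc 115, Int.negSucc 3, Int.ofNat 0, Int.ofNat 0, Int.ofNat 0, Int.ofNat 12, Int.ofNat 2, Int.negSucc 550, Int.ofNat 7, Int.ofNat 100, Int.ofNat 0, Int.ofNat 459])) (ZT.node 6866 (ZT.leaf [Int.ofNat 8, Int.negSucc 8, Int.negSucc 1, Int.negSucc 0, Int.ofNat 0, Int.ofNat 0, Int.ofNat 0, Int.ofNat 1, Int.ofNat 1, Int.ofNat 1, Int.ofNat 0, Int.ofNat 0, Int.ofNat 0, Int.ofNat 0, Int.ofNat 7, Int.ofNat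 0, Int.ofNat 0, Int.ofNat 0, Int.negSucc 0]) (ZT.node 6867 (ZT.leaf [Int.ofNat 3, Int.ofNat 1]) (ZT.leaf [])))) (ZT.node 6871 (ZT.node 6869 (ZT.leaf [Int.negSucc 168, Int.negSucc 47, Int.ofNat 41, Int.negSucc 8, Int.ofNat 0, Int.negSucc 21, Int.negSucc 0, Int.ofNat 3, Int.negSucc 0, Int.ofNat 1, Int.negSucc 0, Int.ofNat 0, Int.ofNat 0, Int.ofNat 0, Int.ofNat 15, Int.ofNat 0, Int.negSucc 1, Int.ofNat 0, Int.negSucc 16]) (ZT.node 6870 (ZT.leaf []) (ZT.leaf [Int.negSucc 78, Int.negSucc 27, Int.ofNat 19, Int.negSucc 4, Int.ofNat 0, Int.negSucc 9, Int.ofNat 0, Int.ofNat 1, Int.ofNat 0, Int.ofNat 0, Int.ofNat 0, Int.ofNat 0, Int.negSucc 0, Int.ofNat 0, Int.ofNat 10, Int.ofNat 0, Int.negSucc 1, Int.ofNat 0, Int.negSucc 7]))) (ZT.node 6872 (ZT.leaf [Int.negSucc 1090, Int.negSucc 1510, Int.ofNat 299, Int.negSucc 273, Int.negSucc 9, Int.negSucc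 313, Int.negSucc 45, Int.ofNat 121, Int.ofNat 28, Int.ofNat 0, Int.ofNat 0, Int.ofNat 0, Int.ofNat 3, Int.negSucc 10, Int.ofNat 507, Int.ofNat 12, Int.negSucc 62, Int.ofNat 0, Int.negSucc 280]) (ZT.node 6873 (ZT.leaf []) (ZT.leaf [Int.negSucc 1237, Int.negSucc 1454, Int.ofNat 367, Int.negSucc 278, Int.negSucc 8, Int.negSucc 340, Int.negSucc 31, Int.ofNat 106, Int.ofNat 17, Int.ofNat 0, Int.ofNat 0, Int.ofNat 0, Int.ofNat 4, Int.negSucc 12, Int.ofNat 463, Int.ofNat 11, Int.negSucc 58, Int.ofNat 0, Int.negSucc 290]))))) (ZT.node 6880 (ZT.node 6877 (ZT.node 6875 (ZT.leaf [Int.negSucc 29121, Int.negSucc 10776, Int.ofNat 6646, Int.negSucc 1659, Int.negSucc 37, Int.negSucc 3550, Int.negSucc 411, Int.ofNat 868, Int.ofNat 51, Int.ofNat 1, Int.negSucc 0, Int.negSucc 0, Int.negSucc 57, Int.negSucc 18, Int.ofNat 3707, Int.negSucc 6, Int.negSucc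 644, Int.negSucc 0, Int.negSucc 3129]) (ZT.node 6876 (ZT.leaf []) (ZT.leaf [Int.negSucc 5870, Int.negSucc 153, Int.ofNat 1198, Int.ofNat 100, Int.ofNat 1, Int.negSucc 323, Int.negSucc 45, Int.ofNat 15, Int.negSucc 15, Int.ofNat 1, Int.ofNat 0, Int.ofNat 0, Int.negSucc 28, Int.ofNat 2, Int.ofNat 234, Int.negSucc 27, Int.negSucc 99, Int.ofNat 0, Int.negSucc 326]))) (ZT.node 6878 (ZT.leaf []) (ZT.node 6879 (ZT.leaf [Int.ofNat 1]) (ZT.leaf [Int.ofNat 1])))) (ZT.node 6883 (ZT.node 6881 (ZT.leaf [Int.ofNat 129, Int.ofNat 118, Int.negSucc 26, Int.ofNat 18, Int.ofNat 0, Int.ofNat 21, Int.ofNat 5, Int.negSucc 7, Int.negSucc 2, Int.negSucc 0, Int.ofNat 0, Int.ofNat 0, Int.ofNat 1, Int.ofNat 1, Int.negSucc 39, Int.negSucc 0, Int.ofNat 4, Int.ofNat 0, Int.ofNat 23]) (ZT.node 6882 (ZT.leaf [Int.ofNat 1]) (ZT.leaf [Int.negSucc 1, Int.ofNat 0, Int.ofNat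 0, Int.ofNat 0, Int.ofNat 0, Int.ofNat 0, Int.ofNat 0, Int.ofNat 0, Int.ofNat 0, Int.ofNat 0, Int.ofNat 0, Int.ofNat 0, Int.ofNat 0, Int.ofNat 0, Int.ofNat 0, Int.negSucc 0]))) (ZT.node 6884 (ZT.leaf []) (ZT.node 6885 (ZT.leaf [Int.negSucc 1, Int.negSucc 0]) (ZT.leaf [Int.ofNat 51, Int.ofNat 3, Int.negSucc 11, Int.ofNat 1, Int.ofNat 0, Int.ofNat 4, Int.ofNat 0, Int.ofNat 0, Int.ofNat 1, Int.ofNat 1, Int.ofNat 0, Int.ofNat 0, Int.ofNat 0, Int.ofNat 0, Int.ofNat 2, Int.ofNat 0, Int.ofNat 1, Int.ofNat 0, Int.ofNat 3])))))))) (ZT.node 6931 (ZT.node 6908 (ZT.node 6897 (ZT.node 6891 (ZT.node 6888 (ZT.node 6887 (ZT.leaf [Int.negSucc 1063, Int.negSucc 514, Int.ofNat 228, Int.negSucc 66, Int.negSucc 0, Int.negSucc 120, Int.negSucc 16, Int.ofNat 31, Int.ofNat 4, Int.ofNat 0, Int.ofNat 0, Int.ofNat 0, Int.negSucc 7, Int.negSucc 4, Int.ofNat 158,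 Int.ofNat 3, Int.negSucc 18, Int.ofNat 0, Int.negSucc 119]) (ZT.leaf [])) (ZT.node 6889 (ZT.leaf [Int.ofNat 2994, Int.ofNat 901, Int.negSucc 664, Int.ofNat 123, Int.negSucc 1, Int.ofNat 321, Int.ofNat 43, Int.negSucc 62, Int.negSucc 2, Int.ofNat 0, Int.negSucc 0, Int.ofNat 0, Int.ofNat 12, Int.ofNat 2, Int.negSucc 322, Int.ofNat 2, Int.ofNat 33, Int.ofNat 0, Int.ofNat 286]) (ZT.node 6890 (ZT.leaf []) (ZT.leaf [Int.negSucc 280, Int.negSucc 404, Int.ofNat 21, Int.negSucc 48, Int.negSucc 3, Int.negSucc 38, Int.negSucc 28, Int.ofNat 48, Int.ofNat 22, Int.ofNat 0, Int.ofNat 0, Int.ofNat 0, Int.negSucc 2, Int.ofNat 1, Int.ofNat 208, Int.ofNat 0, Int.negSucc 20, Int.ofNat 0, Int.negSucc 60])))) (ZT.node 6894 (ZT.node 6892 (ZT.leaf [Int.ofNat 56, Int.ofNat 11, Int.negSucc 9, Int.negSucc 0, Int.ofNat 0, Int.ofNat 2, Int.ofNat 0, Int.ofNat 2,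 Int.ofNat 1, Int.ofNat 0, Int.ofNat 0, Int.ofNat 0, Int.ofNat 1, Int.ofNat 0, Int.negSucc 5, Int.ofNat 0, Int.negSucc 0, Int.ofNat 0, Int.ofNat 2]) (ZT.node 6893 (ZT.leaf []) (ZT.leaf [Int.negSucc 71, Int.negSucc 19, Int.ofNat 16, Int.negSucc 2, Int.ofNat 0, Int.negSucc 6, Int.negSucc 0, Int.negSucc 0, Int.ofNat 0, Int.ofNat 0, Int.ofNat 0, Int.ofNat 0, Int.negSucc 0, Int.ofNat 0, Int.ofNat 4, Int.negSucc 0, Int.negSucc 0, Int.ofNat 0, Int.negSucc 6]))) (ZT.node 6895 (ZT.leaf []) (ZT.node 6896 (ZT.leaf []) (ZT.leaf [Int.ofNat 260, Int.ofNat 159, Int.negSucc 57, Int.ofNat 25, Int.ofNat 0, Int.ofNat 38, Int.ofNat 6, Int.negSucc 10, Int.negSucc 1, Int.ofNat 0, Int.ofNat 0, Int.ofNat 0, Int.ofNat 1, Int.ofNat 1, Int.negSucc 51, Int.negSucc 0, Int.ofNat 5, Int.ofNat 0, Int.ofNat 35]))))) (ZT.node 6902 (ZT.node 6899 (ZT.node 6898 (ZT.leaf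 [Int.negSucc 166, Int.negSucc 50, Int.ofNat 41, Int.negSucc 8, Int.ofNat 0, Int.negSucc 21, Int.negSucc 0, Int.ofNat 3, Int.negSucc 0, Int.ofNat 0, Int.ofNat 0, Int.ofNat 0, Int.ofNat 0, Int.ofNat 0, Int.ofNat 15, Int.ofNat 0, Int.negSucc 1, Int.ofNat 0, Int.negSucc 16]) (ZT.leaf [Int.ofNat 6, Int.negSucc 14, Int.negSucc 4, Int.negSucc 2, Int.ofNat 0, Int.ofNat 0, Int.negSucc 1, Int.ofNat 1, Int.ofNat 0, Int.negSucc 0, Int.ofNat 0, Int.ofNat 0, Int.ofNat 0, Int.ofNat 0, Int.ofNat 8, Int.ofNat 0, Int.ofNat 1, Int.ofNat 0, Int.ofNat 0])) (ZT.node 6900 (ZT.leaf [Int.negSucc 127, Int.negSucc 117, Int.ofNat 27, Int.negSucc 17, Int.ofNat 0, Int.negSucc 20, Int.negSucc 4, Int.ofNat 8, Int.ofNat 3, Int.ofNat 1, Int.ofNat 0, Int.ofNat 0, Int.negSucc 0, Int.negSucc 0, Int.ofNat 40, Int.ofNat 1, Int.negSucc 3, Int.ofNat 0, Int.negSucc 22]) (ZT.node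 6901 (ZT.leaf [Int.ofNat 197, Int.negSucc 26, Int.negSucc 0, Int.negSucc 22, Int.negSucc 0, Int.negSucc 16, Int.ofNat 7, Int.negSucc 0, Int.negSucc 4, Int.negSucc 0, Int.ofNat 0, Int.ofNat 0, Int.ofNat 4, Int.negSucc 1, Int.ofNat 2, Int.ofNat 2, Int.ofNat 5, Int.ofNat 0, Int.negSucc 4]) (ZT.leaf [Int.negSucc 11, Int.negSucc 0, Int.ofNat 3, Int.ofNat 0, Int.ofNat 0, Int.negSucc 0, Int.ofNat 0, Int.ofNat 0, Int.ofNat 0, Int.ofNat 0, Int.ofNat 0, Int.ofNat 0, Int.ofNat 0, Int.ofNat 0, Int.ofNat 0, Int.ofNat 0, Int.ofNat 0, Int.ofNat 0, Int.negSucc 0])))) (ZT.node 6905 (ZT.node 6903 (ZT.leaf [Int.ofNat 13, Int.ofNat 1, Int.negSucc 2, Int.ofNat 0, Int.ofNat 0, Int.ofNat 1, Int.ofNat 0, Int.ofNat 0, Int.ofNat 0, Int.ofNat 0, Int.ofNat 0, Int.ofNat 0, Int.ofNat 0, Int.ofNat 0, Int.ofNat 0, Int.ofNat 0, Int.ofNat 0, Int.ofNat 0, Int.ofNat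 1]) (ZT.node 6904 (ZT.leaf [Int.ofNat 1]) (ZT.leaf [Int.negSucc 1, Int.ofNat 0, Int.ofNat 0, Int.ofNat 0, Int.ofNat 0, Int.ofNat 0, Int.ofNat 0, Int.ofNat 0, Int.ofNat 0, Int.ofNat 0, Int.ofNat 0, Int.ofNat 0, Int.ofNat 0, Int.ofNat 0, Int.ofNat 0, Int.ofNat 0, Int.ofNat 0, Int.ofNat 0, Int.ofNat 1]))) (ZT.node 6906 (ZT.leaf []) (ZT.node 6907 (ZT.leaf [Int.ofNat 106, Int.ofNat 27, Int.negSucc 36, Int.ofNat 14, Int.ofNat 1, Int.ofNat 23, Int.ofNat 0, Int.negSucc 4, Int.ofNat 4, Int.ofNat 0, Int.ofNat 0, Int.ofNat 0, Int.negSucc 3, Int.ofNat 1, Int.ofNat 3, Int.negSucc 1, Int.negSucc 1, Int.ofNat 0, Int.ofNat 14]) (ZT.leaf [Int.ofNat 745, Int.ofNat 961, Int.negSucc 180, Int.ofNat 172, Int.ofNat 5, Int.ofNat 203, Int.ofNat 44, Int.negSucc 89, Int.negSucc 16, Int.ofNat 0, Int.ofNat 0, Int.ofNat 0, Int.negSucc 1, Int.ofNat 5, Int.negSucc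 326, Int.negSucc 8, Int.ofNat 23, Int.ofNat 0, Int.ofNat 179])))))) (ZT.node 6919 (ZT.node 6913 (ZT.node 6910 (ZT.node 6909 (ZT.leaf [Int.ofNat 9942, Int.ofNat 5645, Int.negSucc 2570, Int.ofNat 1091, Int.ofNat 32, Int.ofNat 1666, Int.ofNat 164, Int.negSucc 460, Int.negSucc 41, Int.negSucc 0, Int.negSucc 0, Int.ofNat 1, Int.negSucc 1, Int.ofNat 7, Int.negSucc 1956, Int.negSucc 18, Int.ofNat 263, Int.ofNat 0, Int.ofNat 1413]) (ZT.leaf [Int.negSucc 15046, Int.negSucc 4931, Int.ofNat 3321, Int.negSucc 677, Int.negSucc 15, Int.negSucc 1593, Int.negSucc 208, Int.ofNat 361, Int.ofNat 28, Int.ofNat 0, Int.ofNat 0, Int.negSucc 0, Int.negSucc 53, Int.negSucc 17, Int.ofNat 1878, Int.negSucc 13, Int.negSucc 329, Int.negSucc 0, Int.negSucc 1488])) (ZT.node 6911 (ZT.leaf [Int.negSucc 9667, Int.negSucc 5108, Int.ofNat 2313, Int.negSucc 884, Int.negSucc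 18, Int.negSucc 1356, Int.negSucc 210, Int.ofNat 347, Int.ofNat 62, Int.negSucc 0, Int.ofNat 2, Int.ofNat 1, Int.negSucc 46, Int.negSucc 16, Int.ofNat 2204, Int.ofNat 15, Int.negSucc 208, Int.ofNat 0, Int.negSucc 1248]) (ZT.node 6912 (ZT.leaf []) (ZT.leaf [Int.negSucc 561, Int.negSucc 237, Int.ofNat 149, Int.negSucc 48, Int.negSucc 1, Int.negSucc 88, Int.negSucc 8, Int.ofNat 23, Int.negSucc 0, Int.ofNat 0, Int.ofNat 0, Int.ofNat 0, Int.ofNat 3, Int.negSucc 1, Int.ofNat 69, Int.ofNat 2, Int.negSucc 7, Int.ofNat 0, Int.negSucc 71])))) (ZT.node 6916 (ZT.node 6914 (ZT.leaf []) (ZT.node 6915 (ZT.leaf [Int.ofNat 1]) (ZT.leaf [Int.ofNat 3261, Int.ofNat 2212, Int.negSucc 740, Int.ofNat 351, Int.ofNat 8, Int.ofNat 520, Int.ofNat 89, Int.negSucc 178, Int.negSucc 32, Int.ofNat 0, Int.ofNat 0, Int.ofNat 0, Int.ofNat 8, Int.ofNat 10, Int.negSucc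 768, Int.negSucc 13, Int.ofNat 89, Int.ofNat 0, Int.ofNat 485]))) (ZT.node 6917 (ZT.leaf [Int.negSucc 2236, Int.negSucc 1022, Int.ofNat 516, Int.negSucc 160, Int.negSucc 4, Int.negSucc 299, Int.negSucc 49, Int.ofNat 95, Int.ofNat 15, Int.ofNat 0, Int.ofNat 0, Int.ofNat 0, Int.negSucc 2, Int.negSucc 1, Int.ofNat 394, Int.ofNat 3, Int.negSucc 51, Int.ofNat 1, Int.negSucc 273]) (ZT.node 6918 (ZT.leaf []) (ZT.leaf [Int.negSucc 4841, Int.negSucc 1757, Int.ofNat 1112, Int.negSucc 263, Int.negSucc 4, Int.negSucc 581, Int.negSucc 68, Int.ofNat 130, Int.ofNat 6, Int.ofNat 0, Int.ofNat 0, Int.ofNat 0, Int.negSucc 12, Int.negSucc 5, Int.ofNat 653, Int.negSucc 2, Int.negSucc 101, Int.ofNat 0, Int.negSucc 518]))))) (ZT.node 6925 (ZT.node 6922 (ZT.node 6920 (ZT.leaf [Int.ofNat 4839, Int.ofNat 1756, Int.negSucc 1111, Int.ofNat 264, Int.ofNat 5, Int.ofNat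 582, Int.ofNat 69, Int.negSucc 129, Int.negSucc 5, Int.ofNat 0, Int.ofNat 0, Int.ofNat 0, Int.ofNat 13, Int.ofNat 6, Int.negSucc 652, Int.ofNat 3, Int.ofNat 102, Int.ofNat 0, Int.ofNat 519]) (ZT.node 6921 (ZT.leaf [Int.ofNat 1]) (ZT.leaf [Int.ofNat 1]))) (ZT.node 6923 (ZT.leaf [Int.negSucc 1, Int.negSucc 0]) (ZT.node 6924 (ZT.leaf [Int.ofNat 3, Int.ofNat 2, Int.ofNat 0, Int.ofNat 0, Int.ofNat 0, Int.ofNat 0, Int.ofNat 0, Int.ofNat 0, Int.ofNat 0, Int.ofNat 0, Int.ofNat 0, Int.ofNat 0, Int.ofNat 0, Int.ofNat 0, Int.negSucc 0]) (ZT.leaf [Int.ofNat 375, Int.ofNat 273, Int.negSucc 74, Int.ofNat 37, Int.ofNat 1, Int.ofNat 53, Int.ofNat 11, Int.negSucc 16, Int.negSucc 4, Int.negSucc 0, Int.ofNat 0, Int.ofNat 0, Int.ofNat 2, Int.ofNat 3, Int.negSucc 89, Int.negSucc 1, Int.ofNat 7, Int.ofNat 0, Int.ofNat 54])))) (ZT.node 6928 (ZT.node 6926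 (ZT.leaf [Int.ofNat 138, Int.ofNat 119, Int.negSucc 29, Int.ofNat 18, Int.ofNat 0, Int.ofNat 22, Int.ofNat 5, Int.negSucc 7, Int.negSucc 2, Int.negSucc 0, Int.ofNat 0, Int.ofNat 0, Int.ofNat 1, Int.ofNat 1, Int.negSucc 39, Int.negSucc 0, Int.ofNat 4, Int.ofNat 0, Int.ofNat 24]) (ZT.node 6927 (ZT.leaf [Int.negSucc 492, Int.negSucc 200, Int.ofNat 119, Int.negSucc 32, Int.negSucc 0, Int.negSucc 65, Int.negSucc 6, Int.ofNat 16, Int.ofNat 2, Int.ofNat 0, Int.ofNat 0, Int.ofNat 0, Int.negSucc 0, Int.ofNat 0, Int.ofNat 64, Int.ofNat 0, Int.negSucc 10, Int.ofNat 0, Int.negSucc 57]) (ZT.leaf [Int.ofNat 3, Int.ofNat 3, Int.ofNat 0, Int.ofNat 0, Int.ofNat 0, Int.ofNat 0, Int.ofNat 0, Int.ofNat 0, Int.ofNat 0, Int.ofNat 0, Int.ofNat 0, Int.ofNat 0, Int.ofNat 0, Int.ofNat 0, Int.negSucc 0]))) (ZT.node 6929 (ZT.leaf []) (ZT.node 6930 (ZT.leaf [])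 (ZT.leaf [Int.ofNat 1, Int.negSucc 2, Int.ofNat 0, Int.ofNat 0, Int.ofNat 0, Int.ofNat 0, Int.ofNat 0, Int.ofNat 0, Int.ofNat 0, Int.ofNat 0, Int.ofNat 0, Int.ofNat 0, Int.ofNat 0, Int.ofNat 0, Int.ofNat 1, Int.ofNat 0, Int.ofNat 0, Int.ofNat 0, Int.ofNat 0]))))))) (ZT.node 6953 (ZT.node 6942 (ZT.node 6936 (ZT.node 6933 (ZT.node 6932 (ZT.leaf [Int.negSucc 9968, Int.negSucc 6206, Int.ofNat 2423, Int.negSucc 1067, Int.negSucc 27, Int.negSucc 1628, Int.negSucc 188, Int.ofNat 459, Int.ofNat 59, Int.negSucc 0, Int.ofNat 0, Int.negSucc 0, Int.negSucc 11, Int.negSucc 34, Int.ofNat 2030, Int.ofNat 33, Int.negSucc 269, Int.negSucc 0, Int.negSucc 1439]) (ZT.leaf [Int.negSucc 5333, Int.negSucc 3305, Int.ofNat 1259, Int.negSucc 557, Int.negSucc 9, Int.negSucc 843, Int.negSucc 111, Int.ofNat 235, Int.ofNat 35, Int.negSucc 0, Int.ofNat 0, Int.negSucc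 0, Int.negSucc 10, Int.negSucc 19, Int.ofNat 1035, Int.ofNat 21, Int.negSucc 99, Int.negSucc 0, Int.negSucc 747])) (ZT.node 6934 (ZT.leaf [Int.negSucc 186, Int.negSucc 318, Int.ofNat 71, Int.negSucc 65, Int.negSucc 1, Int.negSucc 68, Int.negSucc 5, Int.ofNat 14, Int.ofNat 2, Int.ofNat 0, Int.ofNat 0, Int.ofNat 0, Int.negSucc 0, Int.negSucc 3, Int.ofNat 103, Int.ofNat 4, Int.negSucc 1, Int.ofNat 0, Int.negSucc 59]) (ZT.node 6935 (ZT.leaf [Int.negSucc 9274, Int.negSucc 3208, Int.ofNat 2016, Int.negSucc 418, Int.negSucc 17, Int.negSucc 1099, Int.negSucc 131, Int.ofNat 347, Int.ofNat 26, Int.ofNat 1, Int.negSucc 0, Int.negSucc 0, Int.ofNat 10, Int.ofNat 0, Int.ofNat 800, Int.negSucc 5, Int.negSucc 226, Int.ofNat 0, Int.negSucc 953]) (ZT.leaf [Int.ofNat 43, Int.ofNat 41, Int.negSucc 2, Int.ofNat 4, Int.ofNat 0, Int.ofNat 3, Int.ofNat 2,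 Int.ofNat 2, Int.negSucc 0, Int.ofNat 0, Int.ofNat 0, Int.ofNat 0, Int.ofNat 2, Int.ofNat 0, Int.negSucc 14, Int.ofNat 0, Int.ofNat 0, Int.ofNat 0, Int.ofNat 5])))) (ZT.node 6939 (ZT.node 6937 (ZT.leaf [Int.ofNat 1]) (ZT.node 6938 (ZT.leaf [Int.ofNat 43, Int.ofNat 39, Int.negSucc 2, Int.ofNat 4, Int.ofNat 0, Int.ofNat 3, Int.ofNat 2, Int.ofNat 2, Int.negSucc 0, Int.ofNat 0, Int.ofNat 0, Int.ofNat 0, Int.ofNat 2, Int.ofNat 0, Int.negSucc 14, Int.ofNat 1, Int.ofNat 0, Int.ofNat 0, Int.ofNat 5]) (ZT.leaf [Int.ofNat 1]))) (ZT.node 6940 (ZT.leaf []) (ZT.node 6941 (ZT.leaf [Int.ofNat 131, Int.negSucc 37, Int.negSucc 31, Int.negSucc 5, Int.ofNat 0, Int.ofNat 4, Int.negSucc 3, Int.ofNat 7, Int.ofNat 4, Int.ofNat 0, Int.ofNat 0, Int.ofNat 0, Int.ofNat 1, Int.ofNat 0, Int.ofNat 17, Int.ofNat 0, Int.ofNat 0, Int.ofNat 0, Int.ofNat 1]) (ZT.leaf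 [Int.ofNat 2898, Int.ofNat 408, Int.negSucc 667, Int.ofNat 46, Int.ofNat 2, Int.ofNat 271, Int.ofNat 21, Int.negSucc 49, Int.ofNat 12, Int.ofNat 0, Int.ofNat 0, Int.ofNat 0, Int.ofNat 0, Int.ofNat 0, Int.negSucc 167, Int.ofNat 9, Int.ofNat 67, Int.ofNat 0, Int.ofNat 234]))))) (ZT.node 6947 (ZT.node 6944 (ZT.node 6943 (ZT.leaf [Int.negSucc 7, Int.ofNat 4, Int.ofNat 4, Int.ofNat 0, Int.ofNat 0, Int.negSucc 0, Int.ofNat 0, Int.ofNat 0, Int.ofNat 0, Int.ofNat 0, Int.ofNat 0, Int.ofNat 0, Int.ofNat 0, Int.ofNat 0, Int.negSucc 2, Int.ofNat 0, Int.ofNat 0, Int.ofNat 0, Int.negSucc 0]) (ZT.leaf [])) (ZT.node 6945 (ZT.leaf [Int.ofNat 297, Int.ofNat 124, Int.negSucc 73, Int.ofNat 21, Int.ofNat 1, Int.ofNat 41, Int.ofNat 3, Int.negSucc 10, Int.negSucc 0, Int.negSucc 0, Int.ofNat 0, Int.ofNat 0, Int.ofNat 0, Int.ofNat 1, Int.negSucc 35, Int.negSucc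 0, Int.ofNat 7, Int.ofNat 0, Int.ofNat 36]) (ZT.node 6946 (ZT.leaf [Int.ofNat 8, Int.ofNat 0, Int.negSucc 2, Int.ofNat 0, Int.ofNat 0, Int.ofNat 1, Int.ofNat 0, Int.ofNat 0, Int.ofNat 0, Int.ofNat 0, Int.ofNat 0, Int.ofNat 0, Int.ofNat 0, Int.ofNat 0, Int.ofNat 0, Int.ofNat 0, Int.ofNat 0, Int.ofNat 0, Int.ofNat 1]) (ZT.leaf [Int.ofNat 184, Int.ofNat 10, Int.negSucc 49, Int.ofNat 3, Int.ofNat 1, Int.ofNat 21, Int.negSucc 1, Int.negSucc 1, Int.ofNat 3, Int.ofNat 0, Int.ofNat 0, Int.ofNat 0, Int.negSucc 0, Int.ofNat 0, Int.ofNat 0, Int.ofNat 0, Int.ofNat 2, Int.ofNat 0, Int.ofNat 13])))) (ZT.node 6950 (ZT.node 6948 (ZT.leaf [Int.negSucc 361, Int.negSucc 731, Int.ofNat 191, Int.negSucc 173, Int.negSucc 10, Int.negSucc 178, Int.negSucc 2, Int.ofNat 74, Int.ofNat 12, Int.negSucc 0, Int.ofNat 1, Int.ofNat 0, Int.ofNat 14, Int.negSucc 1,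 Int.ofNat 239, Int.ofNat 6, Int.negSucc 43, Int.ofNat 0, Int.negSucc 146]) (ZT.node 6949 (ZT.leaf [Int.negSucc 427, Int.negSucc 2274, Int.ofNat 223, Int.negSucc 425, Int.negSucc 10, Int.negSucc 412, Int.negSucc 73, Int.ofNat 191, Int.ofNat 47, Int.ofNat 0, Int.ofNat 1, Int.ofNat 0, Int.ofNat 8, Int.negSucc 20, Int.ofNat 752, Int.ofNat 30, Int.negSucc 53, Int.ofNat 0, Int.negSucc 376]) (ZT.leaf []))) (ZT.node 6951 (ZT.leaf [Int.negSucc 2, Int.ofNat 1, Int.ofNat 0, Int.ofNat 0, Int.ofNat 0, Int.ofNat 0, Int.ofNat 0, Int.ofNat 0, Int.ofNat 0, Int.ofNat 0, Int.ofNat 0, Int.ofNat 0, Int.ofNat 0, Int.ofNat 0, Int.negSucc 0, Int.ofNat 0, Int.ofNat 0, Int.ofNat 0, Int.ofNat 0]) (ZT.node 6952 (ZT.leaf [Int.ofNat 4, Int.ofNat 14, Int.ofNat 1, Int.ofNat 3, Int.ofNat 0, Int.ofNat 1, Int.ofNat 2, Int.negSucc 0, Int.ofNat 0, Int.ofNat 1, Int.ofNat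 0, Int.ofNat 0, Int.ofNat 0, Int.ofNat 0, Int.negSucc 4, Int.ofNat 0, Int.negSucc 0, Int.ofNat 0, Int.ofNat 1]) (ZT.leaf [Int.ofNat 2, Int.negSucc 1, Int.ofNat 0, Int.ofNat 0, Int.ofNat 0, Int.ofNat 0, Int.ofNat 0, Int.ofNat 0, Int.ofNat 0, Int.ofNat 0, Int.ofNat 0, Int.ofNat 0, Int.ofNat 0, Int.ofNat 0, Int.ofNat 1, Int.ofNat 0, Int.ofNat 0, Int.ofNat 0, Int.ofNat 0])))))) (ZT.node 6964 (ZT.node 6958 (ZT.node 6955 (ZT.node 6954 (ZT.leaf []) (ZT.leaf [Int.ofNat 3, Int.ofNat 0, Int.ofNat 0, Int.ofNat 0, Int.ofNat 0, Int.ofNat 0, Int.ofNat 0, Int.ofNat 0, Int.ofNat 0, Int.ofNat 0, Int.ofNat 0, Int.ofNat 0, Int.ofNat 0, Int.ofNat 0, Int.ofNat 0, Int.ofNat 1])) (ZT.node 6956 (ZT.leaf []) (ZT.node 6957 (ZT.leaf []) (ZT.leaf [])))) (ZT.node 6961 (ZT.node 6959 (ZT.leaf [Int.ofNat 31, Int.ofNat 5, Int.negSucc 5, Int.ofNat 0, Int.ofNat 0, Int.ofNat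 2, Int.ofNat 0, Int.ofNat 1, Int.ofNat 1, Int.ofNat 0, Int.ofNat 0, Int.ofNat 0, Int.ofNat 0, Int.ofNat 0, Int.negSucc 3, Int.ofNat 0, Int.negSucc 0, Int.ofNat 0, Int.ofNat 1]) (ZT.node 6960 (ZT.leaf [Int.negSucc 1087, Int.negSucc 354, Int.ofNat 194, Int.negSucc 29, Int.ofNat 3, Int.negSucc 91, Int.negSucc 12, Int.ofNat 8, Int.negSucc 0, Int.ofNat 1, Int.negSucc 0, Int.ofNat 0, Int.negSucc 9, Int.negSucc 1, Int.ofNat 110, Int.negSucc 0, Int.negSucc 15, Int.ofNat 0, Int.negSucc 89]) (ZT.leaf []))) (ZT.node 6962 (ZT.leaf [Int.ofNat 3211, Int.ofNat 2156, Int.negSucc 734, Int.ofNat 341, Int.ofNat 6, Int.ofNat 525, Int.ofNat 81, Int.negSucc 170, Int.negSucc 29, Int.ofNat 0, Int.ofNat 0, Int.ofNat 1, Int.ofNat 8, Int.ofNat 10, Int.negSucc 721, Int.negSucc 10, Int.ofNat 89, Int.ofNat 0, Int.ofNat 481]) (ZT.node 6963 (ZT.leaf [Int.ofNat 131,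 Int.ofNat 131, Int.negSucc 44, Int.ofNat 28, Int.ofNat 1, Int.ofNat 34, Int.ofNat 8, Int.negSucc 16, Int.negSucc 3, Int.ofNat 0, Int.ofNat 0, Int.ofNat 0, Int.negSucc 0, Int.ofNat 0, Int.negSucc 61, Int.negSucc 1, Int.ofNat 7, Int.ofNat 0, Int.ofNat 32]) (ZT.leaf [Int.ofNat 16, Int.negSucc 4, Int.negSucc 1, Int.negSucc 0, Int.ofNat 0, Int.ofNat 0, Int.ofNat 0, Int.ofNat 1, Int.ofNat 1, Int.ofNat 1, Int.ofNat 0, Int.ofNat 0, Int.ofNat 0, Int.ofNat 0, Int.ofNat 6, Int.ofNat 0, Int.ofNat 0, Int.ofNat 0, Int.ofNat 0]))))) (ZT.node 6970 (ZT.node 6967 (ZT.node 6965 (ZT.leaf [Int.negSucc 28, Int.negSucc 17, Int.ofNat 20, Int.negSucc 10, Int.negSucc 0, Int.negSucc 9, Int.negSucc 0, Int.ofNat 9, Int.ofNat 1, Int.ofNat 0, Int.ofNat 1, Int.ofNat 0, Int.ofNat 2, Int.negSucc 0, Int.ofNat 5, Int.ofNat 1, Int.negSucc 3, Int.ofNat 0, Int.negSucc 7])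 (ZT.node 6966 (ZT.leaf [Int.negSucc 2014, Int.negSucc 9, Int.ofNat 485, Int.negSucc 23, Int.negSucc 3, Int.negSucc 151, Int.ofNat 5, Int.negSucc 20, Int.negSucc 23, Int.negSucc 0, Int.ofNat 0, Int.ofNat 0, Int.negSucc 2, Int.ofNat 6, Int.ofNat 34, Int.negSucc 8, Int.negSucc 1, Int.ofNat 0, Int.negSucc 99]) (ZT.leaf [Int.negSucc 1]))) (ZT.node 6968 (ZT.leaf []) (ZT.node 6969 (ZT.leaf [Int.ofNat 15, Int.ofNat 5, Int.negSucc 2, Int.ofNat 0, Int.ofNat 0, Int.ofNat 1, Int.ofNat 0, Int.ofNat 0, Int.ofNat 0, Int.ofNat 0, Int.ofNat 0, Int.ofNat 0, Int.ofNat 0, Int.ofNat 0, Int.ofNat 0, Int.ofNat 0, Int.ofNat 0, Int.ofNat 0, Int.ofNat 1]) (ZT.leaf [Int.ofNat 173, Int.ofNat 316, Int.negSucc 67, Int.ofNat 66, Int.ofNat 2, Int.ofNat 68, Int.ofNat 6, Int.negSucc 13, Int.negSucc 1, Int.ofNat 0, Int.ofNat 0, Int.ofNat 0, Int.ofNat 1, Int.ofNat 4,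 Int.negSucc 101, Int.negSucc 3, Int.ofNat 2, Int.ofNat 0, Int.ofNat 60])))) (ZT.node 6973 (ZT.node 6971 (ZT.leaf [Int.ofNat 1]) (ZT.node 6972 (ZT.leaf []) (ZT.leaf [Int.negSucc 41, Int.negSucc 40, Int.ofNat 3, Int.negSucc 3, Int.ofNat 0, Int.negSucc 2, Int.negSucc 1, Int.negSucc 1, Int.ofNat 1, Int.ofNat 0, Int.ofNat 0, Int.ofNat 0, Int.negSucc 1, Int.ofNat 0, Int.ofNat 15, Int.ofNat 0, Int.ofNat 0, Int.ofNat 0, Int.negSucc 4]))) (ZT.node 6974 (ZT.leaf []) (ZT.node 6975 (ZT.leaf []) (ZT.leaf []))))))))))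

noncomputable def labT_16 : ZT := (ZT.node 8372 (ZT.node 8282 (ZT.node 8237 (ZT.node 8214 (ZT.node 8203 (ZT.node 8197 (ZT.node 8194 (ZT.node 8193 (ZT.leaf []) (ZT.leaf [])) (ZT.node 8195 (ZT.leaf [Int.negSucc 3325, Int.negSucc 2325, Int.ofNat 880, Int.negSucc 439, Int.negSucc 11, Int.negSucc 623, Int.negSucc 59, Int.ofNat 157, Int.ofNat 8, Int.ofNat 0, Int.ofNat 0, Int.ofNat 0, Int.ofNat 1, Int.negSucc 14, Int.ofNat 715, Int.ofNat 21, Int.negSucc 85, Int.ofNat 0, Int.negSucc 530]) (ZT.node 8196 (ZT.leaf []) (ZT.leaf [Int.ofNat 4037, Int.ofNat 5143, Int.negSucc 1108, Int.ofNat 945, Int.ofNat 27, Int.ofNat 1123, Int.ofNat 151, Int.negSucc 381, Int.negSucc 61, Int.negSucc 0, Int.ofNat 0, Int.ofNat 0, Int.negSucc 9, Int.ofNat 34, Int.negSucc 1601, Int.negSucc 52, Int.ofNat 164, Int.ofNat 0, Int.ofNat 978])))) (ZT.node 8200 (ZT.node 8198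 (ZT.leaf []) (ZT.node 8199 (ZT.leaf []) (ZT.leaf []))) (ZT.node 8201 (ZT.leaf []) (ZT.node 8202 (ZT.leaf []) (ZT.leaf []))))) (ZT.node 8208 (ZT.node 8205 (ZT.node 8204 (ZT.leaf []) (ZT.leaf [])) (ZT.node 8206 (ZT.leaf []) (ZT.node 8207 (ZT.leaf [Int.ofNat 1]) (ZT.leaf [])))) (ZT.node 8211 (ZT.node 8209 (ZT.leaf []) (ZT.node 8210 (ZT.leaf []) (ZT.leaf [Int.negSucc 76, Int.negSucc 6, Int.ofNat 19, Int.negSucc 0, Int.ofNat 0, Int.negSucc 6, Int.ofNat 0, Int.ofNat 0, Int.negSucc 0, Int.ofNat 0, Int.ofNat 0, Int.ofNat 0, Int.ofNat 0, Int.ofNat 0, Int.negSucc 0, Int.ofNat 0, Int.ofNat 0, Int.ofNat 0, Int.negSucc 4]))) (ZT.node 8212 (ZT.leaf [Int.negSucc 710, Int.negSucc 2816, Int.ofNat 229, Int.negSucc 504, Int.negSucc 14, Int.negSucc 498, Int.negSucc 90, Int.ofNat 225, Int.ofNat 54, Int.ofNat 1, Int.ofNat 0, Int.ofNat 0, Int.ofNat 9, Int.negSucc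 18, Int.ofNat 887, Int.ofNat 32, Int.negSucc 77, Int.ofNat 0, Int.negSucc 446]) (ZT.node 8213 (ZT.leaf []) (ZT.leaf [Int.negSucc 8073, Int.negSucc 5318, Int.ofNat 1995, Int.negSucc 926, Int.negSucc 22, Int.negSucc 1395, Int.negSucc 172, Int.ofNat 407, Int.ofNat 49, Int.ofNat 1, Int.ofNat 0, Int.ofNat 0, Int.negSucc 5, Int.negSucc 30, Int.ofNat 1778, Int.ofNat 34, Int.negSucc 221, Int.ofNat 0, Int.negSucc 1225])))))) (ZT.node 8225 (ZT.node 8219 (ZT.node 8216 (ZT.node 8215 (ZT.leaf []) (ZT.leaf [])) (ZT.node 8217 (ZT.leaf [Int.negSucc 3903, Int.negSucc 1274, Int.ofNat 920, Int.negSucc 203, Int.negSucc 3, Int.negSucc 475, Int.negSucc 51, Int.ofNat 102, Int.negSucc 2, Int.ofNat 0, Int.ofNat 0, Int.ofNat 0, Int.negSucc 3, Int.negSucc 2, Int.ofNat 461, Int.negSucc 0, Int.negSucc 78, Int.ofNat 0, Int.negSucc 408]) (ZT.node 8218 (ZT.leaf [Int.ofNat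 2291, Int.ofNat 854, Int.negSucc 589, Int.ofNat 164, Int.ofNat 4, Int.ofNat 316, Int.ofNat 24, Int.negSucc 59, Int.ofNat 5, Int.ofNat 0, Int.ofNat 0, Int.ofNat 0, Int.ofNat 2, Int.ofNat 3, Int.negSucc 296, Int.negSucc 3, Int.ofNat 43, Int.ofNat 0, Int.ofNat 264]) (ZT.leaf [])))) (ZT.node 8222 (ZT.node 8220 (ZT.leaf []) (ZT.node 8221 (ZT.leaf []) (ZT.leaf [Int.ofNat 1]))) (ZT.node 8223 (ZT.leaf []) (ZT.node 8224 (ZT.leaf []) (ZT.leaf []))))) (ZT.node 8231 (ZT.node 8228 (ZT.node 8226 (ZT.leaf [Int.ofNat 5130, Int.ofNat 3741, Int.negSucc 1242, Int.ofNat 637, Int.ofNat 17, Int.ofNat 917, Int.ofNat 127, Int.negSucc 288, Int.negSucc 43, Int.negSucc 0, Int.ofNat 0, Int.ofNat 0, Int.ofNat 4, Int.ofNat 21, Int.negSucc 1246, Int.negSucc 24, Int.ofNat 150, Int.ofNat 0, Int.ofNat 820]) (ZT.node 8227 (ZT.leaf []) (ZT.leaf []))) (ZT.node 8229 (ZT.leaf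 []) (ZT.node 8230 (ZT.leaf []) (ZT.leaf [])))) (ZT.node 8234 (ZT.node 8232 (ZT.leaf []) (ZT.node 8233 (ZT.leaf []) (ZT.leaf [Int.negSucc 0]))) (ZT.node 8235 (ZT.leaf []) (ZT.node 8236 (ZT.leaf []) (ZT.leaf [Int.negSucc 24, Int.ofNat 0, Int.ofNat 5, Int.ofNat 1, Int.ofNat 0, Int.ofNat 1, Int.ofNat 0, Int.negSucc 1, Int.negSucc 0, Int.ofNat 0, Int.ofNat 0, Int.ofNat 0, Int.ofNat 0, Int.negSucc 1, Int.negSucc 1, Int.ofNat 0, Int.ofNat 1, Int.ofNat 0, Int.ofNat 0]))))))) (ZT.node 8259 (ZT.node 8248 (ZT.node 8242 (ZT.node 8239 (ZT.node 8238 (ZT.leaf []) (ZT.leaf [])) (ZT.node 8240 (ZT.leaf []) (ZT.node 8241 (ZT.leaf []) (ZT.leaf [])))) (ZT.node 8245 (ZT.node 8243 (ZT.leaf []) (ZT.node 8244 (ZT.leaf []) (ZT.leaf [Int.negSucc 2290, Int.negSucc 853, Int.ofNat 590, Int.negSucc 163, Int.negSucc 3, Int.negSucc 315, Int.negSucc 23, Int.ofNat 60,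 Int.negSucc 4, Int.ofNat 0, Int.ofNat 0, Int.ofNat 0, Int.negSucc 1, Int.negSucc 2, Int.ofNat 297, Int.ofNat 4, Int.negSucc 42, Int.ofNat 0, Int.negSucc 263]))) (ZT.node 8246 (ZT.leaf []) (ZT.node 8247 (ZT.leaf []) (ZT.leaf [Int.negSucc 1048, Int.negSucc 434, Int.ofNat 231, Int.negSucc 62, Int.negSucc 1, Int.negSucc 118, Int.negSucc 16, Int.ofNat 31, Int.ofNat 6, Int.ofNat 0, Int.ofNat 0, Int.ofNat 0, Int.negSucc 3, Int.negSucc 0, Int.ofNat 155, Int.ofNat 0, Int.negSucc 19, Int.ofNat 0, Int.negSucc 113]))))) (ZT.node 8253 (ZT.node 8250 (ZT.node 8249 (ZT.leaf []) (ZT.leaf [Int.ofNat 3228, Int.ofNat 1016, Int.negSucc 750, Int.ofNat 156, Int.ofNat 3, Int.ofNat 373, Int.ofNat 42, Int.negSucc 77, Int.ofNat 1, Int.ofNat 0, Int.ofNat 0, Int.ofNat 0, Int.ofNat 6, Int.ofNat 2, Int.negSucc 396, Int.ofNat 3, Int.ofNat 63, Int.ofNat 0, Int.ofNat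 329])) (ZT.node 8251 (ZT.leaf []) (ZT.node 8252 (ZT.leaf []) (ZT.leaf [])))) (ZT.node 8256 (ZT.node 8254 (ZT.leaf []) (ZT.node 8255 (ZT.leaf []) (ZT.leaf []))) (ZT.node 8257 (ZT.leaf []) (ZT.node 8258 (ZT.leaf []) (ZT.leaf [])))))) (ZT.node 8270 (ZT.node 8264 (ZT.node 8261 (ZT.node 8260 (ZT.leaf [Int.ofNat 7611, Int.ofNat 4169, Int.negSucc 1866, Int.ofNat 719, Int.ofNat 17, Int.ofNat 1170, Int.ofNat 118, Int.negSucc 290, Int.negSucc 21, Int.negSucc 0, Int.ofNat 0, Int.ofNat 0, Int.ofNat 11, Int.ofNat 23, Int.negSucc 1383, Int.negSucc 20, Int.ofNat 199, Int.ofNat 0, Int.ofNat 1029]) (ZT.leaf [])) (ZT.node 8262 (ZT.leaf [Int.negSucc 1666, Int.negSucc 2939, Int.ofNat 368, Int.negSucc 479, Int.negSucc 18, Int.negSucc 519, Int.negSucc 153, Int.ofNat 288, Int.ofNat 90, Int.ofNat 1, Int.ofNat 0, Int.ofNat 0, Int.ofNat 0, Int.negSucc 1, Int.ofNat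 1143, Int.ofNat 21, Int.negSucc 105, Int.ofNat 0, Int.negSucc 522]) (ZT.node 8263 (ZT.leaf []) (ZT.leaf [])))) (ZT.node 8267 (ZT.node 8265 (ZT.leaf []) (ZT.node 8266 (ZT.leaf []) (ZT.leaf []))) (ZT.node 8268 (ZT.leaf []) (ZT.node 8269 (ZT.leaf []) (ZT.leaf []))))) (ZT.node 8276 (ZT.node 8273 (ZT.node 8271 (ZT.leaf []) (ZT.node 8272 (ZT.leaf []) (ZT.leaf []))) (ZT.node 8274 (ZT.leaf []) (ZT.node 8275 (ZT.leaf []) (ZT.leaf [])))) (ZT.node 8279 (ZT.node 8277 (ZT.leaf []) (ZT.node 8278 (ZT.leaf [Int.ofNat 1]) (ZT.leaf []))) (ZT.node 8280 (ZT.leaf []) (ZT.node 8281 (ZT.leaf []) (ZT.leaf [])))))))) (ZT.node 8327 (ZT.node 8304 (ZT.node 8293 (ZT.node 8287 (ZT.node 8284 (ZT.node 8283 (ZT.leaf []) (ZT.leaf [])) (ZT.node 8285 (ZT.leaf [Int.ofNat 102, Int.ofNat 7, Int.negSucc 23, Int.ofNat 0, Int.ofNat 0, Int.ofNat 6, Int.ofNat 0, Int.ofNat 2,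 Int.ofNat 2, Int.ofNat 0, Int.ofNat 0, Int.ofNat 0, Int.ofNat 0, Int.ofNat 2, Int.ofNat 3, Int.ofNat 0, Int.negSucc 0, Int.ofNat 0, Int.ofNat 5]) (ZT.node 8286 (ZT.leaf []) (ZT.leaf [])))) (ZT.node 8290 (ZT.node 8288 (ZT.leaf []) (ZT.node 8289 (ZT.leaf []) (ZT.leaf []))) (ZT.node 8291 (ZT.leaf []) (ZT.node 8292 (ZT.leaf []) (ZT.leaf []))))) (ZT.node 8298 (ZT.node 8295 (ZT.node 8294 (ZT.leaf []) (ZT.leaf [])) (ZT.node 8296 (ZT.leaf []) (ZT.node 8297 (ZT.leaf [Int.ofNat 3139, Int.ofNat 1993, Int.negSucc 750, Int.ofNat 333, Int.ofNat 7, Int.ofNat 523, Int.ofNat 76, Int.negSucc 164, Int.negSucc 23, Int.ofNat 0, Int.ofNat 0, Int.ofNat 0, Int.ofNat 4, Int.ofNat 10, Int.negSucc 679, Int.negSucc 10, Int.ofNat 79, Int.ofNat 0, Int.ofNat 464]) (ZT.leaf [])))) (ZT.node 8301 (ZT.node 8299 (ZT.leaf []) (ZT.node 8300 (ZT.leaf []) (ZT.leaf [Int.negSucc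 2792, Int.negSucc 965, Int.ofNat 714, Int.negSucc 186, Int.negSucc 3, Int.negSucc 363, Int.negSucc 13, Int.ofNat 47, Int.negSucc 14, Int.ofNat 0, Int.ofNat 0, Int.ofNat 0, Int.negSucc 4, Int.negSucc 5, Int.ofNat 287, Int.ofNat 7, Int.negSucc 45, Int.ofNat 0, Int.negSucc 298]))) (ZT.node 8302 (ZT.leaf []) (ZT.node 8303 (ZT.leaf []) (ZT.leaf [])))))) (ZT.node 8315 (ZT.node 8309 (ZT.node 8306 (ZT.node 8305 (ZT.leaf [Int.negSucc 194, Int.negSucc 414, Int.negSucc 0, Int.negSucc 42, Int.negSucc 0, Int.negSucc 43, Int.negSucc 29, Int.ofNat 47, Int.ofNat 19, Int.ofNat 0, Int.ofNat 0, Int.ofNat 0, Int.negSucc 1, Int.ofNat 0, Int.ofNat 149, Int.ofNat 2, Int.negSucc 6, Int.ofNat 0, Int.negSucc 57]) (ZT.leaf [Int.negSucc 2853, Int.negSucc 839, Int.ofNat 689, Int.negSucc 140, Int.negSucc 1, Int.negSucc 356, Int.negSucc 34, Int.ofNat 71, Int.negSucc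 8, Int.ofNat 0, Int.ofNat 0, Int.ofNat 0, Int.ofNat 0, Int.negSucc 1, Int.ofNat 306, Int.negSucc 0, Int.negSucc 58, Int.ofNat 0, Int.negSucc 294])) (ZT.node 8307 (ZT.leaf []) (ZT.node 8308 (ZT.leaf []) (ZT.leaf [])))) (ZT.node 8312 (ZT.node 8310 (ZT.leaf []) (ZT.node 8311 (ZT.leaf [Int.ofNat 676, Int.ofNat 259, Int.negSucc 168, Int.ofNat 48, Int.ofNat 1, Int.ofNat 103, Int.ofNat 10, Int.negSucc 23, Int.ofNat 2, Int.ofNat 0, Int.ofNat 0, Int.ofNat 0, Int.negSucc 1, Int.ofNat 1, Int.negSucc 63, Int.negSucc 1, Int.ofNat 16, Int.ofNat 0, Int.ofNat 80]) (ZT.leaf [Int.ofNat 2292, Int.ofNat 854, Int.negSucc 589, Int.ofNat 164, Int.ofNat 4, Int.ofNat 316, Int.ofNat 24, Int.negSucc 59, Int.ofNat 5, Int.ofNat 0, Int.ofNat 0, Int.ofNat 0, Int.ofNat 2, Int.ofNat 3, Int.negSucc 296, Int.negSucc 3, Int.ofNat 43, Int.ofNat 0, Int.ofNat 264]))) (ZT.node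 8313 (ZT.leaf [Int.ofNat 396, Int.ofNat 93, Int.negSucc 95, Int.ofNat 18, Int.ofNat 0, Int.ofNat 35, Int.negSucc 9, Int.ofNat 14, Int.ofNat 9, Int.ofNat 0, Int.ofNat 0, Int.ofNat 0, Int.ofNat 3, Int.ofNat 3, Int.ofNat 17, Int.negSucc 2, Int.ofNat 0, Int.ofNat 0, Int.ofNat 24]) (ZT.node 8314 (ZT.leaf []) (ZT.leaf []))))) (ZT.node 8321 (ZT.node 8318 (ZT.node 8316 (ZT.leaf []) (ZT.node 8317 (ZT.leaf []) (ZT.leaf []))) (ZT.node 8319 (ZT.leaf []) (ZT.node 8320 (ZT.leaf []) (ZT.leaf [])))) (ZT.node 8324 (ZT.node 8322 (ZT.leaf []) (ZT.node 8323 (ZT.leaf []) (ZT.leaf []))) (ZT.node 8325 (ZT.leaf []) (ZT.node 8326 (ZT.leaf [Int.negSucc 2557, Int.negSucc 829, Int.ofNat 588, Int.negSucc 119, Int.negSucc 0, Int.negSucc 282, Int.negSucc 20, Int.ofNat 48, Int.negSucc 0, Int.ofNat 0, Int.ofNat 0, Int.ofNat 0, Int.negSucc 8, Int.negSucc 1, Int.ofNat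 286, Int.negSucc 1, Int.negSucc 54, Int.ofNat 0, Int.negSucc 256]) (ZT.leaf []))))))) (ZT.node 8349 (ZT.node 8338 (ZT.node 8332 (ZT.node 8329 (ZT.node 8328 (ZT.leaf []) (ZT.leaf [])) (ZT.node 8330 (ZT.leaf []) (ZT.node 8331 (ZT.leaf [Int.negSucc 2575, Int.negSucc 818, Int.ofNat 596, Int.negSucc 119, Int.negSucc 0, Int.negSucc 283, Int.negSucc 20, Int.ofNat 48, Int.negSucc 1, Int.ofNat 1, Int.ofNat 0, Int.ofNat 0, Int.negSucc 8, Int.negSucc 1, Int.ofNat 279, Int.negSucc 1, Int.negSucc 52, Int.ofNat 0, Int.negSucc 255]) (ZT.leaf [Int.negSucc 5051, Int.negSucc 3338, Int.ofNat 1279, Int.negSucc 598, Int.negSucc 15, Int.negSucc 886, Int.negSucc 96, Int.ofNat 243, Int.ofNat 23, Int.ofNat 1, Int.ofNat 0, Int.ofNat 0, Int.negSucc 1, Int.negSucc 20, Int.ofNat 1098, Int.ofNat 23, Int.negSucc 143, Int.ofNat 0, Int.negSucc 771])))) (ZT.node 8335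 (ZT.node 8333 (ZT.leaf []) (ZT.node 8334 (ZT.leaf [Int.ofNat 1666, Int.ofNat 2940, Int.negSucc 367, Int.ofNat 480, Int.ofNat 19, Int.ofNat 520, Int.ofNat 154, Int.negSucc 287, Int.negSucc 89, Int.negSucc 0, Int.ofNat 0, Int.ofNat 0, Int.ofNat 0, Int.ofNat 2, Int.negSucc 1142, Int.negSucc 20, Int.ofNat 106, Int.ofNat 0, Int.ofNat 523]) (ZT.leaf [Int.ofNat 1]))) (ZT.node 8336 (ZT.leaf []) (ZT.node 8337 (ZT.leaf []) (ZT.leaf [Int.ofNat 1]))))) (ZT.node 8343 (ZT.node 8340 (ZT.node 8339 (ZT.leaf []) (ZT.leaf [])) (ZT.node 8341 (ZT.leaf []) (ZT.node 8342 (ZT.leaf []) (ZT.leaf [])))) (ZT.node 8346 (ZT.node 8344 (ZT.leaf []) (ZT.node 8345 (ZT.leaf []) (ZT.leaf []))) (ZT.node 8347 (ZT.leaf []) (ZT.node 8348 (ZT.leaf []) (ZT.leaf [])))))) (ZT.node 8360 (ZT.node 8354 (ZT.node 8351 (ZT.node 8350 (ZT.leaf []) (ZT.leaf [])) (ZT.node 8352 (ZT.leaf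 []) (ZT.node 8353 (ZT.leaf []) (ZT.leaf [])))) (ZT.node 8357 (ZT.node 8355 (ZT.leaf []) (ZT.node 8356 (ZT.leaf []) (ZT.leaf [Int.negSucc 1767, Int.negSucc 1995, Int.ofNat 471, Int.negSucc 358, Int.negSucc 9, Int.negSucc 443, Int.negSucc 60, Int.ofNat 163, Int.ofNat 31, Int.ofNat 0, Int.ofNat 0, Int.ofNat 0, Int.ofNat 4, Int.negSucc 11, Int.ofNat 660, Int.ofNat 16, Int.negSucc 80, Int.ofNat 0, Int.negSucc 394]))) (ZT.node 8358 (ZT.leaf []) (ZT.node 8359 (ZT.leaf []) (ZT.leaf []))))) (ZT.node 8366 (ZT.node 8363 (ZT.node 8361 (ZT.leaf []) (ZT.node 8362 (ZT.leaf []) (ZT.leaf []))) (ZT.node 8364 (ZT.leaf []) (ZT.node 8365 (ZT.leaf []) (ZT.leaf [])))) (ZT.node 8369 (ZT.node 8367 (ZT.leaf []) (ZT.node 8368 (ZT.leaf []) (ZT.leaf []))) (ZT.node 8370 (ZT.leaf []) (ZT.node 8371 (ZT.leaf []) (ZT.leaf []))))))))) (ZT.node 8462 (ZT.node 8417 (ZT.node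 8394 (ZT.node 8383 (ZT.node 8377 (ZT.node 8374 (ZT.node 8373 (ZT.leaf []) (ZT.leaf [Int.negSucc 1639, Int.negSucc 190, Int.ofNat 330, Int.negSucc 3, Int.ofNat 3, Int.negSucc 99, Int.negSucc 32, Int.ofNat 33, Int.ofNat 6, Int.ofNat 0, Int.ofNat 0, Int.ofNat 0, Int.negSucc 6, Int.ofNat 6, Int.ofNat 88, Int.negSucc 6, Int.negSucc 13, Int.ofNat 0, Int.negSucc 107])) (ZT.node 8375 (ZT.leaf []) (ZT.node 8376 (ZT.leaf []) (ZT.leaf [])))) (ZT.node 8380 (ZT.node 8378 (ZT.leaf []) (ZT.node 8379 (ZT.leaf []) (ZT.leaf []))) (ZT.node 8381 (ZT.leaf []) (ZT.node 8382 (ZT.leaf []) (ZT.leaf []))))) (ZT.node 8388 (ZT.node 8385 (ZT.node 8384 (ZT.leaf []) (ZT.leaf [])) (ZT.node 8386 (ZT.leaf []) (ZT.node 8387 (ZT.leaf []) (ZT.leaf [])))) (ZT.node 8391 (ZT.node 8389 (ZT.leaf []) (ZT.node 8390 (ZT.leaf []) (ZT.leaf []))) (ZT.node 8392 (ZT.leaf [Int.negSucc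 1342, Int.negSucc 661, Int.ofNat 330, Int.negSucc 115, Int.negSucc 2, Int.negSucc 205, Int.negSucc 20, Int.ofNat 48, Int.ofNat 1, Int.ofNat 0, Int.ofNat 0, Int.ofNat 0, Int.negSucc 0, Int.negSucc 2, Int.ofNat 231, Int.ofNat 4, Int.negSucc 26, Int.ofNat 0, Int.negSucc 172]) (ZT.node 8393 (ZT.leaf []) (ZT.leaf [])))))) (ZT.node 8405 (ZT.node 8399 (ZT.node 8396 (ZT.node 8395 (ZT.leaf []) (ZT.leaf [])) (ZT.node 8397 (ZT.leaf []) (ZT.node 8398 (ZT.leaf [Int.negSucc 983, Int.negSucc 557, Int.ofNat 213, Int.negSucc 82, Int.negSucc 2, Int.negSucc 130, Int.negSucc 38, Int.ofNat 68, Int.ofNat 18, Int.ofNat 0, Int.ofNat 0, Int.ofNat 0, Int.ofNat 0, Int.ofNat 0, Int.ofNat 223, Int.ofNat 0, Int.negSucc 31, Int.ofNat 0, Int.negSucc 132]) (ZT.leaf [])))) (ZT.node 8402 (ZT.node 8400 (ZT.leaf []) (ZT.node 8401 (ZT.leaf []) (ZT.leaf []))) (ZT.node 8403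 (ZT.leaf []) (ZT.node 8404 (ZT.leaf []) (ZT.leaf []))))) (ZT.node 8411 (ZT.node 8408 (ZT.node 8406 (ZT.leaf []) (ZT.node 8407 (ZT.leaf []) (ZT.leaf []))) (ZT.node 8409 (ZT.leaf []) (ZT.node 8410 (ZT.leaf [Int.ofNat 2561, Int.ofNat 1147, Int.negSucc 614, Int.ofNat 195, Int.ofNat 3, Int.ofNat 336, Int.ofNat 29, Int.negSucc 68, Int.ofNat 1, Int.ofNat 0, Int.ofNat 0, Int.ofNat 0, Int.ofNat 7, Int.ofNat 7, Int.negSucc 349, Int.negSucc 7, Int.ofNat 49, Int.ofNat 0, Int.ofNat 297]) (ZT.leaf [])))) (ZT.node 8414 (ZT.node 8412 (ZT.leaf []) (ZT.node 8413 (ZT.leaf []) (ZT.leaf []))) (ZT.node 8415 (ZT.leaf []) (ZT.node 8416 (ZT.leaf []) (ZT.leaf []))))))) (ZT.node 8439 (ZT.node 8428 (ZT.node 8422 (ZT.node 8419 (ZT.node 8418 (ZT.leaf []) (ZT.leaf [Int.ofNat 2855, Int.ofNat 840, Int.negSucc 688, Int.ofNat 141, Int.ofNat 2, Int.ofNat 357, Int.ofNat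 35, Int.negSucc 70, Int.ofNat 9, Int.ofNat 0, Int.ofNat 0, Int.ofNat 0, Int.ofNat 0, Int.ofNat 2, Int.negSucc 305, Int.ofNat 1, Int.ofNat 59, Int.ofNat 0, Int.ofNat 295])) (ZT.node 8420 (ZT.leaf [Int.ofNat 1]) (ZT.node 8421 (ZT.leaf []) (ZT.leaf [])))) (ZT.node 8425 (ZT.node 8423 (ZT.leaf []) (ZT.node 8424 (ZT.leaf []) (ZT.leaf []))) (ZT.node 8426 (ZT.leaf []) (ZT.node 8427 (ZT.leaf []) (ZT.leaf []))))) (ZT.node 8433 (ZT.node 8430 (ZT.node 8429 (ZT.leaf []) (ZT.leaf [])) (ZT.node 8431 (ZT.leaf []) (ZT.node 8432 (ZT.leaf []) (ZT.leaf [])))) (ZT.node 8436 (ZT.node 8434 (ZT.leaf []) (ZT.node 8435 (ZT.leaf []) (ZT.leaf []))) (ZT.node 8437 (ZT.leaf []) (ZT.node 8438 (ZT.leaf []) (ZT.leaf [])))))) (ZT.node 8450 (ZT.node 8444 (ZT.node 8441 (ZT.node 8440 (ZT.leaf []) (ZT.leaf [])) (ZT.node 8442 (ZT.leaf []) (ZT.node 8443 (ZT.leaf []) (ZT.leaf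 [])))) (ZT.node 8447 (ZT.node 8445 (ZT.leaf []) (ZT.node 8446 (ZT.leaf []) (ZT.leaf []))) (ZT.node 8448 (ZT.leaf []) (ZT.node 8449 (ZT.leaf []) (ZT.leaf []))))) (ZT.node 8456 (ZT.node 8453 (ZT.node 8451 (ZT.leaf []) (ZT.node 8452 (ZT.leaf []) (ZT.leaf []))) (ZT.node 8454 (ZT.leaf []) (ZT.node 8455 (ZT.leaf [Int.negSucc 1601, Int.negSucc 652, Int.ofNat 426, Int.negSucc 127, Int.ofNat 3, Int.negSucc 240, Int.ofNat 0, Int.ofNat 21, Int.negSucc 18, Int.ofNat 0, Int.ofNat 0, Int.ofNat 0, Int.negSucc 0, Int.negSucc 12, Int.ofNat 117, Int.ofNat 9, Int.negSucc 12, Int.ofNat 0, Int.negSucc 181]) (ZT.leaf [])))) (ZT.node 8459 (ZT.node 8457 (ZT.leaf []) (ZT.node 8458 (ZT.leaf []) (ZT.leaf [Int.ofNat 2494, Int.ofNat 860, Int.negSucc 605, Int.ofNat 142, Int.ofNat 2, Int.ofNat 304, Int.ofNat 15, Int.negSucc 54, Int.ofNat 1, Int.ofNat 0, Int.ofNat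 0, Int.ofNat 0, Int.ofNat 7, Int.ofNat 1, Int.negSucc 301, Int.ofNat 2, Int.ofNat 64, Int.ofNat 0, Int.ofNat 268]))) (ZT.node 8460 (ZT.leaf []) (ZT.node 8461 (ZT.leaf []) (ZT.leaf [])))))))) (ZT.node 8507 (ZT.node 8484 (ZT.node 8473 (ZT.node 8467 (ZT.node 8464 (ZT.node 8463 (ZT.leaf []) (ZT.leaf [])) (ZT.node 8465 (ZT.leaf [Int.negSucc 1894, Int.negSucc 629, Int.ofNat 423, Int.negSucc 86, Int.negSucc 0, Int.negSucc 213, Int.negSucc 29, Int.ofNat 49, Int.ofNat 3, Int.ofNat 0, Int.ofNat 0, Int.ofNat 0, Int.negSucc 6, Int.ofNat 0, Int.ofNat 246, Int.negSucc 0, Int.negSucc 40, Int.ofNat 0, Int.negSucc 192]) (ZT.node 8466 (ZT.leaf [Int.negSucc 342, Int.negSucc 1232, Int.ofNat 124, Int.negSucc 218, Int.negSucc 2, Int.negSucc 221, Int.negSucc 27, Int.ofNat 94, Int.ofNat 23, Int.ofNat 0, Int.ofNat 0, Int.ofNat 0, Int.ofNat 2, Int.negSucc 8,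 Int.ofNat 368, Int.ofNat 13, Int.negSucc 40, Int.ofNat 0, Int.negSucc 198]) (ZT.leaf [Int.negSucc 0])))) (ZT.node 8470 (ZT.node 8468 (ZT.leaf []) (ZT.node 8469 (ZT.leaf []) (ZT.leaf []))) (ZT.node 8471 (ZT.leaf []) (ZT.node 8472 (ZT.leaf []) (ZT.leaf []))))) (ZT.node 8478 (ZT.node 8475 (ZT.node 8474 (ZT.leaf [Int.negSucc 0]) (ZT.leaf [])) (ZT.node 8476 (ZT.leaf []) (ZT.node 8477 (ZT.leaf []) (ZT.leaf [])))) (ZT.node 8481 (ZT.node 8479 (ZT.leaf []) (ZT.node 8480 (ZT.leaf []) (ZT.leaf []))) (ZT.node 8482 (ZT.leaf []) (ZT.node 8483 (ZT.leaf []) (ZT.leaf [])))))) (ZT.node 8495 (ZT.node 8489 (ZT.node 8486 (ZT.node 8485 (ZT.leaf [Int.ofNat 4, Int.ofNat 2, Int.ofNat 0, Int.ofNat 0, Int.ofNat 0, Int.negSucc 0]) (ZT.leaf [])) (ZT.node 8487 (ZT.leaf []) (ZT.node 8488 (ZT.leaf []) (ZT.leaf [])))) (ZT.node 8492 (ZT.node 8490 (ZT.leaf []) (ZT.node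 8491 (ZT.leaf []) (ZT.leaf []))) (ZT.node 8493 (ZT.leaf []) (ZT.node 8494 (ZT.leaf []) (ZT.leaf [Int.ofNat 609, Int.ofNat 225, Int.negSucc 142, Int.ofNat 35, Int.ofNat 0, Int.ofNat 75, Int.ofNat 8, Int.negSucc 9, Int.negSucc 0, Int.ofNat 0, Int.ofNat 0, Int.ofNat 0, Int.ofNat 4, Int.ofNat 1, Int.negSucc 88, Int.ofNat 2, Int.ofNat 12, Int.ofNat 0, Int.ofNat 67]))))) (ZT.node 8501 (ZT.node 8498 (ZT.node 8496 (ZT.leaf []) (ZT.node 8497 (ZT.leaf []) (ZT.leaf []))) (ZT.node 8499 (ZT.leaf []) (ZT.node 8500 (ZT.leaf []) (ZT.leaf [])))) (ZT.node 8504 (ZT.node 8502 (ZT.leaf [Int.negSucc 3429, Int.negSucc 1353, Int.ofNat 821, Int.negSucc 237, Int.negSucc 3, Int.negSucc 449, Int.negSucc 43, Int.ofNat 89, Int.ofNat 0, Int.ofNat 0, Int.ofNat 0, Int.ofNat 0, Int.negSucc 9, Int.negSucc 2, Int.ofNat 416, Int.ofNat 3, Int.negSucc 49, Int.ofNat 0, Int.negSucc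 377]) (ZT.node 8503 (ZT.leaf []) (ZT.leaf []))) (ZT.node 8505 (ZT.leaf []) (ZT.node 8506 (ZT.leaf []) (ZT.leaf []))))))) (ZT.node 8529 (ZT.node 8518 (ZT.node 8512 (ZT.node 8509 (ZT.node 8508 (ZT.leaf []) (ZT.leaf [Int.negSucc 675, Int.negSucc 194, Int.ofNat 125, Int.negSucc 12, Int.ofNat 1, Int.negSucc 53, Int.negSucc 13, Int.ofNat 3, Int.ofNat 1, Int.ofNat 0, Int.ofNat 0, Int.ofNat 0, Int.negSucc 5, Int.negSucc 1, Int.ofNat 73, Int.negSucc 1, Int.negSucc 2, Int.ofNat 0, Int.negSucc 55])) (ZT.node 8510 (ZT.leaf []) (ZT.node 8511 (ZT.leaf []) (ZT.leaf [])))) (ZT.node 8515 (ZT.node 8513 (ZT.leaf []) (ZT.node 8514 (ZT.leaf []) (ZT.leaf []))) (ZT.node 8516 (ZT.leaf []) (ZT.node 8517 (ZT.leaf []) (ZT.leaf []))))) (ZT.node 8523 (ZT.node 8520 (ZT.node 8519 (ZT.leaf []) (ZT.leaf [])) (ZT.node 8521 (ZT.leaf []) (ZT.node 8522 (ZT.leaf []) (ZT.leaf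 [])))) (ZT.node 8526 (ZT.node 8524 (ZT.leaf []) (ZT.node 8525 (ZT.leaf []) (ZT.leaf []))) (ZT.node 8527 (ZT.leaf []) (ZT.node 8528 (ZT.leaf []) (ZT.leaf [])))))) (ZT.node 8540 (ZT.node 8534 (ZT.node 8531 (ZT.node 8530 (ZT.leaf []) (ZT.leaf [])) (ZT.node 8532 (ZT.leaf []) (ZT.node 8533 (ZT.leaf []) (ZT.leaf [])))) (ZT.node 8537 (ZT.node 8535 (ZT.leaf []) (ZT.node 8536 (ZT.leaf [Int.ofNat 608, Int.ofNat 225, Int.negSucc 142, Int.ofNat 35, Int.ofNat 0, Int.ofNat 75, Int.ofNat 8, Int.negSucc 9, Int.negSucc 0, Int.ofNat 0, Int.ofNat 0, Int.ofNat 0, Int.ofNat 4, Int.ofNat 1, Int.negSucc 88, Int.ofNat 2, Int.ofNat 12, Int.ofNat 0, Int.ofNat 67]) (ZT.leaf []))) (ZT.node 8538 (ZT.leaf []) (ZT.node 8539 (ZT.leaf []) (ZT.leaf []))))) (ZT.node 8546 (ZT.node 8543 (ZT.node 8541 (ZT.leaf [Int.ofNat 17, Int.negSucc 10, Int.negSucc 7, Int.ofNat 0,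 Int.ofNat 0, Int.ofNat 1, Int.ofNat 0, Int.ofNat 0, Int.ofNat 1, Int.negSucc 0, Int.ofNat 0, Int.ofNat 0, Int.ofNat 0, Int.ofNat 0, Int.ofNat 7, Int.ofNat 0, Int.negSucc 1, Int.ofNat 0, Int.negSucc 0]) (ZT.node 8542 (ZT.leaf []) (ZT.leaf []))) (ZT.node 8544 (ZT.leaf []) (ZT.node 8545 (ZT.leaf []) (ZT.leaf [])))) (ZT.node 8549 (ZT.node 8547 (ZT.leaf []) (ZT.node 8548 (ZT.leaf []) (ZT.leaf []))) (ZT.node 8550 (ZT.leaf []) (ZT.node 8551 (ZT.leaf []) (ZT.leaf [Int.ofNat 1102, Int.negSucc 146, Int.negSucc 228, Int.negSucc 39, Int.negSucc 3, Int.ofNat 44, Int.ofNat 2, Int.ofNat 16, Int.ofNat 13, Int.ofNat 0, Int.ofNat 0, Int.ofNat 0, Int.ofNat 5, Int.negSucc 3, Int.ofNat 66, Int.ofNat 5, Int.negSucc 10, Int.ofNat 0, Int.ofNat 34]))))))))))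

noncomputable def labT_17 : ZT := (ZT.node 8732 (ZT.node 8642 (ZT.node 8597 (ZT.node 8574 (ZT.node 8563 (ZT.node 8557 (ZT.node 8554 (ZT.node 8553 (ZT.leaf []) (ZT.leaf [Int.negSucc 1104, Int.negSucc 689, Int.ofNat 201, Int.negSucc 82, Int.negSucc 1, Int.negSucc 127, Int.negSucc 47, Int.ofNat 76, Int.ofNat 24, Int.ofNat 0, Int.ofNat 0, Int.ofNat 0, Int.negSucc 3, Int.ofNat 0, Int.ofNat 264, Int.ofNat 0, Int.negSucc 34, Int.ofNat 0, Int.negSucc 143])) (ZT.node 8555 (ZT.leaf []) (ZT.node 8556 (ZT.leaf []) (ZT.leaf [])))) (ZT.node 8560 (ZT.node 8558 (ZT.leaf []) (ZT.node 8559 (ZT.leaf []) (ZT.leaf []))) (ZT.node 8561 (ZT.leaf []) (ZT.node 8562 (ZT.leaf []) (ZT.leaf []))))) (ZT.node 8568 (ZT.node 8565 (ZT.node 8564 (ZT.leaf [Int.negSucc 0]) (ZT.leaf [])) (ZT.node 8566 (ZT.leaf []) (ZT.node 8567 (ZT.leaf []) (ZT.leaf [])))) (ZT.node 8571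 (ZT.node 8569 (ZT.leaf [Int.ofNat 1105, Int.ofNat 690, Int.negSucc 200, Int.ofNat 83, Int.ofNat 2, Int.ofNat 128, Int.ofNat 48, Int.negSucc 75, Int.negSucc 23, Int.ofNat 0, Int.ofNat 0, Int.ofNat 0, Int.ofNat 4, Int.ofNat 0, Int.negSucc 263, Int.ofNat 0, Int.ofNat 35, Int.ofNat 0, Int.ofNat 144]) (ZT.node 8570 (ZT.leaf []) (ZT.leaf []))) (ZT.node 8572 (ZT.leaf []) (ZT.node 8573 (ZT.leaf []) (ZT.leaf [])))))) (ZT.node 8585 (ZT.node 8579 (ZT.node 8576 (ZT.node 8575 (ZT.leaf []) (ZT.leaf [])) (ZT.node 8577 (ZT.leaf []) (ZT.node 8578 (ZT.leaf []) (ZT.leaf [])))) (ZT.node 8582 (ZT.node 8580 (ZT.leaf []) (ZT.node 8581 (ZT.leaf []) (ZT.leaf []))) (ZT.node 8583 (ZT.leaf []) (ZT.node 8584 (ZT.leaf []) (ZT.leaf []))))) (ZT.node 8591 (ZT.node 8588 (ZT.node 8586 (ZT.leaf []) (ZT.node 8587 (ZT.leaf []) (ZT.leaf []))) (ZT.node 8589 (ZT.leaf [])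 (ZT.node 8590 (ZT.leaf []) (ZT.leaf [])))) (ZT.node 8594 (ZT.node 8592 (ZT.leaf []) (ZT.node 8593 (ZT.leaf []) (ZT.leaf []))) (ZT.node 8595 (ZT.leaf [Int.negSucc 608, Int.negSucc 224, Int.ofNat 143, Int.negSucc 34, Int.ofNat 0, Int.negSucc 74, Int.negSucc 7, Int.ofNat 10, Int.ofNat 1, Int.ofNat 0, Int.ofNat 0, Int.ofNat 0, Int.negSucc 3, Int.negSucc 0, Int.ofNat 89, Int.negSucc 1, Int.negSucc 11, Int.ofNat 0, Int.negSucc 66]) (ZT.node 8596 (ZT.leaf [Int.negSucc 607, Int.negSucc 224, Int.ofNat 143, Int.negSucc 34, Int.ofNat 0, Int.negSucc 74, Int.negSucc 7, Int.ofNat 10, Int.ofNat 1, Int.ofNat 0, Int.ofNat 0, Int.ofNat 0, Int.negSucc 3, Int.negSucc 0, Int.ofNat 89, Int.negSucc 1, Int.negSucc 11, Int.ofNat 0, Int.negSucc 66]) (ZT.leaf []))))))) (ZT.node 8619 (ZT.node 8608 (ZT.node 8602 (ZT.node 8599 (ZT.node 8598 (ZT.leaf []) (ZT.leaf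 [])) (ZT.node 8600 (ZT.leaf []) (ZT.node 8601 (ZT.leaf []) (ZT.leaf [])))) (ZT.node 8605 (ZT.node 8603 (ZT.leaf []) (ZT.node 8604 (ZT.leaf []) (ZT.leaf [Int.negSucc 109, Int.negSucc 100, Int.negSucc 8, Int.ofNat 6, Int.ofNat 1, Int.ofNat 0, Int.negSucc 4, Int.ofNat 4, Int.ofNat 5, Int.ofNat 0, Int.ofNat 0, Int.ofNat 0, Int.negSucc 2, Int.negSucc 0, Int.ofNat 52, Int.negSucc 0, Int.negSucc 5, Int.ofNat 0, Int.negSucc 9]))) (ZT.node 8606 (ZT.leaf []) (ZT.node 8607 (ZT.leaf []) (ZT.leaf []))))) (ZT.node 8613 (ZT.node 8610 (ZT.node 8609 (ZT.leaf []) (ZT.leaf [])) (ZT.node 8611 (ZT.leaf []) (ZT.node 8612 (ZT.leaf []) (ZT.leaf [])))) (ZT.node 8616 (ZT.node 8614 (ZT.leaf [Int.negSucc 1025, Int.negSucc 539, Int.ofNat 239, Int.negSucc 88, Int.negSucc 1, Int.negSucc 145, Int.negSucc 18, Int.ofNat 36, Int.ofNat 4, Int.ofNat 0, Int.ofNat 0, Int.ofNat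 0, Int.negSucc 2, Int.negSucc 2, Int.ofNat 171, Int.ofNat 3, Int.negSucc 17, Int.ofNat 0, Int.negSucc 129]) (ZT.node 8615 (ZT.leaf []) (ZT.leaf []))) (ZT.node 8617 (ZT.leaf []) (ZT.node 8618 (ZT.leaf [Int.ofNat 1027, Int.ofNat 540, Int.negSucc 238, Int.ofNat 89, Int.ofNat 2, Int.ofNat 146, Int.ofNat 19, Int.negSucc 35, Int.negSucc 3, Int.ofNat 0, Int.ofNat 0, Int.ofNat 0, Int.ofNat 3, Int.ofNat 3, Int.negSucc 170, Int.negSucc 2, Int.ofNat 18, Int.ofNat 0, Int.ofNat 130]) (ZT.leaf [])))))) (ZT.node 8630 (ZT.node 8624 (ZT.node 8621 (ZT.node 8620 (ZT.leaf []) (ZT.leaf [])) (ZT.node 8622 (ZT.leaf []) (ZT.node 8623 (ZT.leaf []) (ZT.leaf [])))) (ZT.node 8627 (ZT.node 8625 (ZT.leaf []) (ZT.node 8626 (ZT.leaf [Int.negSucc 2455, Int.negSucc 1127, Int.ofNat 587, Int.negSucc 189, Int.negSucc 2, Int.negSucc 322, Int.negSucc 28, Int.ofNat 68, Int.ofNat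 0, Int.ofNat 0, Int.ofNat 0, Int.ofNat 0, Int.negSucc 6, Int.negSucc 6, Int.ofNat 343, Int.ofNat 8, Int.negSucc 45, Int.ofNat 0, Int.negSucc 285]) (ZT.leaf []))) (ZT.node 8628 (ZT.leaf []) (ZT.node 8629 (ZT.leaf []) (ZT.leaf []))))) (ZT.node 8636 (ZT.node 8633 (ZT.node 8631 (ZT.leaf []) (ZT.node 8632 (ZT.leaf []) (ZT.leaf []))) (ZT.node 8634 (ZT.leaf []) (ZT.node 8635 (ZT.leaf []) (ZT.leaf [])))) (ZT.node 8639 (ZT.node 8637 (ZT.leaf []) (ZT.node 8638 (ZT.leaf []) (ZT.leaf [Int.ofNat 1]))) (ZT.node 8640 (ZT.leaf [Int.ofNat 253, Int.ofNat 85, Int.negSucc 56, Int.ofNat 14, Int.ofNat 1, Int.ofNat 21, Int.ofNat 1, Int.negSucc 2, Int.negSucc 0, Int.ofNat 0, Int.ofNat 0, Int.ofNat 0, Int.ofNat 2, Int.ofNat 0, Int.negSucc 33, Int.ofNat 0, Int.ofNat 6, Int.ofNat 0, Int.ofNat 22]) (ZT.node 8641 (ZT.leaf []) (ZT.leaf [Int.ofNat 1])))))))) (ZT.node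 8687 (ZT.node 8664 (ZT.node 8653 (ZT.node 8647 (ZT.node 8644 (ZT.node 8643 (ZT.leaf [Int.ofNat 1048, Int.ofNat 435, Int.negSucc 230, Int.ofNat 63, Int.ofNat 2, Int.ofNat 119, Int.ofNat 17, Int.negSucc 30, Int.negSucc 5, Int.ofNat 0, Int.ofNat 0, Int.ofNat 0, Int.ofNat 4, Int.ofNat 1, Int.negSucc 154, Int.ofNat 0, Int.ofNat 20, Int.ofNat 0, Int.ofNat 114]) (ZT.leaf [Int.negSucc 0])) (ZT.node 8645 (ZT.leaf []) (ZT.node 8646 (ZT.leaf [Int.negSucc 9655, Int.negSucc 4863, Int.ofNat 2301, Int.negSucc 826, Int.negSucc 18, Int.negSucc 1447, Int.negSucc 140, Int.ofNat 406, Int.ofNat 31, Int.ofNat 0, Int.ofNat 0, Int.ofNat 0, Int.ofNat 1, Int.negSucc 9, Int.ofNat 1510, Int.ofNat 17, Int.negSucc 258, Int.ofNat 0, Int.negSucc 1235]) (ZT.leaf [])))) (ZT.node 8650 (ZT.node 8648 (ZT.leaf []) (ZT.node 8649 (ZT.leaf []) (ZT.leaf []))) (ZT.node 8651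 (ZT.leaf [Int.ofNat 33, Int.negSucc 196, Int.negSucc 28, Int.negSucc 22, Int.negSucc 1, Int.negSucc 12, Int.negSucc 19, Int.ofNat 31, Int.ofNat 16, Int.ofNat 0, Int.ofNat 0, Int.ofNat 0, Int.negSucc 1, Int.ofNat 2, Int.ofNat 130, Int.negSucc 0, Int.negSucc 14, Int.ofNat 0, Int.negSucc 28]) (ZT.node 8652 (ZT.leaf []) (ZT.leaf [Int.negSucc 1988, Int.negSucc 1635, Int.ofNat 509, Int.negSucc 295, Int.negSucc 7, Int.negSucc 397, Int.negSucc 55, Int.ofNat 142, Int.ofNat 24, Int.ofNat 0, Int.ofNat 0, Int.ofNat 0, Int.ofNat 4, Int.negSucc 3, Int.ofNat 568, Int.ofNat 8, Int.negSucc 68, Int.ofNat 0, Int.negSucc 352]))))) (ZT.node 8658 (ZT.node 8655 (ZT.node 8654 (ZT.leaf []) (ZT.leaf [])) (ZT.node 8656 (ZT.leaf []) (ZT.node 8657 (ZT.leaf []) (ZT.leaf [])))) (ZT.node 8661 (ZT.node 8659 (ZT.leaf []) (ZT.node 8660 (ZT.leaf []) (ZT.leaf []))) (ZT.node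 8662 (ZT.leaf []) (ZT.node 8663 (ZT.leaf [Int.ofNat 504, Int.ofNat 112, Int.negSucc 123, Int.ofNat 23, Int.ofNat 0, Int.ofNat 48, Int.negSucc 9, Int.ofNat 13, Int.ofNat 10, Int.ofNat 0, Int.ofNat 0, Int.ofNat 0, Int.ofNat 3, Int.ofNat 3, Int.ofNat 10, Int.negSucc 2, Int.ofNat 3, Int.ofNat 0, Int.ofNat 35]) (ZT.leaf [])))))) (ZT.node 8675 (ZT.node 8669 (ZT.node 8666 (ZT.node 8665 (ZT.leaf [Int.ofNat 73, Int.ofNat 299, Int.negSucc 266, Int.ofNat 161, Int.negSucc 22, Int.ofNat 203, Int.negSucc 63, Int.ofNat 90, Int.ofNat 67, Int.negSucc 1, Int.ofNat 1, Int.negSucc 0, Int.ofNat 11, Int.ofNat 27, Int.ofNat 199, Int.negSucc 32, Int.negSucc 75, Int.negSucc 0, Int.ofNat 85]) (ZT.leaf [])) (ZT.node 8667 (ZT.leaf [Int.negSucc 24, Int.ofNat 5, Int.ofNat 12, Int.negSucc 3, Int.ofNat 0, Int.negSucc 9, Int.negSucc 0, Int.ofNat 0, Int.negSucc 1,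 Int.ofNat 0, Int.ofNat 0, Int.ofNat 0, Int.ofNat 1, Int.ofNat 0, Int.negSucc 6, Int.ofNat 0, Int.ofNat 4, Int.ofNat 0, Int.negSucc 2]) (ZT.node 8668 (ZT.leaf []) (ZT.leaf [])))) (ZT.node 8672 (ZT.node 8670 (ZT.leaf []) (ZT.node 8671 (ZT.leaf []) (ZT.leaf []))) (ZT.node 8673 (ZT.leaf []) (ZT.node 8674 (ZT.leaf []) (ZT.leaf []))))) (ZT.node 8681 (ZT.node 8678 (ZT.node 8676 (ZT.leaf []) (ZT.node 8677 (ZT.leaf []) (ZT.leaf []))) (ZT.node 8679 (ZT.leaf []) (ZT.node 8680 (ZT.leaf []) (ZT.leaf [])))) (ZT.node 8684 (ZT.node 8682 (ZT.leaf []) (ZT.node 8683 (ZT.leaf []) (ZT.leaf []))) (ZT.node 8685 (ZT.leaf []) (ZT.node 8686 (ZT.leaf []) (ZT.leaf []))))))) (ZT.node 8709 (ZT.node 8698 (ZT.node 8692 (ZT.node 8689 (ZT.node 8688 (ZT.leaf []) (ZT.leaf [])) (ZT.node 8690 (ZT.leaf []) (ZT.node 8691 (ZT.leaf []) (ZT.leaf [])))) (ZT.node 8695 (ZT.node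 8693 (ZT.leaf [Int.negSucc 0]) (ZT.node 8694 (ZT.leaf []) (ZT.leaf []))) (ZT.node 8696 (ZT.leaf []) (ZT.node 8697 (ZT.leaf [Int.ofNat 0, Int.ofNat 0, Int.ofNat 0, Int.ofNat 0, Int.ofNat 1]) (ZT.leaf []))))) (ZT.node 8703 (ZT.node 8700 (ZT.node 8699 (ZT.leaf []) (ZT.leaf [])) (ZT.node 8701 (ZT.leaf []) (ZT.node 8702 (ZT.leaf []) (ZT.leaf [])))) (ZT.node 8706 (ZT.node 8704 (ZT.leaf []) (ZT.node 8705 (ZT.leaf []) (ZT.leaf []))) (ZT.node 8707 (ZT.leaf []) (ZT.node 8708 (ZT.leaf [Int.negSucc 102, Int.negSucc 17, Int.ofNat 28, Int.negSucc 3, Int.ofNat 0, Int.negSucc 10, Int.ofNat 0, Int.ofNat 1, Int.negSucc 0, Int.ofNat 0, Int.ofNat 0, Int.ofNat 0, Int.ofNat 0, Int.ofNat 0, Int.ofNat 4, Int.ofNat 0, Int.negSucc 0, Int.ofNat 0, Int.negSucc 8]) (ZT.leaf [])))))) (ZT.node 8720 (ZT.node 8714 (ZT.node 8711 (ZT.node 8710 (ZT.leaf [Int.ofNat 4090,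 Int.ofNat 1633, Int.negSucc 1004, Int.ofNat 284, Int.ofNat 1, Int.ofNat 545, Int.ofNat 40, Int.negSucc 99, Int.ofNat 12, Int.ofNat 0, Int.ofNat 0, Int.ofNat 0, Int.ofNat 5, Int.ofNat 14, Int.negSucc 518, Int.negSucc 6, Int.ofNat 76, Int.ofNat 0, Int.ofNat 456]) (ZT.leaf [])) (ZT.node 8712 (ZT.leaf []) (ZT.node 8713 (ZT.leaf []) (ZT.leaf [Int.ofNat 1640, Int.ofNat 191, Int.negSucc 329, Int.ofNat 4, Int.negSucc 2, Int.ofNat 100, Int.ofNat 33, Int.negSucc 32, Int.negSucc 5, Int.ofNat 0, Int.ofNat 0, Int.ofNat 0, Int.ofNat 7, Int.negSucc 5, Int.negSucc 87, Int.ofNat 7, Int.ofNat 14, Int.ofNat 0, Int.ofNat 108])))) (ZT.node 8717 (ZT.node 8715 (ZT.leaf []) (ZT.node 8716 (ZT.leaf []) (ZT.leaf []))) (ZT.node 8718 (ZT.leaf [Int.ofNat 752, Int.ofNat 250, Int.negSucc 82, Int.ofNat 2, Int.negSucc 1, Int.ofNat 38, Int.ofNat 28, Int.negSucc 10,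 Int.negSucc 0, Int.negSucc 0, Int.ofNat 1, Int.ofNat 0, Int.ofNat 6, Int.ofNat 5, Int.negSucc 115, Int.negSucc 0, Int.ofNat 1, Int.ofNat 0, Int.ofNat 49]) (ZT.node 8719 (ZT.leaf []) (ZT.leaf []))))) (ZT.node 8726 (ZT.node 8723 (ZT.node 8721 (ZT.leaf []) (ZT.node 8722 (ZT.leaf [Int.ofNat 1]) (ZT.leaf []))) (ZT.node 8724 (ZT.leaf [Int.negSucc 121, Int.negSucc 58, Int.ofNat 33, Int.negSucc 12, Int.negSucc 0, Int.negSucc 22, Int.negSucc 1, Int.ofNat 8, Int.ofNat 0, Int.ofNat 0, Int.ofNat 0, Int.ofNat 0, Int.ofNat 2, Int.ofNat 0, Int.ofNat 21, Int.ofNat 0, Int.ofNat 0, Int.ofNat 0, Int.negSucc 14]) (ZT.node 8725 (ZT.leaf []) (ZT.leaf [Int.ofNat 344, Int.ofNat 1233, Int.negSucc 123, Int.ofNat 219, Int.ofNat 3, Int.ofNat 222, Int.ofNat 28, Int.negSucc 93, Int.negSucc 22, Int.ofNat 0, Int.ofNat 0, Int.ofNat 0, Int.negSucc 1, Int.ofNat 9, Int.negSucc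 367, Int.negSucc 12, Int.ofNat 41, Int.ofNat 0, Int.ofNat 199])))) (ZT.node 8729 (ZT.node 8727 (ZT.leaf [Int.ofNat 2462, Int.ofNat 845, Int.negSucc 565, Int.ofNat 127, Int.ofNat 2, Int.ofNat 292, Int.ofNat 37, Int.negSucc 65, Int.negSucc 2, Int.ofNat 0, Int.ofNat 0, Int.ofNat 0, Int.ofNat 7, Int.ofNat 1, Int.negSucc 319, Int.ofNat 1, Int.ofNat 52, Int.ofNat 0, Int.ofNat 259]) (ZT.node 8728 (ZT.leaf []) (ZT.leaf [Int.ofNat 203, Int.ofNat 1176, Int.negSucc 102, Int.ofNat 214, Int.ofNat 3, Int.ofNat 214, Int.ofNat 25, Int.negSucc 94, Int.negSucc 20, Int.ofNat 0, Int.ofNat 0, Int.ofNat 0, Int.negSucc 4, Int.ofNat 9, Int.negSucc 344, Int.negSucc 13, Int.ofNat 40, Int.ofNat 0, Int.ofNat 189]))) (ZT.node 8730 (ZT.leaf []) (ZT.node 8731 (ZT.leaf []) (ZT.leaf [Int.ofNat 2205, Int.negSucc 390, Int.negSucc 456, Int.negSucc 99, Int.negSucc 1,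 Int.ofNat 58, Int.negSucc 6, Int.ofNat 47, Int.ofNat 23, Int.ofNat 0, Int.ofNat 0, Int.ofNat 0, Int.ofNat 12, Int.negSucc 6, Int.ofNat 78, Int.ofNat 15, Int.ofNat 12, Int.ofNat 0, Int.ofNat 56]))))))))) (ZT.node 8822 (ZT.node 8777 (ZT.node 8754 (ZT.node 8743 (ZT.node 8737 (ZT.node 8734 (ZT.node 8733 (ZT.leaf []) (ZT.leaf [])) (ZT.node 8735 (ZT.leaf []) (ZT.node 8736 (ZT.leaf [Int.ofNat 3335, Int.negSucc 1491, Int.negSucc 610, Int.negSucc 360, Int.negSucc 18, Int.negSucc 55, Int.negSucc 59, Int.ofNat 162, Int.ofNat 60, Int.ofNat 1, Int.ofNat 0, Int.ofNat 1, Int.ofNat 37, Int.negSucc 12, Int.ofNat 320, Int.ofNat 40, Int.ofNat 11, Int.ofNat 1, Int.negSucc 56]) (ZT.leaf [])))) (ZT.node 8740 (ZT.node 8738 (ZT.leaf []) (ZT.node 8739 (ZT.leaf []) (ZT.leaf []))) (ZT.node 8741 (ZT.leaf []) (ZT.node 8742 (ZT.leaf [Int.negSucc 12211, Int.negSucc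 6059, Int.ofNat 2941, Int.negSucc 1020, Int.negSucc 22, Int.negSucc 1756, Int.negSucc 188, Int.ofNat 442, Int.ofNat 36, Int.ofNat 0, Int.ofNat 0, Int.ofNat 0, Int.negSucc 20, Int.negSucc 24, Int.ofNat 2028, Int.ofNat 21, Int.negSucc 269, Int.ofNat 0, Int.negSucc 1537]) (ZT.leaf []))))) (ZT.node 8748 (ZT.node 8745 (ZT.node 8744 (ZT.leaf []) (ZT.leaf [])) (ZT.node 8746 (ZT.leaf []) (ZT.node 8747 (ZT.leaf []) (ZT.leaf [])))) (ZT.node 8751 (ZT.node 8749 (ZT.leaf []) (ZT.node 8750 (ZT.leaf []) (ZT.leaf []))) (ZT.node 8752 (ZT.leaf []) (ZT.node 8753 (ZT.leaf []) (ZT.leaf [Int.negSucc 30, Int.negSucc 0, Int.ofNat 5, Int.ofNat 2, Int.negSucc 0, Int.negSucc 0, Int.ofNat 1, Int.negSucc 2, Int.negSucc 0, Int.ofNat 0, Int.ofNat 0, Int.ofNat 0, Int.ofNat 0, Int.negSucc 0, Int.negSucc 4, Int.ofNat 0, Int.ofNat 2, Int.ofNat 0, Int.ofNat 0]))))))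 (ZT.node 8765 (ZT.node 8759 (ZT.node 8756 (ZT.node 8755 (ZT.leaf [Int.ofNat 1]) (ZT.leaf [])) (ZT.node 8757 (ZT.leaf []) (ZT.node 8758 (ZT.leaf []) (ZT.leaf [])))) (ZT.node 8762 (ZT.node 8760 (ZT.leaf []) (ZT.node 8761 (ZT.leaf [Int.ofNat 1]) (ZT.leaf []))) (ZT.node 8763 (ZT.leaf []) (ZT.node 8764 (ZT.leaf []) (ZT.leaf [Int.negSucc 3, Int.negSucc 1, Int.ofNat 0, Int.ofNat 0, Int.ofNat 0, Int.ofNat 1]))))) (ZT.node 8771 (ZT.node 8768 (ZT.node 8766 (ZT.leaf []) (ZT.node 8767 (ZT.leaf []) (ZT.leaf [Int.negSucc 0]))) (ZT.node 8769 (ZT.leaf []) (ZT.node 8770 (ZT.leaf []) (ZT.leaf [])))) (ZT.node 8774 (ZT.node 8772 (ZT.leaf []) (ZT.node 8773 (ZT.leaf [Int.negSucc 0]) (ZT.leaf []))) (ZT.node 8775 (ZT.leaf []) (ZT.node 8776 (ZT.leaf []) (ZT.leaf []))))))) (ZT.node 8799 (ZT.node 8788 (ZT.node 8782 (ZT.node 8779 (ZT.node 8778 (ZT.leaf []) (ZT.leaf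 [])) (ZT.node 8780 (ZT.leaf []) (ZT.node 8781 (ZT.leaf []) (ZT.leaf [])))) (ZT.node 8785 (ZT.node 8783 (ZT.leaf []) (ZT.node 8784 (ZT.leaf []) (ZT.leaf []))) (ZT.node 8786 (ZT.leaf []) (ZT.node 8787 (ZT.leaf []) (ZT.leaf []))))) (ZT.node 8793 (ZT.node 8790 (ZT.node 8789 (ZT.leaf []) (ZT.leaf [])) (ZT.node 8791 (ZT.leaf []) (ZT.node 8792 (ZT.leaf []) (ZT.leaf [])))) (ZT.node 8796 (ZT.node 8794 (ZT.leaf []) (ZT.node 8795 (ZT.leaf []) (ZT.leaf []))) (ZT.node 8797 (ZT.leaf []) (ZT.node 8798 (ZT.leaf [Int.ofNat 13857, Int.ofNat 4147, Int.negSucc 3102, Int.ofNat 574, Int.ofNat 9, Int.ofNat 1480, Int.ofNat 176, Int.negSucc 295, Int.negSucc 0, Int.negSucc 0, Int.ofNat 0, Int.ofNat 0, Int.ofNat 48, Int.ofNat 20, Int.negSucc 1505, Int.ofNat 7, Int.ofNat 252, Int.ofNat 0, Int.ofNat 1329]) (ZT.leaf [Int.ofNat 1])))))) (ZT.node 8810 (ZT.node 8804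 (ZT.node 8801 (ZT.node 8800 (ZT.leaf [Int.negSucc 5910, Int.negSucc 2211, Int.ofNat 1395, Int.negSucc 371, Int.negSucc 6, Int.negSucc 749, Int.negSucc 86, Int.ofNat 167, Int.ofNat 4, Int.ofNat 0, Int.ofNat 0, Int.ofNat 0, Int.negSucc 12, Int.negSucc 3, Int.ofNat 782, Int.ofNat 0, Int.negSucc 102, Int.ofNat 0, Int.negSucc 644]) (ZT.leaf [])) (ZT.node 8802 (ZT.leaf []) (ZT.node 8803 (ZT.leaf []) (ZT.leaf [])))) (ZT.node 8807 (ZT.node 8805 (ZT.leaf []) (ZT.node 8806 (ZT.leaf []) (ZT.leaf []))) (ZT.node 8808 (ZT.leaf [Int.ofNat 7755, Int.ofNat 4296, Int.negSucc 1769, Int.ofNat 678, Int.ofNat 18, Int.ofNat 1121, Int.ofNat 191, Int.negSucc 367, Int.negSucc 63, Int.ofNat 0, Int.ofNat 0, Int.ofNat 0, Int.ofNat 16, Int.ofNat 13, Int.negSucc 1565, Int.negSucc 19, Int.ofNat 194, Int.ofNat 0, Int.ofNat 1037]) (ZT.node 8809 (ZT.leaf [Int.negSucc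 8110, Int.negSucc 3614, Int.ofNat 1851, Int.negSucc 554, Int.negSucc 12, Int.negSucc 1064, Int.negSucc 152, Int.ofNat 294, Int.ofNat 32, Int.negSucc 0, Int.ofNat 0, Int.ofNat 0, Int.negSucc 16, Int.negSucc 10, Int.ofNat 1365, Int.ofNat 11, Int.negSucc 185, Int.ofNat 0, Int.negSucc 966]) (ZT.leaf [Int.ofNat 1902, Int.ofNat 1485, Int.negSucc 440, Int.ofNat 246, Int.ofNat 5, Int.ofNat 340, Int.ofNat 64, Int.negSucc 121, Int.negSucc 24, Int.negSucc 0, Int.ofNat 0, Int.ofNat 0, Int.ofNat 4, Int.ofNat 7, Int.negSucc 503, Int.negSucc 7, Int.ofNat 42, Int.ofNat 0, Int.ofNat 316]))))) (ZT.node 8816 (ZT.node 8813 (ZT.node 8811 (ZT.leaf []) (ZT.node 8812 (ZT.leaf []) (ZT.leaf [Int.negSucc 22, Int.negSucc 5, Int.ofNat 3, Int.ofNat 1, Int.ofNat 0, Int.ofNat 0, Int.ofNat 0, Int.negSucc 0, Int.ofNat 0, Int.ofNat 0, Int.ofNat 0, Int.ofNat 0, Int.ofNat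 0, Int.ofNat 0, Int.ofNat 1, Int.ofNat 0, Int.ofNat 0, Int.ofNat 0, Int.negSucc 0]))) (ZT.node 8814 (ZT.leaf []) (ZT.node 8815 (ZT.leaf []) (ZT.leaf [])))) (ZT.node 8819 (ZT.node 8817 (ZT.leaf []) (ZT.node 8818 (ZT.leaf []) (ZT.leaf []))) (ZT.node 8820 (ZT.leaf []) (ZT.node 8821 (ZT.leaf []) (ZT.leaf [])))))))) (ZT.node 8867 (ZT.node 8844 (ZT.node 8833 (ZT.node 8827 (ZT.node 8824 (ZT.node 8823 (ZT.leaf []) (ZT.leaf [])) (ZT.node 8825 (ZT.leaf []) (ZT.node 8826 (ZT.leaf []) (ZT.leaf [])))) (ZT.node 8830 (ZT.node 8828 (ZT.leaf []) (ZT.node 8829 (ZT.leaf []) (ZT.leaf []))) (ZT.node 8831 (ZT.leaf [Int.ofNat 1768, Int.ofNat 1996, Int.negSucc 470, Int.ofNat 359, Int.ofNat 10, Int.ofNat 444, Int.ofNat 61, Int.negSucc 162, Int.negSucc 30, Int.ofNat 0, Int.ofNat 0, Int.ofNat 0, Int.negSucc 3, Int.ofNat 12, Int.negSucc 659, Int.negSucc 15, Int.ofNat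 81, Int.ofNat 0, Int.ofNat 395]) (ZT.node 8832 (ZT.leaf []) (ZT.leaf []))))) (ZT.node 8838 (ZT.node 8835 (ZT.node 8834 (ZT.leaf [Int.negSucc 3701, Int.negSucc 1968, Int.ofNat 917, Int.negSucc 346, Int.negSucc 7, Int.negSucc 575, Int.negSucc 62, Int.ofNat 159, Int.ofNat 14, Int.ofNat 0, Int.ofNat 0, Int.ofNat 0, Int.negSucc 1, Int.negSucc 7, Int.ofNat 670, Int.ofNat 8, Int.negSucc 90, Int.ofNat 0, Int.negSucc 499]) (ZT.leaf [])) (ZT.node 8836 (ZT.leaf []) (ZT.node 8837 (ZT.leaf []) (ZT.leaf [])))) (ZT.node 8841 (ZT.node 8839 (ZT.leaf [Int.ofNat 1785, Int.ofNat 1211, Int.negSucc 466, Int.ofNat 223, Int.ofNat 4, Int.ofNat 335, Int.ofNat 38, Int.negSucc 99, Int.negSucc 10, Int.ofNat 0, Int.ofNat 0, Int.ofNat 0, Int.negSucc 0, Int.ofNat 6, Int.negSucc 399, Int.negSucc 6, Int.ofNat 51, Int.ofNat 0, Int.ofNat 287]) (ZT.node 8840 (ZT.leaf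 [Int.ofNat 1916, Int.ofNat 758, Int.negSucc 449, Int.ofNat 124, Int.ofNat 4, Int.ofNat 241, Int.ofNat 25, Int.negSucc 58, Int.negSucc 2, Int.ofNat 0, Int.ofNat 0, Int.ofNat 0, Int.ofNat 3, Int.ofNat 2, Int.negSucc 269, Int.negSucc 0, Int.ofNat 40, Int.ofNat 0, Int.ofNat 213]) (ZT.leaf []))) (ZT.node 8842 (ZT.leaf []) (ZT.node 8843 (ZT.leaf []) (ZT.leaf [Int.ofNat 25916, Int.ofNat 11759, Int.negSucc 6063, Int.ofNat 1903, Int.ofNat 51, Int.ofNat 3494, Int.ofNat 413, Int.negSucc 939, Int.negSucc 90, Int.ofNat 2, Int.negSucc 0, Int.ofNat 1, Int.ofNat 42, Int.ofNat 39, Int.negSucc 4033, Int.negSucc 25, Int.ofNat 630, Int.ofNat 1, Int.ofNat 3110])))))) (ZT.node 8855 (ZT.node 8849 (ZT.node 8846 (ZT.node 8845 (ZT.leaf []) (ZT.leaf [])) (ZT.node 8847 (ZT.leaf []) (ZT.node 8848 (ZT.leaf [Int.negSucc 2522, Int.negSucc 882, Int.ofNat 616, Int.negSucc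 153, Int.negSucc 5, Int.negSucc 321, Int.negSucc 23, Int.ofNat 56, Int.negSucc 3, Int.ofNat 0, Int.ofNat 0, Int.ofNat 0, Int.negSucc 3, Int.negSucc 2, Int.ofNat 301, Int.ofNat 2, Int.negSucc 41, Int.ofNat 0, Int.negSucc 267]) (ZT.leaf [Int.ofNat 2523, Int.ofNat 883, Int.negSucc 615, Int.ofNat 154, Int.ofNat 6, Int.ofNat 322, Int.ofNat 24, Int.negSucc 55, Int.ofNat 4, Int.ofNat 0, Int.ofNat 0, Int.ofNat 0, Int.ofNat 4, Int.ofNat 3, Int.negSucc 300, Int.negSucc 1, Int.ofNat 42, Int.ofNat 0, Int.ofNat 268])))) (ZT.node 8852 (ZT.node 8850 (ZT.leaf [Int.negSucc 10777, Int.negSucc 3004, Int.ofNat 2358, Int.negSucc 364, Int.ofNat 0, Int.negSucc 1085, Int.negSucc 149, Int.ofNat 223, Int.ofNat 7, Int.ofNat 1, Int.ofNat 0, Int.ofNat 0, Int.negSucc 42, Int.negSucc 14, Int.ofNat 1182, Int.negSucc 11, Int.negSucc 194, Int.ofNat 0, Int.negSucc 1001])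 (ZT.node 8851 (ZT.leaf []) (ZT.leaf []))) (ZT.node 8853 (ZT.leaf []) (ZT.node 8854 (ZT.leaf []) (ZT.leaf []))))) (ZT.node 8861 (ZT.node 8858 (ZT.node 8856 (ZT.leaf []) (ZT.node 8857 (ZT.leaf [Int.ofNat 1]) (ZT.leaf []))) (ZT.node 8859 (ZT.leaf [Int.negSucc 2336, Int.ofNat 271, Int.ofNat 458, Int.ofNat 93, Int.ofNat 2, Int.negSucc 147, Int.negSucc 0, Int.ofNat 19, Int.negSucc 11, Int.ofNat 0, Int.ofNat 0, Int.ofNat 0, Int.ofNat 0, Int.ofNat 15, Int.negSucc 134, Int.negSucc 19, Int.negSucc 53, Int.ofNat 0, Int.negSucc 96]) (ZT.node 8860 (ZT.leaf []) (ZT.leaf [Int.negSucc 1331, Int.negSucc 736, Int.ofNat 318, Int.negSucc 121, Int.negSucc 2, Int.negSucc 198, Int.negSucc 27, Int.ofNat 67, Int.ofNat 10, Int.ofNat 0, Int.ofNat 0, Int.ofNat 0, Int.ofNat 0, Int.negSucc 2, Int.ofNat 254, Int.ofNat 2, Int.negSucc 36, Int.ofNat 0, Int.negSucc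 182])))) (ZT.node 8864 (ZT.node 8862 (ZT.leaf []) (ZT.node 8863 (ZT.leaf []) (ZT.leaf []))) (ZT.node 8865 (ZT.leaf []) (ZT.node 8866 (ZT.leaf []) (ZT.leaf []))))))) (ZT.node 8889 (ZT.node 8878 (ZT.node 8872 (ZT.node 8869 (ZT.node 8868 (ZT.leaf []) (ZT.leaf [])) (ZT.node 8870 (ZT.leaf []) (ZT.node 8871 (ZT.leaf []) (ZT.leaf [])))) (ZT.node 8875 (ZT.node 8873 (ZT.leaf []) (ZT.node 8874 (ZT.leaf []) (ZT.leaf []))) (ZT.node 8876 (ZT.leaf []) (ZT.node 8877 (ZT.leaf []) (ZT.leaf []))))) (ZT.node 8883 (ZT.node 8880 (ZT.node 8879 (ZT.leaf []) (ZT.leaf [])) (ZT.node 8881 (ZT.leaf []) (ZT.node 8882 (ZT.leaf []) (ZT.leaf [])))) (ZT.node 8886 (ZT.node 8884 (ZT.leaf []) (ZT.node 8885 (ZT.leaf []) (ZT.leaf []))) (ZT.node 8887 (ZT.leaf [Int.ofNat 1]) (ZT.node 8888 (ZT.leaf [Int.negSucc 2413, Int.negSucc 2136, Int.ofNat 631, Int.negSucc 383, Int.negSucc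 9, Int.negSucc 511, Int.negSucc 61, Int.ofNat 169, Int.ofNat 27, Int.ofNat 0, Int.ofNat 0, Int.ofNat 0, Int.ofNat 2, Int.negSucc 12, Int.ofNat 693, Int.ofNat 16, Int.negSucc 90, Int.ofNat 0, Int.negSucc 451]) (ZT.leaf [])))))) (ZT.node 8900 (ZT.node 8894 (ZT.node 8891 (ZT.node 8890 (ZT.leaf []) (ZT.leaf [])) (ZT.node 8892 (ZT.leaf []) (ZT.node 8893 (ZT.leaf []) (ZT.leaf [])))) (ZT.node 8897 (ZT.node 8895 (ZT.leaf []) (ZT.node 8896 (ZT.leaf []) (ZT.leaf []))) (ZT.node 8898 (ZT.leaf []) (ZT.node 8899 (ZT.leaf []) (ZT.leaf []))))) (ZT.node 8906 (ZT.node 8903 (ZT.node 8901 (ZT.leaf []) (ZT.node 8902 (ZT.leaf []) (ZT.leaf []))) (ZT.node 8904 (ZT.leaf []) (ZT.node 8905 (ZT.leaf []) (ZT.leaf [])))) (ZT.node 8909 (ZT.node 8907 (ZT.leaf []) (ZT.node 8908 (ZT.leaf []) (ZT.leaf []))) (ZT.node 8910 (ZT.leaf [Int.ofNat 1]) (ZT.node 8911 (ZT.leaf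 []) (ZT.leaf [Int.negSucc 458, Int.negSucc 299, Int.ofNat 96, Int.negSucc 45, Int.ofNat 0, Int.negSucc 66, Int.negSucc 16, Int.ofNat 19, Int.ofNat 5, Int.ofNat 0, Int.ofNat 0, Int.ofNat 0, Int.negSucc 2, Int.negSucc 1, Int.ofNat 99, Int.ofNat 2, Int.negSucc 1, Int.ofNat 0, Int.negSucc 63]))))))))))

end Cfsg.Agent.Helper9.TCData.L34L0
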