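import Cfsg.Agent.Lib.Helper9.LTC

set_option autoImplicit false
set_option maxRecDepth 1000000

namespace Cfsg.Agent.Helper9.TCData.L34L0
open Cfsg.Agent.Helper9.TC2 Cfsg.Agent.Helper9.LTC

noncomputable def labT_18 : ZT := (ZT.node 9092 (ZT.node 9002 (ZT.node 8957 (ZT.node 8934 (ZT.node 8923 (ZT.node 8917 (ZT.node 8914 (ZT.node 8913 (ZT.leaf []) (ZT.leaf [])) (ZT.node 8915 (ZT.leaf [Int.negSucc 7752, Int.negSucc 4294, Int.ofNat 1770, Int.negSucc 677, Int.negSucc 17, Int.negSucc 1120, Int.negSucc 190, Int.ofNat 368, Int.ofNat 64, Int.ofNat 0, Int.ofNat 0, Int.ofNat 0, Int.negSucc 15, Int.negSucc 12, Int.ofNat 1566, Int.ofNat 20, Int.negSucc 193, Int.ofNat 0, Int.negSucc 1036]) (ZT.node 8916 (ZT.leaf []) (ZT.leaf [])))) (ZT.node 8920 (ZT.node 8918 (ZT.leaf []) (ZT.node 8919 (ZT.leaf []) (ZT.leaf []))) (ZT.node 8921 (ZT.leaf []) (ZT.node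 8922 (ZT.leaf []) (ZT.leaf []))))) (ZT.node 8928 (ZT.node 8925 (ZT.node 8924 (ZT.leaf []) (ZT.leaf [])) (ZT.node 8926 (ZT.leaf []) (ZT.node 8927 (ZT.leaf []) (ZT.leaf [])))) (ZT.node 8931 (ZT.node 8929 (ZT.leaf []) (ZT.node 8930 (ZT.leaf []) (ZT.leaf []))) (ZT.node 8932 (ZT.leaf []) (ZT.node 8933 (ZT.leaf []) (ZT.leaf [])))))) (ZT.node 8945 (ZT.node 8939 (ZT.node 8936 (ZT.node 8935 (ZT.leaf []) (ZT.leaf [])) (ZT.node 8937 (ZT.leaf []) (ZT.node 8938 (ZT.leaf []) (ZT.leaf [])))) (ZT.node 8942 (ZT.node 8940 (ZT.leaf []) (ZT.node 8941 (ZT.leaf []) (ZT.leaf []))) (ZT.node 8943 (ZT.leaf []) (ZT.node 8944 (ZT.leaf []) (ZT.leaf [Int.negSucc 160, Int.negSucc 20, Int.ofNat 45, Int.negSucc 6, Int.ofNat 0, Int.negSucc 22, Int.ofNat 0, Int.negSucc 0, Int.negSucc 2, Int.ofNat 0, Int.ofNat 0, Int.ofNat 0, Int.ofNat 0, Int.ofNat 0, Int.ofNat 1, Int.ofNat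 0, Int.ofNat 0, Int.ofNat 0, Int.negSucc 14]))))) (ZT.node 8951 (ZT.node 8948 (ZT.node 8946 (ZT.leaf []) (ZT.node 8947 (ZT.leaf []) (ZT.leaf [Int.negSucc 383, Int.negSucc 145, Int.ofNat 88, Int.negSucc 22, Int.negSucc 0, Int.negSucc 43, Int.negSucc 3, Int.ofNat 7, Int.ofNat 0, Int.ofNat 0, Int.ofNat 0, Int.ofNat 0, Int.negSucc 1, Int.negSucc 0, Int.ofNat 47, Int.ofNat 0, Int.negSucc 5, Int.ofNat 0, Int.negSucc 38]))) (ZT.node 8949 (ZT.leaf [Int.ofNat 2293, Int.ofNat 755, Int.negSucc 522, Int.ofNat 105, Int.ofNat 0, Int.ofNat 261, Int.ofNat 20, Int.negSucc 43, Int.ofNat 1, Int.ofNat 0, Int.ofNat 0, Int.ofNat 0, Int.ofNat 8, Int.ofNat 2, Int.negSucc 255, Int.ofNat 2, Int.ofNat 49, Int.ofNat 0, Int.ofNat 233]) (ZT.node 8950 (ZT.leaf []) (ZT.leaf [])))) (ZT.node 8954 (ZT.node 8952 (ZT.leaf []) (ZT.node 8953 (ZT.leaf [Int.ofNat 1343, Int.ofNat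 662, Int.negSucc 329, Int.ofNat 116, Int.ofNat 3, Int.ofNat 206, Int.ofNat 21, Int.negSucc 47, Int.negSucc 0, Int.ofNat 0, Int.ofNat 0, Int.ofNat 0, Int.ofNat 1, Int.ofNat 3, Int.negSucc 230, Int.negSucc 3, Int.ofNat 27, Int.ofNat 0, Int.ofNat 173]) (ZT.leaf []))) (ZT.node 8955 (ZT.leaf []) (ZT.node 8956 (ZT.leaf []) (ZT.leaf []))))))) (ZT.node 8979 (ZT.node 8968 (ZT.node 8962 (ZT.node 8959 (ZT.node 8958 (ZT.leaf [Int.ofNat 161, Int.ofNat 21, Int.negSucc 44, Int.ofNat 7, Int.ofNat 0, Int.ofNat 23, Int.ofNat 0, Int.ofNat 1, Int.ofNat 3, Int.ofNat 0, Int.ofNat 0, Int.ofNat 0, Int.ofNat 0, Int.ofNat 0, Int.negSucc 0, Int.ofNat 0, Int.ofNat 0, Int.ofNat 0, Int.ofNat 15]) (ZT.leaf [])) (ZT.node 8960 (ZT.leaf []) (ZT.node 8961 (ZT.leaf [Int.ofNat 3, Int.ofNat 2, Int.ofNat 0, Int.ofNat 0, Int.ofNat 0, Int.ofNat 0, Int.ofNat 0, Int.ofNat 0, Int.ofNat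 0, Int.ofNat 0, Int.ofNat 0, Int.ofNat 0, Int.ofNat 0, Int.ofNat 0, Int.ofNat 0, Int.ofNat 0, Int.ofNat 0, Int.ofNat 0, Int.ofNat 0]) (ZT.leaf [])))) (ZT.node 8965 (ZT.node 8963 (ZT.leaf []) (ZT.node 8964 (ZT.leaf []) (ZT.leaf [Int.negSucc 2385, Int.negSucc 960, Int.ofNat 551, Int.negSucc 151, Int.negSucc 3, Int.negSucc 292, Int.negSucc 39, Int.ofNat 78, Int.ofNat 8, Int.ofNat 0, Int.ofNat 0, Int.ofNat 0, Int.negSucc 3, Int.negSucc 0, Int.ofNat 398, Int.negSucc 1, Int.negSucc 61, Int.ofNat 0, Int.negSucc 264]))) (ZT.node 8966 (ZT.leaf []) (ZT.node 8967 (ZT.leaf []) (ZT.leaf []))))) (ZT.node 8973 (ZT.node 8970 (ZT.node 8969 (ZT.leaf [Int.ofNat 5912, Int.ofNat 2212, Int.negSucc 1394, Int.ofNat 372, Int.ofNat 7, Int.ofNat 750, Int.ofNat 87, Int.negSucc 166, Int.negSucc 3, Int.ofNat 0, Int.ofNat 0, Int.ofNat 0, Int.ofNat 13, Int.ofNat 4, Int.negSucc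 781, Int.ofNat 0, Int.ofNat 103, Int.ofNat 0, Int.ofNat 645]) (ZT.leaf [])) (ZT.node 8971 (ZT.leaf []) (ZT.node 8972 (ZT.leaf [Int.ofNat 2891, Int.ofNat 1033, Int.negSucc 682, Int.ofNat 170, Int.ofNat 4, Int.ofNat 346, Int.ofNat 38, Int.negSucc 75, Int.negSucc 1, Int.ofNat 0, Int.ofNat 0, Int.ofNat 0, Int.ofNat 6, Int.ofNat 2, Int.negSucc 410, Int.ofNat 2, Int.ofNat 64, Int.ofNat 0, Int.ofNat 309]) (ZT.leaf [])))) (ZT.node 8976 (ZT.node 8974 (ZT.leaf []) (ZT.node 8975 (ZT.leaf [Int.ofNat 110, Int.ofNat 101, Int.ofNat 9, Int.negSucc 5, Int.negSucc 0, Int.ofNat 0, Int.ofNat 5, Int.negSucc 3, Int.negSucc 4, Int.ofNat 0, Int.ofNat 0, Int.ofNat 0, Int.ofNat 3, Int.ofNat 1, Int.negSucc 51, Int.ofNat 1, Int.ofNat 6, Int.ofNat 0, Int.ofNat 10]) (ZT.leaf []))) (ZT.node 8977 (ZT.leaf []) (ZT.node 8978 (ZT.leaf []) (ZT.leaf [])))))) (ZT.node 8990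 (ZT.node 8984 (ZT.node 8981 (ZT.node 8980 (ZT.leaf []) (ZT.leaf [])) (ZT.node 8982 (ZT.leaf []) (ZT.node 8983 (ZT.leaf [Int.negSucc 0]) (ZT.leaf [])))) (ZT.node 8987 (ZT.node 8985 (ZT.leaf []) (ZT.node 8986 (ZT.leaf []) (ZT.leaf []))) (ZT.node 8988 (ZT.leaf []) (ZT.node 8989 (ZT.leaf [Int.negSucc 392, Int.negSucc 297, Int.ofNat 83, Int.negSucc 42, Int.negSucc 0, Int.negSucc 64, Int.negSucc 10, Int.ofNat 19, Int.ofNat 4, Int.negSucc 0, Int.ofNat 0, Int.ofNat 0, Int.negSucc 1, Int.negSucc 0, Int.ofNat 88, Int.ofNat 2, Int.negSucc 5, Int.ofNat 0, Int.negSucc 57]) (ZT.leaf [Int.negSucc 11715, Int.negSucc 3391, Int.ofNat 2688, Int.negSucc 514, Int.negSucc 1, Int.negSucc 1257, Int.negSucc 122, Int.ofNat 229, Int.negSucc 11, Int.ofNat 2, Int.negSucc 0, Int.ofNat 0, Int.negSucc 41, Int.negSucc 6, Int.ofNat 1258, Int.negSucc 1, Int.negSucc 208,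 Int.ofNat 0, Int.negSucc 1119]))))) (ZT.node 8996 (ZT.node 8993 (ZT.node 8991 (ZT.leaf [Int.ofNat 4138, Int.ofNat 2390, Int.negSucc 1011, Int.ofNat 408, Int.ofNat 3, Int.ofNat 660, Int.ofNat 49, Int.negSucc 132, Int.negSucc 3, Int.ofNat 1, Int.ofNat 0, Int.ofNat 0, Int.ofNat 12, Int.ofNat 19, Int.negSucc 704, Int.negSucc 13, Int.ofNat 88, Int.ofNat 1, Int.ofNat 562]) (ZT.node 8992 (ZT.leaf []) (ZT.leaf []))) (ZT.node 8994 (ZT.leaf [Int.ofNat 7602, Int.ofNat 4100, Int.negSucc 1740, Int.ofNat 646, Int.ofNat 16, Int.ofNat 1097, Int.ofNat 160, Int.negSucc 319, Int.negSucc 43, Int.ofNat 0, Int.ofNat 0, Int.ofNat 0, Int.ofNat 18, Int.ofNat 17, Int.negSucc 1437, Int.negSucc 20, Int.ofNat 173, Int.ofNat 0, Int.ofNat 993]) (ZT.node 8995 (ZT.leaf []) (ZT.leaf [])))) (ZT.node 8999 (ZT.node 8997 (ZT.leaf []) (ZT.node 8998 (ZT.leaf [Int.ofNat 1]) (ZT.leaf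 []))) (ZT.node 9000 (ZT.leaf []) (ZT.node 9001 (ZT.leaf []) (ZT.leaf [])))))))) (ZT.node 9047 (ZT.node 9024 (ZT.node 9013 (ZT.node 9007 (ZT.node 9004 (ZT.node 9003 (ZT.leaf []) (ZT.leaf [])) (ZT.node 9005 (ZT.leaf []) (ZT.node 9006 (ZT.leaf []) (ZT.leaf [])))) (ZT.node 9010 (ZT.node 9008 (ZT.leaf []) (ZT.node 9009 (ZT.leaf []) (ZT.leaf []))) (ZT.node 9011 (ZT.leaf []) (ZT.node 9012 (ZT.leaf []) (ZT.leaf []))))) (ZT.node 9018 (ZT.node 9015 (ZT.node 9014 (ZT.leaf []) (ZT.leaf [])) (ZT.node 9016 (ZT.leaf []) (ZT.node 9017 (ZT.leaf []) (ZT.leaf [])))) (ZT.node 9021 (ZT.node 9019 (ZT.leaf []) (ZT.node 9020 (ZT.leaf []) (ZT.leaf []))) (ZT.node 9022 (ZT.leaf []) (ZT.node 9023 (ZT.leaf []) (ZT.leaf [])))))) (ZT.node 9035 (ZT.node 9029 (ZT.node 9026 (ZT.node 9025 (ZT.leaf []) (ZT.leaf [])) (ZT.node 9027 (ZT.leaf []) (ZT.node 9028 (ZT.leaf []) (ZT.leaf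 [])))) (ZT.node 9032 (ZT.node 9030 (ZT.leaf []) (ZT.node 9031 (ZT.leaf []) (ZT.leaf []))) (ZT.node 9033 (ZT.leaf []) (ZT.node 9034 (ZT.leaf []) (ZT.leaf []))))) (ZT.node 9041 (ZT.node 9038 (ZT.node 9036 (ZT.leaf []) (ZT.node 9037 (ZT.leaf []) (ZT.leaf [Int.ofNat 2298, Int.ofNat 757, Int.negSucc 523, Int.ofNat 105, Int.ofNat 0, Int.ofNat 260, Int.ofNat 20, Int.negSucc 43, Int.ofNat 1, Int.ofNat 0, Int.ofNat 0, Int.ofNat 0, Int.ofNat 8, Int.ofNat 2, Int.negSucc 255, Int.ofNat 2, Int.ofNat 47, Int.ofNat 0, Int.ofNat 233]))) (ZT.node 9039 (ZT.leaf []) (ZT.node 9040 (ZT.leaf []) (ZT.leaf [])))) (ZT.node 9044 (ZT.node 9042 (ZT.leaf []) (ZT.node 9043 (ZT.leaf []) (ZT.leaf []))) (ZT.node 9045 (ZT.leaf []) (ZT.node 9046 (ZT.leaf []) (ZT.leaf []))))))) (ZT.node 9069 (ZT.node 9058 (ZT.node 9052 (ZT.node 9049 (ZT.node 9048 (ZT.leaf []) (ZT.leaf []))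 (ZT.node 9050 (ZT.leaf [Int.negSucc 32, Int.ofNat 197, Int.ofNat 29, Int.ofNat 23, Int.ofNat 2, Int.ofNat 13, Int.ofNat 20, Int.negSucc 30, Int.negSucc 15, Int.ofNat 0, Int.ofNat 0, Int.ofNat 0, Int.ofNat 2, Int.negSucc 1, Int.negSucc 129, Int.ofNat 1, Int.ofNat 15, Int.ofNat 0, Int.ofNat 29]) (ZT.node 9051 (ZT.leaf []) (ZT.leaf [Int.negSucc 234, Int.negSucc 119, Int.ofNat 49, Int.negSucc 16, Int.negSucc 0, Int.negSucc 26, Int.ofNat 0, Int.ofNat 0, Int.negSucc 1, Int.ofNat 0, Int.ofNat 0, Int.ofNat 0, Int.negSucc 0, Int.negSucc 1, Int.ofNat 16, Int.ofNat 2, Int.ofNat 0, Int.ofNat 0, Int.negSucc 21])))) (ZT.node 9055 (ZT.node 9053 (ZT.leaf [Int.ofNat 1513, Int.ofNat 913, Int.negSucc 348, Int.ofNat 147, Int.ofNat 2, Int.ofNat 228, Int.ofNat 38, Int.negSucc 78, Int.negSucc 14, Int.ofNat 0, Int.ofNat 0, Int.ofNat 0, Int.ofNat 2, Int.ofNat 2,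 Int.negSucc 318, Int.negSucc 2, Int.ofNat 35, Int.ofNat 0, Int.ofNat 211]) (ZT.node 9054 (ZT.leaf []) (ZT.leaf []))) (ZT.node 9056 (ZT.leaf []) (ZT.node 9057 (ZT.leaf []) (ZT.leaf []))))) (ZT.node 9063 (ZT.node 9060 (ZT.node 9059 (ZT.leaf []) (ZT.leaf [])) (ZT.node 9061 (ZT.leaf []) (ZT.node 9062 (ZT.leaf []) (ZT.leaf [Int.negSucc 1513, Int.negSucc 912, Int.ofNat 349, Int.negSucc 146, Int.negSucc 1, Int.negSucc 227, Int.negSucc 37, Int.ofNat 79, Int.ofNat 15, Int.ofNat 0, Int.ofNat 0, Int.ofNat 0, Int.negSucc 1, Int.negSucc 1, Int.ofNat 319, Int.ofNat 3, Int.negSucc 34, Int.ofNat 0, Int.negSucc 210])))) (ZT.node 9066 (ZT.node 9064 (ZT.leaf []) (ZT.node 9065 (ZT.leaf []) (ZT.leaf []))) (ZT.node 9067 (ZT.leaf []) (ZT.node 9068 (ZT.leaf []) (ZT.leaf [])))))) (ZT.node 9080 (ZT.node 9074 (ZT.node 9071 (ZT.node 9070 (ZT.leaf []) (ZT.leaf []))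 (ZT.node 9072 (ZT.leaf []) (ZT.node 9073 (ZT.leaf [Int.negSucc 23, Int.ofNat 5, Int.ofNat 12, Int.negSucc 3, Int.ofNat 0, Int.negSucc 9, Int.negSucc 0, Int.ofNat 0, Int.negSucc 1, Int.ofNat 0, Int.ofNat 0, Int.ofNat 0, Int.ofNat 1, Int.ofNat 0, Int.negSucc 6, Int.ofNat 0, Int.ofNat 4, Int.ofNat 0, Int.negSucc 2]) (ZT.leaf [Int.ofNat 25, Int.negSucc 4, Int.negSucc 11, Int.ofNat 4, Int.ofNat 0, Int.ofNat 10, Int.ofNat 1, Int.ofNat 0, Int.ofNat 2, Int.ofNat 0, Int.ofNat 0, Int.ofNat 0, Int.negSucc 0, Int.ofNat 0, Int.ofNat 7, Int.ofNat 0, Int.negSucc 3, Int.ofNat 0, Int.ofNat 3])))) (ZT.node 9077 (ZT.node 9075 (ZT.leaf []) (ZT.node 9076 (ZT.leaf []) (ZT.leaf []))) (ZT.node 9078 (ZT.leaf []) (ZT.node 9079 (ZT.leaf []) (ZT.leaf []))))) (ZT.node 9086 (ZT.node 9083 (ZT.node 9081 (ZT.leaf []) (ZT.node 9082 (ZT.leaf []) (ZT.leaf []))) (ZT.node 9084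 (ZT.leaf [Int.ofNat 0, Int.ofNat 0, Int.ofNat 0, Int.ofNat 0, Int.negSucc 0]) (ZT.node 9085 (ZT.leaf []) (ZT.leaf [])))) (ZT.node 9089 (ZT.node 9087 (ZT.leaf []) (ZT.node 9088 (ZT.leaf []) (ZT.leaf []))) (ZT.node 9090 (ZT.leaf []) (ZT.node 9091 (ZT.leaf []) (ZT.leaf []))))))))) (ZT.node 9182 (ZT.node 9137 (ZT.node 9114 (ZT.node 9103 (ZT.node 9097 (ZT.node 9094 (ZT.node 9093 (ZT.leaf []) (ZT.leaf [Int.negSucc 353, Int.negSucc 113, Int.ofNat 102, Int.negSucc 27, Int.negSucc 0, Int.negSucc 56, Int.negSucc 4, Int.ofNat 11, Int.negSucc 2, Int.ofNat 0, Int.ofNat 0, Int.ofNat 0, Int.ofNat 3, Int.negSucc 0, Int.ofNat 32, Int.ofNat 1, Int.negSucc 3, Int.ofNat 0, Int.negSucc 42])) (ZT.node 9095 (ZT.leaf []) (ZT.node 9096 (ZT.leaf []) (ZT.leaf [])))) (ZT.node 9100 (ZT.node 9098 (ZT.leaf []) (ZT.node 9099 (ZT.leaf []) (ZT.leaf []))) (ZT.node 9101 (ZT.leaf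 []) (ZT.node 9102 (ZT.leaf []) (ZT.leaf []))))) (ZT.node 9108 (ZT.node 9105 (ZT.node 9104 (ZT.leaf [Int.ofNat 0, Int.ofNat 0, Int.ofNat 0, Int.ofNat 0, Int.ofNat 0, Int.ofNat 0, Int.ofNat 0, Int.ofNat 0, Int.ofNat 0, Int.ofNat 1]) (ZT.leaf [])) (ZT.node 9106 (ZT.leaf [Int.ofNat 0, Int.ofNat 0, Int.ofNat 0, Int.ofNat 0, Int.ofNat 0, Int.ofNat 1]) (ZT.node 9107 (ZT.leaf []) (ZT.leaf [])))) (ZT.node 9111 (ZT.node 9109 (ZT.leaf []) (ZT.node 9110 (ZT.leaf []) (ZT.leaf []))) (ZT.node 9112 (ZT.leaf []) (ZT.node 9113 (ZT.leaf []) (ZT.leaf [])))))) (ZT.node 9125 (ZT.node 9119 (ZT.node 9116 (ZT.node 9115 (ZT.leaf []) (ZT.leaf [])) (ZT.node 9117 (ZT.leaf []) (ZT.node 9118 (ZT.leaf []) (ZT.leaf [])))) (ZT.node 9122 (ZT.node 9120 (ZT.leaf [Int.negSucc 611, Int.negSucc 164, Int.ofNat 160, Int.negSucc 31, Int.ofNat 0, Int.negSucc 77, Int.negSucc 1, Int.ofNat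 8, Int.negSucc 5, Int.ofNat 0, Int.ofNat 0, Int.ofNat 0, Int.ofNat 0, Int.negSucc 0, Int.ofNat 46, Int.ofNat 0, Int.negSucc 6, Int.ofNat 0, Int.negSucc 61]) (ZT.node 9121 (ZT.leaf []) (ZT.leaf [Int.ofNat 1]))) (ZT.node 9123 (ZT.leaf []) (ZT.node 9124 (ZT.leaf []) (ZT.leaf []))))) (ZT.node 9131 (ZT.node 9128 (ZT.node 9126 (ZT.leaf []) (ZT.node 9127 (ZT.leaf []) (ZT.leaf []))) (ZT.node 9129 (ZT.leaf []) (ZT.node 9130 (ZT.leaf []) (ZT.leaf [])))) (ZT.node 9134 (ZT.node 9132 (ZT.leaf []) (ZT.node 9133 (ZT.leaf []) (ZT.leaf []))) (ZT.node 9135 (ZT.leaf []) (ZT.node 9136 (ZT.leaf []) (ZT.leaf []))))))) (ZT.node 9159 (ZT.node 9148 (ZT.node 9142 (ZT.node 9139 (ZT.node 9138 (ZT.leaf []) (ZT.leaf [])) (ZT.node 9140 (ZT.leaf []) (ZT.node 9141 (ZT.leaf []) (ZT.leaf [])))) (ZT.node 9145 (ZT.node 9143 (ZT.leaf []) (ZT.node 9144 (ZT.leaf []) (ZT.leaf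 []))) (ZT.node 9146 (ZT.leaf []) (ZT.node 9147 (ZT.leaf [Int.ofNat 927, Int.ofNat 558, Int.negSucc 255, Int.ofNat 105, Int.negSucc 1, Int.ofNat 171, Int.ofNat 12, Int.negSucc 30, Int.ofNat 5, Int.ofNat 0, Int.ofNat 0, Int.ofNat 0, Int.ofNat 1, Int.ofNat 8, Int.negSucc 157, Int.negSucc 6, Int.ofNat 15, Int.ofNat 0, Int.ofNat 139]) (ZT.leaf []))))) (ZT.node 9153 (ZT.node 9150 (ZT.node 9149 (ZT.leaf [Int.negSucc 3311, Int.negSucc 1519, Int.ofNat 807, Int.negSucc 256, Int.negSucc 1, Int.negSucc 463, Int.negSucc 51, Int.ofNat 109, Int.ofNat 3, Int.ofNat 0, Int.ofNat 0, Int.ofNat 0, Int.negSucc 4, Int.negSucc 8, Int.ofNat 556, Int.ofNat 5, Int.negSucc 76, Int.ofNat 0, Int.negSucc 403]) (ZT.leaf [Int.ofNat 7753, Int.ofNat 4295, Int.negSucc 1769, Int.ofNat 678, Int.ofNat 18, Int.ofNat 1121, Int.ofNat 191, Int.negSucc 367, Int.negSucc 63, Int.ofNat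 0, Int.ofNat 0, Int.ofNat 0, Int.ofNat 16, Int.ofNat 13, Int.negSucc 1565, Int.negSucc 19, Int.ofNat 194, Int.ofNat 0, Int.ofNat 1037])) (ZT.node 9151 (ZT.leaf []) (ZT.node 9152 (ZT.leaf []) (ZT.leaf [])))) (ZT.node 9156 (ZT.node 9154 (ZT.leaf []) (ZT.node 9155 (ZT.leaf []) (ZT.leaf [Int.negSucc 6185, Int.negSucc 2480, Int.ofNat 1462, Int.negSucc 398, Int.negSucc 6, Int.negSucc 790, Int.negSucc 69, Int.ofNat 169, Int.ofNat 6, Int.ofNat 0, Int.ofNat 0, Int.ofNat 0, Int.negSucc 15, Int.negSucc 10, Int.ofNat 846, Int.ofNat 2, Int.negSucc 142, Int.ofNat 0, Int.negSucc 700]))) (ZT.node 9157 (ZT.leaf [Int.ofNat 676, Int.ofNat 195, Int.negSucc 124, Int.ofNat 13, Int.negSucc 0, Int.ofNat 54, Int.ofNat 14, Int.negSucc 2, Int.negSucc 0, Int.ofNat 0, Int.ofNat 0, Int.ofNat 0, Int.ofNat 6, Int.ofNat 2, Int.negSucc 72, Int.ofNat 2, Int.ofNat 3, Int.ofNat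 0, Int.ofNat 56]) (ZT.node 9158 (ZT.leaf []) (ZT.leaf [])))))) (ZT.node 9170 (ZT.node 9164 (ZT.node 9161 (ZT.node 9160 (ZT.leaf []) (ZT.leaf [Int.negSucc 687, Int.negSucc 279, Int.ofNat 101, Int.negSucc 23, Int.ofNat 1, Int.negSucc 58, Int.negSucc 21, Int.ofNat 18, Int.ofNat 1, Int.ofNat 1, Int.negSucc 0, Int.ofNat 0, Int.negSucc 3, Int.negSucc 3, Int.ofNat 132, Int.ofNat 1, Int.negSucc 9, Int.ofNat 0, Int.negSucc 59])) (ZT.node 9162 (ZT.leaf []) (ZT.node 9163 (ZT.leaf [Int.negSucc 1500, Int.negSucc 2196, Int.ofNat 573, Int.negSucc 486, Int.negSucc 28, Int.negSucc 533, Int.negSucc 31, Int.ofNat 176, Int.ofNat 18, Int.negSucc 0, Int.ofNat 1, Int.negSucc 0, Int.ofNat 29, Int.negSucc 11, Int.ofNat 608, Int.ofNat 26, Int.negSucc 86, Int.negSucc 0, Int.negSucc 431]) (ZT.leaf [])))) (ZT.node 9167 (ZT.node 9165 (ZT.leaf []) (ZT.node 9166 (ZT.leaf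 []) (ZT.leaf [Int.negSucc 0]))) (ZT.node 9168 (ZT.leaf [Int.negSucc 0]) (ZT.node 9169 (ZT.leaf [Int.negSucc 6479, Int.negSucc 610, Int.ofNat 1384, Int.ofNat 7, Int.ofNat 3, Int.negSucc 467, Int.negSucc 53, Int.ofNat 47, Int.negSucc 21, Int.ofNat 0, Int.ofNat 0, Int.ofNat 0, Int.negSucc 25, Int.negSucc 5, Int.ofNat 352, Int.negSucc 19, Int.negSucc 111, Int.ofNat 0, Int.negSucc 438]) (ZT.leaf []))))) (ZT.node 9176 (ZT.node 9173 (ZT.node 9171 (ZT.leaf []) (ZT.node 9172 (ZT.leaf [Int.ofNat 121, Int.ofNat 59, Int.negSucc 32, Int.ofNat 13, Int.ofNat 1, Int.ofNat 23, Int.ofNat 2, Int.negSucc 7, Int.ofNat 0, Int.ofNat 0, Int.ofNat 0, Int.ofNat 0, Int.negSucc 1, Int.ofNat 0, Int.negSucc 20, Int.ofNat 0, Int.ofNat 0, Int.ofNat 0, Int.ofNat 15]) (ZT.leaf [Int.negSucc 2548, Int.negSucc 841, Int.ofNat 581, Int.negSucc 118, Int.negSucc 0, Int.negSucc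 279, Int.negSucc 20, Int.ofNat 47, Int.ofNat 0, Int.ofNat 0, Int.ofNat 0, Int.ofNat 0, Int.negSucc 9, Int.negSucc 1, Int.ofNat 290, Int.negSucc 1, Int.negSucc 52, Int.ofNat 0, Int.negSucc 254]))) (ZT.node 9174 (ZT.leaf []) (ZT.node 9175 (ZT.leaf [Int.ofNat 1746, Int.ofNat 599, Int.negSucc 387, Int.ofNat 82, Int.ofNat 1, Int.ofNat 200, Int.ofNat 30, Int.negSucc 47, Int.negSucc 3, Int.ofNat 0, Int.ofNat 0, Int.ofNat 0, Int.ofNat 6, Int.ofNat 0, Int.negSucc 237, Int.ofNat 1, Int.ofNat 39, Int.ofNat 0, Int.ofNat 181]) (ZT.leaf [Int.negSucc 567, Int.negSucc 214, Int.ofNat 143, Int.negSucc 39, Int.negSucc 0, Int.negSucc 77, Int.negSucc 6, Int.ofNat 17, Int.ofNat 0, Int.ofNat 0, Int.ofNat 0, Int.ofNat 0, Int.ofNat 0, Int.negSucc 0, Int.ofNat 74, Int.ofNat 0, Int.negSucc 10, Int.ofNat 0, Int.negSucc 65])))) (ZT.node 9179 (ZT.node 9177 (ZT.leaf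 []) (ZT.node 9178 (ZT.leaf [Int.ofNat 1]) (ZT.leaf []))) (ZT.node 9180 (ZT.leaf []) (ZT.node 9181 (ZT.leaf [Int.ofNat 140, Int.ofNat 57, Int.negSucc 20, Int.ofNat 5, Int.ofNat 0, Int.ofNat 8, Int.ofNat 3, Int.ofNat 1, Int.negSucc 1, Int.ofNat 0, Int.ofNat 0, Int.ofNat 0, Int.ofNat 3, Int.ofNat 0, Int.negSucc 22, Int.ofNat 1, Int.ofNat 1, Int.ofNat 0, Int.ofNat 10]) (ZT.leaf [Int.negSucc 3215, Int.negSucc 1078, Int.ofNat 760, Int.negSucc 176, Int.negSucc 3, Int.negSucc 393, Int.negSucc 43, Int.ofNat 88, Int.negSucc 0, Int.ofNat 0, Int.ofNat 0, Int.ofNat 0, Int.negSucc 3, Int.negSucc 1, Int.ofNat 393, Int.negSucc 0, Int.negSucc 54, Int.ofNat 0, Int.negSucc 336])))))))) (ZT.node 9227 (ZT.node 9204 (ZT.node 9193 (ZT.node 9187 (ZT.node 9184 (ZT.node 9183 (ZT.leaf []) (ZT.leaf [])) (ZT.node 9185 (ZT.leaf []) (ZT.node 9186 (ZT.leaf []) (ZT.leaf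 [])))) (ZT.node 9190 (ZT.node 9188 (ZT.leaf []) (ZT.node 9189 (ZT.leaf []) (ZT.leaf []))) (ZT.node 9191 (ZT.leaf []) (ZT.node 9192 (ZT.leaf []) (ZT.leaf [Int.ofNat 539, Int.ofNat 117, Int.negSucc 28, Int.negSucc 22, Int.negSucc 2, Int.ofNat 18, Int.ofNat 34, Int.negSucc 15, Int.negSucc 1, Int.negSucc 1, Int.ofNat 1, Int.ofNat 0, Int.ofNat 3, Int.ofNat 4, Int.negSucc 90, Int.ofNat 0, Int.negSucc 6, Int.ofNat 0, Int.ofNat 28]))))) (ZT.node 9198 (ZT.node 9195 (ZT.node 9194 (ZT.leaf []) (ZT.leaf [])) (ZT.node 9196 (ZT.leaf []) (ZT.node 9197 (ZT.leaf []) (ZT.leaf [])))) (ZT.node 9201 (ZT.node 9199 (ZT.leaf [Int.negSucc 7175, Int.negSucc 3790, Int.ofNat 1706, Int.negSucc 632, Int.negSucc 13, Int.negSucc 1063, Int.negSucc 132, Int.ofNat 286, Int.ofNat 32, Int.ofNat 0, Int.ofNat 0, Int.ofNat 0, Int.negSucc 12, Int.negSucc 14, Int.ofNat 1295, Int.ofNat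 15, Int.negSucc 149, Int.ofNat 0, Int.negSucc 931]) (ZT.node 9200 (ZT.leaf []) (ZT.leaf []))) (ZT.node 9202 (ZT.leaf []) (ZT.node 9203 (ZT.leaf []) (ZT.leaf [])))))) (ZT.node 9215 (ZT.node 9209 (ZT.node 9206 (ZT.node 9205 (ZT.leaf []) (ZT.leaf [])) (ZT.node 9207 (ZT.leaf []) (ZT.node 9208 (ZT.leaf []) (ZT.leaf [])))) (ZT.node 9212 (ZT.node 9210 (ZT.leaf []) (ZT.node 9211 (ZT.leaf []) (ZT.leaf []))) (ZT.node 9213 (ZT.leaf [Int.negSucc 541, Int.negSucc 302, Int.ofNat 141, Int.negSucc 55, Int.negSucc 1, Int.negSucc 87, Int.negSucc 5, Int.ofNat 27, Int.ofNat 3, Int.ofNat 0, Int.ofNat 0, Int.ofNat 0, Int.ofNat 1, Int.negSucc 0, Int.ofNat 101, Int.ofNat 1, Int.negSucc 18, Int.ofNat 0, Int.negSucc 75]) (ZT.node 9214 (ZT.leaf []) (ZT.leaf []))))) (ZT.node 9221 (ZT.node 9218 (ZT.node 9216 (ZT.leaf [Int.negSucc 47, Int.negSucc 36, Int.ofNat 11, Int.negSucc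 7, Int.ofNat 0, Int.negSucc 7, Int.negSucc 0, Int.ofNat 3, Int.ofNat 1, Int.ofNat 0, Int.ofNat 0, Int.ofNat 0, Int.ofNat 0, Int.ofNat 0, Int.ofNat 14, Int.ofNat 0, Int.negSucc 1, Int.ofNat 0, Int.negSucc 6]) (ZT.node 9217 (ZT.leaf [Int.ofNat 1]) (ZT.leaf [Int.ofNat 29, Int.ofNat 1, Int.negSucc 4, Int.negSucc 1, Int.ofNat 1, Int.ofNat 1, Int.negSucc 0, Int.ofNat 3, Int.ofNat 1, Int.ofNat 0, Int.ofNat 0, Int.ofNat 0, Int.ofNat 0, Int.ofNat 1, Int.ofNat 5, Int.ofNat 0, Int.negSucc 1, Int.ofNat 0, Int.ofNat 0]))) (ZT.node 9219 (ZT.leaf []) (ZT.node 9220 (ZT.leaf [Int.ofNat 1]) (ZT.leaf [])))) (ZT.node 9224 (ZT.node 9222 (ZT.leaf []) (ZT.node 9223 (ZT.leaf []) (ZT.leaf []))) (ZT.node 9225 (ZT.leaf []) (ZT.node 9226 (ZT.leaf [Int.ofNat 306, Int.ofNat 113, Int.negSucc 88, Int.ofNat 27, Int.ofNat 1, Int.ofNat 52, Int.ofNat 5, Int.negSucc 11, Int.ofNat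 2, Int.ofNat 0, Int.ofNat 0, Int.ofNat 0, Int.negSucc 2, Int.ofNat 1, Int.negSucc 32, Int.negSucc 0, Int.ofNat 3, Int.ofNat 0, Int.ofNat 39]) (ZT.leaf []))))))) (ZT.node 9249 (ZT.node 9238 (ZT.node 9232 (ZT.node 9229 (ZT.node 9228 (ZT.leaf []) (ZT.leaf [])) (ZT.node 9230 (ZT.leaf []) (ZT.node 9231 (ZT.leaf []) (ZT.leaf [])))) (ZT.node 9235 (ZT.node 9233 (ZT.leaf [Int.ofNat 84, Int.ofNat 28, Int.negSucc 21, Int.ofNat 4, Int.ofNat 0, Int.ofNat 10, Int.ofNat 0, Int.negSucc 0, Int.ofNat 0, Int.negSucc 0, Int.ofNat 0, Int.ofNat 0, Int.ofNat 0, Int.ofNat 0, Int.negSucc 10, Int.ofNat 0, Int.ofNat 2, Int.ofNat 0, Int.ofNat 9]) (ZT.node 9234 (ZT.leaf []) (ZT.leaf [Int.ofNat 384, Int.ofNat 146, Int.negSucc 87, Int.ofNat 23, Int.ofNat 1, Int.ofNat 44, Int.ofNat 4, Int.negSucc 6, Int.ofNat 0, Int.ofNat 0, Int.ofNat 0, Int.ofNat 0, Int.ofNat 2, Int.ofNat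 1, Int.negSucc 46, Int.ofNat 0, Int.ofNat 6, Int.ofNat 0, Int.ofNat 39]))) (ZT.node 9236 (ZT.leaf []) (ZT.node 9237 (ZT.leaf [Int.ofNat 0, Int.ofNat 0, Int.ofNat 0, Int.ofNat 0, Int.ofNat 0, Int.negSucc 0]) (ZT.leaf []))))) (ZT.node 9243 (ZT.node 9240 (ZT.node 9239 (ZT.leaf []) (ZT.leaf [Int.ofNat 1332, Int.ofNat 737, Int.negSucc 317, Int.ofNat 122, Int.ofNat 3, Int.ofNat 199, Int.ofNat 28, Int.negSucc 66, Int.negSucc 9, Int.ofNat 0, Int.ofNat 0, Int.ofNat 0, Int.ofNat 0, Int.ofNat 3, Int.negSucc 253, Int.negSucc 1, Int.ofNat 37, Int.ofNat 0, Int.ofNat 183])) (ZT.node 9241 (ZT.leaf []) (ZT.node 9242 (ZT.leaf []) (ZT.leaf [])))) (ZT.node 9246 (ZT.node 9244 (ZT.leaf []) (ZT.node 9245 (ZT.leaf []) (ZT.leaf []))) (ZT.node 9247 (ZT.leaf []) (ZT.node 9248 (ZT.leaf []) (ZT.leaf [])))))) (ZT.node 9260 (ZT.node 9254 (ZT.node 9251 (ZT.node 9250 (ZT.leaf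 []) (ZT.leaf [])) (ZT.node 9252 (ZT.leaf []) (ZT.node 9253 (ZT.leaf []) (ZT.leaf [])))) (ZT.node 9257 (ZT.node 9255 (ZT.leaf [Int.ofNat 1]) (ZT.node 9256 (ZT.leaf []) (ZT.leaf []))) (ZT.node 9258 (ZT.leaf []) (ZT.node 9259 (ZT.leaf []) (ZT.leaf []))))) (ZT.node 9266 (ZT.node 9263 (ZT.node 9261 (ZT.leaf []) (ZT.node 9262 (ZT.leaf []) (ZT.leaf []))) (ZT.node 9264 (ZT.leaf []) (ZT.node 9265 (ZT.leaf []) (ZT.leaf [])))) (ZT.node 9269 (ZT.node 9267 (ZT.leaf []) (ZT.node 9268 (ZT.leaf []) (ZT.leaf []))) (ZT.node 9270 (ZT.leaf []) (ZT.node 9271 (ZT.leaf []) (ZT.leaf []))))))))))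

noncomputable def labT_19 : ZT := (ZT.node 9452 (ZT.node 9362 (ZT.node 9317 (ZT.node 9294 (ZT.node 9283 (ZT.node 9277 (ZT.node 9274 (ZT.node 9273 (ZT.leaf []) (ZT.leaf [])) (ZT.node 9275 (ZT.leaf [Int.negSucc 10427, Int.negSucc 2792, Int.ofNat 2282, Int.negSucc 335, Int.negSucc 4, Int.negSucc 1029, Int.negSucc 131, Int.ofNat 207, Int.ofNat 1, Int.ofNat 1, Int.ofNat 0, Int.ofNat 0, Int.negSucc 37, Int.negSucc 16, Int.ofNat 1090, Int.negSucc 9, Int.negSucc 201, Int.ofNat 0, Int.negSucc 950]) (ZT.node 9276 (ZT.leaf []) (ZT.leaf [])))) (ZT.node 9280 (ZT.node 9278 (ZT.leaf []) (ZT.node 9279 (ZT.leaf [Int.ofNat 16689, Int.ofNat 5217, Int.negSucc 3752, Int.ofNat 737, Int.ofNat 7, Int.ofNat 1836, Int.ofNat 237, Int.negSucc 389, Int.negSucc 10, Int.negSucc 0, Int.ofNat 0, Int.ofNat 0, Int.ofNat 56, Int.ofNat 19, Int.negSucc 1963, Int.ofNat 12,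 Int.ofNat 298, Int.ofNat 0, Int.ofNat 1647]) (ZT.leaf []))) (ZT.node 9281 (ZT.leaf [Int.negSucc 67, Int.negSucc 15, Int.ofNat 8, Int.ofNat 1, Int.ofNat 0, Int.negSucc 1, Int.negSucc 0, Int.negSucc 0, Int.ofNat 0, Int.negSucc 0, Int.ofNat 0, Int.ofNat 0, Int.negSucc 0, Int.ofNat 0, Int.ofNat 1, Int.ofNat 0, Int.ofNat 0, Int.ofNat 0, Int.negSucc 2]) (ZT.node 9282 (ZT.leaf []) (ZT.leaf [Int.ofNat 0, Int.ofNat 0, Int.ofNat 0, Int.ofNat 0, Int.ofNat 0, Int.ofNat 0, Int.ofNat 0, Int.ofNat 1]))))) (ZT.node 9288 (ZT.node 9285 (ZT.node 9284 (ZT.leaf []) (ZT.leaf [])) (ZT.node 9286 (ZT.leaf []) (ZT.node 9287 (ZT.leaf []) (ZT.leaf [])))) (ZT.node 9291 (ZT.node 9289 (ZT.leaf []) (ZT.node 9290 (ZT.leaf []) (ZT.leaf []))) (ZT.node 9292 (ZT.leaf [Int.ofNat 356, Int.negSucc 680, Int.negSucc 80, Int.negSucc 122, Int.negSucc 4, Int.negSucc 55, Int.negSucc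 37, Int.ofNat 74, Int.ofNat 32, Int.ofNat 1, Int.ofNat 0, Int.ofNat 0, Int.ofNat 1, Int.negSucc 1, Int.ofNat 201, Int.ofNat 9, Int.negSucc 7, Int.ofNat 0, Int.negSucc 69]) (ZT.node 9293 (ZT.leaf []) (ZT.leaf [])))))) (ZT.node 9305 (ZT.node 9299 (ZT.node 9296 (ZT.node 9295 (ZT.leaf []) (ZT.leaf [])) (ZT.node 9297 (ZT.leaf []) (ZT.node 9298 (ZT.leaf []) (ZT.leaf [])))) (ZT.node 9302 (ZT.node 9300 (ZT.leaf []) (ZT.node 9301 (ZT.leaf []) (ZT.leaf [Int.ofNat 23, Int.ofNat 6, Int.negSucc 2, Int.negSucc 0, Int.ofNat 0, Int.ofNat 0, Int.ofNat 0, Int.ofNat 1, Int.ofNat 0, Int.ofNat 0, Int.ofNat 0, Int.ofNat 0, Int.ofNat 0, Int.ofNat 0, Int.negSucc 0, Int.ofNat 0, Int.ofNat 0, Int.ofNat 0, Int.ofNat 1]))) (ZT.node 9303 (ZT.leaf []) (ZT.node 9304 (ZT.leaf []) (ZT.leaf []))))) (ZT.node 9311 (ZT.node 9308 (ZT.node 9306 (ZT.leaf []) (ZT.node 9307 (ZT.leaf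 []) (ZT.leaf []))) (ZT.node 9309 (ZT.leaf []) (ZT.node 9310 (ZT.leaf []) (ZT.leaf [])))) (ZT.node 9314 (ZT.node 9312 (ZT.leaf []) (ZT.node 9313 (ZT.leaf []) (ZT.leaf []))) (ZT.node 9315 (ZT.leaf []) (ZT.node 9316 (ZT.leaf []) (ZT.leaf []))))))) (ZT.node 9339 (ZT.node 9328 (ZT.node 9322 (ZT.node 9319 (ZT.node 9318 (ZT.leaf []) (ZT.leaf [])) (ZT.node 9320 (ZT.leaf []) (ZT.node 9321 (ZT.leaf []) (ZT.leaf [])))) (ZT.node 9325 (ZT.node 9323 (ZT.leaf []) (ZT.node 9324 (ZT.leaf []) (ZT.leaf []))) (ZT.node 9326 (ZT.leaf [Int.negSucc 159, Int.negSucc 20, Int.ofNat 45, Int.negSucc 6, Int.ofNat 0, Int.negSucc 22, Int.ofNat 0, Int.negSucc 0, Int.negSucc 2, Int.ofNat 0, Int.ofNat 0, Int.ofNat 0, Int.ofNat 0, Int.ofNat 0, Int.ofNat 1, Int.ofNat 0, Int.ofNat 0, Int.ofNat 0, Int.negSucc 14]) (ZT.node 9327 (ZT.leaf []) (ZT.leaf [Int.ofNat 1]))))) (ZT.node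 9333 (ZT.node 9330 (ZT.node 9329 (ZT.leaf []) (ZT.leaf [])) (ZT.node 9331 (ZT.leaf []) (ZT.node 9332 (ZT.leaf []) (ZT.leaf [])))) (ZT.node 9336 (ZT.node 9334 (ZT.leaf []) (ZT.node 9335 (ZT.leaf []) (ZT.leaf []))) (ZT.node 9337 (ZT.leaf []) (ZT.node 9338 (ZT.leaf []) (ZT.leaf [Int.ofNat 1])))))) (ZT.node 9350 (ZT.node 9344 (ZT.node 9341 (ZT.node 9340 (ZT.leaf []) (ZT.leaf [])) (ZT.node 9342 (ZT.leaf []) (ZT.node 9343 (ZT.leaf []) (ZT.leaf [])))) (ZT.node 9347 (ZT.node 9345 (ZT.leaf []) (ZT.node 9346 (ZT.leaf []) (ZT.leaf [Int.ofNat 2668, Int.ofNat 2038, Int.negSucc 676, Int.ofNat 366, Int.ofNat 11, Int.ofNat 509, Int.ofNat 55, Int.negSucc 153, Int.negSucc 20, Int.ofNat 0, Int.ofNat 0, Int.ofNat 0, Int.negSucc 0, Int.ofNat 11, Int.negSucc 660, Int.negSucc 13, Int.ofNat 90, Int.ofNat 0, Int.ofNat 444]))) (ZT.node 9348 (ZT.leaf []) (ZT.node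 9349 (ZT.leaf []) (ZT.leaf []))))) (ZT.node 9356 (ZT.node 9353 (ZT.node 9351 (ZT.leaf []) (ZT.node 9352 (ZT.leaf []) (ZT.leaf []))) (ZT.node 9354 (ZT.leaf [Int.ofNat 1316, Int.ofNat 729, Int.negSucc 318, Int.ofNat 122, Int.ofNat 2, Int.ofNat 200, Int.ofNat 29, Int.negSucc 64, Int.negSucc 9, Int.ofNat 0, Int.ofNat 0, Int.ofNat 0, Int.ofNat 2, Int.ofNat 2, Int.negSucc 261, Int.negSucc 1, Int.ofNat 35, Int.ofNat 0, Int.ofNat 183]) (ZT.node 9355 (ZT.leaf []) (ZT.leaf [])))) (ZT.node 9359 (ZT.node 9357 (ZT.leaf []) (ZT.node 9358 (ZT.leaf []) (ZT.leaf []))) (ZT.node 9360 (ZT.leaf []) (ZT.node 9361 (ZT.leaf []) (ZT.leaf [])))))))) (ZT.node 9407 (ZT.node 9384 (ZT.node 9373 (ZT.node 9367 (ZT.node 9364 (ZT.node 9363 (ZT.leaf []) (ZT.leaf [])) (ZT.node 9365 (ZT.leaf []) (ZT.node 9366 (ZT.leaf []) (ZT.leaf [Int.negSucc 0])))) (ZT.node 9370 (ZT.node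 9368 (ZT.leaf []) (ZT.node 9369 (ZT.leaf []) (ZT.leaf [Int.ofNat 14549, Int.ofNat 5789, Int.negSucc 3398, Int.ofNat 928, Int.ofNat 21, Int.ofNat 1905, Int.ofNat 190, Int.negSucc 460, Int.negSucc 23, Int.ofNat 0, Int.ofNat 0, Int.ofNat 0, Int.ofNat 21, Int.ofNat 10, Int.negSucc 1892, Int.negSucc 0, Int.ofNat 324, Int.ofNat 0, Int.ofNat 1635]))) (ZT.node 9371 (ZT.leaf [Int.negSucc 1257, Int.negSucc 643, Int.ofNat 335, Int.negSucc 118, Int.ofNat 3, Int.negSucc 204, Int.negSucc 14, Int.ofNat 33, Int.negSucc 5, Int.ofNat 0, Int.ofNat 0, Int.ofNat 0, Int.negSucc 2, Int.negSucc 7, Int.ofNat 186, Int.ofNat 7, Int.negSucc 15, Int.ofNat 0, Int.negSucc 168]) (ZT.node 9372 (ZT.leaf []) (ZT.leaf []))))) (ZT.node 9378 (ZT.node 9375 (ZT.node 9374 (ZT.leaf []) (ZT.leaf [])) (ZT.node 9376 (ZT.leaf []) (ZT.node 9377 (ZT.leaf []) (ZT.leaf [])))) (ZT.node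 9381 (ZT.node 9379 (ZT.leaf []) (ZT.node 9380 (ZT.leaf []) (ZT.leaf []))) (ZT.node 9382 (ZT.leaf []) (ZT.node 9383 (ZT.leaf []) (ZT.leaf [Int.negSucc 30, Int.ofNat 4, Int.ofNat 8, Int.negSucc 0, Int.ofNat 0, Int.negSucc 2, Int.ofNat 0, Int.ofNat 0, Int.negSucc 0, Int.negSucc 0, Int.ofNat 0, Int.ofNat 0, Int.ofNat 0, Int.ofNat 0, Int.negSucc 1, Int.ofNat 0, Int.negSucc 0, Int.ofNat 0, Int.negSucc 1])))))) (ZT.node 9395 (ZT.node 9389 (ZT.node 9386 (ZT.node 9385 (ZT.leaf []) (ZT.leaf [])) (ZT.node 9387 (ZT.leaf []) (ZT.node 9388 (ZT.leaf []) (ZT.leaf [])))) (ZT.node 9392 (ZT.node 9390 (ZT.leaf []) (ZT.node 9391 (ZT.leaf []) (ZT.leaf []))) (ZT.node 9393 (ZT.leaf []) (ZT.node 9394 (ZT.leaf []) (ZT.leaf []))))) (ZT.node 9401 (ZT.node 9398 (ZT.node 9396 (ZT.leaf []) (ZT.node 9397 (ZT.leaf []) (ZT.leaf []))) (ZT.node 9399 (ZT.leaf []) (ZT.node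 9400 (ZT.leaf []) (ZT.leaf [])))) (ZT.node 9404 (ZT.node 9402 (ZT.leaf []) (ZT.node 9403 (ZT.leaf []) (ZT.leaf []))) (ZT.node 9405 (ZT.leaf []) (ZT.node 9406 (ZT.leaf []) (ZT.leaf []))))))) (ZT.node 9429 (ZT.node 9418 (ZT.node 9412 (ZT.node 9409 (ZT.node 9408 (ZT.leaf []) (ZT.leaf [])) (ZT.node 9410 (ZT.leaf []) (ZT.node 9411 (ZT.leaf []) (ZT.leaf [])))) (ZT.node 9415 (ZT.node 9413 (ZT.leaf [Int.ofNat 1312, Int.ofNat 2284, Int.negSucc 401, Int.ofNat 424, Int.ofNat 14, Int.ofNat 468, Int.ofNat 60, Int.negSucc 184, Int.negSucc 39, Int.ofNat 0, Int.ofNat 0, Int.ofNat 0, Int.negSucc 6, Int.ofNat 17, Int.negSucc 758, Int.negSucc 20, Int.ofNat 102, Int.ofNat 0, Int.ofNat 418]) (ZT.node 9414 (ZT.leaf []) (ZT.leaf []))) (ZT.node 9416 (ZT.leaf []) (ZT.node 9417 (ZT.leaf []) (ZT.leaf []))))) (ZT.node 9423 (ZT.node 9420 (ZT.node 9419 (ZT.leaf [])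 (ZT.leaf [])) (ZT.node 9421 (ZT.leaf []) (ZT.node 9422 (ZT.leaf []) (ZT.leaf [])))) (ZT.node 9426 (ZT.node 9424 (ZT.leaf [Int.ofNat 542, Int.ofNat 303, Int.negSucc 140, Int.ofNat 56, Int.ofNat 2, Int.ofNat 88, Int.ofNat 6, Int.negSucc 26, Int.negSucc 2, Int.ofNat 0, Int.ofNat 0, Int.ofNat 0, Int.negSucc 0, Int.ofNat 1, Int.negSucc 100, Int.negSucc 0, Int.ofNat 19, Int.ofNat 0, Int.ofNat 76]) (ZT.node 9425 (ZT.leaf []) (ZT.leaf []))) (ZT.node 9427 (ZT.leaf []) (ZT.node 9428 (ZT.leaf []) (ZT.leaf [])))))) (ZT.node 9440 (ZT.node 9434 (ZT.node 9431 (ZT.node 9430 (ZT.leaf []) (ZT.leaf [])) (ZT.node 9432 (ZT.leaf []) (ZT.node 9433 (ZT.leaf []) (ZT.leaf [])))) (ZT.node 9437 (ZT.node 9435 (ZT.leaf []) (ZT.node 9436 (ZT.leaf []) (ZT.leaf []))) (ZT.node 9438 (ZT.leaf []) (ZT.node 9439 (ZT.leaf []) (ZT.leaf []))))) (ZT.node 9446 (ZT.node 9443 (ZT.node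 9441 (ZT.leaf []) (ZT.node 9442 (ZT.leaf [Int.ofNat 2489, Int.ofNat 1184, Int.negSucc 538, Int.ofNat 173, Int.ofNat 7, Int.ofNat 322, Int.ofNat 72, Int.negSucc 125, Int.negSucc 25, Int.ofNat 0, Int.ofNat 0, Int.ofNat 0, Int.ofNat 3, Int.ofNat 0, Int.negSucc 538, Int.ofNat 2, Int.ofNat 68, Int.ofNat 0, Int.ofNat 308]) (ZT.leaf []))) (ZT.node 9444 (ZT.leaf []) (ZT.node 9445 (ZT.leaf []) (ZT.leaf [Int.ofNat 458, Int.ofNat 300, Int.negSucc 95, Int.ofNat 46, Int.ofNat 0, Int.ofNat 67, Int.ofNat 17, Int.negSucc 18, Int.negSucc 4, Int.ofNat 0, Int.ofNat 0, Int.ofNat 0, Int.ofNat 3, Int.ofNat 2, Int.negSucc 98, Int.negSucc 1, Int.ofNat 2, Int.ofNat 0, Int.ofNat 64])))) (ZT.node 9449 (ZT.node 9447 (ZT.leaf []) (ZT.node 9448 (ZT.leaf [Int.ofNat 1]) (ZT.leaf []))) (ZT.node 9450 (ZT.leaf []) (ZT.node 9451 (ZT.leaf []) (ZT.leaf []))))))))) (ZT.node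 9542 (ZT.node 9497 (ZT.node 9474 (ZT.node 9463 (ZT.node 9457 (ZT.node 9454 (ZT.node 9453 (ZT.leaf []) (ZT.leaf [])) (ZT.node 9455 (ZT.leaf []) (ZT.node 9456 (ZT.leaf []) (ZT.leaf [])))) (ZT.node 9460 (ZT.node 9458 (ZT.leaf []) (ZT.node 9459 (ZT.leaf []) (ZT.leaf []))) (ZT.node 9461 (ZT.leaf []) (ZT.node 9462 (ZT.leaf []) (ZT.leaf []))))) (ZT.node 9468 (ZT.node 9465 (ZT.node 9464 (ZT.leaf []) (ZT.leaf [Int.ofNat 1309, Int.ofNat 752, Int.negSucc 286, Int.ofNat 113, Int.ofNat 4, Int.ofNat 187, Int.ofNat 45, Int.negSucc 78, Int.negSucc 17, Int.ofNat 0, Int.ofNat 0, Int.ofNat 0, Int.ofNat 1, Int.ofNat 1, Int.negSucc 314, Int.negSucc 2, Int.ofNat 39, Int.negSucc 0, Int.ofNat 179])) (ZT.node 9466 (ZT.leaf []) (ZT.node 9467 (ZT.leaf []) (ZT.leaf [])))) (ZT.node 9471 (ZT.node 9469 (ZT.leaf []) (ZT.node 9470 (ZT.leaf []) (ZT.leaf []))) (ZT.node 9472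 (ZT.leaf []) (ZT.node 9473 (ZT.leaf [Int.ofNat 1]) (ZT.leaf [])))))) (ZT.node 9485 (ZT.node 9479 (ZT.node 9476 (ZT.node 9475 (ZT.leaf []) (ZT.leaf [])) (ZT.node 9477 (ZT.leaf []) (ZT.node 9478 (ZT.leaf []) (ZT.leaf [])))) (ZT.node 9482 (ZT.node 9480 (ZT.leaf []) (ZT.node 9481 (ZT.leaf []) (ZT.leaf []))) (ZT.node 9483 (ZT.leaf []) (ZT.node 9484 (ZT.leaf []) (ZT.leaf []))))) (ZT.node 9491 (ZT.node 9488 (ZT.node 9486 (ZT.leaf []) (ZT.node 9487 (ZT.leaf []) (ZT.leaf []))) (ZT.node 9489 (ZT.leaf []) (ZT.node 9490 (ZT.leaf []) (ZT.leaf [Int.ofNat 2387, Int.ofNat 961, Int.negSucc 550, Int.ofNat 152, Int.ofNat 4, Int.ofNat 293, Int.ofNat 40, Int.negSucc 77, Int.negSucc 7, Int.ofNat 0, Int.ofNat 0, Int.ofNat 0, Int.ofNat 4, Int.ofNat 1, Int.negSucc 397, Int.ofNat 2, Int.ofNat 62, Int.ofNat 0, Int.ofNat 265])))) (ZT.node 9494 (ZT.node 9492 (ZT.leaf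 []) (ZT.node 9493 (ZT.leaf []) (ZT.leaf [Int.negSucc 2292, Int.negSucc 754, Int.ofNat 523, Int.negSucc 104, Int.ofNat 0, Int.negSucc 260, Int.negSucc 19, Int.ofNat 44, Int.negSucc 0, Int.ofNat 0, Int.ofNat 0, Int.ofNat 0, Int.negSucc 7, Int.negSucc 1, Int.ofNat 256, Int.negSucc 1, Int.negSucc 48, Int.ofNat 0, Int.negSucc 232]))) (ZT.node 9495 (ZT.leaf []) (ZT.node 9496 (ZT.leaf []) (ZT.leaf []))))))) (ZT.node 9519 (ZT.node 9508 (ZT.node 9502 (ZT.node 9499 (ZT.node 9498 (ZT.leaf []) (ZT.leaf [])) (ZT.node 9500 (ZT.leaf [Int.negSucc 8390, Int.negSucc 6334, Int.ofNat 1980, Int.negSucc 1054, Int.negSucc 27, Int.negSucc 1488, Int.negSucc 288, Int.ofNat 564, Int.ofNat 120, Int.ofNat 1, Int.ofNat 0, Int.ofNat 1, Int.negSucc 7, Int.negSucc 21, Int.ofNat 2274, Int.ofNat 38, Int.negSucc 245, Int.ofNat 1, Int.negSucc 1385]) (ZT.node 9501 (ZT.leaf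 []) (ZT.leaf [Int.ofNat 7075, Int.ofNat 5606, Int.negSucc 1660, Int.ofNat 933, Int.ofNat 26, Int.ofNat 1289, Int.ofNat 260, Int.negSucc 498, Int.negSucc 109, Int.negSucc 0, Int.ofNat 0, Int.negSucc 0, Int.ofNat 6, Int.ofNat 20, Int.negSucc 2011, Int.negSucc 35, Int.ofNat 211, Int.negSucc 0, Int.ofNat 1203])))) (ZT.node 9505 (ZT.node 9503 (ZT.leaf []) (ZT.node 9504 (ZT.leaf []) (ZT.leaf [Int.ofNat 138, Int.ofNat 28, Int.negSucc 31, Int.ofNat 3, Int.ofNat 0, Int.ofNat 13, Int.negSucc 0, Int.ofNat 1, Int.ofNat 1, Int.ofNat 0, Int.ofNat 0, Int.ofNat 0, Int.ofNat 1, Int.ofNat 0, Int.negSucc 7, Int.ofNat 0, Int.ofNat 4, Int.ofNat 0, Int.ofNat 12]))) (ZT.node 9506 (ZT.leaf []) (ZT.node 9507 (ZT.leaf []) (ZT.leaf [Int.ofNat 104, Int.ofNat 18, Int.negSucc 27, Int.ofNat 4, Int.ofNat 0, Int.ofNat 11, Int.ofNat 0, Int.negSucc 0, Int.ofNat 1, Int.ofNat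 0, Int.ofNat 0, Int.ofNat 0, Int.ofNat 0, Int.ofNat 0, Int.negSucc 3, Int.ofNat 0, Int.ofNat 1, Int.ofNat 0, Int.ofNat 9]))))) (ZT.node 9513 (ZT.node 9510 (ZT.node 9509 (ZT.leaf [Int.ofNat 2, Int.ofNat 1, Int.ofNat 0, Int.ofNat 0, Int.ofNat 0, Int.ofNat 0, Int.ofNat 0, Int.ofNat 0, Int.ofNat 0, Int.ofNat 0, Int.ofNat 0, Int.ofNat 0, Int.ofNat 0, Int.ofNat 0, Int.ofNat 0, Int.ofNat 0, Int.ofNat 0, Int.ofNat 0, Int.ofNat 0]) (ZT.leaf [])) (ZT.node 9511 (ZT.leaf []) (ZT.node 9512 (ZT.leaf [Int.ofNat 1]) (ZT.leaf [])))) (ZT.node 9516 (ZT.node 9514 (ZT.leaf []) (ZT.node 9515 (ZT.leaf []) (ZT.leaf []))) (ZT.node 9517 (ZT.leaf []) (ZT.node 9518 (ZT.leaf [Int.negSucc 4927, Int.negSucc 1653, Int.ofNat 1182, Int.negSucc 288, Int.negSucc 3, Int.negSucc 618, Int.negSucc 47, Int.ofNat 99, Int.negSucc 13, Int.ofNat 0, Int.ofNat 0, Int.ofNat 0, Int.negSucc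 12, Int.negSucc 3, Int.ofNat 559, Int.ofNat 0, Int.negSucc 70, Int.ofNat 0, Int.negSucc 511]) (ZT.leaf [Int.ofNat 2, Int.ofNat 1, Int.ofNat 0, Int.ofNat 0, Int.ofNat 0, Int.ofNat 0, Int.ofNat 0, Int.ofNat 0, Int.ofNat 0, Int.ofNat 0, Int.ofNat 0, Int.ofNat 0, Int.ofNat 0, Int.ofNat 0, Int.ofNat 0, Int.ofNat 0, Int.ofNat 0, Int.ofNat 0, Int.ofNat 0])))))) (ZT.node 9530 (ZT.node 9524 (ZT.node 9521 (ZT.node 9520 (ZT.leaf []) (ZT.leaf [])) (ZT.node 9522 (ZT.leaf []) (ZT.node 9523 (ZT.leaf [Int.negSucc 0]) (ZT.leaf [Int.ofNat 585, Int.ofNat 186, Int.negSucc 147, Int.ofNat 34, Int.ofNat 1, Int.ofNat 70, Int.ofNat 4, Int.negSucc 14, Int.ofNat 1, Int.ofNat 0, Int.ofNat 0, Int.ofNat 0, Int.ofNat 0, Int.ofNat 1, Int.negSucc 55, Int.negSucc 0, Int.ofNat 15, Int.ofNat 0, Int.ofNat 60])))) (ZT.node 9527 (ZT.node 9525 (ZT.leaf []) (ZT.node 9526 (ZT.leaf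 []) (ZT.leaf []))) (ZT.node 9528 (ZT.leaf []) (ZT.node 9529 (ZT.leaf [Int.negSucc 20, Int.ofNat 6, Int.ofNat 12, Int.negSucc 3, Int.ofNat 0, Int.negSucc 9, Int.negSucc 0, Int.ofNat 0, Int.negSucc 1, Int.ofNat 0, Int.ofNat 0, Int.ofNat 0, Int.ofNat 1, Int.ofNat 0, Int.negSucc 6, Int.ofNat 0, Int.ofNat 4, Int.ofNat 0, Int.negSucc 2]) (ZT.leaf []))))) (ZT.node 9536 (ZT.node 9533 (ZT.node 9531 (ZT.leaf []) (ZT.node 9532 (ZT.leaf []) (ZT.leaf []))) (ZT.node 9534 (ZT.leaf []) (ZT.node 9535 (ZT.leaf []) (ZT.leaf [])))) (ZT.node 9539 (ZT.node 9537 (ZT.leaf []) (ZT.node 9538 (ZT.leaf []) (ZT.leaf []))) (ZT.node 9540 (ZT.leaf []) (ZT.node 9541 (ZT.leaf []) (ZT.leaf [])))))))) (ZT.node 9587 (ZT.node 9564 (ZT.node 9553 (ZT.node 9547 (ZT.node 9544 (ZT.node 9543 (ZT.leaf []) (ZT.leaf [])) (ZT.node 9545 (ZT.leaf []) (ZT.node 9546 (ZT.leaf []) (ZT.leaf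 [])))) (ZT.node 9550 (ZT.node 9548 (ZT.leaf []) (ZT.node 9549 (ZT.leaf []) (ZT.leaf [Int.ofNat 384, Int.ofNat 304, Int.negSucc 79, Int.ofNat 43, Int.ofNat 1, Int.ofNat 65, Int.ofNat 11, Int.negSucc 19, Int.negSucc 4, Int.ofNat 0, Int.ofNat 0, Int.ofNat 0, Int.ofNat 2, Int.ofNat 1, Int.negSucc 89, Int.negSucc 1, Int.ofNat 6, Int.ofNat 0, Int.ofNat 58]))) (ZT.node 9551 (ZT.leaf []) (ZT.node 9552 (ZT.leaf []) (ZT.leaf []))))) (ZT.node 9558 (ZT.node 9555 (ZT.node 9554 (ZT.leaf []) (ZT.leaf [])) (ZT.node 9556 (ZT.leaf [Int.negSucc 504, Int.negSucc 71, Int.ofNat 132, Int.negSucc 17, Int.ofNat 0, Int.negSucc 52, Int.ofNat 2, Int.negSucc 1, Int.negSucc 5, Int.ofNat 0, Int.ofNat 0, Int.ofNat 0, Int.negSucc 1, Int.negSucc 0, Int.ofNat 13, Int.ofNat 0, Int.negSucc 1, Int.ofNat 0, Int.negSucc 43]) (ZT.node 9557 (ZT.leaf []) (ZT.leaf [])))) (ZT.node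 9561 (ZT.node 9559 (ZT.leaf [Int.negSucc 0]) (ZT.node 9560 (ZT.leaf [Int.negSucc 6575, Int.negSucc 3559, Int.ofNat 1502, Int.negSucc 556, Int.negSucc 13, Int.negSucc 950, Int.negSucc 140, Int.ofNat 284, Int.ofNat 40, Int.ofNat 0, Int.ofNat 0, Int.ofNat 0, Int.negSucc 14, Int.negSucc 13, Int.ofNat 1267, Int.ofNat 18, Int.negSucc 154, Int.ofNat 0, Int.negSucc 862]) (ZT.leaf []))) (ZT.node 9562 (ZT.leaf []) (ZT.node 9563 (ZT.leaf [Int.negSucc 6261, Int.negSucc 4865, Int.ofNat 1547, Int.negSucc 838, Int.negSucc 16, Int.negSucc 1187, Int.negSucc 138, Int.ofNat 338, Int.ofNat 50, Int.ofNat 0, Int.ofNat 0, Int.ofNat 0, Int.negSucc 8, Int.negSucc 34, Int.ofNat 1532, Int.ofNat 32, Int.negSucc 176, Int.negSucc 0, Int.negSucc 1037]) (ZT.leaf [Int.ofNat 2636, Int.negSucc 1004, Int.negSucc 429, Int.negSucc 290, Int.negSucc 9, Int.negSucc 88, Int.negSucc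 6, Int.ofNat 97, Int.ofNat 22, Int.ofNat 1, Int.ofNat 0, Int.ofNat 0, Int.ofNat 31, Int.negSucc 6, Int.ofNat 187, Int.ofNat 32, Int.ofNat 28, Int.ofNat 0, Int.negSucc 30])))))) (ZT.node 9575 (ZT.node 9569 (ZT.node 9566 (ZT.node 9565 (ZT.leaf [Int.negSucc 5093, Int.negSucc 3260, Int.ofNat 1168, Int.negSucc 528, Int.negSucc 14, Int.negSucc 783, Int.negSucc 122, Int.ofNat 264, Int.ofNat 48, Int.ofNat 0, Int.ofNat 0, Int.negSucc 0, Int.negSucc 10, Int.negSucc 13, Int.ofNat 1091, Int.ofNat 17, Int.negSucc 137, Int.negSucc 0, Int.negSucc 726]) (ZT.leaf [])) (ZT.node 9567 (ZT.leaf []) (ZT.node 9568 (ZT.leaf []) (ZT.leaf [Int.ofNat 0, Int.ofNat 0, Int.ofNat 0, Int.ofNat 0, Int.ofNat 0, Int.ofNat 0, Int.ofNat 0, Int.ofNat 0, Int.ofNat 1])))) (ZT.node 9572 (ZT.node 9570 (ZT.leaf [Int.negSucc 1026, Int.negSucc 539, Int.ofNat 239, Int.negSucc 88, Int.negSucc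 1, Int.negSucc 145, Int.negSucc 18, Int.ofNat 36, Int.ofNat 4, Int.ofNat 0, Int.ofNat 0, Int.ofNat 0, Int.negSucc 2, Int.negSucc 2, Int.ofNat 171, Int.ofNat 3, Int.negSucc 17, Int.ofNat 0, Int.negSucc 129]) (ZT.node 9571 (ZT.leaf []) (ZT.leaf []))) (ZT.node 9573 (ZT.leaf []) (ZT.node 9574 (ZT.leaf []) (ZT.leaf []))))) (ZT.node 9581 (ZT.node 9578 (ZT.node 9576 (ZT.leaf []) (ZT.node 9577 (ZT.leaf []) (ZT.leaf []))) (ZT.node 9579 (ZT.leaf []) (ZT.node 9580 (ZT.leaf []) (ZT.leaf [])))) (ZT.node 9584 (ZT.node 9582 (ZT.leaf []) (ZT.node 9583 (ZT.leaf []) (ZT.leaf []))) (ZT.node 9585 (ZT.leaf []) (ZT.node 9586 (ZT.leaf []) (ZT.leaf []))))))) (ZT.node 9609 (ZT.node 9598 (ZT.node 9592 (ZT.node 9589 (ZT.node 9588 (ZT.leaf []) (ZT.leaf [])) (ZT.node 9590 (ZT.leaf [Int.ofNat 5870, Int.ofNat 154, Int.negSucc 1197, Int.negSucc 99, Int.negSucc 0, Int.ofNat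 324, Int.ofNat 46, Int.negSucc 14, Int.ofNat 16, Int.negSucc 0, Int.ofNat 0, Int.ofNat 0, Int.ofNat 29, Int.negSucc 1, Int.negSucc 233, Int.ofNat 28, Int.ofNat 100, Int.ofNat 0, Int.ofNat 327]) (ZT.node 9591 (ZT.leaf []) (ZT.leaf [])))) (ZT.node 9595 (ZT.node 9593 (ZT.leaf []) (ZT.node 9594 (ZT.leaf []) (ZT.leaf []))) (ZT.node 9596 (ZT.leaf []) (ZT.node 9597 (ZT.leaf []) (ZT.leaf []))))) (ZT.node 9603 (ZT.node 9600 (ZT.node 9599 (ZT.leaf []) (ZT.leaf [])) (ZT.node 9601 (ZT.leaf []) (ZT.node 9602 (ZT.leaf []) (ZT.leaf [])))) (ZT.node 9606 (ZT.node 9604 (ZT.leaf []) (ZT.node 9605 (ZT.leaf []) (ZT.leaf []))) (ZT.node 9607 (ZT.leaf []) (ZT.node 9608 (ZT.leaf []) (ZT.leaf [])))))) (ZT.node 9620 (ZT.node 9614 (ZT.node 9611 (ZT.node 9610 (ZT.leaf []) (ZT.leaf [])) (ZT.node 9612 (ZT.leaf [Int.ofNat 24, Int.negSucc 4, Int.negSucc 11, Int.ofNat 4,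 Int.ofNat 0, Int.ofNat 10, Int.ofNat 1, Int.ofNat 0, Int.ofNat 2, Int.ofNat 0, Int.ofNat 0, Int.ofNat 0, Int.negSucc 0, Int.ofNat 0, Int.ofNat 7, Int.ofNat 0, Int.negSucc 3, Int.ofNat 0, Int.ofNat 3]) (ZT.node 9613 (ZT.leaf []) (ZT.leaf [])))) (ZT.node 9617 (ZT.node 9615 (ZT.leaf []) (ZT.node 9616 (ZT.leaf []) (ZT.leaf [Int.ofNat 1]))) (ZT.node 9618 (ZT.leaf []) (ZT.node 9619 (ZT.leaf []) (ZT.leaf []))))) (ZT.node 9626 (ZT.node 9623 (ZT.node 9621 (ZT.leaf []) (ZT.node 9622 (ZT.leaf []) (ZT.leaf []))) (ZT.node 9624 (ZT.leaf []) (ZT.node 9625 (ZT.leaf []) (ZT.leaf [])))) (ZT.node 9629 (ZT.node 9627 (ZT.leaf [Int.negSucc 2550, Int.negSucc 841, Int.ofNat 581, Int.negSucc 118, Int.negSucc 0, Int.negSucc 280, Int.negSucc 20, Int.ofNat 47, Int.ofNat 0, Int.ofNat 0, Int.ofNat 0, Int.ofNat 0, Int.negSucc 9, Int.negSucc 1, Int.ofNat 290, Int.negSucc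 1, Int.negSucc 52, Int.ofNat 0, Int.negSucc 254]) (ZT.node 9628 (ZT.leaf []) (ZT.leaf []))) (ZT.node 9630 (ZT.leaf [Int.ofNat 9656, Int.ofNat 4864, Int.negSucc 2300, Int.ofNat 827, Int.ofNat 19, Int.ofNat 1448, Int.ofNat 141, Int.negSucc 405, Int.negSucc 30, Int.ofNat 0, Int.ofNat 0, Int.ofNat 0, Int.negSucc 0, Int.ofNat 10, Int.negSucc 1509, Int.negSucc 16, Int.ofNat 259, Int.ofNat 0, Int.ofNat 1236]) (ZT.node 9631 (ZT.leaf []) (ZT.leaf []))))))))))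

noncomputable def labT_20 : ZT := (ZT.node 9812 (ZT.node 9722 (ZT.node 9677 (ZT.node 9654 (ZT.node 9643 (ZT.node 9637 (ZT.node 9634 (ZT.node 9633 (ZT.leaf [Int.negSucc 2389, Int.negSucc 961, Int.ofNat 551, Int.negSucc 151, Int.negSucc 3, Int.negSucc 292, Int.negSucc 39, Int.ofNat 78, Int.ofNat 8, Int.ofNat 0, Int.ofNat 0, Int.ofNat 0, Int.negSucc 3, Int.negSucc 0, Int.ofNat 398, Int.negSucc 1, Int.negSucc 61, Int.ofNat 0, Int.negSucc 264]) (ZT.leaf [])) (ZT.node 9635 (ZT.leaf []) (ZT.node 9636 (ZT.leaf []) (ZT.leaf [])))) (ZT.node 9640 (ZT.node 9638 (ZT.leaf []) (ZT.node 9639 (ZT.leaf []) (ZT.leaf []))) (ZT.node 9641 (ZT.leaf [Int.ofNat 1]) (ZT.node 9642 (ZT.leaf []) (ZT.leaf []))))) (ZT.node 9648 (ZT.node 9645 (ZT.node 9644 (ZT.leaf [Int.ofNat 2224, Int.ofNat 1756, Int.negSucc 557, Int.ofNat 313, Int.ofNat 9, Int.ofNat 425, Int.ofNat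 56, Int.negSucc 141, Int.negSucc 21, Int.ofNat 0, Int.ofNat 0, Int.ofNat 0, Int.negSucc 2, Int.ofNat 6, Int.negSucc 583, Int.negSucc 9, Int.ofNat 69, Int.ofNat 0, Int.ofNat 375]) (ZT.leaf [])) (ZT.node 9646 (ZT.leaf [Int.negSucc 759, Int.negSucc 575, Int.ofNat 182, Int.negSucc 95, Int.negSucc 1, Int.negSucc 132, Int.negSucc 27, Int.ofNat 57, Int.ofNat 13, Int.ofNat 0, Int.ofNat 0, Int.ofNat 0, Int.ofNat 1, Int.negSucc 0, Int.ofNat 210, Int.ofNat 2, Int.negSucc 20, Int.ofNat 0, Int.negSucc 125]) (ZT.node 9647 (ZT.leaf []) (ZT.leaf [])))) (ZT.node 9651 (ZT.node 9649 (ZT.leaf []) (ZT.node 9650 (ZT.leaf []) (ZT.leaf []))) (ZT.node 9652 (ZT.leaf []) (ZT.node 9653 (ZT.leaf []) (ZT.leaf [])))))) (ZT.node 9665 (ZT.node 9659 (ZT.node 9656 (ZT.node 9655 (ZT.leaf []) (ZT.leaf [])) (ZT.node 9657 (ZT.leaf [Int.negSucc 5393, Int.negSucc 2128, Int.ofNat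 1258, Int.negSucc 344, Int.negSucc 7, Int.negSucc 676, Int.negSucc 74, Int.ofNat 158, Int.ofNat 8, Int.ofNat 0, Int.ofNat 0, Int.ofNat 0, Int.negSucc 9, Int.negSucc 4, Int.ofNat 774, Int.ofNat 0, Int.negSucc 114, Int.ofNat 0, Int.negSucc 598]) (ZT.node 9658 (ZT.leaf [Int.ofNat 5394, Int.ofNat 2129, Int.negSucc 1257, Int.ofNat 345, Int.ofNat 8, Int.ofNat 677, Int.ofNat 75, Int.negSucc 157, Int.negSucc 7, Int.ofNat 0, Int.ofNat 0, Int.ofNat 0, Int.ofNat 10, Int.ofNat 5, Int.negSucc 773, Int.ofNat 0, Int.ofNat 115, Int.ofNat 0, Int.ofNat 599]) (ZT.leaf [])))) (ZT.node 9662 (ZT.node 9660 (ZT.leaf [Int.negSucc 503, Int.negSucc 111, Int.ofNat 124, Int.negSucc 22, Int.ofNat 0, Int.negSucc 47, Int.ofNat 10, Int.negSucc 12, Int.negSucc 9, Int.ofNat 0, Int.ofNat 0, Int.ofNat 0, Int.negSucc 2, Int.negSucc 2, Int.negSucc 9, Int.ofNat 3, Int.negSucc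 2, Int.ofNat 0, Int.negSucc 34]) (ZT.node 9661 (ZT.leaf [Int.negSucc 1308, Int.negSucc 751, Int.ofNat 287, Int.negSucc 112, Int.negSucc 3, Int.negSucc 186, Int.negSucc 44, Int.ofNat 79, Int.ofNat 18, Int.ofNat 0, Int.ofNat 0, Int.ofNat 0, Int.negSucc 0, Int.negSucc 0, Int.ofNat 315, Int.ofNat 3, Int.negSucc 38, Int.ofNat 1, Int.negSucc 178]) (ZT.leaf []))) (ZT.node 9663 (ZT.leaf []) (ZT.node 9664 (ZT.leaf []) (ZT.leaf []))))) (ZT.node 9671 (ZT.node 9668 (ZT.node 9666 (ZT.leaf []) (ZT.node 9667 (ZT.leaf [Int.ofNat 1049, Int.ofNat 954, Int.negSucc 242, Int.ofNat 157, Int.ofNat 4, Int.ofNat 215, Int.ofNat 44, Int.negSucc 82, Int.negSucc 16, Int.negSucc 0, Int.ofNat 0, Int.ofNat 0, Int.ofNat 0, Int.ofNat 5, Int.negSucc 317, Int.negSucc 5, Int.ofNat 26, Int.ofNat 0, Int.ofNat 196]) (ZT.leaf [Int.negSucc 0]))) (ZT.node 9669 (ZT.leaf []) (ZT.node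 9670 (ZT.leaf [Int.negSucc 169, Int.negSucc 47, Int.ofNat 41, Int.negSucc 8, Int.ofNat 0, Int.negSucc 21, Int.negSucc 0, Int.ofNat 3, Int.negSucc 0, Int.ofNat 1, Int.negSucc 0, Int.ofNat 0, Int.ofNat 0, Int.ofNat 0, Int.ofNat 15, Int.ofNat 0, Int.negSucc 1, Int.ofNat 0, Int.negSucc 16]) (ZT.leaf [])))) (ZT.node 9674 (ZT.node 9672 (ZT.leaf [Int.ofNat 2124, Int.ofNat 2476, Int.negSucc 534, Int.ofNat 431, Int.ofNat 14, Int.ofNat 528, Int.ofNat 90, Int.negSucc 204, Int.negSucc 45, Int.negSucc 0, Int.ofNat 0, Int.ofNat 0, Int.negSucc 2, Int.ofNat 16, Int.negSucc 826, Int.negSucc 17, Int.ofNat 89, Int.ofNat 0, Int.ofNat 476]) (ZT.node 9673 (ZT.leaf [Int.negSucc 5346, Int.negSucc 1938, Int.ofNat 1254, Int.negSucc 306, Int.negSucc 6, Int.negSucc 665, Int.negSucc 75, Int.ofNat 152, Int.ofNat 3, Int.ofNat 0, Int.ofNat 0, Int.ofNat 0, Int.negSucc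 7, Int.negSucc 7, Int.ofNat 703, Int.negSucc 0, Int.negSucc 108, Int.ofNat 0, Int.negSucc 583]) (ZT.leaf []))) (ZT.node 9675 (ZT.leaf []) (ZT.node 9676 (ZT.leaf []) (ZT.leaf []))))))) (ZT.node 9699 (ZT.node 9688 (ZT.node 9682 (ZT.node 9679 (ZT.node 9678 (ZT.leaf []) (ZT.leaf [])) (ZT.node 9680 (ZT.leaf []) (ZT.node 9681 (ZT.leaf []) (ZT.leaf [])))) (ZT.node 9685 (ZT.node 9683 (ZT.leaf []) (ZT.node 9684 (ZT.leaf []) (ZT.leaf []))) (ZT.node 9686 (ZT.leaf []) (ZT.node 9687 (ZT.leaf []) (ZT.leaf []))))) (ZT.node 9693 (ZT.node 9690 (ZT.node 9689 (ZT.leaf []) (ZT.leaf [])) (ZT.node 9691 (ZT.leaf []) (ZT.node 9692 (ZT.leaf []) (ZT.leaf [])))) (ZT.node 9696 (ZT.node 9694 (ZT.leaf []) (ZT.node 9695 (ZT.leaf [Int.negSucc 0]) (ZT.leaf []))) (ZT.node 9697 (ZT.leaf [Int.ofNat 1]) (ZT.node 9698 (ZT.leaf []) (ZT.leaf [Int.ofNat 48, Int.ofNat 1, Int.negSucc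 12, Int.ofNat 1, Int.ofNat 0, Int.ofNat 5, Int.ofNat 0, Int.ofNat 1, Int.ofNat 1, Int.ofNat 0, Int.ofNat 0, Int.ofNat 0, Int.ofNat 0, Int.ofNat 0, Int.ofNat 1, Int.ofNat 0, Int.ofNat 1, Int.ofNat 0, Int.ofNat 4])))))) (ZT.node 9710 (ZT.node 9704 (ZT.node 9701 (ZT.node 9700 (ZT.leaf []) (ZT.leaf [])) (ZT.node 9702 (ZT.leaf []) (ZT.node 9703 (ZT.leaf []) (ZT.leaf [])))) (ZT.node 9707 (ZT.node 9705 (ZT.leaf []) (ZT.node 9706 (ZT.leaf []) (ZT.leaf []))) (ZT.node 9708 (ZT.leaf []) (ZT.node 9709 (ZT.leaf []) (ZT.leaf []))))) (ZT.node 9716 (ZT.node 9713 (ZT.node 9711 (ZT.leaf []) (ZT.node 9712 (ZT.leaf []) (ZT.leaf []))) (ZT.node 9714 (ZT.leaf [Int.ofNat 0, Int.ofNat 0, Int.ofNat 0, Int.ofNat 0, Int.ofNat 0, Int.ofNat 0, Int.ofNat 0, Int.ofNat 0, Int.ofNat 0, Int.ofNat 0, Int.ofNat 1]) (ZT.node 9715 (ZT.leaf []) (ZT.leaf [])))) (ZT.node 9719 (ZT.node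 9717 (ZT.leaf []) (ZT.node 9718 (ZT.leaf []) (ZT.leaf []))) (ZT.node 9720 (ZT.leaf []) (ZT.node 9721 (ZT.leaf []) (ZT.leaf [])))))))) (ZT.node 9767 (ZT.node 9744 (ZT.node 9733 (ZT.node 9727 (ZT.node 9724 (ZT.node 9723 (ZT.leaf []) (ZT.leaf [])) (ZT.node 9725 (ZT.leaf []) (ZT.node 9726 (ZT.leaf []) (ZT.leaf [])))) (ZT.node 9730 (ZT.node 9728 (ZT.leaf []) (ZT.node 9729 (ZT.leaf []) (ZT.leaf []))) (ZT.node 9731 (ZT.leaf [Int.negSucc 2166, Int.negSucc 1489, Int.ofNat 513, Int.negSucc 253, Int.negSucc 3, Int.negSucc 363, Int.negSucc 56, Int.ofNat 99, Int.ofNat 18, Int.ofNat 0, Int.ofNat 0, Int.ofNat 0, Int.negSucc 7, Int.negSucc 7, Int.ofNat 524, Int.ofNat 8, Int.negSucc 36, Int.ofNat 0, Int.negSucc 327]) (ZT.node 9732 (ZT.leaf [Int.ofNat 2033, Int.ofNat 1372, Int.negSucc 482, Int.ofNat 236, Int.ofNat 4, Int.ofNat 342, Int.ofNat 52, Int.negSucc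 90, Int.negSucc 14, Int.ofNat 1, Int.ofNat 0, Int.ofNat 0, Int.ofNat 7, Int.ofNat 7, Int.negSucc 483, Int.negSucc 6, Int.ofNat 33, Int.ofNat 0, Int.ofNat 304]) (ZT.leaf []))))) (ZT.node 9738 (ZT.node 9735 (ZT.node 9734 (ZT.leaf []) (ZT.leaf [])) (ZT.node 9736 (ZT.leaf []) (ZT.node 9737 (ZT.leaf []) (ZT.leaf [Int.ofNat 0, Int.ofNat 0, Int.ofNat 0, Int.ofNat 0, Int.ofNat 0, Int.ofNat 0, Int.ofNat 0, Int.negSucc 0])))) (ZT.node 9741 (ZT.node 9739 (ZT.leaf []) (ZT.node 9740 (ZT.leaf []) (ZT.leaf [Int.ofNat 1]))) (ZT.node 9742 (ZT.leaf []) (ZT.node 9743 (ZT.leaf []) (ZT.leaf [Int.ofNat 1])))))) (ZT.node 9755 (ZT.node 9749 (ZT.node 9746 (ZT.node 9745 (ZT.leaf []) (ZT.leaf [])) (ZT.node 9747 (ZT.leaf []) (ZT.node 9748 (ZT.leaf []) (ZT.leaf [])))) (ZT.node 9752 (ZT.node 9750 (ZT.leaf []) (ZT.node 9751 (ZT.leaf []) (ZT.leaf []))) (ZT.node 9753 (ZT.leaf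 []) (ZT.node 9754 (ZT.leaf []) (ZT.leaf []))))) (ZT.node 9761 (ZT.node 9758 (ZT.node 9756 (ZT.leaf []) (ZT.node 9757 (ZT.leaf [Int.negSucc 1132, Int.negSucc 1036, Int.ofNat 301, Int.negSucc 194, Int.negSucc 8, Int.negSucc 234, Int.negSucc 23, Int.ofNat 74, Int.ofNat 13, Int.ofNat 0, Int.ofNat 0, Int.ofNat 1, Int.ofNat 0, Int.negSucc 8, Int.ofNat 373, Int.ofNat 11, Int.negSucc 49, Int.ofNat 0, Int.negSucc 210]) (ZT.leaf []))) (ZT.node 9759 (ZT.leaf []) (ZT.node 9760 (ZT.leaf [Int.negSucc 108, Int.negSucc 20, Int.ofNat 28, Int.negSucc 3, Int.ofNat 0, Int.negSucc 10, Int.ofNat 0, Int.ofNat 1, Int.negSucc 0, Int.ofNat 0, Int.ofNat 0, Int.ofNat 0, Int.ofNat 0, Int.ofNat 0, Int.ofNat 4, Int.ofNat 0, Int.negSucc 0, Int.ofNat 0, Int.negSucc 8]) (ZT.leaf [])))) (ZT.node 9764 (ZT.node 9762 (ZT.leaf []) (ZT.node 9763 (ZT.leaf []) (ZT.leaf []))) (ZT.node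 9765 (ZT.leaf []) (ZT.node 9766 (ZT.leaf []) (ZT.leaf []))))))) (ZT.node 9789 (ZT.node 9778 (ZT.node 9772 (ZT.node 9769 (ZT.node 9768 (ZT.leaf [Int.ofNat 1]) (ZT.leaf [])) (ZT.node 9770 (ZT.leaf [Int.negSucc 538, Int.negSucc 116, Int.ofNat 29, Int.ofNat 23, Int.ofNat 3, Int.negSucc 17, Int.negSucc 33, Int.ofNat 16, Int.ofNat 2, Int.ofNat 2, Int.negSucc 0, Int.ofNat 0, Int.negSucc 2, Int.negSucc 3, Int.ofNat 91, Int.ofNat 0, Int.ofNat 7, Int.ofNat 0, Int.negSucc 27]) (ZT.node 9771 (ZT.leaf []) (ZT.leaf [])))) (ZT.node 9775 (ZT.node 9773 (ZT.leaf []) (ZT.node 9774 (ZT.leaf [Int.ofNat 1]) (ZT.leaf []))) (ZT.node 9776 (ZT.leaf []) (ZT.node 9777 (ZT.leaf []) (ZT.leaf []))))) (ZT.node 9783 (ZT.node 9780 (ZT.node 9779 (ZT.leaf []) (ZT.leaf [Int.negSucc 19461, Int.negSucc 8384, Int.ofNat 4597, Int.negSucc 1371, Int.negSucc 31, Int.negSucc 2650,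 Int.negSucc 273, Int.ofNat 661, Int.ofNat 43, Int.ofNat 0, Int.ofNat 0, Int.ofNat 0, Int.negSucc 26, Int.negSucc 20, Int.ofNat 2769, Int.ofNat 12, Int.negSucc 436, Int.ofNat 0, Int.negSucc 2284])) (ZT.node 9781 (ZT.leaf []) (ZT.node 9782 (ZT.leaf [Int.ofNat 8878, Int.ofNat 2075, Int.negSucc 2068, Int.ofNat 312, Int.negSucc 4, Int.ofNat 905, Int.ofNat 57, Int.negSucc 99, Int.ofNat 38, Int.negSucc 0, Int.ofNat 1, Int.negSucc 0, Int.ofNat 32, Int.ofNat 16, Int.negSucc 730, Int.ofNat 5, Int.ofNat 134, Int.negSucc 0, Int.ofNat 784]) (ZT.leaf [])))) (ZT.node 9786 (ZT.node 9784 (ZT.leaf [Int.ofNat 1]) (ZT.node 9785 (ZT.leaf []) (ZT.leaf []))) (ZT.node 9787 (ZT.leaf []) (ZT.node 9788 (ZT.leaf []) (ZT.leaf [])))))) (ZT.node 9800 (ZT.node 9794 (ZT.node 9791 (ZT.node 9790 (ZT.leaf []) (ZT.leaf [Int.negSucc 2459, Int.negSucc 843, Int.ofNat 566, Int.negSucc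 126, Int.negSucc 1, Int.negSucc 291, Int.negSucc 36, Int.ofNat 66, Int.ofNat 3, Int.ofNat 0, Int.ofNat 0, Int.ofNat 0, Int.negSucc 6, Int.negSucc 0, Int.ofNat 320, Int.negSucc 0, Int.negSucc 51, Int.ofNat 0, Int.negSucc 258])) (ZT.node 9792 (ZT.leaf []) (ZT.node 9793 (ZT.leaf []) (ZT.leaf [])))) (ZT.node 9797 (ZT.node 9795 (ZT.leaf []) (ZT.node 9796 (ZT.leaf []) (ZT.leaf [Int.ofNat 11935, Int.ofNat 2189, Int.negSucc 2642, Int.ofNat 233, Int.negSucc 3, Int.ofNat 1086, Int.ofNat 123, Int.negSucc 149, Int.ofNat 33, Int.ofNat 0, Int.ofNat 0, Int.ofNat 0, Int.ofNat 43, Int.ofNat 7, Int.negSucc 933, Int.ofNat 27, Int.ofNat 181, Int.ofNat 0, Int.ofNat 966]))) (ZT.node 9798 (ZT.leaf []) (ZT.node 9799 (ZT.leaf []) (ZT.leaf []))))) (ZT.node 9806 (ZT.node 9803 (ZT.node 9801 (ZT.leaf [Int.negSucc 690, Int.negSucc 335, Int.ofNat 180, Int.negSucc 64,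 Int.ofNat 0, Int.negSucc 106, Int.negSucc 3, Int.ofNat 12, Int.negSucc 5, Int.negSucc 0, Int.ofNat 0, Int.ofNat 0, Int.ofNat 0, Int.negSucc 3, Int.ofNat 85, Int.ofNat 2, Int.negSucc 11, Int.ofNat 0, Int.negSucc 85]) (ZT.node 9802 (ZT.leaf [Int.ofNat 6115, Int.ofNat 2213, Int.negSucc 1418, Int.ofNat 348, Int.ofNat 8, Int.ofNat 751, Int.ofNat 93, Int.negSucc 175, Int.negSucc 6, Int.ofNat 0, Int.ofNat 0, Int.ofNat 0, Int.ofNat 12, Int.ofNat 5, Int.negSucc 816, Int.ofNat 0, Int.ofNat 121, Int.ofNat 0, Int.ofNat 659]) (ZT.leaf [Int.negSucc 2898, Int.negSucc 1133, Int.ofNat 659, Int.negSucc 170, Int.negSucc 3, Int.negSucc 356, Int.negSucc 48, Int.ofNat 88, Int.ofNat 8, Int.ofNat 0, Int.ofNat 0, Int.ofNat 0, Int.negSucc 7, Int.negSucc 2, Int.ofNat 424, Int.ofNat 1, Int.negSucc 65, Int.ofNat 0, Int.negSucc 321]))) (ZT.node 9804 (ZT.leaf []) (ZT.node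 9805 (ZT.leaf []) (ZT.leaf [])))) (ZT.node 9809 (ZT.node 9807 (ZT.leaf []) (ZT.node 9808 (ZT.leaf []) (ZT.leaf []))) (ZT.node 9810 (ZT.leaf []) (ZT.node 9811 (ZT.leaf []) (ZT.leaf []))))))))) (ZT.node 9902 (ZT.node 9857 (ZT.node 9834 (ZT.node 9823 (ZT.node 9817 (ZT.node 9814 (ZT.node 9813 (ZT.leaf []) (ZT.leaf [])) (ZT.node 9815 (ZT.leaf []) (ZT.node 9816 (ZT.leaf []) (ZT.leaf [])))) (ZT.node 9820 (ZT.node 9818 (ZT.leaf []) (ZT.node 9819 (ZT.leaf []) (ZT.leaf [Int.negSucc 2414, Int.negSucc 1517, Int.ofNat 574, Int.negSucc 255, Int.negSucc 4, Int.negSucc 385, Int.negSucc 54, Int.ofNat 101, Int.ofNat 16, Int.ofNat 1, Int.ofNat 0, Int.ofNat 0, Int.negSucc 7, Int.negSucc 7, Int.ofNat 528, Int.ofNat 8, Int.negSucc 38, Int.ofNat 0, Int.negSucc 341]))) (ZT.node 9821 (ZT.leaf [Int.ofNat 4916, Int.ofNat 2598, Int.negSucc 1197, Int.ofNat 444, Int.ofNat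 11, Int.ofNat 746, Int.ofNat 84, Int.negSucc 199, Int.negSucc 18, Int.ofNat 0, Int.ofNat 0, Int.ofNat 0, Int.ofNat 6, Int.ofNat 11, Int.negSucc 875, Int.negSucc 10, Int.ofNat 113, Int.ofNat 0, Int.ofNat 650]) (ZT.node 9822 (ZT.leaf [Int.ofNat 2259, Int.ofNat 1193, Int.negSucc 507, Int.ofNat 189, Int.ofNat 3, Int.ofNat 318, Int.ofNat 49, Int.negSucc 85, Int.negSucc 12, Int.ofNat 0, Int.ofNat 0, Int.ofNat 0, Int.ofNat 7, Int.ofNat 4, Int.negSucc 418, Int.negSucc 3, Int.ofNat 37, Int.ofNat 0, Int.ofNat 282]) (ZT.leaf [Int.ofNat 15672, Int.ofNat 6567, Int.negSucc 3610, Int.ofNat 1033, Int.ofNat 24, Int.ofNat 1976, Int.ofNat 238, Int.negSucc 492, Int.negSucc 37, Int.ofNat 0, Int.ofNat 0, Int.ofNat 0, Int.ofNat 34, Int.ofNat 19, Int.negSucc 2363, Int.negSucc 9, Int.ofNat 353, Int.ofNat 0, Int.ofNat 1780]))))) (ZT.node 9828 (ZT.node 9825 (ZT.node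 9824 (ZT.leaf []) (ZT.leaf [Int.ofNat 233, Int.ofNat 66, Int.negSucc 40, Int.ofNat 4, Int.ofNat 0, Int.ofNat 14, Int.ofNat 3, Int.ofNat 2, Int.negSucc 0, Int.ofNat 0, Int.ofNat 0, Int.ofNat 0, Int.ofNat 3, Int.ofNat 0, Int.negSucc 18, Int.ofNat 2, Int.ofNat 2, Int.ofNat 0, Int.ofNat 16])) (ZT.node 9826 (ZT.leaf [Int.ofNat 0]) (ZT.node 9827 (ZT.leaf []) (ZT.leaf [])))) (ZT.node 9831 (ZT.node 9829 (ZT.leaf []) (ZT.node 9830 (ZT.leaf []) (ZT.leaf []))) (ZT.node 9832 (ZT.leaf []) (ZT.node 9833 (ZT.leaf [Int.ofNat 0, Int.ofNat 0, Int.ofNat 0, Int.ofNat 0, Int.ofNat 0, Int.ofNat 0, Int.ofNat 0, Int.ofNat 0, Int.ofNat 0, Int.ofNat 0, Int.ofNat 0, Int.ofNat 1]) (ZT.leaf [])))))) (ZT.node 9845 (ZT.node 9839 (ZT.node 9836 (ZT.node 9835 (ZT.leaf []) (ZT.leaf [])) (ZT.node 9837 (ZT.leaf []) (ZT.node 9838 (ZT.leaf []) (ZT.leaf [])))) (ZT.node 9842 (ZT.node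 9840 (ZT.leaf []) (ZT.node 9841 (ZT.leaf []) (ZT.leaf []))) (ZT.node 9843 (ZT.leaf [Int.ofNat 47, Int.ofNat 37, Int.negSucc 10, Int.ofNat 8, Int.ofNat 0, Int.ofNat 8, Int.ofNat 1, Int.negSucc 2, Int.negSucc 0, Int.ofNat 0, Int.ofNat 0, Int.ofNat 0, Int.ofNat 0, Int.ofNat 0, Int.negSucc 13, Int.ofNat 0, Int.ofNat 2, Int.ofNat 0, Int.ofNat 7]) (ZT.node 9844 (ZT.leaf []) (ZT.leaf [Int.negSucc 269, Int.negSucc 20, Int.ofNat 52, Int.ofNat 1, Int.ofNat 1, Int.negSucc 14, Int.negSucc 5, Int.ofNat 6, Int.negSucc 0, Int.ofNat 0, Int.ofNat 0, Int.ofNat 0, Int.negSucc 0, Int.ofNat 0, Int.ofNat 32, Int.negSucc 0, Int.negSucc 2, Int.ofNat 0, Int.negSucc 16]))))) (ZT.node 9851 (ZT.node 9848 (ZT.node 9846 (ZT.leaf []) (ZT.node 9847 (ZT.leaf []) (ZT.leaf []))) (ZT.node 9849 (ZT.leaf []) (ZT.node 9850 (ZT.leaf [Int.ofNat 1]) (ZT.leaf [])))) (ZT.node 9854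 (ZT.node 9852 (ZT.leaf []) (ZT.node 9853 (ZT.leaf []) (ZT.leaf []))) (ZT.node 9855 (ZT.leaf []) (ZT.node 9856 (ZT.leaf []) (ZT.leaf []))))))) (ZT.node 9879 (ZT.node 9868 (ZT.node 9862 (ZT.node 9859 (ZT.node 9858 (ZT.leaf [Int.negSucc 9847, Int.negSucc 5533, Int.ofNat 2349, Int.negSucc 930, Int.negSucc 22, Int.negSucc 1511, Int.negSucc 203, Int.ofNat 432, Int.ofNat 58, Int.ofNat 1, Int.ofNat 0, Int.ofNat 0, Int.negSucc 17, Int.negSucc 22, Int.ofNat 1914, Int.ofNat 21, Int.negSucc 234, Int.ofNat 0, Int.negSucc 1336]) (ZT.leaf [Int.negSucc 323, Int.negSucc 180, Int.ofNat 64, Int.negSucc 21, Int.negSucc 0, Int.negSucc 38, Int.negSucc 8, Int.ofNat 11, Int.ofNat 3, Int.ofNat 0, Int.ofNat 0, Int.ofNat 0, Int.negSucc 1, Int.negSucc 0, Int.ofNat 62, Int.ofNat 0, Int.ofNat 0, Int.ofNat 0, Int.negSucc 35])) (ZT.node 9860 (ZT.leaf []) (ZT.node 9861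 (ZT.leaf []) (ZT.leaf [])))) (ZT.node 9865 (ZT.node 9863 (ZT.leaf [Int.negSucc 83, Int.negSucc 27, Int.ofNat 22, Int.negSucc 3, Int.ofNat 0, Int.negSucc 9, Int.ofNat 0, Int.ofNat 1, Int.ofNat 0, Int.ofNat 1, Int.ofNat 0, Int.ofNat 0, Int.ofNat 0, Int.ofNat 0, Int.ofNat 11, Int.ofNat 0, Int.negSucc 1, Int.ofNat 0, Int.negSucc 8]) (ZT.node 9864 (ZT.leaf [Int.ofNat 1282, Int.ofNat 731, Int.negSucc 253, Int.ofNat 92, Int.ofNat 1, Int.ofNat 149, Int.ofNat 26, Int.negSucc 44, Int.negSucc 9, Int.ofNat 0, Int.ofNat 0, Int.ofNat 0, Int.ofNat 10, Int.ofNat 5, Int.negSucc 222, Int.negSucc 3, Int.ofNat 24, Int.ofNat 0, Int.ofNat 151]) (ZT.leaf []))) (ZT.node 9866 (ZT.leaf [Int.ofNat 19021, Int.ofNat 8296, Int.negSucc 4357, Int.ofNat 1305, Int.ofNat 37, Int.ofNat 2465, Int.ofNat 338, Int.negSucc 689, Int.negSucc 84, Int.ofNat 0, Int.negSucc 0, Int.ofNat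 0, Int.ofNat 37, Int.ofNat 17, Int.negSucc 2990, Int.negSucc 8, Int.ofNat 441, Int.ofNat 0, Int.ofNat 2208]) (ZT.node 9867 (ZT.leaf []) (ZT.leaf []))))) (ZT.node 9873 (ZT.node 9870 (ZT.node 9869 (ZT.leaf []) (ZT.leaf [])) (ZT.node 9871 (ZT.leaf []) (ZT.node 9872 (ZT.leaf []) (ZT.leaf [])))) (ZT.node 9876 (ZT.node 9874 (ZT.leaf [Int.ofNat 2629, Int.ofNat 1592, Int.negSucc 634, Int.ofNat 273, Int.ofNat 5, Int.ofNat 422, Int.ofNat 61, Int.negSucc 114, Int.negSucc 16, Int.ofNat 0, Int.ofNat 0, Int.ofNat 0, Int.ofNat 7, Int.ofNat 7, Int.negSucc 567, Int.negSucc 6, Int.ofNat 47, Int.ofNat 0, Int.ofNat 373]) (ZT.node 9875 (ZT.leaf []) (ZT.leaf []))) (ZT.node 9877 (ZT.leaf []) (ZT.node 9878 (ZT.leaf []) (ZT.leaf [])))))) (ZT.node 9890 (ZT.node 9884 (ZT.node 9881 (ZT.node 9880 (ZT.leaf [Int.ofNat 761, Int.ofNat 576, Int.negSucc 181, Int.ofNat 96,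 Int.ofNat 2, Int.ofNat 133, Int.ofNat 28, Int.negSucc 56, Int.negSucc 12, Int.ofNat 0, Int.ofNat 0, Int.ofNat 0, Int.negSucc 0, Int.ofNat 1, Int.negSucc 209, Int.negSucc 1, Int.ofNat 21, Int.ofNat 0, Int.ofNat 126]) (ZT.leaf [])) (ZT.node 9882 (ZT.leaf [Int.ofNat 738, Int.ofNat 235, Int.negSucc 173, Int.ofNat 34, Int.ofNat 0, Int.ofNat 88, Int.ofNat 2, Int.negSucc 6, Int.ofNat 4, Int.ofNat 0, Int.ofNat 0, Int.ofNat 0, Int.ofNat 3, Int.ofNat 2, Int.negSucc 72, Int.ofNat 0, Int.ofNat 14, Int.ofNat 0, Int.ofNat 75]) (ZT.node 9883 (ZT.leaf []) (ZT.leaf [Int.ofNat 57, Int.ofNat 18, Int.negSucc 9, Int.negSucc 0, Int.ofNat 0, Int.ofNat 1, Int.ofNat 0, Int.ofNat 0, Int.negSucc 0, Int.negSucc 0, Int.ofNat 0, Int.ofNat 0, Int.ofNat 0, Int.ofNat 0, Int.negSucc 3, Int.ofNat 0, Int.ofNat 0, Int.ofNat 0, Int.ofNat 1])))) (ZT.node 9887 (ZT.node 9885 (ZT.leaf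 []) (ZT.node 9886 (ZT.leaf []) (ZT.leaf []))) (ZT.node 9888 (ZT.leaf []) (ZT.node 9889 (ZT.leaf []) (ZT.leaf []))))) (ZT.node 9896 (ZT.node 9893 (ZT.node 9891 (ZT.leaf []) (ZT.node 9892 (ZT.leaf []) (ZT.leaf []))) (ZT.node 9894 (ZT.leaf [Int.ofNat 740, Int.ofNat 235, Int.negSucc 173, Int.ofNat 34, Int.ofNat 0, Int.ofNat 88, Int.ofNat 2, Int.negSucc 6, Int.ofNat 4, Int.ofNat 0, Int.ofNat 0, Int.ofNat 0, Int.ofNat 3, Int.ofNat 2, Int.negSucc 72, Int.ofNat 0, Int.ofNat 14, Int.ofNat 0, Int.ofNat 75]) (ZT.node 9895 (ZT.leaf []) (ZT.leaf [])))) (ZT.node 9899 (ZT.node 9897 (ZT.leaf []) (ZT.node 9898 (ZT.leaf [Int.ofNat 2492, Int.ofNat 867, Int.negSucc 575, Int.ofNat 134, Int.ofNat 3, Int.ofNat 302, Int.ofNat 43, Int.negSucc 77, Int.negSucc 3, Int.ofNat 0, Int.ofNat 0, Int.ofNat 0, Int.ofNat 3, Int.ofNat 1, Int.negSucc 367, Int.ofNat 3, Int.ofNat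 52, Int.ofNat 0, Int.ofNat 268]) (ZT.leaf []))) (ZT.node 9900 (ZT.leaf [Int.ofNat 0, Int.ofNat 0, Int.ofNat 0, Int.ofNat 0, Int.ofNat 0, Int.ofNat 0, Int.ofNat 0, Int.ofNat 0, Int.ofNat 0, Int.ofNat 0, Int.ofNat 0, Int.ofNat 0, Int.ofNat 0, Int.ofNat 0, Int.ofNat 0, Int.ofNat 0, Int.ofNat 0, Int.ofNat 0, Int.ofNat 1]) (ZT.node 9901 (ZT.leaf []) (ZT.leaf [Int.ofNat 4686, Int.ofNat 2730, Int.negSucc 1055, Int.ofNat 431, Int.ofNat 10, Int.ofNat 684, Int.ofNat 112, Int.negSucc 228, Int.negSucc 39, Int.ofNat 0, Int.ofNat 0, Int.ofNat 1, Int.ofNat 11, Int.ofNat 9, Int.negSucc 929, Int.negSucc 10, Int.ofNat 115, Int.ofNat 0, Int.ofNat 634])))))))) (ZT.node 9947 (ZT.node 9924 (ZT.node 9913 (ZT.node 9907 (ZT.node 9904 (ZT.node 9903 (ZT.leaf []) (ZT.leaf [])) (ZT.node 9905 (ZT.leaf []) (ZT.node 9906 (ZT.leaf []) (ZT.leaf [])))) (ZT.node 9910 (ZT.node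 9908 (ZT.leaf [Int.negSucc 2479, Int.negSucc 858, Int.ofNat 574, Int.negSucc 133, Int.negSucc 2, Int.negSucc 299, Int.negSucc 42, Int.ofNat 78, Int.ofNat 4, Int.ofNat 0, Int.ofNat 0, Int.ofNat 0, Int.negSucc 2, Int.negSucc 0, Int.ofNat 366, Int.negSucc 2, Int.negSucc 52, Int.ofNat 0, Int.negSucc 266]) (ZT.node 9909 (ZT.leaf []) (ZT.leaf []))) (ZT.node 9911 (ZT.leaf []) (ZT.node 9912 (ZT.leaf []) (ZT.leaf []))))) (ZT.node 9918 (ZT.node 9915 (ZT.node 9914 (ZT.leaf []) (ZT.leaf [])) (ZT.node 9916 (ZT.leaf []) (ZT.node 9917 (ZT.leaf []) (ZT.leaf [])))) (ZT.node 9921 (ZT.node 9919 (ZT.leaf []) (ZT.node 9920 (ZT.leaf []) (ZT.leaf []))) (ZT.node 9922 (ZT.leaf []) (ZT.node 9923 (ZT.leaf []) (ZT.leaf [])))))) (ZT.node 9935 (ZT.node 9929 (ZT.node 9926 (ZT.node 9925 (ZT.leaf [Int.negSucc 970, Int.negSucc 956, Int.ofNat 229, Int.negSucc 160, Int.negSucc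 4, Int.negSucc 212, Int.negSucc 44, Int.ofNat 86, Int.ofNat 18, Int.ofNat 1, Int.ofNat 0, Int.ofNat 0, Int.ofNat 1, Int.negSucc 4, Int.ofNat 319, Int.ofNat 7, Int.negSucc 25, Int.ofNat 0, Int.negSucc 193]) (ZT.leaf [])) (ZT.node 9927 (ZT.leaf []) (ZT.node 9928 (ZT.leaf [Int.negSucc 1901, Int.negSucc 1484, Int.ofNat 441, Int.negSucc 245, Int.negSucc 4, Int.negSucc 339, Int.negSucc 63, Int.ofNat 122, Int.ofNat 25, Int.ofNat 1, Int.ofNat 0, Int.ofNat 0, Int.negSucc 3, Int.negSucc 6, Int.ofNat 504, Int.ofNat 8, Int.negSucc 41, Int.ofNat 0, Int.negSucc 315]) (ZT.leaf [])))) (ZT.node 9932 (ZT.node 9930 (ZT.leaf []) (ZT.node 9931 (ZT.leaf []) (ZT.leaf []))) (ZT.node 9933 (ZT.leaf []) (ZT.node 9934 (ZT.leaf []) (ZT.leaf []))))) (ZT.node 9941 (ZT.node 9938 (ZT.node 9936 (ZT.leaf []) (ZT.node 9937 (ZT.leaf []) (ZT.leaf []))) (ZT.node 9939 (ZT.leaf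 []) (ZT.node 9940 (ZT.leaf []) (ZT.leaf [])))) (ZT.node 9944 (ZT.node 9942 (ZT.leaf []) (ZT.node 9943 (ZT.leaf []) (ZT.leaf []))) (ZT.node 9945 (ZT.leaf []) (ZT.node 9946 (ZT.leaf []) (ZT.leaf []))))))) (ZT.node 9969 (ZT.node 9958 (ZT.node 9952 (ZT.node 9949 (ZT.node 9948 (ZT.leaf []) (ZT.leaf [])) (ZT.node 9950 (ZT.leaf [Int.ofNat 62, Int.ofNat 56, Int.negSucc 6, Int.ofNat 10, Int.ofNat 1, Int.negSucc 5, Int.ofNat 8, Int.negSucc 7, Int.negSucc 2, Int.ofNat 0, Int.ofNat 0, Int.negSucc 0, Int.ofNat 0, Int.ofNat 0, Int.negSucc 46, Int.negSucc 2, Int.ofNat 0, Int.ofNat 0, Int.ofNat 4]) (ZT.node 9951 (ZT.leaf []) (ZT.leaf [Int.ofNat 811, Int.negSucc 910, Int.negSucc 126, Int.negSucc 185, Int.negSucc 4, Int.negSucc 102, Int.negSucc 27, Int.ofNat 86, Int.ofNat 26, Int.ofNat 0, Int.ofNat 0, Int.ofNat 1, Int.ofNat 9, Int.negSucc 7, Int.ofNat 272,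 Int.ofNat 18, Int.negSucc 13, Int.ofNat 0, Int.negSucc 91])))) (ZT.node 9955 (ZT.node 9953 (ZT.leaf []) (ZT.node 9954 (ZT.leaf [Int.ofNat 1500, Int.ofNat 2197, Int.negSucc 572, Int.ofNat 487, Int.ofNat 29, Int.ofNat 534, Int.ofNat 32, Int.negSucc 175, Int.negSucc 17, Int.ofNat 1, Int.negSucc 0, Int.ofNat 1, Int.negSucc 28, Int.ofNat 12, Int.negSucc 607, Int.negSucc 25, Int.ofNat 87, Int.ofNat 1, Int.ofNat 432]) (ZT.leaf []))) (ZT.node 9956 (ZT.leaf []) (ZT.node 9957 (ZT.leaf []) (ZT.leaf []))))) (ZT.node 9963 (ZT.node 9960 (ZT.node 9959 (ZT.leaf []) (ZT.leaf [])) (ZT.node 9961 (ZT.leaf [Int.negSucc 1091, Int.negSucc 1967, Int.ofNat 266, Int.negSucc 329, Int.negSucc 8, Int.negSucc 359, Int.negSucc 72, Int.ofNat 169, Int.ofNat 44, Int.ofNat 1, Int.ofNat 0, Int.ofNat 0, Int.ofNat 2, Int.negSucc 11, Int.ofNat 668, Int.ofNat 18, Int.negSucc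 67, Int.ofNat 0, Int.negSucc 340]) (ZT.node 9962 (ZT.leaf []) (ZT.leaf [])))) (ZT.node 9966 (ZT.node 9964 (ZT.leaf []) (ZT.node 9965 (ZT.leaf []) (ZT.leaf []))) (ZT.node 9967 (ZT.leaf []) (ZT.node 9968 (ZT.leaf [Int.ofNat 4150, Int.ofNat 2939, Int.negSucc 1056, Int.ofNat 523, Int.ofNat 13, Int.ofNat 760, Int.ofNat 86, Int.negSucc 231, Int.negSucc 30, Int.ofNat 0, Int.ofNat 0, Int.ofNat 0, Int.ofNat 1, Int.ofNat 18, Int.negSucc 984, Int.negSucc 18, Int.ofNat 135, Int.ofNat 0, Int.ofNat 670]) (ZT.leaf [])))))) (ZT.node 9980 (ZT.node 9974 (ZT.node 9971 (ZT.node 9970 (ZT.leaf []) (ZT.leaf [])) (ZT.node 9972 (ZT.leaf []) (ZT.node 9973 (ZT.leaf []) (ZT.leaf [])))) (ZT.node 9977 (ZT.node 9975 (ZT.leaf []) (ZT.node 9976 (ZT.leaf []) (ZT.leaf []))) (ZT.node 9978 (ZT.leaf []) (ZT.node 9979 (ZT.leaf []) (ZT.leaf []))))) (ZT.node 9986 (ZT.node 9983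 (ZT.node 9981 (ZT.leaf [Int.negSucc 28583, Int.negSucc 13796, Int.ofNat 6741, Int.negSucc 2268, Int.negSucc 61, Int.negSucc 4002, Int.negSucc 467, Int.ofNat 1094, Int.ofNat 112, Int.negSucc 1, Int.ofNat 1, Int.negSucc 0, Int.negSucc 40, Int.negSucc 49, Int.ofNat 4695, Int.ofNat 40, Int.negSucc 719, Int.negSucc 0, Int.negSucc 3553]) (ZT.node 9982 (ZT.leaf []) (ZT.leaf []))) (ZT.node 9984 (ZT.leaf []) (ZT.node 9985 (ZT.leaf []) (ZT.leaf [])))) (ZT.node 9989 (ZT.node 9987 (ZT.leaf []) (ZT.node 9988 (ZT.leaf [Int.ofNat 8, Int.negSucc 9, Int.negSucc 1, Int.negSucc 0, Int.ofNat 0, Int.ofNat 0, Int.negSucc 0, Int.ofNat 1, Int.ofNat 1, Int.ofNat 0, Int.ofNat 0, Int.ofNat 0, Int.ofNat 0, Int.ofNat 0, Int.ofNat 7, Int.ofNat 0, Int.ofNat 0, Int.ofNat 0, Int.negSucc 0]) (ZT.leaf []))) (ZT.node 9990 (ZT.leaf []) (ZT.node 9991 (ZT.leaf []) (ZT.leaf []))))))))))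

noncomputable def labT_21 : ZT := (ZT.node 10172 (ZT.node 10082 (ZT.node 10037 (ZT.node 10014 (ZT.node 10003 (ZT.node 9997 (ZT.node 9994 (ZT.node 9993 (ZT.leaf []) (ZT.leaf [])) (ZT.node 9995 (ZT.leaf []) (ZT.node 9996 (ZT.leaf []) (ZT.leaf [Int.ofNat 7, Int.negSucc 9, Int.negSucc 1, Int.negSucc 0, Int.ofNat 0, Int.ofNat 0, Int.negSucc 0, Int.ofNat 1, Int.ofNat 1, Int.ofNat 0, Int.ofNat 0, Int.ofNat 0, Int.ofNat 0, Int.ofNat 0, Int.ofNat 7, Int.ofNat 0, Int.ofNat 0, Int.ofNat 0, Int.negSucc 0])))) (ZT.node 10000 (ZT.node 9998 (ZT.leaf []) (ZT.node 9999 (ZT.leaf []) (ZT.leaf []))) (ZT.node 10001 (ZT.leaf []) (ZT.node 10002 (ZT.leaf []) (ZT.leaf []))))) (ZT.node 10008 (ZT.node 10005 (ZT.node 10004 (ZT.leaf []) (ZT.leaf [])) (ZT.node 10006 (ZT.leaf []) (ZT.node 10007 (ZT.leaf [Int.negSucc 7554, Int.negSucc 3254, Int.ofNat 1748, Int.negSucc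 521, Int.negSucc 11, Int.negSucc 987, Int.negSucc 121, Int.ofNat 270, Int.ofNat 29, Int.negSucc 1, Int.ofNat 1, Int.ofNat 0, Int.negSucc 10, Int.negSucc 2, Int.ofNat 1127, Int.ofNat 4, Int.negSucc 167, Int.ofNat 0, Int.negSucc 872]) (ZT.leaf [])))) (ZT.node 10011 (ZT.node 10009 (ZT.leaf []) (ZT.node 10010 (ZT.leaf [Int.ofNat 34695, Int.ofNat 14721, Int.negSucc 8126, Int.ofNat 2359, Int.ofNat 36, Int.ofNat 4659, Int.ofNat 521, Int.negSucc 1083, Int.negSucc 61, Int.negSucc 0, Int.ofNat 1, Int.ofNat 0, Int.ofNat 82, Int.ofNat 68, Int.negSucc 4932, Int.negSucc 29, Int.ofNat 678, Int.ofNat 1, Int.ofNat 4036]) (ZT.leaf [Int.ofNat 1169, Int.ofNat 626, Int.negSucc 306, Int.ofNat 115, Int.negSucc 2, Int.ofNat 194, Int.ofNat 15, Int.negSucc 32, Int.ofNat 5, Int.ofNat 1, Int.ofNat 0, Int.ofNat 0, Int.ofNat 3, Int.ofNat 8, Int.negSucc 176, Int.negSucc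 6, Int.ofNat 14, Int.ofNat 0, Int.ofNat 159]))) (ZT.node 10012 (ZT.leaf []) (ZT.node 10013 (ZT.leaf []) (ZT.leaf [])))))) (ZT.node 10025 (ZT.node 10019 (ZT.node 10016 (ZT.node 10015 (ZT.leaf []) (ZT.leaf [])) (ZT.node 10017 (ZT.leaf []) (ZT.node 10018 (ZT.leaf []) (ZT.leaf [])))) (ZT.node 10022 (ZT.node 10020 (ZT.leaf [Int.ofNat 7, Int.negSucc 11, Int.negSucc 1, Int.negSucc 0, Int.ofNat 0, Int.ofNat 0, Int.ofNat 0, Int.ofNat 1, Int.ofNat 1, Int.ofNat 1, Int.ofNat 0, Int.ofNat 0, Int.ofNat 0, Int.ofNat 0, Int.ofNat 7, Int.ofNat 0, Int.ofNat 0, Int.ofNat 0, Int.negSucc 0]) (ZT.node 10021 (ZT.leaf []) (ZT.leaf []))) (ZT.node 10023 (ZT.leaf []) (ZT.node 10024 (ZT.leaf []) (ZT.leaf []))))) (ZT.node 10031 (ZT.node 10028 (ZT.node 10026 (ZT.leaf []) (ZT.node 10027 (ZT.leaf []) (ZT.leaf []))) (ZT.node 10029 (ZT.leaf []) (ZT.node 10030 (ZT.leaf [])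 (ZT.leaf [])))) (ZT.node 10034 (ZT.node 10032 (ZT.leaf []) (ZT.node 10033 (ZT.leaf []) (ZT.leaf []))) (ZT.node 10035 (ZT.leaf []) (ZT.node 10036 (ZT.leaf []) (ZT.leaf []))))))) (ZT.node 10059 (ZT.node 10048 (ZT.node 10042 (ZT.node 10039 (ZT.node 10038 (ZT.leaf []) (ZT.leaf [])) (ZT.node 10040 (ZT.leaf []) (ZT.node 10041 (ZT.leaf []) (ZT.leaf [Int.ofNat 714, Int.ofNat 245, Int.negSucc 177, Int.ofNat 45, Int.ofNat 1, Int.ofNat 92, Int.ofNat 7, Int.negSucc 17, Int.ofNat 1, Int.ofNat 0, Int.ofNat 0, Int.ofNat 0, Int.ofNat 1, Int.ofNat 1, Int.negSucc 81, Int.ofNat 0, Int.ofNat 13, Int.ofNat 0, Int.ofNat 78])))) (ZT.node 10045 (ZT.node 10043 (ZT.leaf [Int.ofNat 6185, Int.ofNat 2481, Int.negSucc 1461, Int.ofNat 399, Int.ofNat 7, Int.ofNat 791, Int.ofNat 70, Int.negSucc 168, Int.negSucc 5, Int.ofNat 0, Int.ofNat 0, Int.ofNat 0, Int.ofNat 16, Int.ofNat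 11, Int.negSucc 845, Int.negSucc 1, Int.ofNat 143, Int.ofNat 0, Int.ofNat 701]) (ZT.node 10044 (ZT.leaf []) (ZT.leaf []))) (ZT.node 10046 (ZT.leaf []) (ZT.node 10047 (ZT.leaf []) (ZT.leaf []))))) (ZT.node 10053 (ZT.node 10050 (ZT.node 10049 (ZT.leaf []) (ZT.leaf [])) (ZT.node 10051 (ZT.leaf []) (ZT.node 10052 (ZT.leaf []) (ZT.leaf [Int.negSucc 99, Int.negSucc 26, Int.ofNat 21, Int.negSucc 1, Int.ofNat 0, Int.negSucc 9, Int.ofNat 1, Int.negSucc 0, Int.negSucc 0, Int.ofNat 0, Int.ofNat 0, Int.ofNat 0, Int.negSucc 0, Int.ofNat 0, Int.ofNat 4, Int.ofNat 0, Int.negSucc 0, Int.ofNat 0, Int.negSucc 7])))) (ZT.node 10056 (ZT.node 10054 (ZT.leaf [Int.ofNat 100, Int.ofNat 27, Int.negSucc 20, Int.ofNat 2, Int.ofNat 0, Int.ofNat 10, Int.negSucc 0, Int.ofNat 1, Int.ofNat 1, Int.ofNat 0, Int.ofNat 0, Int.ofNat 0, Int.ofNat 1, Int.ofNat 0, Int.negSucc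 3, Int.ofNat 0, Int.ofNat 1, Int.ofNat 0, Int.ofNat 8]) (ZT.node 10055 (ZT.leaf [Int.negSucc 232, Int.negSucc 65, Int.ofNat 41, Int.negSucc 3, Int.ofNat 0, Int.negSucc 13, Int.negSucc 2, Int.negSucc 1, Int.ofNat 1, Int.ofNat 0, Int.ofNat 0, Int.ofNat 0, Int.negSucc 2, Int.ofNat 0, Int.ofNat 19, Int.negSucc 1, Int.negSucc 1, Int.ofNat 0, Int.negSucc 15]) (ZT.leaf []))) (ZT.node 10057 (ZT.leaf [Int.ofNat 95, Int.ofNat 21, Int.negSucc 20, Int.ofNat 2, Int.ofNat 0, Int.ofNat 10, Int.negSucc 0, Int.ofNat 1, Int.ofNat 1, Int.ofNat 0, Int.ofNat 0, Int.ofNat 0, Int.ofNat 1, Int.ofNat 0, Int.negSucc 3, Int.ofNat 0, Int.ofNat 1, Int.ofNat 0, Int.ofNat 8]) (ZT.node 10058 (ZT.leaf []) (ZT.leaf [])))))) (ZT.node 10070 (ZT.node 10064 (ZT.node 10061 (ZT.node 10060 (ZT.leaf []) (ZT.leaf [])) (ZT.node 10062 (ZT.leaf []) (ZT.node 10063 (ZT.leaf []) (ZT.leaf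 [])))) (ZT.node 10067 (ZT.node 10065 (ZT.leaf []) (ZT.node 10066 (ZT.leaf []) (ZT.leaf [Int.negSucc 1341, Int.negSucc 1035, Int.ofNat 303, Int.negSucc 170, Int.negSucc 3, Int.negSucc 234, Int.negSucc 47, Int.ofNat 79, Int.ofNat 21, Int.ofNat 0, Int.ofNat 0, Int.ofNat 0, Int.negSucc 6, Int.negSucc 2, Int.ofNat 399, Int.ofNat 5, Int.negSucc 20, Int.ofNat 0, Int.negSucc 217]))) (ZT.node 10068 (ZT.leaf []) (ZT.node 10069 (ZT.leaf []) (ZT.leaf [Int.negSucc 2488, Int.negSucc 1183, Int.ofNat 539, Int.negSucc 172, Int.negSucc 6, Int.negSucc 321, Int.negSucc 71, Int.ofNat 126, Int.ofNat 26, Int.ofNat 0, Int.ofNat 0, Int.ofNat 0, Int.negSucc 2, Int.ofNat 0, Int.ofNat 539, Int.negSucc 1, Int.negSucc 67, Int.ofNat 0, Int.negSucc 307]))))) (ZT.node 10076 (ZT.node 10073 (ZT.node 10071 (ZT.leaf [Int.negSucc 2487, Int.negSucc 1183, Int.ofNat 539, Int.negSucc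 172, Int.negSucc 6, Int.negSucc 321, Int.negSucc 71, Int.ofNat 126, Int.ofNat 26, Int.ofNat 0, Int.ofNat 0, Int.ofNat 0, Int.negSucc 2, Int.ofNat 0, Int.ofNat 539, Int.negSucc 1, Int.negSucc 67, Int.ofNat 0, Int.negSucc 307]) (ZT.node 10072 (ZT.leaf [Int.ofNat 27264, Int.ofNat 13461, Int.negSucc 6304, Int.ofNat 2155, Int.ofNat 63, Int.ofNat 3778, Int.ofNat 509, Int.negSucc 1123, Int.negSucc 148, Int.ofNat 1, Int.negSucc 0, Int.ofNat 1, Int.ofNat 42, Int.ofNat 41, Int.negSucc 4756, Int.negSucc 28, Int.ofNat 712, Int.ofNat 1, Int.ofNat 3413]) (ZT.leaf [Int.ofNat 1]))) (ZT.node 10074 (ZT.leaf []) (ZT.node 10075 (ZT.leaf [Int.ofNat 0, Int.ofNat 0, Int.ofNat 0, Int.ofNat 0, Int.ofNat 0, Int.ofNat 0, Int.ofNat 0, Int.ofNat 0, Int.ofNat 0, Int.ofNat 0, Int.ofNat 0, Int.negSucc 0]) (ZT.leaf [])))) (ZT.node 10079 (ZT.node 10077 (ZT.leaf []) (ZT.node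 10078 (ZT.leaf []) (ZT.leaf []))) (ZT.node 10080 (ZT.leaf []) (ZT.node 10081 (ZT.leaf []) (ZT.leaf [])))))))) (ZT.node 10127 (ZT.node 10104 (ZT.node 10093 (ZT.node 10087 (ZT.node 10084 (ZT.node 10083 (ZT.leaf []) (ZT.leaf [])) (ZT.node 10085 (ZT.leaf []) (ZT.node 10086 (ZT.leaf []) (ZT.leaf [])))) (ZT.node 10090 (ZT.node 10088 (ZT.leaf [Int.ofNat 1268, Int.ofNat 512, Int.negSucc 300, Int.ofNat 87, Int.ofNat 4, Int.ofNat 155, Int.ofNat 12, Int.negSucc 33, Int.negSucc 0, Int.ofNat 0, Int.ofNat 0, Int.ofNat 0, Int.ofNat 4, Int.ofNat 2, Int.negSucc 181, Int.negSucc 1, Int.ofNat 28, Int.ofNat 0, Int.ofNat 138]) (ZT.node 10089 (ZT.leaf []) (ZT.leaf []))) (ZT.node 10091 (ZT.leaf []) (ZT.node 10092 (ZT.leaf []) (ZT.leaf []))))) (ZT.node 10098 (ZT.node 10095 (ZT.node 10094 (ZT.leaf []) (ZT.leaf [])) (ZT.node 10096 (ZT.leaf []) (ZT.node 10097 (ZT.leaf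 [Int.negSucc 0]) (ZT.leaf [])))) (ZT.node 10101 (ZT.node 10099 (ZT.leaf []) (ZT.node 10100 (ZT.leaf [Int.ofNat 0, Int.ofNat 0, Int.ofNat 0, Int.ofNat 0, Int.ofNat 0, Int.ofNat 0, Int.ofNat 0, Int.ofNat 0, Int.ofNat 0, Int.negSucc 0]) (ZT.leaf []))) (ZT.node 10102 (ZT.leaf []) (ZT.node 10103 (ZT.leaf []) (ZT.leaf [])))))) (ZT.node 10115 (ZT.node 10109 (ZT.node 10106 (ZT.node 10105 (ZT.leaf []) (ZT.leaf [])) (ZT.node 10107 (ZT.leaf []) (ZT.node 10108 (ZT.leaf []) (ZT.leaf [])))) (ZT.node 10112 (ZT.node 10110 (ZT.leaf []) (ZT.node 10111 (ZT.leaf []) (ZT.leaf [Int.ofNat 115, Int.ofNat 34, Int.negSucc 23, Int.ofNat 4, Int.ofNat 0, Int.ofNat 10, Int.ofNat 1, Int.negSucc 0, Int.ofNat 0, Int.ofNat 0, Int.ofNat 0, Int.ofNat 0, Int.ofNat 1, Int.ofNat 0, Int.negSucc 10, Int.ofNat 0, Int.ofNat 2, Int.ofNat 0, Int.ofNat 10]))) (ZT.node 10113 (ZT.leaf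 []) (ZT.node 10114 (ZT.leaf []) (ZT.leaf []))))) (ZT.node 10121 (ZT.node 10118 (ZT.node 10116 (ZT.leaf []) (ZT.node 10117 (ZT.leaf []) (ZT.leaf []))) (ZT.node 10119 (ZT.leaf []) (ZT.node 10120 (ZT.leaf []) (ZT.leaf [])))) (ZT.node 10124 (ZT.node 10122 (ZT.leaf []) (ZT.node 10123 (ZT.leaf []) (ZT.leaf [Int.ofNat 1]))) (ZT.node 10125 (ZT.leaf [Int.negSucc 161, Int.negSucc 20, Int.ofNat 45, Int.negSucc 6, Int.ofNat 0, Int.negSucc 22, Int.ofNat 0, Int.negSucc 0, Int.negSucc 2, Int.ofNat 0, Int.ofNat 0, Int.ofNat 0, Int.ofNat 0, Int.ofNat 0, Int.ofNat 1, Int.ofNat 0, Int.ofNat 0, Int.ofNat 0, Int.negSucc 14]) (ZT.node 10126 (ZT.leaf [Int.ofNat 24, Int.negSucc 6, Int.negSucc 12, Int.ofNat 4, Int.ofNat 0, Int.ofNat 10, Int.ofNat 1, Int.ofNat 0, Int.ofNat 2, Int.ofNat 0, Int.ofNat 0, Int.ofNat 0, Int.negSucc 0, Int.ofNat 0, Int.ofNat 7, Int.ofNat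 0, Int.negSucc 3, Int.ofNat 0, Int.ofNat 3]) (ZT.leaf []))))))) (ZT.node 10149 (ZT.node 10138 (ZT.node 10132 (ZT.node 10129 (ZT.node 10128 (ZT.leaf []) (ZT.leaf [])) (ZT.node 10130 (ZT.leaf [Int.negSucc 3334, Int.ofNat 1492, Int.ofNat 611, Int.ofNat 361, Int.ofNat 19, Int.ofNat 56, Int.ofNat 60, Int.negSucc 161, Int.negSucc 59, Int.negSucc 0, Int.ofNat 0, Int.negSucc 0, Int.negSucc 36, Int.ofNat 13, Int.negSucc 319, Int.negSucc 39, Int.negSucc 10, Int.negSucc 0, Int.ofNat 57]) (ZT.node 10131 (ZT.leaf []) (ZT.leaf [])))) (ZT.node 10135 (ZT.node 10133 (ZT.leaf []) (ZT.node 10134 (ZT.leaf [Int.ofNat 14, Int.ofNat 2, Int.negSucc 2, Int.ofNat 0, Int.ofNat 0, Int.ofNat 1, Int.ofNat 0, Int.ofNat 0, Int.ofNat 0, Int.ofNat 0, Int.ofNat 0, Int.ofNat 0, Int.ofNat 0, Int.ofNat 0, Int.ofNat 0, Int.ofNat 0, Int.ofNat 0, Int.ofNat 0, Int.ofNat 1]) (ZT.leaf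 []))) (ZT.node 10136 (ZT.leaf []) (ZT.node 10137 (ZT.leaf []) (ZT.leaf []))))) (ZT.node 10143 (ZT.node 10140 (ZT.node 10139 (ZT.leaf []) (ZT.leaf [])) (ZT.node 10141 (ZT.leaf []) (ZT.node 10142 (ZT.leaf []) (ZT.leaf [])))) (ZT.node 10146 (ZT.node 10144 (ZT.leaf []) (ZT.node 10145 (ZT.leaf []) (ZT.leaf []))) (ZT.node 10147 (ZT.leaf []) (ZT.node 10148 (ZT.leaf []) (ZT.leaf [])))))) (ZT.node 10160 (ZT.node 10154 (ZT.node 10151 (ZT.node 10150 (ZT.leaf [Int.negSucc 2416, Int.negSucc 964, Int.ofNat 554, Int.negSucc 148, Int.negSucc 3, Int.negSucc 303, Int.negSucc 41, Int.ofNat 83, Int.ofNat 8, Int.ofNat 0, Int.ofNat 0, Int.ofNat 0, Int.negSucc 3, Int.negSucc 2, Int.ofNat 351, Int.ofNat 1, Int.negSucc 49, Int.ofNat 0, Int.negSucc 271]) (ZT.leaf [Int.ofNat 1])) (ZT.node 10152 (ZT.leaf []) (ZT.node 10153 (ZT.leaf []) (ZT.leaf [])))) (ZT.node 10157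 (ZT.node 10155 (ZT.leaf []) (ZT.node 10156 (ZT.leaf []) (ZT.leaf []))) (ZT.node 10158 (ZT.leaf [Int.negSucc 738, Int.negSucc 234, Int.ofNat 174, Int.negSucc 33, Int.ofNat 0, Int.negSucc 87, Int.negSucc 1, Int.ofNat 7, Int.negSucc 3, Int.ofNat 0, Int.ofNat 0, Int.ofNat 0, Int.negSucc 2, Int.negSucc 1, Int.ofNat 73, Int.ofNat 0, Int.negSucc 13, Int.ofNat 0, Int.negSucc 74]) (ZT.node 10159 (ZT.leaf [Int.negSucc 1321, Int.negSucc 420, Int.ofNat 322, Int.negSucc 67, Int.negSucc 0, Int.negSucc 157, Int.negSucc 5, Int.ofNat 22, Int.negSucc 4, Int.ofNat 0, Int.ofNat 0, Int.ofNat 0, Int.negSucc 2, Int.negSucc 2, Int.ofNat 129, Int.ofNat 1, Int.negSucc 28, Int.ofNat 0, Int.negSucc 134]) (ZT.leaf []))))) (ZT.node 10166 (ZT.node 10163 (ZT.node 10161 (ZT.leaf []) (ZT.node 10162 (ZT.leaf []) (ZT.leaf []))) (ZT.node 10164 (ZT.leaf []) (ZT.node 10165 (ZT.leaf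 []) (ZT.leaf [])))) (ZT.node 10169 (ZT.node 10167 (ZT.leaf []) (ZT.node 10168 (ZT.leaf []) (ZT.leaf []))) (ZT.node 10170 (ZT.leaf []) (ZT.node 10171 (ZT.leaf []) (ZT.leaf []))))))))) (ZT.node 10262 (ZT.node 10217 (ZT.node 10194 (ZT.node 10183 (ZT.node 10177 (ZT.node 10174 (ZT.node 10173 (ZT.leaf []) (ZT.leaf [Int.ofNat 5094, Int.ofNat 3261, Int.negSucc 1167, Int.ofNat 529, Int.ofNat 15, Int.ofNat 784, Int.ofNat 123, Int.negSucc 263, Int.negSucc 47, Int.ofNat 0, Int.ofNat 0, Int.ofNat 1, Int.ofNat 11, Int.ofNat 14, Int.negSucc 1090, Int.negSucc 16, Int.ofNat 138, Int.ofNat 1, Int.ofNat 727])) (ZT.node 10175 (ZT.leaf []) (ZT.node 10176 (ZT.leaf []) (ZT.leaf [])))) (ZT.node 10180 (ZT.node 10178 (ZT.leaf []) (ZT.node 10179 (ZT.leaf []) (ZT.leaf []))) (ZT.node 10181 (ZT.leaf []) (ZT.node 10182 (ZT.leaf []) (ZT.leaf []))))) (ZT.node 10188 (ZT.node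 10185 (ZT.node 10184 (ZT.leaf []) (ZT.leaf [])) (ZT.node 10186 (ZT.leaf []) (ZT.node 10187 (ZT.leaf []) (ZT.leaf [])))) (ZT.node 10191 (ZT.node 10189 (ZT.leaf []) (ZT.node 10190 (ZT.leaf []) (ZT.leaf []))) (ZT.node 10192 (ZT.leaf [Int.negSucc 7180, Int.negSucc 4990, Int.ofNat 1571, Int.negSucc 779, Int.negSucc 42, Int.negSucc 1126, Int.negSucc 213, Int.ofNat 502, Int.ofNat 118, Int.negSucc 1, Int.ofNat 1, Int.negSucc 0, Int.ofNat 15, Int.ofNat 4, Int.ofNat 1909, Int.ofNat 5, Int.negSucc 287, Int.negSucc 0, Int.negSucc 1080]) (ZT.node 10193 (ZT.leaf []) (ZT.leaf [Int.ofNat 269, Int.ofNat 21, Int.negSucc 51, Int.negSucc 0, Int.negSucc 0, Int.ofNat 15, Int.ofNat 6, Int.negSucc 5, Int.ofNat 1, Int.ofNat 0, Int.ofNat 0, Int.ofNat 0, Int.ofNat 1, Int.ofNat 0, Int.negSucc 31, Int.ofNat 1, Int.ofNat 3, Int.ofNat 0, Int.ofNat 17])))))) (ZT.node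 10205 (ZT.node 10199 (ZT.node 10196 (ZT.node 10195 (ZT.leaf [Int.negSucc 187, Int.negSucc 318, Int.ofNat 71, Int.negSucc 65, Int.negSucc 1, Int.negSucc 68, Int.negSucc 5, Int.ofNat 14, Int.ofNat 2, Int.ofNat 0, Int.ofNat 0, Int.ofNat 0, Int.negSucc 0, Int.negSucc 3, Int.ofNat 103, Int.ofNat 4, Int.negSucc 1, Int.ofNat 0, Int.negSucc 59]) (ZT.leaf [Int.ofNat 18906, Int.ofNat 8377, Int.negSucc 4261, Int.ofNat 1295, Int.ofNat 45, Int.ofNat 2385, Int.ofNat 337, Int.negSucc 729, Int.negSucc 104, Int.ofNat 1, Int.ofNat 0, Int.ofNat 1, Int.ofNat 27, Int.ofNat 3, Int.negSucc 3164, Int.negSucc 2, Int.ofNat 497, Int.ofNat 1, Int.ofNat 2201])) (ZT.node 10197 (ZT.leaf []) (ZT.node 10198 (ZT.leaf []) (ZT.leaf [])))) (ZT.node 10202 (ZT.node 10200 (ZT.leaf []) (ZT.node 10201 (ZT.leaf []) (ZT.leaf []))) (ZT.node 10203 (ZT.leaf []) (ZT.node 10204 (ZT.leaf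 []) (ZT.leaf []))))) (ZT.node 10211 (ZT.node 10208 (ZT.node 10206 (ZT.leaf [Int.ofNat 1]) (ZT.node 10207 (ZT.leaf []) (ZT.leaf [Int.ofNat 25990, Int.ofNat 10307, Int.negSucc 5942, Int.ofNat 1576, Int.ofNat 17, Int.ofNat 3238, Int.ofNat 401, Int.negSucc 715, Int.negSucc 37, Int.negSucc 0, Int.ofNat 1, Int.ofNat 0, Int.ofNat 83, Int.ofNat 55, Int.negSucc 3651, Int.negSucc 16, Int.ofNat 481, Int.ofNat 1, Int.ofNat 2881]))) (ZT.node 10209 (ZT.leaf []) (ZT.node 10210 (ZT.leaf []) (ZT.leaf [])))) (ZT.node 10214 (ZT.node 10212 (ZT.leaf [Int.ofNat 1]) (ZT.node 10213 (ZT.leaf []) (ZT.leaf []))) (ZT.node 10215 (ZT.leaf [Int.negSucc 2636, Int.ofNat 1005, Int.ofNat 430, Int.ofNat 291, Int.ofNat 10, Int.ofNat 89, Int.ofNat 7, Int.negSucc 96, Int.negSucc 21, Int.negSucc 0, Int.ofNat 0, Int.ofNat 0, Int.negSucc 30, Int.ofNat 7, Int.negSucc 186, Int.negSucc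 31, Int.negSucc 27, Int.ofNat 0, Int.ofNat 31]) (ZT.node 10216 (ZT.leaf []) (ZT.leaf []))))))) (ZT.node 10239 (ZT.node 10228 (ZT.node 10222 (ZT.node 10219 (ZT.node 10218 (ZT.leaf []) (ZT.leaf [Int.ofNat 0, Int.ofNat 0, Int.ofNat 0, Int.ofNat 0, Int.ofNat 0, Int.ofNat 0, Int.ofNat 0, Int.ofNat 0, Int.negSucc 0])) (ZT.node 10220 (ZT.leaf []) (ZT.node 10221 (ZT.leaf []) (ZT.leaf [])))) (ZT.node 10225 (ZT.node 10223 (ZT.leaf []) (ZT.node 10224 (ZT.leaf []) (ZT.leaf []))) (ZT.node 10226 (ZT.leaf []) (ZT.node 10227 (ZT.leaf []) (ZT.leaf []))))) (ZT.node 10233 (ZT.node 10230 (ZT.node 10229 (ZT.leaf []) (ZT.leaf [])) (ZT.node 10231 (ZT.leaf []) (ZT.node 10232 (ZT.leaf []) (ZT.leaf [])))) (ZT.node 10236 (ZT.node 10234 (ZT.leaf []) (ZT.node 10235 (ZT.leaf []) (ZT.leaf []))) (ZT.node 10237 (ZT.leaf [Int.negSucc 7802, Int.negSucc 1988, Int.ofNat 1723,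 Int.negSucc 250, Int.negSucc 8, Int.negSucc 755, Int.negSucc 81, Int.ofNat 157, Int.ofNat 4, Int.ofNat 1, Int.ofNat 0, Int.ofNat 0, Int.negSucc 23, Int.negSucc 1, Int.ofNat 796, Int.negSucc 13, Int.negSucc 180, Int.ofNat 0, Int.negSucc 698]) (ZT.node 10238 (ZT.leaf []) (ZT.leaf [])))))) (ZT.node 10250 (ZT.node 10244 (ZT.node 10241 (ZT.node 10240 (ZT.leaf []) (ZT.leaf [])) (ZT.node 10242 (ZT.leaf []) (ZT.node 10243 (ZT.leaf []) (ZT.leaf [])))) (ZT.node 10247 (ZT.node 10245 (ZT.leaf []) (ZT.node 10246 (ZT.leaf []) (ZT.leaf []))) (ZT.node 10248 (ZT.leaf []) (ZT.node 10249 (ZT.leaf []) (ZT.leaf []))))) (ZT.node 10256 (ZT.node 10253 (ZT.node 10251 (ZT.leaf []) (ZT.node 10252 (ZT.leaf []) (ZT.leaf []))) (ZT.node 10254 (ZT.leaf []) (ZT.node 10255 (ZT.leaf []) (ZT.leaf [])))) (ZT.node 10259 (ZT.node 10257 (ZT.leaf []) (ZT.node 10258 (ZT.leaf [])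 (ZT.leaf []))) (ZT.node 10260 (ZT.leaf []) (ZT.node 10261 (ZT.leaf []) (ZT.leaf [])))))))) (ZT.node 10307 (ZT.node 10284 (ZT.node 10273 (ZT.node 10267 (ZT.node 10264 (ZT.node 10263 (ZT.leaf []) (ZT.leaf [])) (ZT.node 10265 (ZT.leaf []) (ZT.node 10266 (ZT.leaf []) (ZT.leaf [])))) (ZT.node 10270 (ZT.node 10268 (ZT.leaf []) (ZT.node 10269 (ZT.leaf []) (ZT.leaf []))) (ZT.node 10271 (ZT.leaf []) (ZT.node 10272 (ZT.leaf []) (ZT.leaf []))))) (ZT.node 10278 (ZT.node 10275 (ZT.node 10274 (ZT.leaf [Int.negSucc 1774, Int.negSucc 695, Int.ofNat 418, Int.negSucc 114, Int.negSucc 3, Int.negSucc 231, Int.negSucc 22, Int.ofNat 54, Int.ofNat 1, Int.ofNat 0, Int.ofNat 0, Int.ofNat 0, Int.negSucc 1, Int.negSucc 1, Int.ofNat 250, Int.ofNat 1, Int.negSucc 37, Int.ofNat 0, Int.negSucc 200]) (ZT.leaf [Int.negSucc 619, Int.negSucc 78, Int.ofNat 134, Int.ofNat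 5, Int.ofNat 4, Int.negSucc 40, Int.ofNat 3, Int.negSucc 8, Int.negSucc 2, Int.ofNat 0, Int.ofNat 0, Int.ofNat 0, Int.negSucc 5, Int.ofNat 0, Int.ofNat 13, Int.negSucc 2, Int.negSucc 11, Int.ofNat 0, Int.negSucc 42])) (ZT.node 10276 (ZT.leaf []) (ZT.node 10277 (ZT.leaf []) (ZT.leaf [Int.ofNat 2763, Int.ofNat 1689, Int.negSucc 619, Int.ofNat 234, Int.ofNat 1, Int.ofNat 425, Int.ofNat 72, Int.negSucc 149, Int.negSucc 27, Int.negSucc 0, Int.ofNat 0, Int.ofNat 0, Int.ofNat 8, Int.ofNat 12, Int.negSucc 599, Int.negSucc 5, Int.ofNat 99, Int.ofNat 0, Int.ofNat 412])))) (ZT.node 10281 (ZT.node 10279 (ZT.leaf []) (ZT.node 10280 (ZT.leaf []) (ZT.leaf [Int.negSucc 7054, Int.negSucc 1044, Int.ofNat 1566, Int.negSucc 91, Int.ofNat 7, Int.negSucc 577, Int.negSucc 52, Int.ofNat 25, Int.negSucc 31, Int.ofNat 0, Int.ofNat 0, Int.ofNat 0, Int.negSucc 35,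 Int.negSucc 7, Int.ofNat 463, Int.negSucc 17, Int.negSucc 89, Int.ofNat 0, Int.negSucc 527]))) (ZT.node 10282 (ZT.leaf [Int.negSucc 6367, Int.negSucc 699, Int.ofNat 1388, Int.negSucc 25, Int.ofNat 7, Int.negSucc 470, Int.negSucc 48, Int.ofNat 12, Int.negSucc 26, Int.ofNat 0, Int.ofNat 0, Int.ofNat 0, Int.negSucc 35, Int.negSucc 3, Int.ofNat 371, Int.negSucc 19, Int.negSucc 77, Int.ofNat 0, Int.negSucc 440]) (ZT.node 10283 (ZT.leaf []) (ZT.leaf [])))))) (ZT.node 10295 (ZT.node 10289 (ZT.node 10286 (ZT.node 10285 (ZT.leaf []) (ZT.leaf [])) (ZT.node 10287 (ZT.leaf []) (ZT.node 10288 (ZT.leaf []) (ZT.leaf [])))) (ZT.node 10292 (ZT.node 10290 (ZT.leaf []) (ZT.node 10291 (ZT.leaf [Int.ofNat 21, Int.negSucc 5, Int.negSucc 11, Int.ofNat 4, Int.ofNat 0, Int.ofNat 10, Int.ofNat 1, Int.ofNat 0, Int.ofNat 2, Int.ofNat 0, Int.ofNat 0, Int.ofNat 0, Int.negSucc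 0, Int.ofNat 0, Int.ofNat 7, Int.ofNat 0, Int.negSucc 3, Int.ofNat 0, Int.ofNat 3]) (ZT.leaf []))) (ZT.node 10293 (ZT.leaf []) (ZT.node 10294 (ZT.leaf [Int.ofNat 356, Int.ofNat 514, Int.negSucc 84, Int.ofNat 81, Int.ofNat 2, Int.ofNat 88, Int.ofNat 19, Int.negSucc 32, Int.negSucc 10, Int.ofNat 0, Int.ofNat 0, Int.ofNat 0, Int.ofNat 4, Int.ofNat 3, Int.negSucc 189, Int.negSucc 2, Int.ofNat 11, Int.ofNat 0, Int.ofNat 90]) (ZT.leaf []))))) (ZT.node 10301 (ZT.node 10298 (ZT.node 10296 (ZT.leaf []) (ZT.node 10297 (ZT.leaf []) (ZT.leaf []))) (ZT.node 10299 (ZT.leaf []) (ZT.node 10300 (ZT.leaf []) (ZT.leaf [])))) (ZT.node 10304 (ZT.node 10302 (ZT.leaf []) (ZT.node 10303 (ZT.leaf [Int.negSucc 11, Int.negSucc 7, Int.ofNat 2, Int.ofNat 0, Int.ofNat 0, Int.negSucc 1, Int.ofNat 0, Int.ofNat 0, Int.ofNat 0, Int.ofNat 0, Int.ofNat 0, Int.ofNat 0, Int.ofNat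 0, Int.ofNat 0, Int.ofNat 2, Int.ofNat 0, Int.ofNat 1, Int.ofNat 0, Int.negSucc 0]) (ZT.leaf []))) (ZT.node 10305 (ZT.leaf []) (ZT.node 10306 (ZT.leaf []) (ZT.leaf []))))))) (ZT.node 10329 (ZT.node 10318 (ZT.node 10312 (ZT.node 10309 (ZT.node 10308 (ZT.leaf []) (ZT.leaf [Int.ofNat 4531, Int.ofNat 2800, Int.negSucc 1184, Int.ofNat 536, Int.ofNat 21, Int.ofNat 776, Int.ofNat 70, Int.negSucc 205, Int.negSucc 9, Int.ofNat 0, Int.ofNat 0, Int.ofNat 0, Int.negSucc 9, Int.ofNat 13, Int.negSucc 913, Int.negSucc 16, Int.ofNat 130, Int.ofNat 0, Int.ofNat 668])) (ZT.node 10310 (ZT.leaf []) (ZT.node 10311 (ZT.leaf []) (ZT.leaf [])))) (ZT.node 10315 (ZT.node 10313 (ZT.leaf []) (ZT.node 10314 (ZT.leaf [Int.negSucc 0]) (ZT.leaf []))) (ZT.node 10316 (ZT.leaf []) (ZT.node 10317 (ZT.leaf [Int.negSucc 72, Int.negSucc 298, Int.ofNat 267, Int.negSucc 160, Int.ofNat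 23, Int.negSucc 202, Int.ofNat 64, Int.negSucc 89, Int.negSucc 66, Int.ofNat 2, Int.negSucc 0, Int.ofNat 1, Int.negSucc 10, Int.negSucc 26, Int.negSucc 198, Int.ofNat 33, Int.ofNat 76, Int.ofNat 1, Int.negSucc 84]) (ZT.leaf []))))) (ZT.node 10323 (ZT.node 10320 (ZT.node 10319 (ZT.leaf []) (ZT.leaf [])) (ZT.node 10321 (ZT.leaf []) (ZT.node 10322 (ZT.leaf [Int.ofNat 1481, Int.ofNat 762, Int.negSucc 359, Int.ofNat 129, Int.ofNat 2, Int.ofNat 220, Int.ofNat 30, Int.negSucc 65, Int.negSucc 7, Int.ofNat 0, Int.ofNat 1, Int.ofNat 0, Int.ofNat 1, Int.ofNat 2, Int.negSucc 271, Int.negSucc 1, Int.ofNat 36, Int.ofNat 0, Int.ofNat 199]) (ZT.leaf [])))) (ZT.node 10326 (ZT.node 10324 (ZT.leaf []) (ZT.node 10325 (ZT.leaf [Int.ofNat 5347, Int.ofNat 1939, Int.negSucc 1253, Int.ofNat 307, Int.ofNat 7, Int.ofNat 666, Int.ofNat 76, Int.negSucc 151, Int.negSucc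 2, Int.ofNat 0, Int.ofNat 0, Int.ofNat 0, Int.ofNat 8, Int.ofNat 8, Int.negSucc 702, Int.ofNat 1, Int.ofNat 109, Int.ofNat 0, Int.ofNat 584]) (ZT.leaf []))) (ZT.node 10327 (ZT.leaf []) (ZT.node 10328 (ZT.leaf []) (ZT.leaf [])))))) (ZT.node 10340 (ZT.node 10334 (ZT.node 10331 (ZT.node 10330 (ZT.leaf []) (ZT.leaf [])) (ZT.node 10332 (ZT.leaf []) (ZT.node 10333 (ZT.leaf []) (ZT.leaf [])))) (ZT.node 10337 (ZT.node 10335 (ZT.leaf []) (ZT.node 10336 (ZT.leaf []) (ZT.leaf [Int.negSucc 266, Int.negSucc 113, Int.ofNat 75, Int.negSucc 27, Int.negSucc 0, Int.negSucc 47, Int.negSucc 5, Int.ofNat 12, Int.negSucc 1, Int.negSucc 0, Int.ofNat 0, Int.ofNat 0, Int.ofNat 3, Int.negSucc 0, Int.ofNat 33, Int.ofNat 1, Int.negSucc 0, Int.ofNat 0, Int.negSucc 35]))) (ZT.node 10338 (ZT.leaf []) (ZT.node 10339 (ZT.leaf []) (ZT.leaf []))))) (ZT.node 10346 (ZT.node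 10343 (ZT.node 10341 (ZT.leaf [Int.negSucc 0]) (ZT.node 10342 (ZT.leaf []) (ZT.leaf []))) (ZT.node 10344 (ZT.leaf []) (ZT.node 10345 (ZT.leaf []) (ZT.leaf [])))) (ZT.node 10349 (ZT.node 10347 (ZT.leaf []) (ZT.node 10348 (ZT.leaf []) (ZT.leaf []))) (ZT.node 10350 (ZT.leaf [Int.negSucc 6, Int.ofNat 10, Int.ofNat 2, Int.ofNat 1, Int.ofNat 0, Int.ofNat 0, Int.ofNat 1, Int.negSucc 0, Int.negSucc 0, Int.ofNat 0, Int.ofNat 0, Int.ofNat 0, Int.ofNat 0, Int.ofNat 0, Int.negSucc 6, Int.ofNat 0, Int.ofNat 0, Int.ofNat 0, Int.ofNat 1]) (ZT.node 10351 (ZT.leaf []) (ZT.leaf []))))))))))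

noncomputable def labT_22 : ZT := (ZT.node 10532 (ZT.node 10442 (ZT.node 10397 (ZT.node 10374 (ZT.node 10363 (ZT.node 10357 (ZT.node 10354 (ZT.node 10353 (ZT.leaf []) (ZT.leaf [])) (ZT.node 10355 (ZT.leaf []) (ZT.node 10356 (ZT.leaf []) (ZT.leaf [])))) (ZT.node 10360 (ZT.node 10358 (ZT.leaf []) (ZT.node 10359 (ZT.leaf []) (ZT.leaf []))) (ZT.node 10361 (ZT.leaf []) (ZT.node 10362 (ZT.leaf []) (ZT.leaf []))))) (ZT.node 10368 (ZT.node 10365 (ZT.node 10364 (ZT.leaf []) (ZT.leaf [Int.ofNat 24, Int.ofNat 8, Int.negSucc 5, Int.ofNat 2, Int.ofNat 0, Int.ofNat 3, Int.ofNat 0, Int.negSucc 0, Int.ofNat 0, Int.ofNat 0, Int.ofNat 0, Int.ofNat 0, Int.ofNat 0, Int.ofNat 0, Int.negSucc 4, Int.ofNat 0, Int.ofNat 1, Int.ofNat 0, Int.ofNat 3])) (ZT.node 10366 (ZT.leaf []) (ZT.node 10367 (ZT.leaf []) (ZT.leaf [])))) (ZT.node 10371 (ZT.node 10369 (ZT.leaf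 []) (ZT.node 10370 (ZT.leaf []) (ZT.leaf [Int.negSucc 277, Int.negSucc 254, Int.ofNat 69, Int.negSucc 45, Int.negSucc 1, Int.negSucc 49, Int.negSucc 3, Int.ofNat 16, Int.ofNat 3, Int.ofNat 0, Int.ofNat 0, Int.ofNat 0, Int.ofNat 0, Int.negSucc 1, Int.ofNat 62, Int.ofNat 3, Int.negSucc 9, Int.ofNat 0, Int.negSucc 44]))) (ZT.node 10372 (ZT.leaf []) (ZT.node 10373 (ZT.leaf []) (ZT.leaf [Int.ofNat 57, Int.negSucc 8, Int.negSucc 9, Int.negSucc 3, Int.negSucc 0, Int.ofNat 0, Int.negSucc 1, Int.ofNat 5, Int.ofNat 2, Int.ofNat 0, Int.ofNat 0, Int.ofNat 0, Int.ofNat 1, Int.ofNat 0, Int.ofNat 0, Int.ofNat 1, Int.negSucc 0, Int.ofNat 0, Int.ofNat 1])))))) (ZT.node 10385 (ZT.node 10379 (ZT.node 10376 (ZT.node 10375 (ZT.leaf []) (ZT.leaf [])) (ZT.node 10377 (ZT.leaf []) (ZT.node 10378 (ZT.leaf []) (ZT.leaf [])))) (ZT.node 10382 (ZT.node 10380 (ZT.leaf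 []) (ZT.node 10381 (ZT.leaf []) (ZT.leaf []))) (ZT.node 10383 (ZT.leaf []) (ZT.node 10384 (ZT.leaf []) (ZT.leaf []))))) (ZT.node 10391 (ZT.node 10388 (ZT.node 10386 (ZT.leaf [Int.negSucc 660, Int.negSucc 332, Int.ofNat 184, Int.negSucc 68, Int.ofNat 0, Int.negSucc 115, Int.negSucc 1, Int.ofNat 12, Int.negSucc 6, Int.ofNat 0, Int.ofNat 0, Int.ofNat 0, Int.ofNat 0, Int.negSucc 3, Int.ofNat 93, Int.ofNat 2, Int.negSucc 9, Int.ofNat 0, Int.negSucc 90]) (ZT.node 10387 (ZT.leaf []) (ZT.leaf []))) (ZT.node 10389 (ZT.leaf [Int.ofNat 1]) (ZT.node 10390 (ZT.leaf []) (ZT.leaf [])))) (ZT.node 10394 (ZT.node 10392 (ZT.leaf []) (ZT.node 10393 (ZT.leaf []) (ZT.leaf []))) (ZT.node 10395 (ZT.leaf [Int.ofNat 4022, Int.ofNat 2410, Int.negSucc 985, Int.ofNat 413, Int.ofNat 6, Int.ofNat 669, Int.ofNat 74, Int.negSucc 187, Int.negSucc 21, Int.ofNat 0, Int.ofNat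 0, Int.ofNat 1, Int.ofNat 7, Int.ofNat 11, Int.negSucc 794, Int.negSucc 8, Int.ofNat 110, Int.ofNat 0, Int.ofNat 584]) (ZT.node 10396 (ZT.leaf []) (ZT.leaf []))))))) (ZT.node 10419 (ZT.node 10408 (ZT.node 10402 (ZT.node 10399 (ZT.node 10398 (ZT.leaf []) (ZT.leaf [])) (ZT.node 10400 (ZT.leaf [Int.negSucc 3016, Int.negSucc 1901, Int.ofNat 756, Int.negSucc 327, Int.negSucc 3, Int.negSucc 524, Int.negSucc 61, Int.ofNat 158, Int.ofNat 18, Int.ofNat 0, Int.ofNat 0, Int.negSucc 0, Int.negSucc 0, Int.negSucc 8, Int.ofNat 612, Int.ofNat 8, Int.negSucc 84, Int.ofNat 0, Int.negSucc 458]) (ZT.node 10401 (ZT.leaf []) (ZT.leaf [])))) (ZT.node 10405 (ZT.node 10403 (ZT.leaf []) (ZT.node 10404 (ZT.leaf [Int.negSucc 666, Int.ofNat 1726, Int.negSucc 12, Int.ofNat 400, Int.ofNat 11, Int.ofNat 304, Int.ofNat 38, Int.negSucc 150, Int.negSucc 28, Int.negSucc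 0, Int.ofNat 0, Int.ofNat 0, Int.negSucc 23, Int.ofNat 6, Int.negSucc 513, Int.negSucc 26, Int.ofNat 28, Int.ofNat 0, Int.ofNat 236]) (ZT.leaf []))) (ZT.node 10406 (ZT.leaf []) (ZT.node 10407 (ZT.leaf []) (ZT.leaf []))))) (ZT.node 10413 (ZT.node 10410 (ZT.node 10409 (ZT.leaf []) (ZT.leaf [])) (ZT.node 10411 (ZT.leaf [Int.negSucc 355, Int.negSucc 513, Int.ofNat 85, Int.negSucc 80, Int.negSucc 1, Int.negSucc 87, Int.negSucc 18, Int.ofNat 33, Int.ofNat 11, Int.ofNat 0, Int.ofNat 0, Int.ofNat 0, Int.negSucc 3, Int.negSucc 2, Int.ofNat 190, Int.ofNat 3, Int.negSucc 10, Int.ofNat 0, Int.negSucc 89]) (ZT.node 10412 (ZT.leaf []) (ZT.leaf [Int.ofNat 1])))) (ZT.node 10416 (ZT.node 10414 (ZT.leaf []) (ZT.node 10415 (ZT.leaf []) (ZT.leaf []))) (ZT.node 10417 (ZT.leaf [Int.ofNat 2417, Int.ofNat 965, Int.negSucc 553, Int.ofNat 149, Int.ofNat 4, Int.ofNat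 304, Int.ofNat 42, Int.negSucc 82, Int.negSucc 7, Int.ofNat 0, Int.ofNat 0, Int.ofNat 0, Int.ofNat 4, Int.ofNat 3, Int.negSucc 350, Int.negSucc 0, Int.ofNat 50, Int.ofNat 0, Int.ofNat 272]) (ZT.node 10418 (ZT.leaf []) (ZT.leaf [])))))) (ZT.node 10430 (ZT.node 10424 (ZT.node 10421 (ZT.node 10420 (ZT.leaf []) (ZT.leaf [])) (ZT.node 10422 (ZT.leaf []) (ZT.node 10423 (ZT.leaf []) (ZT.leaf [])))) (ZT.node 10427 (ZT.node 10425 (ZT.leaf []) (ZT.node 10426 (ZT.leaf []) (ZT.leaf []))) (ZT.node 10428 (ZT.leaf []) (ZT.node 10429 (ZT.leaf []) (ZT.leaf []))))) (ZT.node 10436 (ZT.node 10433 (ZT.node 10431 (ZT.leaf []) (ZT.node 10432 (ZT.leaf []) (ZT.leaf [Int.ofNat 137, Int.ofNat 119, Int.negSucc 29, Int.ofNat 18, Int.ofNat 0, Int.ofNat 22, Int.ofNat 5, Int.negSucc 7, Int.negSucc 2, Int.negSucc 0, Int.ofNat 0, Int.ofNat 0, Int.ofNat 1, Int.ofNat 1, Int.negSucc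 39, Int.negSucc 0, Int.ofNat 4, Int.ofNat 0, Int.ofNat 24]))) (ZT.node 10434 (ZT.leaf []) (ZT.node 10435 (ZT.leaf []) (ZT.leaf [])))) (ZT.node 10439 (ZT.node 10437 (ZT.leaf []) (ZT.node 10438 (ZT.leaf []) (ZT.leaf []))) (ZT.node 10440 (ZT.leaf []) (ZT.node 10441 (ZT.leaf []) (ZT.leaf [])))))))) (ZT.node 10487 (ZT.node 10464 (ZT.node 10453 (ZT.node 10447 (ZT.node 10444 (ZT.node 10443 (ZT.leaf []) (ZT.leaf [])) (ZT.node 10445 (ZT.leaf []) (ZT.node 10446 (ZT.leaf []) (ZT.leaf [])))) (ZT.node 10450 (ZT.node 10448 (ZT.leaf [Int.negSucc 0]) (ZT.node 10449 (ZT.leaf []) (ZT.leaf []))) (ZT.node 10451 (ZT.leaf []) (ZT.node 10452 (ZT.leaf []) (ZT.leaf []))))) (ZT.node 10458 (ZT.node 10455 (ZT.node 10454 (ZT.leaf [Int.negSucc 24775, Int.negSucc 12276, Int.ofNat 5766, Int.negSucc 1981, Int.negSucc 55, Int.negSucc 3455, Int.negSucc 436, Int.ofNat 998,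 Int.ofNat 123, Int.negSucc 0, Int.ofNat 1, Int.negSucc 0, Int.negSucc 38, Int.negSucc 40, Int.ofNat 4218, Int.ofNat 31, Int.negSucc 643, Int.negSucc 0, Int.negSucc 3104]) (ZT.leaf [])) (ZT.node 10456 (ZT.leaf []) (ZT.node 10457 (ZT.leaf []) (ZT.leaf [Int.ofNat 1])))) (ZT.node 10461 (ZT.node 10459 (ZT.leaf []) (ZT.node 10460 (ZT.leaf []) (ZT.leaf []))) (ZT.node 10462 (ZT.leaf []) (ZT.node 10463 (ZT.leaf []) (ZT.leaf [])))))) (ZT.node 10475 (ZT.node 10469 (ZT.node 10466 (ZT.node 10465 (ZT.leaf []) (ZT.leaf [])) (ZT.node 10467 (ZT.leaf []) (ZT.node 10468 (ZT.leaf []) (ZT.leaf [Int.negSucc 9498, Int.negSucc 2297, Int.ofNat 1854, Int.negSucc 172, Int.negSucc 9, Int.negSucc 741, Int.negSucc 139, Int.ofNat 222, Int.ofNat 36, Int.negSucc 1, Int.ofNat 1, Int.ofNat 1, Int.negSucc 31, Int.ofNat 9, Int.ofNat 1113, Int.negSucc 32, Int.negSucc 232, Int.ofNat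 0, Int.negSucc 768])))) (ZT.node 10472 (ZT.node 10470 (ZT.leaf []) (ZT.node 10471 (ZT.leaf []) (ZT.leaf []))) (ZT.node 10473 (ZT.leaf []) (ZT.node 10474 (ZT.leaf []) (ZT.leaf []))))) (ZT.node 10481 (ZT.node 10478 (ZT.node 10476 (ZT.leaf []) (ZT.node 10477 (ZT.leaf []) (ZT.leaf []))) (ZT.node 10479 (ZT.leaf []) (ZT.node 10480 (ZT.leaf [Int.negSucc 2735, Int.negSucc 1989, Int.ofNat 710, Int.negSucc 367, Int.negSucc 10, Int.negSucc 516, Int.negSucc 48, Int.ofNat 151, Int.ofNat 17, Int.ofNat 0, Int.ofNat 0, Int.ofNat 0, Int.ofNat 2, Int.negSucc 10, Int.ofNat 642, Int.ofNat 14, Int.negSucc 96, Int.ofNat 0, Int.negSucc 448]) (ZT.leaf [Int.ofNat 1])))) (ZT.node 10484 (ZT.node 10482 (ZT.leaf []) (ZT.node 10483 (ZT.leaf []) (ZT.leaf []))) (ZT.node 10485 (ZT.leaf []) (ZT.node 10486 (ZT.leaf []) (ZT.leaf []))))))) (ZT.node 10509 (ZT.node 10498 (ZT.node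 10492 (ZT.node 10489 (ZT.node 10488 (ZT.leaf [Int.negSucc 270, Int.negSucc 91, Int.ofNat 71, Int.negSucc 15, Int.ofNat 0, Int.negSucc 36, Int.negSucc 5, Int.ofNat 14, Int.ofNat 2, Int.ofNat 0, Int.ofNat 0, Int.ofNat 0, Int.ofNat 1, Int.ofNat 1, Int.ofNat 44, Int.negSucc 0, Int.negSucc 7, Int.ofNat 0, Int.negSucc 31]) (ZT.leaf [])) (ZT.node 10490 (ZT.leaf []) (ZT.node 10491 (ZT.leaf [Int.ofNat 1266, Int.ofNat 403, Int.negSucc 311, Int.ofNat 69, Int.ofNat 1, Int.ofNat 157, Int.ofNat 6, Int.negSucc 21, Int.ofNat 6, Int.ofNat 1, Int.ofNat 0, Int.ofNat 0, Int.ofNat 3, Int.ofNat 3, Int.negSucc 124, Int.negSucc 0, Int.ofNat 29, Int.ofNat 0, Int.ofNat 134]) (ZT.leaf [])))) (ZT.node 10495 (ZT.node 10493 (ZT.leaf [Int.negSucc 14, Int.ofNat 5, Int.ofNat 2, Int.ofNat 1, Int.ofNat 0, Int.ofNat 0, Int.ofNat 0, Int.negSucc 0, Int.negSucc 0, Int.negSucc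 0, Int.ofNat 0, Int.ofNat 0, Int.ofNat 0, Int.ofNat 0, Int.negSucc 5, Int.ofNat 0, Int.ofNat 0, Int.ofNat 0, Int.ofNat 0]) (ZT.node 10494 (ZT.leaf []) (ZT.leaf []))) (ZT.node 10496 (ZT.leaf []) (ZT.node 10497 (ZT.leaf [Int.ofNat 279, Int.ofNat 255, Int.negSucc 68, Int.ofNat 46, Int.ofNat 2, Int.ofNat 50, Int.ofNat 4, Int.negSucc 15, Int.negSucc 2, Int.ofNat 0, Int.ofNat 0, Int.ofNat 0, Int.ofNat 0, Int.ofNat 2, Int.negSucc 61, Int.negSucc 2, Int.ofNat 10, Int.ofNat 0, Int.ofNat 45]) (ZT.leaf []))))) (ZT.node 10503 (ZT.node 10500 (ZT.node 10499 (ZT.leaf []) (ZT.leaf [])) (ZT.node 10501 (ZT.leaf []) (ZT.node 10502 (ZT.leaf [Int.negSucc 5093, Int.negSucc 3260, Int.ofNat 1168, Int.negSucc 528, Int.negSucc 14, Int.negSucc 783, Int.negSucc 122, Int.ofNat 264, Int.ofNat 48, Int.ofNat 0, Int.ofNat 0, Int.negSucc 0, Int.negSucc 10, Int.negSucc 13,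 Int.ofNat 1091, Int.ofNat 17, Int.negSucc 137, Int.negSucc 0, Int.negSucc 726]) (ZT.leaf [Int.ofNat 5178, Int.ofNat 3275, Int.negSucc 1183, Int.ofNat 529, Int.ofNat 15, Int.ofNat 788, Int.ofNat 123, Int.negSucc 263, Int.negSucc 47, Int.ofNat 0, Int.ofNat 0, Int.ofNat 1, Int.ofNat 11, Int.ofNat 14, Int.negSucc 1090, Int.negSucc 16, Int.ofNat 139, Int.ofNat 1, Int.ofNat 731])))) (ZT.node 10506 (ZT.node 10504 (ZT.leaf []) (ZT.node 10505 (ZT.leaf []) (ZT.leaf []))) (ZT.node 10507 (ZT.leaf []) (ZT.node 10508 (ZT.leaf []) (ZT.leaf [])))))) (ZT.node 10520 (ZT.node 10514 (ZT.node 10511 (ZT.node 10510 (ZT.leaf []) (ZT.leaf [])) (ZT.node 10512 (ZT.leaf []) (ZT.node 10513 (ZT.leaf []) (ZT.leaf [Int.negSucc 11, Int.negSucc 433, Int.ofNat 51, Int.negSucc 96, Int.negSucc 4, Int.negSucc 80, Int.ofNat 0, Int.ofNat 30, Int.ofNat 5, Int.ofNat 0, Int.negSucc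 0, Int.ofNat 0, Int.ofNat 5, Int.negSucc 4, Int.ofNat 129, Int.ofNat 7, Int.negSucc 23, Int.negSucc 0, Int.negSucc 68])))) (ZT.node 10517 (ZT.node 10515 (ZT.leaf [Int.negSucc 2397, Int.negSucc 1463, Int.ofNat 685, Int.negSucc 318, Int.ofNat 2, Int.negSucc 436, Int.negSucc 2, Int.ofNat 53, Int.negSucc 15, Int.ofNat 1, Int.negSucc 0, Int.ofNat 1, Int.negSucc 5, Int.negSucc 9, Int.ofNat 379, Int.ofNat 15, Int.negSucc 21, Int.ofNat 1, Int.negSucc 344]) (ZT.node 10516 (ZT.leaf [Int.negSucc 42548, Int.negSucc 18065, Int.ofNat 9790, Int.negSucc 2836, Int.negSucc 63, Int.negSucc 5546, Int.negSucc 708, Int.ofNat 1471, Int.ofNat 134, Int.ofNat 2, Int.ofNat 0, Int.negSucc 0, Int.negSucc 81, Int.negSucc 53, Int.ofNat 6310, Int.ofNat 21, Int.negSucc 990, Int.negSucc 0, Int.negSucc 4934]) (ZT.leaf []))) (ZT.node 10518 (ZT.leaf []) (ZT.node 10519 (ZT.leaf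 []) (ZT.leaf [Int.negSucc 5157, Int.ofNat 360, Int.ofNat 1040, Int.ofNat 184, Int.ofNat 12, Int.negSucc 218, Int.negSucc 27, Int.negSucc 37, Int.negSucc 32, Int.ofNat 0, Int.ofNat 0, Int.ofNat 0, Int.negSucc 30, Int.ofNat 2, Int.ofNat 24, Int.negSucc 28, Int.negSucc 49, Int.ofNat 0, Int.negSucc 215]))))) (ZT.node 10526 (ZT.node 10523 (ZT.node 10521 (ZT.leaf [Int.ofNat 68, Int.ofNat 16, Int.negSucc 7, Int.negSucc 0, Int.ofNat 0, Int.ofNat 2, Int.ofNat 1, Int.ofNat 1, Int.ofNat 0, Int.ofNat 1, Int.ofNat 0, Int.ofNat 0, Int.ofNat 1, Int.ofNat 0, Int.negSucc 0, Int.ofNat 0, Int.ofNat 0, Int.ofNat 0, Int.ofNat 3]) (ZT.node 10522 (ZT.leaf []) (ZT.leaf []))) (ZT.node 10524 (ZT.leaf []) (ZT.node 10525 (ZT.leaf []) (ZT.leaf [])))) (ZT.node 10529 (ZT.node 10527 (ZT.leaf []) (ZT.node 10528 (ZT.leaf []) (ZT.leaf [Int.negSucc 77, Int.ofNat 3, Int.ofNat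 14, Int.ofNat 4, Int.ofNat 1, Int.negSucc 1, Int.ofNat 1, Int.negSucc 2, Int.negSucc 0, Int.ofNat 0, Int.ofNat 0, Int.ofNat 0, Int.negSucc 0, Int.ofNat 0, Int.negSucc 0, Int.negSucc 0, Int.ofNat 0, Int.ofNat 0, Int.negSucc 1]))) (ZT.node 10530 (ZT.leaf []) (ZT.node 10531 (ZT.leaf []) (ZT.leaf []))))))))) (ZT.node 10622 (ZT.node 10577 (ZT.node 10554 (ZT.node 10543 (ZT.node 10537 (ZT.node 10534 (ZT.node 10533 (ZT.leaf []) (ZT.leaf [Int.negSucc 561, Int.negSucc 237, Int.ofNat 149, Int.negSucc 48, Int.negSucc 1, Int.negSucc 88, Int.negSucc 8, Int.ofNat 23, Int.negSucc 0, Int.ofNat 0, Int.ofNat 0, Int.ofNat 0, Int.ofNat 3, Int.negSucc 1, Int.ofNat 69, Int.ofNat 2, Int.negSucc 7, Int.ofNat 0, Int.negSucc 71])) (ZT.node 10535 (ZT.leaf []) (ZT.node 10536 (ZT.leaf []) (ZT.leaf [])))) (ZT.node 10540 (ZT.node 10538 (ZT.leaf []) (ZT.node 10539 (ZT.leaf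 []) (ZT.leaf []))) (ZT.node 10541 (ZT.leaf []) (ZT.node 10542 (ZT.leaf []) (ZT.leaf []))))) (ZT.node 10548 (ZT.node 10545 (ZT.node 10544 (ZT.leaf []) (ZT.leaf [])) (ZT.node 10546 (ZT.leaf []) (ZT.node 10547 (ZT.leaf []) (ZT.leaf [])))) (ZT.node 10551 (ZT.node 10549 (ZT.leaf []) (ZT.node 10550 (ZT.leaf []) (ZT.leaf []))) (ZT.node 10552 (ZT.leaf []) (ZT.node 10553 (ZT.leaf []) (ZT.leaf [])))))) (ZT.node 10565 (ZT.node 10559 (ZT.node 10556 (ZT.node 10555 (ZT.leaf []) (ZT.leaf [])) (ZT.node 10557 (ZT.leaf [Int.ofNat 2873, Int.ofNat 2263, Int.negSucc 751, Int.ofNat 412, Int.ofNat 13, Int.ofNat 556, Int.ofNat 80, Int.negSucc 200, Int.negSucc 33, Int.ofNat 0, Int.ofNat 1, Int.negSucc 0, Int.negSucc 6, Int.ofNat 10, Int.negSucc 733, Int.negSucc 19, Int.ofNat 92, Int.negSucc 0, Int.ofNat 493]) (ZT.node 10558 (ZT.leaf []) (ZT.leaf [])))) (ZT.node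 10562 (ZT.node 10560 (ZT.leaf []) (ZT.node 10561 (ZT.leaf []) (ZT.leaf []))) (ZT.node 10563 (ZT.leaf [Int.ofNat 1091, Int.ofNat 1968, Int.negSucc 265, Int.ofNat 330, Int.ofNat 9, Int.ofNat 360, Int.ofNat 73, Int.negSucc 168, Int.negSucc 43, Int.negSucc 0, Int.ofNat 0, Int.ofNat 0, Int.negSucc 1, Int.ofNat 12, Int.negSucc 667, Int.negSucc 17, Int.ofNat 68, Int.ofNat 0, Int.ofNat 341]) (ZT.node 10564 (ZT.leaf []) (ZT.leaf []))))) (ZT.node 10571 (ZT.node 10568 (ZT.node 10566 (ZT.leaf []) (ZT.node 10567 (ZT.leaf []) (ZT.leaf []))) (ZT.node 10569 (ZT.leaf [Int.negSucc 2489, Int.negSucc 1183, Int.ofNat 539, Int.negSucc 172, Int.negSucc 6, Int.negSucc 321, Int.negSucc 71, Int.ofNat 126, Int.ofNat 26, Int.ofNat 0, Int.ofNat 0, Int.ofNat 0, Int.negSucc 2, Int.ofNat 0, Int.ofNat 539, Int.negSucc 1, Int.negSucc 67, Int.ofNat 0, Int.negSucc 307]) (ZT.node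 10570 (ZT.leaf []) (ZT.leaf [])))) (ZT.node 10574 (ZT.node 10572 (ZT.leaf []) (ZT.node 10573 (ZT.leaf []) (ZT.leaf []))) (ZT.node 10575 (ZT.leaf []) (ZT.node 10576 (ZT.leaf []) (ZT.leaf []))))))) (ZT.node 10599 (ZT.node 10588 (ZT.node 10582 (ZT.node 10579 (ZT.node 10578 (ZT.leaf []) (ZT.leaf [])) (ZT.node 10580 (ZT.leaf []) (ZT.node 10581 (ZT.leaf []) (ZT.leaf [])))) (ZT.node 10585 (ZT.node 10583 (ZT.leaf [Int.ofNat 1933, Int.ofNat 1835, Int.negSucc 524, Int.ofNat 351, Int.ofNat 10, Int.ofNat 432, Int.ofNat 36, Int.negSucc 141, Int.negSucc 19, Int.ofNat 0, Int.ofNat 0, Int.ofNat 0, Int.negSucc 4, Int.ofNat 4, Int.negSucc 561, Int.negSucc 13, Int.ofNat 81, Int.ofNat 0, Int.ofNat 372]) (ZT.node 10584 (ZT.leaf []) (ZT.leaf [Int.ofNat 5150, Int.negSucc 349, Int.negSucc 1037, Int.negSucc 182, Int.negSucc 11, Int.ofNat 219, Int.ofNat 29, Int.ofNat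 37, Int.ofNat 32, Int.ofNat 0, Int.ofNat 0, Int.ofNat 0, Int.ofNat 31, Int.negSucc 1, Int.negSucc 30, Int.ofNat 29, Int.ofNat 50, Int.ofNat 0, Int.ofNat 217]))) (ZT.node 10586 (ZT.leaf []) (ZT.node 10587 (ZT.leaf []) (ZT.leaf [Int.negSucc 1310, Int.negSucc 713, Int.ofNat 319, Int.negSucc 119, Int.negSucc 1, Int.negSucc 197, Int.negSucc 28, Int.ofNat 63, Int.ofNat 9, Int.negSucc 0, Int.ofNat 0, Int.ofNat 0, Int.negSucc 0, Int.negSucc 1, Int.ofNat 257, Int.ofNat 2, Int.negSucc 33, Int.ofNat 0, Int.negSucc 181]))))) (ZT.node 10593 (ZT.node 10590 (ZT.node 10589 (ZT.leaf []) (ZT.leaf [])) (ZT.node 10591 (ZT.leaf []) (ZT.node 10592 (ZT.leaf []) (ZT.leaf [])))) (ZT.node 10596 (ZT.node 10594 (ZT.leaf []) (ZT.node 10595 (ZT.leaf []) (ZT.leaf []))) (ZT.node 10597 (ZT.leaf []) (ZT.node 10598 (ZT.leaf []) (ZT.leaf [Int.ofNat 7554, Int.ofNat 3255, Int.negSucc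 1747, Int.ofNat 522, Int.ofNat 12, Int.ofNat 988, Int.ofNat 122, Int.negSucc 269, Int.negSucc 28, Int.ofNat 2, Int.negSucc 0, Int.ofNat 0, Int.ofNat 11, Int.ofNat 3, Int.negSucc 1126, Int.negSucc 3, Int.ofNat 168, Int.ofNat 0, Int.ofNat 873])))))) (ZT.node 10610 (ZT.node 10604 (ZT.node 10601 (ZT.node 10600 (ZT.leaf []) (ZT.leaf [])) (ZT.node 10602 (ZT.leaf [Int.negSucc 87493, Int.negSucc 39167, Int.ofNat 20313, Int.negSucc 6263, Int.negSucc 119, Int.negSucc 11886, Int.negSucc 1462, Int.ofNat 3081, Int.ofNat 273, Int.ofNat 5, Int.negSucc 2, Int.negSucc 1, Int.negSucc 172, Int.negSucc 141, Int.ofNat 13203, Int.ofNat 81, Int.negSucc 1915, Int.negSucc 2, Int.negSucc 10440]) (ZT.node 10603 (ZT.leaf [Int.ofNat 756, Int.negSucc 1707, Int.negSucc 14, Int.negSucc 395, Int.negSucc 10, Int.negSucc 292, Int.negSucc 37, Int.ofNat 151, Int.ofNat 30,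 Int.ofNat 0, Int.ofNat 0, Int.ofNat 0, Int.ofNat 24, Int.negSucc 5, Int.ofNat 505, Int.ofNat 27, Int.negSucc 25, Int.ofNat 0, Int.negSucc 225]) (ZT.leaf [])))) (ZT.node 10607 (ZT.node 10605 (ZT.leaf []) (ZT.node 10606 (ZT.leaf []) (ZT.leaf []))) (ZT.node 10608 (ZT.leaf []) (ZT.node 10609 (ZT.leaf []) (ZT.leaf []))))) (ZT.node 10616 (ZT.node 10613 (ZT.node 10611 (ZT.leaf []) (ZT.node 10612 (ZT.leaf []) (ZT.leaf []))) (ZT.node 10614 (ZT.leaf []) (ZT.node 10615 (ZT.leaf []) (ZT.leaf [])))) (ZT.node 10619 (ZT.node 10617 (ZT.leaf [Int.ofNat 0, Int.ofNat 0, Int.ofNat 0, Int.ofNat 0, Int.ofNat 0, Int.ofNat 0, Int.ofNat 0, Int.ofNat 0, Int.ofNat 0, Int.ofNat 0, Int.negSucc 0]) (ZT.node 10618 (ZT.leaf []) (ZT.leaf []))) (ZT.node 10620 (ZT.leaf []) (ZT.node 10621 (ZT.leaf []) (ZT.leaf [])))))))) (ZT.node 10667 (ZT.node 10644 (ZT.node 10633 (ZT.node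 10627 (ZT.node 10624 (ZT.node 10623 (ZT.leaf []) (ZT.leaf [])) (ZT.node 10625 (ZT.leaf []) (ZT.node 10626 (ZT.leaf []) (ZT.leaf [])))) (ZT.node 10630 (ZT.node 10628 (ZT.leaf []) (ZT.node 10629 (ZT.leaf []) (ZT.leaf []))) (ZT.node 10631 (ZT.leaf []) (ZT.node 10632 (ZT.leaf []) (ZT.leaf []))))) (ZT.node 10638 (ZT.node 10635 (ZT.node 10634 (ZT.leaf []) (ZT.leaf [])) (ZT.node 10636 (ZT.leaf []) (ZT.node 10637 (ZT.leaf []) (ZT.leaf [])))) (ZT.node 10641 (ZT.node 10639 (ZT.leaf []) (ZT.node 10640 (ZT.leaf []) (ZT.leaf []))) (ZT.node 10642 (ZT.leaf []) (ZT.node 10643 (ZT.leaf []) (ZT.leaf [Int.ofNat 2489, Int.ofNat 1184, Int.negSucc 538, Int.ofNat 173, Int.ofNat 7, Int.ofNat 322, Int.ofNat 72, Int.negSucc 125, Int.negSucc 25, Int.ofNat 0, Int.ofNat 0, Int.ofNat 0, Int.ofNat 3, Int.ofNat 0, Int.negSucc 538, Int.ofNat 2, Int.ofNat 68, Int.ofNat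 0, Int.ofNat 308])))))) (ZT.node 10655 (ZT.node 10649 (ZT.node 10646 (ZT.node 10645 (ZT.leaf []) (ZT.leaf [])) (ZT.node 10647 (ZT.leaf []) (ZT.node 10648 (ZT.leaf []) (ZT.leaf [Int.ofNat 407, Int.ofNat 531, Int.negSucc 111, Int.ofNat 98, Int.ofNat 5, Int.ofNat 100, Int.ofNat 11, Int.negSucc 34, Int.negSucc 7, Int.ofNat 0, Int.ofNat 0, Int.ofNat 0, Int.ofNat 0, Int.ofNat 5, Int.negSucc 160, Int.negSucc 5, Int.ofNat 23, Int.ofNat 1, Int.ofNat 93])))) (ZT.node 10652 (ZT.node 10650 (ZT.leaf []) (ZT.node 10651 (ZT.leaf []) (ZT.leaf []))) (ZT.node 10653 (ZT.leaf []) (ZT.node 10654 (ZT.leaf []) (ZT.leaf []))))) (ZT.node 10661 (ZT.node 10658 (ZT.node 10656 (ZT.leaf [Int.negSucc 77, Int.ofNat 75, Int.negSucc 31, Int.ofNat 36, Int.ofNat 2, Int.ofNat 31, Int.negSucc 3, Int.negSucc 5, Int.ofNat 3, Int.ofNat 1, Int.negSucc 0, Int.ofNat 0, Int.negSucc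 3, Int.ofNat 3, Int.negSucc 14, Int.negSucc 2, Int.negSucc 0, Int.ofNat 0, Int.ofNat 19]) (ZT.node 10657 (ZT.leaf []) (ZT.leaf []))) (ZT.node 10659 (ZT.leaf []) (ZT.node 10660 (ZT.leaf []) (ZT.leaf [])))) (ZT.node 10664 (ZT.node 10662 (ZT.leaf []) (ZT.node 10663 (ZT.leaf []) (ZT.leaf []))) (ZT.node 10665 (ZT.leaf []) (ZT.node 10666 (ZT.leaf []) (ZT.leaf []))))))) (ZT.node 10689 (ZT.node 10678 (ZT.node 10672 (ZT.node 10669 (ZT.node 10668 (ZT.leaf []) (ZT.leaf [])) (ZT.node 10670 (ZT.leaf []) (ZT.node 10671 (ZT.leaf []) (ZT.leaf [])))) (ZT.node 10675 (ZT.node 10673 (ZT.leaf []) (ZT.node 10674 (ZT.leaf []) (ZT.leaf []))) (ZT.node 10676 (ZT.leaf []) (ZT.node 10677 (ZT.leaf []) (ZT.leaf []))))) (ZT.node 10683 (ZT.node 10680 (ZT.node 10679 (ZT.leaf []) (ZT.leaf [])) (ZT.node 10681 (ZT.leaf []) (ZT.node 10682 (ZT.leaf [Int.negSucc 1012, Int.negSucc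 821, Int.ofNat 257, Int.negSucc 146, Int.ofNat 0, Int.negSucc 202, Int.negSucc 23, Int.ofNat 41, Int.ofNat 7, Int.ofNat 0, Int.ofNat 0, Int.ofNat 0, Int.negSucc 6, Int.negSucc 4, Int.ofNat 276, Int.ofNat 2, Int.negSucc 7, Int.negSucc 0, Int.negSucc 176]) (ZT.leaf [])))) (ZT.node 10686 (ZT.node 10684 (ZT.leaf [Int.ofNat 2722, Int.ofNat 1664, Int.negSucc 662, Int.ofNat 290, Int.ofNat 5, Int.ofNat 442, Int.ofNat 61, Int.negSucc 111, Int.negSucc 13, Int.ofNat 0, Int.ofNat 0, Int.ofNat 0, Int.ofNat 7, Int.ofNat 9, Int.negSucc 569, Int.negSucc 8, Int.ofNat 45, Int.ofNat 0, Int.ofNat 389]) (ZT.node 10685 (ZT.leaf []) (ZT.leaf []))) (ZT.node 10687 (ZT.leaf [Int.negSucc 13, Int.negSucc 1, Int.ofNat 3, Int.ofNat 0, Int.ofNat 0, Int.negSucc 0, Int.ofNat 0, Int.ofNat 0, Int.ofNat 0, Int.ofNat 0, Int.ofNat 0, Int.ofNat 0, Int.ofNat 0, Int.ofNat 0, Int.ofNat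 0, Int.ofNat 0, Int.ofNat 0, Int.ofNat 0, Int.negSucc 0]) (ZT.node 10688 (ZT.leaf []) (ZT.leaf [Int.ofNat 160, Int.ofNat 21, Int.negSucc 44, Int.ofNat 7, Int.ofNat 0, Int.ofNat 23, Int.ofNat 0, Int.ofNat 1, Int.ofNat 3, Int.ofNat 0, Int.ofNat 0, Int.ofNat 0, Int.ofNat 0, Int.ofNat 0, Int.negSucc 0, Int.ofNat 0, Int.ofNat 0, Int.ofNat 0, Int.ofNat 15])))))) (ZT.node 10700 (ZT.node 10694 (ZT.node 10691 (ZT.node 10690 (ZT.leaf [Int.ofNat 2395, Int.ofNat 775, Int.negSucc 551, Int.ofNat 110, Int.ofNat 0, Int.ofNat 273, Int.ofNat 20, Int.negSucc 44, Int.ofNat 2, Int.ofNat 0, Int.ofNat 0, Int.ofNat 0, Int.ofNat 8, Int.ofNat 2, Int.negSucc 262, Int.ofNat 2, Int.ofNat 50, Int.ofNat 0, Int.ofNat 244]) (ZT.leaf [])) (ZT.node 10692 (ZT.leaf []) (ZT.node 10693 (ZT.leaf []) (ZT.leaf [Int.negSucc 114, Int.negSucc 33, Int.ofNat 24, Int.negSucc 3, Int.ofNat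 0, Int.negSucc 9, Int.negSucc 0, Int.ofNat 1, Int.ofNat 0, Int.ofNat 0, Int.ofNat 0, Int.ofNat 0, Int.negSucc 0, Int.ofNat 0, Int.ofNat 11, Int.ofNat 0, Int.negSucc 1, Int.ofNat 0, Int.negSucc 9])))) (ZT.node 10697 (ZT.node 10695 (ZT.leaf []) (ZT.node 10696 (ZT.leaf []) (ZT.leaf [Int.ofNat 0, Int.ofNat 0, Int.ofNat 0, Int.ofNat 0, Int.ofNat 0, Int.ofNat 0, Int.ofNat 0, Int.ofNat 0, Int.ofNat 0, Int.ofNat 0, Int.ofNat 0, Int.ofNat 0, Int.ofNat 0, Int.ofNat 0, Int.ofNat 1]))) (ZT.node 10698 (ZT.leaf []) (ZT.node 10699 (ZT.leaf []) (ZT.leaf []))))) (ZT.node 10706 (ZT.node 10703 (ZT.node 10701 (ZT.leaf []) (ZT.node 10702 (ZT.leaf []) (ZT.leaf []))) (ZT.node 10704 (ZT.leaf []) (ZT.node 10705 (ZT.leaf [Int.negSucc 0]) (ZT.leaf [])))) (ZT.node 10709 (ZT.node 10707 (ZT.leaf []) (ZT.node 10708 (ZT.leaf []) (ZT.leaf []))) (ZT.node 10710 (ZT.leaf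 []) (ZT.node 10711 (ZT.leaf []) (ZT.leaf []))))))))))

noncomputable def labT_23 : ZT := (ZT.node 10892 (ZT.node 10802 (ZT.node 10757 (ZT.node 10734 (ZT.node 10723 (ZT.node 10717 (ZT.node 10714 (ZT.node 10713 (ZT.leaf []) (ZT.leaf [Int.negSucc 1877, Int.ofNat 1083, Int.ofNat 319, Int.ofNat 277, Int.ofNat 13, Int.ofNat 99, Int.ofNat 22, Int.negSucc 113, Int.negSucc 33, Int.negSucc 0, Int.ofNat 0, Int.ofNat 0, Int.negSucc 25, Int.negSucc 1, Int.negSucc 329, Int.negSucc 18, Int.ofNat 12, Int.ofNat 0, Int.ofNat 67])) (ZT.node 10715 (ZT.leaf [Int.negSucc 658, Int.negSucc 332, Int.ofNat 184, Int.negSucc 68, Int.ofNat 0, Int.negSucc 115, Int.negSucc 1, Int.ofNat 12, Int.negSucc 6, Int.ofNat 0, Int.ofNat 0, Int.ofNat 0, Int.ofNat 0, Int.negSucc 3, Int.ofNat 93, Int.ofNat 2, Int.negSucc 9, Int.ofNat 0, Int.negSucc 90]) (ZT.node 10716 (ZT.leaf [])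 (ZT.leaf [])))) (ZT.node 10720 (ZT.node 10718 (ZT.leaf [Int.ofNat 1]) (ZT.node 10719 (ZT.leaf []) (ZT.leaf []))) (ZT.node 10721 (ZT.leaf []) (ZT.node 10722 (ZT.leaf []) (ZT.leaf []))))) (ZT.node 10728 (ZT.node 10725 (ZT.node 10724 (ZT.leaf []) (ZT.leaf [])) (ZT.node 10726 (ZT.leaf []) (ZT.node 10727 (ZT.leaf []) (ZT.leaf [])))) (ZT.node 10731 (ZT.node 10729 (ZT.leaf []) (ZT.node 10730 (ZT.leaf []) (ZT.leaf []))) (ZT.node 10732 (ZT.leaf [Int.negSucc 0]) (ZT.node 10733 (ZT.leaf []) (ZT.leaf [])))))) (ZT.node 10745 (ZT.node 10739 (ZT.node 10736 (ZT.node 10735 (ZT.leaf []) (ZT.leaf [])) (ZT.node 10737 (ZT.leaf []) (ZT.node 10738 (ZT.leaf [Int.ofNat 15828, Int.ofNat 4360, Int.negSucc 3300, Int.ofNat 500, Int.ofNat 23, Int.ofNat 1447, Int.ofNat 230, Int.negSucc 393, Int.negSucc 53, Int.ofNat 2, Int.negSucc 0, Int.ofNat 0, Int.ofNat 47, Int.negSucc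 9, Int.negSucc 1966, Int.ofNat 42, Int.ofNat 357, Int.negSucc 0, Int.ofNat 1416]) (ZT.leaf [])))) (ZT.node 10742 (ZT.node 10740 (ZT.leaf []) (ZT.node 10741 (ZT.leaf [Int.ofNat 2]) (ZT.leaf []))) (ZT.node 10743 (ZT.leaf []) (ZT.node 10744 (ZT.leaf []) (ZT.leaf []))))) (ZT.node 10751 (ZT.node 10748 (ZT.node 10746 (ZT.leaf []) (ZT.node 10747 (ZT.leaf []) (ZT.leaf []))) (ZT.node 10749 (ZT.leaf [Int.negSucc 25989, Int.negSucc 10306, Int.ofNat 5943, Int.negSucc 1575, Int.negSucc 16, Int.negSucc 3237, Int.negSucc 400, Int.ofNat 716, Int.ofNat 38, Int.ofNat 1, Int.negSucc 0, Int.ofNat 0, Int.negSucc 82, Int.negSucc 54, Int.ofNat 3652, Int.ofNat 17, Int.negSucc 480, Int.negSucc 0, Int.negSucc 2880]) (ZT.node 10750 (ZT.leaf []) (ZT.leaf [Int.ofNat 3059, Int.ofNat 2171, Int.negSucc 773, Int.ofNat 390, Int.ofNat 12, Int.ofNat 556, Int.ofNat 58, Int.negSucc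 161, Int.negSucc 19, Int.ofNat 0, Int.ofNat 0, Int.ofNat 0, Int.ofNat 0, Int.ofNat 12, Int.negSucc 703, Int.negSucc 13, Int.ofNat 97, Int.ofNat 0, Int.ofNat 485])))) (ZT.node 10754 (ZT.node 10752 (ZT.leaf []) (ZT.node 10753 (ZT.leaf []) (ZT.leaf []))) (ZT.node 10755 (ZT.leaf []) (ZT.node 10756 (ZT.leaf []) (ZT.leaf []))))))) (ZT.node 10779 (ZT.node 10768 (ZT.node 10762 (ZT.node 10759 (ZT.node 10758 (ZT.leaf []) (ZT.leaf [])) (ZT.node 10760 (ZT.leaf []) (ZT.node 10761 (ZT.leaf []) (ZT.leaf [])))) (ZT.node 10765 (ZT.node 10763 (ZT.leaf []) (ZT.node 10764 (ZT.leaf []) (ZT.leaf []))) (ZT.node 10766 (ZT.leaf []) (ZT.node 10767 (ZT.leaf []) (ZT.leaf []))))) (ZT.node 10773 (ZT.node 10770 (ZT.node 10769 (ZT.leaf []) (ZT.leaf [])) (ZT.node 10771 (ZT.leaf []) (ZT.node 10772 (ZT.leaf [Int.negSucc 0]) (ZT.leaf [])))) (ZT.node 10776 (ZT.node 10774 (ZT.leaf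 []) (ZT.node 10775 (ZT.leaf []) (ZT.leaf []))) (ZT.node 10777 (ZT.leaf [Int.negSucc 5917, Int.negSucc 3509, Int.ofNat 1358, Int.negSucc 562, Int.negSucc 14, Int.negSucc 875, Int.negSucc 124, Int.ofNat 271, Int.ofNat 44, Int.ofNat 0, Int.ofNat 0, Int.negSucc 0, Int.negSucc 13, Int.negSucc 15, Int.ofNat 1164, Int.ofNat 17, Int.negSucc 152, Int.negSucc 0, Int.negSucc 805]) (ZT.node 10778 (ZT.leaf []) (ZT.leaf [])))))) (ZT.node 10790 (ZT.node 10784 (ZT.node 10781 (ZT.node 10780 (ZT.leaf []) (ZT.leaf [])) (ZT.node 10782 (ZT.leaf []) (ZT.node 10783 (ZT.leaf []) (ZT.leaf [])))) (ZT.node 10787 (ZT.node 10785 (ZT.leaf [Int.negSucc 136, Int.negSucc 118, Int.ofNat 30, Int.negSucc 17, Int.ofNat 0, Int.negSucc 21, Int.negSucc 4, Int.ofNat 8, Int.ofNat 3, Int.ofNat 1, Int.ofNat 0, Int.ofNat 0, Int.negSucc 0, Int.negSucc 0, Int.ofNat 40, Int.ofNat 1,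 Int.negSucc 3, Int.ofNat 0, Int.negSucc 23]) (ZT.node 10786 (ZT.leaf []) (ZT.leaf []))) (ZT.node 10788 (ZT.leaf []) (ZT.node 10789 (ZT.leaf []) (ZT.leaf []))))) (ZT.node 10796 (ZT.node 10793 (ZT.node 10791 (ZT.leaf []) (ZT.node 10792 (ZT.leaf []) (ZT.leaf [Int.negSucc 456, Int.negSucc 865, Int.ofNat 149, Int.negSucc 163, Int.negSucc 6, Int.negSucc 167, Int.negSucc 14, Int.ofNat 67, Int.ofNat 14, Int.ofNat 0, Int.ofNat 0, Int.ofNat 0, Int.ofNat 5, Int.negSucc 7, Int.ofNat 287, Int.ofNat 10, Int.negSucc 40, Int.ofNat 0, Int.negSucc 152]))) (ZT.node 10794 (ZT.leaf []) (ZT.node 10795 (ZT.leaf []) (ZT.leaf [])))) (ZT.node 10799 (ZT.node 10797 (ZT.leaf [Int.negSucc 1, Int.ofNat 0, Int.ofNat 0, Int.ofNat 0, Int.ofNat 0, Int.ofNat 0, Int.ofNat 0, Int.ofNat 0, Int.ofNat 0, Int.ofNat 0, Int.ofNat 0, Int.ofNat 0, Int.ofNat 0, Int.ofNat 0, Int.ofNat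 0, Int.ofNat 0, Int.ofNat 0, Int.ofNat 0, Int.ofNat 0]) (ZT.node 10798 (ZT.leaf []) (ZT.leaf []))) (ZT.node 10800 (ZT.leaf []) (ZT.node 10801 (ZT.leaf []) (ZT.leaf [])))))))) (ZT.node 10847 (ZT.node 10824 (ZT.node 10813 (ZT.node 10807 (ZT.node 10804 (ZT.node 10803 (ZT.leaf []) (ZT.leaf [Int.negSucc 1281, Int.negSucc 730, Int.ofNat 254, Int.negSucc 91, Int.negSucc 0, Int.negSucc 148, Int.negSucc 25, Int.ofNat 45, Int.ofNat 10, Int.ofNat 0, Int.ofNat 0, Int.ofNat 0, Int.negSucc 9, Int.negSucc 4, Int.ofNat 223, Int.ofNat 4, Int.negSucc 23, Int.ofNat 0, Int.negSucc 150])) (ZT.node 10805 (ZT.leaf []) (ZT.node 10806 (ZT.leaf []) (ZT.leaf [])))) (ZT.node 10810 (ZT.node 10808 (ZT.leaf []) (ZT.node 10809 (ZT.leaf [Int.ofNat 1589, Int.negSucc 998, Int.negSucc 282, Int.negSucc 231, Int.negSucc 11, Int.negSucc 105, Int.negSucc 17, Int.ofNat 117, Int.ofNat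 31, Int.ofNat 0, Int.ofNat 0, Int.ofNat 0, Int.ofNat 25, Int.negSucc 1, Int.ofNat 263, Int.ofNat 17, Int.negSucc 22, Int.ofNat 0, Int.negSucc 70]) (ZT.leaf [Int.ofNat 187, Int.ofNat 319, Int.negSucc 70, Int.ofNat 66, Int.ofNat 2, Int.ofNat 69, Int.ofNat 6, Int.negSucc 13, Int.negSucc 1, Int.ofNat 0, Int.ofNat 0, Int.ofNat 0, Int.ofNat 1, Int.ofNat 4, Int.negSucc 102, Int.negSucc 3, Int.ofNat 2, Int.ofNat 0, Int.ofNat 60]))) (ZT.node 10811 (ZT.leaf []) (ZT.node 10812 (ZT.leaf []) (ZT.leaf []))))) (ZT.node 10818 (ZT.node 10815 (ZT.node 10814 (ZT.leaf []) (ZT.leaf [Int.negSucc 0, Int.negSucc 2, Int.ofNat 0, Int.ofNat 0, Int.ofNat 0, Int.ofNat 0, Int.ofNat 0, Int.ofNat 0, Int.ofNat 0, Int.ofNat 0, Int.ofNat 0, Int.ofNat 0, Int.ofNat 0, Int.ofNat 0, Int.ofNat 1])) (ZT.node 10816 (ZT.leaf []) (ZT.node 10817 (ZT.leaf [Int.negSucc 4764, Int.negSucc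 1465, Int.ofNat 1068, Int.negSucc 202, Int.negSucc 2, Int.negSucc 526, Int.negSucc 62, Int.ofNat 118, Int.ofNat 3, Int.ofNat 0, Int.ofNat 0, Int.ofNat 0, Int.negSucc 11, Int.negSucc 2, Int.ofNat 556, Int.negSucc 6, Int.negSucc 101, Int.ofNat 0, Int.negSucc 469]) (ZT.leaf [])))) (ZT.node 10821 (ZT.node 10819 (ZT.leaf []) (ZT.node 10820 (ZT.leaf []) (ZT.leaf []))) (ZT.node 10822 (ZT.leaf []) (ZT.node 10823 (ZT.leaf [Int.negSucc 429, Int.negSucc 452, Int.ofNat 122, Int.negSucc 89, Int.negSucc 0, Int.negSucc 108, Int.negSucc 13, Int.ofNat 26, Int.ofNat 4, Int.ofNat 0, Int.ofNat 1, Int.ofNat 0, Int.negSucc 0, Int.negSucc 1, Int.ofNat 142, Int.ofNat 4, Int.negSucc 2, Int.ofNat 0, Int.negSucc 88]) (ZT.leaf [])))))) (ZT.node 10835 (ZT.node 10829 (ZT.node 10826 (ZT.node 10825 (ZT.leaf []) (ZT.leaf [])) (ZT.node 10827 (ZT.leaf [Int.ofNat 2260, Int.ofNat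 1520, Int.negSucc 535, Int.ofNat 258, Int.ofNat 4, Int.ofNat 374, Int.ofNat 57, Int.negSucc 99, Int.negSucc 17, Int.ofNat 0, Int.ofNat 0, Int.ofNat 0, Int.ofNat 9, Int.ofNat 8, Int.negSucc 534, Int.negSucc 7, Int.ofNat 40, Int.ofNat 0, Int.ofNat 337]) (ZT.node 10828 (ZT.leaf [Int.negSucc 7767, Int.negSucc 3817, Int.ofNat 1872, Int.negSucc 648, Int.negSucc 14, Int.negSucc 1115, Int.negSucc 133, Int.ofNat 311, Int.ofNat 33, Int.ofNat 0, Int.negSucc 0, Int.ofNat 0, Int.negSucc 8, Int.negSucc 12, Int.ofNat 1304, Int.ofNat 14, Int.negSucc 187, Int.ofNat 1, Int.negSucc 988]) (ZT.leaf [])))) (ZT.node 10832 (ZT.node 10830 (ZT.leaf [Int.negSucc 12449, Int.negSucc 2738, Int.ofNat 2857, Int.negSucc 386, Int.ofNat 10, Int.negSucc 1268, Int.negSucc 112, Int.ofNat 156, Int.negSucc 48, Int.ofNat 1, Int.ofNat 0, Int.ofNat 1, Int.negSucc 45, Int.negSucc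 16, Int.ofNat 959, Int.negSucc 10, Int.negSucc 164, Int.ofNat 1, Int.negSucc 1082]) (ZT.node 10831 (ZT.leaf []) (ZT.leaf [Int.ofNat 61984, Int.ofNat 28211, Int.negSucc 14459, Int.ofNat 4587, Int.ofNat 93, Int.ofNat 8465, Int.ofNat 1056, Int.negSucc 2213, Int.negSucc 212, Int.negSucc 2, Int.ofNat 1, Int.ofNat 1, Int.ofNat 129, Int.ofNat 84, Int.negSucc 9814, Int.negSucc 55, Int.ofNat 1389, Int.ofNat 2, Int.ofNat 7468]))) (ZT.node 10833 (ZT.leaf []) (ZT.node 10834 (ZT.leaf []) (ZT.leaf []))))) (ZT.node 10841 (ZT.node 10838 (ZT.node 10836 (ZT.leaf []) (ZT.node 10837 (ZT.leaf [Int.ofNat 563, Int.ofNat 238, Int.negSucc 148, Int.ofNat 49, Int.ofNat 2, Int.ofNat 89, Int.ofNat 9, Int.negSucc 22, Int.ofNat 1, Int.ofNat 0, Int.ofNat 0, Int.ofNat 0, Int.negSucc 2, Int.ofNat 2, Int.negSucc 68, Int.negSucc 1, Int.ofNat 8, Int.ofNat 0, Int.ofNat 72])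 (ZT.leaf []))) (ZT.node 10839 (ZT.leaf []) (ZT.node 10840 (ZT.leaf []) (ZT.leaf [])))) (ZT.node 10844 (ZT.node 10842 (ZT.leaf []) (ZT.node 10843 (ZT.leaf []) (ZT.leaf []))) (ZT.node 10845 (ZT.leaf []) (ZT.node 10846 (ZT.leaf []) (ZT.leaf [Int.negSucc 295, Int.negSucc 123, Int.ofNat 74, Int.negSucc 20, Int.negSucc 0, Int.negSucc 40, Int.negSucc 2, Int.ofNat 11, Int.ofNat 1, Int.ofNat 1, Int.ofNat 0, Int.ofNat 0, Int.ofNat 0, Int.negSucc 0, Int.ofNat 36, Int.ofNat 1, Int.negSucc 6, Int.ofNat 0, Int.negSucc 35]))))))) (ZT.node 10869 (ZT.node 10858 (ZT.node 10852 (ZT.node 10849 (ZT.node 10848 (ZT.leaf []) (ZT.leaf [Int.negSucc 11275, Int.negSucc 1855, Int.ofNat 2459, Int.negSucc 163, Int.ofNat 4, Int.negSucc 969, Int.negSucc 120, Int.ofNat 138, Int.negSucc 25, Int.ofNat 0, Int.ofNat 0, Int.ofNat 0, Int.negSucc 42, Int.negSucc 2, Int.ofNat 841,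 Int.negSucc 28, Int.negSucc 170, Int.ofNat 0, Int.negSucc 874])) (ZT.node 10850 (ZT.leaf [Int.ofNat 686, Int.ofNat 345, Int.negSucc 177, Int.ofNat 66, Int.ofNat 0, Int.ofNat 107, Int.ofNat 4, Int.negSucc 12, Int.ofNat 5, Int.ofNat 0, Int.ofNat 0, Int.ofNat 0, Int.ofNat 0, Int.ofNat 4, Int.negSucc 91, Int.negSucc 1, Int.ofNat 12, Int.ofNat 0, Int.ofNat 87]) (ZT.node 10851 (ZT.leaf []) (ZT.leaf [Int.ofNat 1])))) (ZT.node 10855 (ZT.node 10853 (ZT.leaf []) (ZT.node 10854 (ZT.leaf []) (ZT.leaf []))) (ZT.node 10856 (ZT.leaf []) (ZT.node 10857 (ZT.leaf []) (ZT.leaf []))))) (ZT.node 10863 (ZT.node 10860 (ZT.node 10859 (ZT.leaf []) (ZT.leaf [])) (ZT.node 10861 (ZT.leaf []) (ZT.node 10862 (ZT.leaf [Int.ofNat 0, Int.ofNat 0, Int.ofNat 0, Int.ofNat 0, Int.ofNat 0, Int.ofNat 0, Int.ofNat 0, Int.ofNat 0, Int.ofNat 0, Int.ofNat 0, Int.ofNat 0, Int.ofNat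 0, Int.ofNat 0, Int.ofNat 0, Int.ofNat 0, Int.ofNat 0, Int.ofNat 1]) (ZT.leaf [])))) (ZT.node 10866 (ZT.node 10864 (ZT.leaf []) (ZT.node 10865 (ZT.leaf []) (ZT.leaf []))) (ZT.node 10867 (ZT.leaf []) (ZT.node 10868 (ZT.leaf []) (ZT.leaf [])))))) (ZT.node 10880 (ZT.node 10874 (ZT.node 10871 (ZT.node 10870 (ZT.leaf []) (ZT.leaf [])) (ZT.node 10872 (ZT.leaf [Int.ofNat 1]) (ZT.node 10873 (ZT.leaf []) (ZT.leaf [])))) (ZT.node 10877 (ZT.node 10875 (ZT.leaf []) (ZT.node 10876 (ZT.leaf []) (ZT.leaf []))) (ZT.node 10878 (ZT.leaf []) (ZT.node 10879 (ZT.leaf []) (ZT.leaf []))))) (ZT.node 10886 (ZT.node 10883 (ZT.node 10881 (ZT.leaf []) (ZT.node 10882 (ZT.leaf []) (ZT.leaf []))) (ZT.node 10884 (ZT.leaf [Int.negSucc 276, Int.negSucc 223, Int.ofNat 41, Int.negSucc 19, Int.ofNat 0, Int.negSucc 32, Int.negSucc 12, Int.ofNat 21, Int.ofNat 8, Int.ofNat 0,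 Int.ofNat 0, Int.ofNat 0, Int.negSucc 2, Int.ofNat 0, Int.ofNat 93, Int.negSucc 0, Int.negSucc 10, Int.ofNat 0, Int.negSucc 40]) (ZT.node 10885 (ZT.leaf []) (ZT.leaf [])))) (ZT.node 10889 (ZT.node 10887 (ZT.leaf [Int.negSucc 12825, Int.negSucc 3009, Int.ofNat 2932, Int.negSucc 423, Int.ofNat 9, Int.negSucc 1321, Int.negSucc 123, Int.ofNat 173, Int.negSucc 43, Int.ofNat 2, Int.ofNat 0, Int.ofNat 1, Int.negSucc 47, Int.negSucc 19, Int.ofNat 1049, Int.negSucc 8, Int.negSucc 171, Int.ofNat 1, Int.negSucc 1136]) (ZT.node 10888 (ZT.leaf []) (ZT.leaf []))) (ZT.node 10890 (ZT.leaf [Int.ofNat 595, Int.ofNat 1905, Int.negSucc 188, Int.ofNat 337, Int.ofNat 10, Int.ofNat 328, Int.ofNat 64, Int.negSucc 163, Int.negSucc 43, Int.ofNat 0, Int.negSucc 0, Int.ofNat 0, Int.negSucc 2, Int.ofNat 14, Int.negSucc 649, Int.negSucc 19, Int.ofNat 65, Int.ofNat 0,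 Int.ofNat 314]) (ZT.node 10891 (ZT.leaf []) (ZT.leaf []))))))))) (ZT.node 10982 (ZT.node 10937 (ZT.node 10914 (ZT.node 10903 (ZT.node 10897 (ZT.node 10894 (ZT.node 10893 (ZT.leaf []) (ZT.leaf [])) (ZT.node 10895 (ZT.leaf []) (ZT.node 10896 (ZT.leaf []) (ZT.leaf [])))) (ZT.node 10900 (ZT.node 10898 (ZT.leaf [Int.negSucc 61983, Int.negSucc 28210, Int.ofNat 14460, Int.negSucc 4586, Int.negSucc 92, Int.negSucc 8464, Int.negSucc 1055, Int.ofNat 2214, Int.ofNat 213, Int.ofNat 3, Int.negSucc 0, Int.negSucc 0, Int.negSucc 128, Int.negSucc 83, Int.ofNat 9815, Int.ofNat 56, Int.negSucc 1388, Int.negSucc 1, Int.negSucc 7467]) (ZT.node 10899 (ZT.leaf [Int.ofNat 56589, Int.ofNat 26265, Int.negSucc 13171, Int.ofNat 4244, Int.ofNat 92, Int.ofNat 7903, Int.ofNat 978, Int.negSucc 2164, Int.negSucc 215, Int.negSucc 3, Int.ofNat 2, Int.ofNat 2, Int.ofNat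 84, Int.ofNat 76, Int.negSucc 8674, Int.negSucc 52, Int.ofNat 1322, Int.ofNat 2, Int.ofNat 6910]) (ZT.leaf []))) (ZT.node 10901 (ZT.leaf []) (ZT.node 10902 (ZT.leaf []) (ZT.leaf []))))) (ZT.node 10908 (ZT.node 10905 (ZT.node 10904 (ZT.leaf []) (ZT.leaf [])) (ZT.node 10906 (ZT.leaf []) (ZT.node 10907 (ZT.leaf []) (ZT.leaf [])))) (ZT.node 10911 (ZT.node 10909 (ZT.leaf []) (ZT.node 10910 (ZT.leaf [Int.ofNat 1]) (ZT.leaf []))) (ZT.node 10912 (ZT.leaf []) (ZT.node 10913 (ZT.leaf []) (ZT.leaf [])))))) (ZT.node 10925 (ZT.node 10919 (ZT.node 10916 (ZT.node 10915 (ZT.leaf []) (ZT.leaf [])) (ZT.node 10917 (ZT.leaf []) (ZT.node 10918 (ZT.leaf []) (ZT.leaf [Int.negSucc 3682, Int.negSucc 1351, Int.ofNat 879, Int.negSucc 225, Int.negSucc 7, Int.negSucc 452, Int.negSucc 51, Int.ofNat 115, Int.ofNat 8, Int.ofNat 0, Int.negSucc 0, Int.ofNat 0, Int.negSucc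 1, Int.negSucc 1, Int.ofNat 462, Int.ofNat 2, Int.negSucc 77, Int.ofNat 1, Int.negSucc 400])))) (ZT.node 10922 (ZT.node 10920 (ZT.leaf []) (ZT.node 10921 (ZT.leaf []) (ZT.leaf []))) (ZT.node 10923 (ZT.leaf []) (ZT.node 10924 (ZT.leaf []) (ZT.leaf []))))) (ZT.node 10931 (ZT.node 10928 (ZT.node 10926 (ZT.leaf []) (ZT.node 10927 (ZT.leaf []) (ZT.leaf [Int.ofNat 12, Int.negSucc 6, Int.negSucc 1, Int.negSucc 0, Int.ofNat 0, Int.ofNat 0, Int.ofNat 0, Int.ofNat 1, Int.ofNat 1, Int.ofNat 1, Int.ofNat 0, Int.ofNat 0, Int.ofNat 0, Int.ofNat 0, Int.ofNat 7, Int.ofNat 0, Int.ofNat 0, Int.ofNat 0, Int.negSucc 0]))) (ZT.node 10929 (ZT.leaf [Int.ofNat 130, Int.negSucc 36, Int.negSucc 31, Int.negSucc 5, Int.ofNat 0, Int.ofNat 4, Int.negSucc 3, Int.ofNat 7, Int.ofNat 4, Int.ofNat 0, Int.ofNat 0, Int.ofNat 0, Int.ofNat 1, Int.ofNat 0, Int.ofNat 17, Int.ofNat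 0, Int.ofNat 0, Int.ofNat 0, Int.ofNat 1]) (ZT.node 10930 (ZT.leaf [Int.negSucc 95, Int.negSucc 20, Int.ofNat 21, Int.negSucc 1, Int.ofNat 0, Int.negSucc 9, Int.ofNat 1, Int.negSucc 0, Int.negSucc 0, Int.ofNat 0, Int.ofNat 0, Int.ofNat 0, Int.negSucc 0, Int.ofNat 0, Int.ofNat 4, Int.ofNat 0, Int.negSucc 0, Int.ofNat 0, Int.negSucc 7]) (ZT.leaf [])))) (ZT.node 10934 (ZT.node 10932 (ZT.leaf []) (ZT.node 10933 (ZT.leaf []) (ZT.leaf []))) (ZT.node 10935 (ZT.leaf [Int.ofNat 12837, Int.ofNat 3444, Int.negSucc 2982, Int.ofNat 521, Int.negSucc 3, Int.ofNat 1403, Int.ofNat 124, Int.negSucc 202, Int.ofNat 39, Int.negSucc 1, Int.ofNat 1, Int.negSucc 0, Int.ofNat 43, Int.ofNat 25, Int.negSucc 1177, Int.ofNat 2, Int.ofNat 196, Int.ofNat 0, Int.ofNat 1206]) (ZT.node 10936 (ZT.leaf []) (ZT.leaf [Int.ofNat 37298, Int.ofNat 14607, Int.negSucc 8499, Int.ofNat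 2241, Int.ofNat 47, Int.ofNat 4666, Int.ofNat 598, Int.negSucc 1198, Int.negSucc 95, Int.negSucc 2, Int.ofNat 1, Int.ofNat 0, Int.ofNat 78, Int.ofNat 34, Int.negSucc 5162, Int.ofNat 0, Int.ofNat 842, Int.ofNat 0, Int.ofNat 4144]))))))) (ZT.node 10959 (ZT.node 10948 (ZT.node 10942 (ZT.node 10939 (ZT.node 10938 (ZT.leaf []) (ZT.leaf [])) (ZT.node 10940 (ZT.leaf []) (ZT.node 10941 (ZT.leaf []) (ZT.leaf [])))) (ZT.node 10945 (ZT.node 10943 (ZT.leaf []) (ZT.node 10944 (ZT.leaf []) (ZT.leaf []))) (ZT.node 10946 (ZT.leaf []) (ZT.node 10947 (ZT.leaf []) (ZT.leaf []))))) (ZT.node 10953 (ZT.node 10950 (ZT.node 10949 (ZT.leaf []) (ZT.leaf [])) (ZT.node 10951 (ZT.leaf []) (ZT.node 10952 (ZT.leaf []) (ZT.leaf [])))) (ZT.node 10956 (ZT.node 10954 (ZT.leaf []) (ZT.node 10955 (ZT.leaf []) (ZT.leaf []))) (ZT.node 10957 (ZT.leaf []) (ZT.node 10958 (ZT.leaf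 []) (ZT.leaf [])))))) (ZT.node 10970 (ZT.node 10964 (ZT.node 10961 (ZT.node 10960 (ZT.leaf []) (ZT.leaf [])) (ZT.node 10962 (ZT.leaf [Int.ofNat 6369, Int.ofNat 700, Int.negSucc 1387, Int.ofNat 26, Int.negSucc 6, Int.ofNat 471, Int.ofNat 49, Int.negSucc 11, Int.ofNat 27, Int.ofNat 0, Int.ofNat 0, Int.ofNat 0, Int.ofNat 36, Int.ofNat 4, Int.negSucc 370, Int.ofNat 20, Int.ofNat 78, Int.ofNat 0, Int.ofNat 441]) (ZT.node 10963 (ZT.leaf []) (ZT.leaf [Int.ofNat 660, Int.ofNat 333, Int.negSucc 183, Int.ofNat 69, Int.ofNat 0, Int.ofNat 116, Int.ofNat 2, Int.negSucc 11, Int.ofNat 7, Int.ofNat 0, Int.ofNat 0, Int.ofNat 0, Int.ofNat 0, Int.ofNat 4, Int.negSucc 92, Int.negSucc 1, Int.ofNat 10, Int.ofNat 0, Int.ofNat 91])))) (ZT.node 10967 (ZT.node 10965 (ZT.leaf []) (ZT.node 10966 (ZT.leaf []) (ZT.leaf []))) (ZT.node 10968 (ZT.leaf []) (ZT.node 10969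 (ZT.leaf []) (ZT.leaf []))))) (ZT.node 10976 (ZT.node 10973 (ZT.node 10971 (ZT.leaf []) (ZT.node 10972 (ZT.leaf [Int.ofNat 34457, Int.ofNat 14083, Int.negSucc 7904, Int.ofNat 2218, Int.ofNat 48, Int.ofNat 4395, Int.ofNat 524, Int.negSucc 1102, Int.negSucc 85, Int.ofNat 0, Int.ofNat 1, Int.ofNat 2, Int.ofNat 69, Int.ofNat 39, Int.negSucc 4741, Int.negSucc 13, Int.ofNat 745, Int.ofNat 2, Int.ofNat 3878]) (ZT.leaf []))) (ZT.node 10974 (ZT.leaf []) (ZT.node 10975 (ZT.leaf [Int.ofNat 0, Int.ofNat 0, Int.ofNat 0, Int.ofNat 0, Int.ofNat 0, Int.ofNat 0, Int.ofNat 0, Int.ofNat 0, Int.ofNat 0, Int.ofNat 0, Int.ofNat 0, Int.ofNat 0, Int.ofNat 0, Int.ofNat 0, Int.ofNat 0, Int.ofNat 0, Int.ofNat 0, Int.ofNat 0, Int.negSucc 0]) (ZT.leaf [])))) (ZT.node 10979 (ZT.node 10977 (ZT.leaf []) (ZT.node 10978 (ZT.leaf []) (ZT.leaf []))) (ZT.node 10980 (ZT.leaf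 [Int.ofNat 1, Int.ofNat 1]) (ZT.node 10981 (ZT.leaf [Int.ofNat 79, Int.ofNat 7, Int.negSucc 22, Int.ofNat 4, Int.ofNat 0, Int.ofNat 10, Int.ofNat 0, Int.ofNat 0, Int.ofNat 1, Int.ofNat 0, Int.ofNat 0, Int.ofNat 0, Int.ofNat 0, Int.ofNat 0, Int.ofNat 0, Int.ofNat 1, Int.ofNat 2, Int.ofNat 0, Int.ofNat 8]) (ZT.leaf [])))))))) (ZT.node 11027 (ZT.node 11004 (ZT.node 10993 (ZT.node 10987 (ZT.node 10984 (ZT.node 10983 (ZT.leaf [Int.negSucc 129, Int.ofNat 37, Int.ofNat 32, Int.ofNat 6, Int.ofNat 0, Int.negSucc 3, Int.ofNat 4, Int.negSucc 6, Int.negSucc 3, Int.ofNat 0, Int.ofNat 0, Int.ofNat 0, Int.negSucc 0, Int.ofNat 0, Int.negSucc 16, Int.ofNat 0, Int.ofNat 0, Int.ofNat 0, Int.negSucc 0]) (ZT.leaf [])) (ZT.node 10985 (ZT.leaf []) (ZT.node 10986 (ZT.leaf []) (ZT.leaf [Int.ofNat 1])))) (ZT.node 10990 (ZT.node 10988 (ZT.leaf []) (ZT.node 10989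 (ZT.leaf []) (ZT.leaf []))) (ZT.node 10991 (ZT.leaf []) (ZT.node 10992 (ZT.leaf []) (ZT.leaf []))))) (ZT.node 10998 (ZT.node 10995 (ZT.node 10994 (ZT.leaf []) (ZT.leaf [])) (ZT.node 10996 (ZT.leaf []) (ZT.node 10997 (ZT.leaf []) (ZT.leaf [])))) (ZT.node 11001 (ZT.node 10999 (ZT.leaf []) (ZT.node 11000 (ZT.leaf []) (ZT.leaf []))) (ZT.node 11002 (ZT.leaf []) (ZT.node 11003 (ZT.leaf [Int.negSucc 5118, Int.negSucc 1979, Int.ofNat 1153, Int.negSucc 283, Int.negSucc 4, Int.negSucc 614, Int.negSucc 81, Int.ofNat 151, Int.ofNat 14, Int.ofNat 0, Int.ofNat 0, Int.ofNat 0, Int.negSucc 15, Int.negSucc 5, Int.ofNat 746, Int.negSucc 3, Int.negSucc 112, Int.ofNat 0, Int.negSucc 559]) (ZT.leaf [])))))) (ZT.node 11015 (ZT.node 11009 (ZT.node 11006 (ZT.node 11005 (ZT.leaf []) (ZT.leaf [])) (ZT.node 11007 (ZT.leaf []) (ZT.node 11008 (ZT.leaf []) (ZT.leaf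 [])))) (ZT.node 11012 (ZT.node 11010 (ZT.leaf [Int.ofNat 457, Int.ofNat 866, Int.negSucc 148, Int.ofNat 164, Int.ofNat 7, Int.ofNat 168, Int.ofNat 15, Int.negSucc 66, Int.negSucc 13, Int.ofNat 0, Int.ofNat 0, Int.ofNat 0, Int.negSucc 4, Int.ofNat 8, Int.negSucc 286, Int.negSucc 9, Int.ofNat 41, Int.ofNat 0, Int.ofNat 153]) (ZT.node 11011 (ZT.leaf []) (ZT.leaf []))) (ZT.node 11013 (ZT.leaf []) (ZT.node 11014 (ZT.leaf [Int.negSucc 1]) (ZT.leaf []))))) (ZT.node 11021 (ZT.node 11018 (ZT.node 11016 (ZT.leaf [Int.ofNat 5120, Int.ofNat 1980, Int.negSucc 1152, Int.ofNat 284, Int.ofNat 5, Int.ofNat 615, Int.ofNat 82, Int.negSucc 150, Int.negSucc 13, Int.ofNat 0, Int.ofNat 0, Int.ofNat 0, Int.ofNat 16, Int.ofNat 6, Int.negSucc 745, Int.ofNat 4, Int.ofNat 113, Int.ofNat 0, Int.ofNat 560]) (ZT.node 11017 (ZT.leaf []) (ZT.leaf []))) (ZT.node 11019 (ZT.leaf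 []) (ZT.node 11020 (ZT.leaf []) (ZT.leaf [])))) (ZT.node 11024 (ZT.node 11022 (ZT.leaf []) (ZT.node 11023 (ZT.leaf []) (ZT.leaf []))) (ZT.node 11025 (ZT.leaf [Int.negSucc 2645, Int.negSucc 709, Int.ofNat 568, Int.negSucc 100, Int.negSucc 4, Int.negSucc 251, Int.negSucc 37, Int.ofNat 57, Int.ofNat 10, Int.ofNat 0, Int.ofNat 1, Int.negSucc 0, Int.negSucc 12, Int.ofNat 3, Int.ofNat 392, Int.negSucc 10, Int.negSucc 45, Int.ofNat 0, Int.negSucc 245]) (ZT.node 11026 (ZT.leaf [Int.negSucc 595, Int.ofNat 1318, Int.ofNat 144, Int.ofNat 214, Int.ofNat 4, Int.ofNat 142, Int.ofNat 56, Int.negSucc 123, Int.negSucc 45, Int.negSucc 0, Int.ofNat 0, Int.ofNat 0, Int.negSucc 2, Int.ofNat 9, Int.negSucc 452, Int.negSucc 14, Int.ofNat 38, Int.ofNat 0, Int.ofNat 157]) (ZT.leaf []))))))) (ZT.node 11049 (ZT.node 11038 (ZT.node 11032 (ZT.node 11029 (ZT.node 11028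 (ZT.leaf []) (ZT.leaf [])) (ZT.node 11030 (ZT.leaf []) (ZT.node 11031 (ZT.leaf [Int.negSucc 9172, Int.negSucc 2761, Int.ofNat 2009, Int.negSucc 373, Int.negSucc 13, Int.negSucc 952, Int.negSucc 133, Int.ofNat 258, Int.ofNat 27, Int.negSucc 0, Int.ofNat 1, Int.ofNat 0, Int.negSucc 18, Int.ofNat 6, Int.ofNat 1077, Int.negSucc 11, Int.negSucc 205, Int.ofNat 0, Int.negSucc 870]) (ZT.leaf [])))) (ZT.node 11035 (ZT.node 11033 (ZT.leaf []) (ZT.node 11034 (ZT.leaf []) (ZT.leaf []))) (ZT.node 11036 (ZT.leaf [Int.ofNat 2, Int.ofNat 3, Int.ofNat 0, Int.ofNat 0, Int.ofNat 0, Int.ofNat 0, Int.ofNat 0, Int.ofNat 0, Int.ofNat 0, Int.ofNat 0, Int.ofNat 0, Int.ofNat 0, Int.ofNat 0, Int.ofNat 0, Int.negSucc 0, Int.ofNat 0, Int.ofNat 0, Int.ofNat 0, Int.ofNat 1]) (ZT.node 11037 (ZT.leaf [Int.ofNat 1]) (ZT.leaf []))))) (ZT.node 11043 (ZT.node 11040 (ZT.node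 11039 (ZT.leaf []) (ZT.leaf [])) (ZT.node 11041 (ZT.leaf []) (ZT.node 11042 (ZT.leaf []) (ZT.leaf [])))) (ZT.node 11046 (ZT.node 11044 (ZT.leaf []) (ZT.node 11045 (ZT.leaf []) (ZT.leaf [Int.ofNat 2016, Int.ofNat 10, Int.negSucc 484, Int.ofNat 24, Int.ofNat 4, Int.ofNat 152, Int.negSucc 4, Int.ofNat 21, Int.ofNat 24, Int.ofNat 1, Int.ofNat 0, Int.ofNat 0, Int.ofNat 3, Int.negSucc 5, Int.negSucc 33, Int.ofNat 9, Int.ofNat 2, Int.ofNat 0, Int.ofNat 100]))) (ZT.node 11047 (ZT.leaf [Int.ofNat 1]) (ZT.node 11048 (ZT.leaf []) (ZT.leaf [])))))) (ZT.node 11060 (ZT.node 11054 (ZT.node 11051 (ZT.node 11050 (ZT.leaf [Int.negSucc 77, Int.negSucc 289, Int.ofNat 44, Int.negSucc 60, Int.negSucc 1, Int.negSucc 54, Int.negSucc 5, Int.ofNat 12, Int.ofNat 3, Int.ofNat 0, Int.ofNat 0, Int.ofNat 0, Int.negSucc 0, Int.negSucc 2, Int.ofNat 97, Int.ofNat 4, Int.ofNat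 0, Int.ofNat 0, Int.negSucc 48]) (ZT.leaf [])) (ZT.node 11052 (ZT.leaf [Int.ofNat 429, Int.ofNat 453, Int.negSucc 121, Int.ofNat 90, Int.ofNat 1, Int.ofNat 109, Int.ofNat 14, Int.negSucc 25, Int.negSucc 3, Int.ofNat 0, Int.negSucc 0, Int.ofNat 0, Int.ofNat 1, Int.ofNat 2, Int.negSucc 141, Int.negSucc 3, Int.ofNat 3, Int.ofNat 0, Int.ofNat 89]) (ZT.node 11053 (ZT.leaf [Int.negSucc 2442, Int.negSucc 1529, Int.ofNat 586, Int.negSucc 260, Int.negSucc 4, Int.negSucc 394, Int.negSucc 54, Int.ofNat 102, Int.ofNat 15, Int.ofNat 0, Int.ofNat 0, Int.ofNat 0, Int.negSucc 7, Int.negSucc 7, Int.ofNat 535, Int.ofNat 8, Int.negSucc 41, Int.ofNat 0, Int.negSucc 349]) (ZT.leaf [Int.ofNat 12449, Int.ofNat 2739, Int.negSucc 2856, Int.ofNat 387, Int.negSucc 9, Int.ofNat 1269, Int.ofNat 113, Int.negSucc 155, Int.ofNat 49, Int.negSucc 0, Int.ofNat 0, Int.negSucc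 0, Int.ofNat 46, Int.ofNat 17, Int.negSucc 958, Int.ofNat 11, Int.ofNat 165, Int.negSucc 0, Int.ofNat 1083])))) (ZT.node 11057 (ZT.node 11055 (ZT.leaf []) (ZT.node 11056 (ZT.leaf []) (ZT.leaf [Int.ofNat 2, Int.ofNat 2, Int.ofNat 0, Int.ofNat 0, Int.ofNat 0, Int.ofNat 0, Int.ofNat 0, Int.ofNat 0, Int.ofNat 0, Int.ofNat 0, Int.ofNat 0, Int.ofNat 0, Int.ofNat 0, Int.ofNat 0, Int.negSucc 0, Int.ofNat 0, Int.ofNat 0, Int.ofNat 0, Int.ofNat 1]))) (ZT.node 11058 (ZT.leaf []) (ZT.node 11059 (ZT.leaf []) (ZT.leaf []))))) (ZT.node 11066 (ZT.node 11063 (ZT.node 11061 (ZT.leaf [Int.negSucc 593, Int.negSucc 1904, Int.ofNat 189, Int.negSucc 336, Int.negSucc 9, Int.negSucc 327, Int.negSucc 63, Int.ofNat 164, Int.ofNat 44, Int.ofNat 0, Int.ofNat 1, Int.ofNat 0, Int.ofNat 3, Int.negSucc 13, Int.ofNat 650, Int.ofNat 20, Int.negSucc 64, Int.ofNat 0, Int.negSucc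 313]) (ZT.node 11062 (ZT.leaf []) (ZT.leaf [Int.negSucc 0, Int.negSucc 1, Int.ofNat 0, Int.ofNat 0, Int.ofNat 0, Int.ofNat 0, Int.ofNat 0, Int.ofNat 0, Int.ofNat 0, Int.ofNat 0, Int.ofNat 0, Int.ofNat 0, Int.ofNat 0, Int.ofNat 0, Int.ofNat 1, Int.ofNat 0, Int.ofNat 0, Int.ofNat 0, Int.negSucc 0]))) (ZT.node 11064 (ZT.leaf []) (ZT.node 11065 (ZT.leaf []) (ZT.leaf [])))) (ZT.node 11069 (ZT.node 11067 (ZT.leaf []) (ZT.node 11068 (ZT.leaf [Int.negSucc 79, Int.negSucc 7, Int.ofNat 23, Int.negSucc 3, Int.ofNat 0, Int.negSucc 9, Int.ofNat 0, Int.ofNat 0, Int.negSucc 0, Int.ofNat 0, Int.ofNat 0, Int.ofNat 0, Int.ofNat 0, Int.ofNat 0, Int.ofNat 0, Int.negSucc 0, Int.negSucc 1, Int.ofNat 0, Int.negSucc 7]) (ZT.leaf []))) (ZT.node 11070 (ZT.leaf [Int.negSucc 0, Int.negSucc 2, Int.ofNat 0, Int.ofNat 0, Int.ofNat 0, Int.ofNat 0, Int.ofNat 0, Int.ofNat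 0, Int.ofNat 0, Int.ofNat 0, Int.ofNat 0, Int.ofNat 0, Int.ofNat 0, Int.ofNat 0, Int.ofNat 1, Int.ofNat 0, Int.ofNat 0, Int.ofNat 0, Int.negSucc 0]) (ZT.node 11071 (ZT.leaf [Int.ofNat 0, Int.ofNat 3, Int.ofNat 0, Int.ofNat 0, Int.ofNat 0, Int.ofNat 0, Int.ofNat 0, Int.ofNat 0, Int.ofNat 0, Int.ofNat 0, Int.ofNat 0, Int.ofNat 0, Int.ofNat 0, Int.ofNat 0, Int.negSucc 0, Int.ofNat 0, Int.ofNat 0, Int.ofNat 0, Int.ofNat 0]) (ZT.leaf [Int.ofNat 2, Int.ofNat 2, Int.ofNat 0, Int.ofNat 0, Int.ofNat 0, Int.ofNat 0, Int.ofNat 0, Int.ofNat 0, Int.ofNat 0, Int.ofNat 0, Int.ofNat 0, Int.ofNat 0, Int.ofNat 0, Int.ofNat 0, Int.negSucc 0, Int.ofNat 0, Int.ofNat 0, Int.ofNat 0, Int.ofNat 1]))))))))))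

end Cfsg.Agent.Helper9.TCData.L34L0
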