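import Cfsg.Agent.Lib.Helper9.LTC

set_option autoImplicit false
set_option maxRecDepth 1000000

namespace Cfsg.Agent.Helper9.TCData.L34L0
open Cfsg.Agent.Helper9.TC2 Cfsg.Agent.Helper9.LTC

noncomputable def labT_24 : ZT := (ZT.node 12468 (ZT.node 12378 (ZT.node 12333 (ZT.node 12310 (ZT.node 12299 (ZT.node 12293 (ZT.node 12290 (ZT.node 12289 (ZT.leaf []) (ZT.leaf [])) (ZT.node 12291 (ZT.leaf []) (ZT.node 12292 (ZT.leaf []) (ZT.leaf [])))) (ZT.node 12296 (ZT.node 12294 (ZT.leaf [Int.ofNat 3326, Int.ofNat 2326, Int.negSucc 879, Int.ofNat 440, Int.ofNat 12, Int.ofNat 624, Int.ofNat 60, Int.negSucc 156, Int.negSucc 7, Int.ofNat 0, Int.ofNat 0, Int.ofNat 0, Int.negSucc 0, Int.ofNat 15, Int.negSucc 714, Int.negSucc 20, Int.ofNat 86, Int.ofNat 0, Int.ofNat 531]) (ZT.node 12295 (ZT.leaf []) (ZT.leaf [Int.ofNat 711, Int.ofNat 2817, Int.negSucc 228, Int.ofNat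 505, Int.ofNat 15, Int.ofNat 499, Int.ofNat 91, Int.negSucc 224, Int.negSucc 53, Int.negSucc 0, Int.ofNat 0, Int.ofNat 0, Int.negSucc 8, Int.ofNat 19, Int.negSucc 886, Int.negSucc 31, Int.ofNat 78, Int.ofNat 0, Int.ofNat 447]))) (ZT.node 12297 (ZT.leaf []) (ZT.node 12298 (ZT.leaf [Int.negSucc 2290, Int.negSucc 853, Int.ofNat 590, Int.negSucc 163, Int.negSucc 3, Int.negSucc 315, Int.negSucc 23, Int.ofNat 60, Int.negSucc 4, Int.ofNat 0, Int.ofNat 0, Int.ofNat 0, Int.negSucc 1, Int.negSucc 2, Int.ofNat 297, Int.ofNat 4, Int.negSucc 42, Int.ofNat 0, Int.negSucc 263]) (ZT.leaf []))))) (ZT.node 12304 (ZT.node 12301 (ZT.node 12300 (ZT.leaf []) (ZT.leaf [Int.negSucc 4036, Int.negSucc 5142, Int.ofNat 1109, Int.negSucc 944, Int.negSucc 26, Int.negSucc 1122, Int.negSucc 150, Int.ofNat 382, Int.ofNat 62, Int.ofNat 1, Int.ofNat 0, Int.ofNat 0, Int.ofNat 10,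 Int.negSucc 33, Int.ofNat 1602, Int.ofNat 53, Int.negSucc 163, Int.ofNat 0, Int.negSucc 977])) (ZT.node 12302 (ZT.leaf [Int.negSucc 0]) (ZT.node 12303 (ZT.leaf []) (ZT.leaf [])))) (ZT.node 12307 (ZT.node 12305 (ZT.leaf []) (ZT.node 12306 (ZT.leaf []) (ZT.leaf [Int.ofNat 25, Int.ofNat 0, Int.negSucc 4, Int.negSucc 0, Int.ofNat 0, Int.negSucc 0, Int.ofNat 0, Int.ofNat 2, Int.ofNat 1, Int.ofNat 0, Int.ofNat 0, Int.ofNat 0, Int.ofNat 0, Int.ofNat 2, Int.ofNat 2, Int.ofNat 0, Int.negSucc 0, Int.ofNat 0, Int.ofNat 0]))) (ZT.node 12308 (ZT.leaf []) (ZT.node 12309 (ZT.leaf []) (ZT.leaf [])))))) (ZT.node 12321 (ZT.node 12315 (ZT.node 12312 (ZT.node 12311 (ZT.leaf []) (ZT.leaf [Int.negSucc 5129, Int.negSucc 3740, Int.ofNat 1243, Int.negSucc 636, Int.negSucc 16, Int.negSucc 916, Int.negSucc 126, Int.ofNat 289, Int.ofNat 44, Int.ofNat 1, Int.ofNat 0, Int.ofNat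 0, Int.negSucc 3, Int.negSucc 20, Int.ofNat 1247, Int.ofNat 25, Int.negSucc 149, Int.ofNat 0, Int.negSucc 819])) (ZT.node 12313 (ZT.leaf [Int.negSucc 3227, Int.negSucc 1015, Int.ofNat 751, Int.negSucc 155, Int.negSucc 2, Int.negSucc 372, Int.negSucc 41, Int.ofNat 78, Int.negSucc 0, Int.ofNat 0, Int.ofNat 0, Int.ofNat 0, Int.negSucc 5, Int.negSucc 1, Int.ofNat 397, Int.negSucc 2, Int.negSucc 62, Int.ofNat 0, Int.negSucc 328]) (ZT.node 12314 (ZT.leaf []) (ZT.leaf [])))) (ZT.node 12318 (ZT.node 12316 (ZT.leaf []) (ZT.node 12317 (ZT.leaf []) (ZT.leaf []))) (ZT.node 12319 (ZT.leaf []) (ZT.node 12320 (ZT.leaf []) (ZT.leaf []))))) (ZT.node 12327 (ZT.node 12324 (ZT.node 12322 (ZT.leaf [Int.ofNat 8074, Int.ofNat 5319, Int.negSucc 1994, Int.ofNat 927, Int.ofNat 23, Int.ofNat 1396, Int.ofNat 173, Int.negSucc 406, Int.negSucc 48, Int.negSucc 0, Int.ofNat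 0, Int.ofNat 0, Int.ofNat 6, Int.ofNat 31, Int.negSucc 1777, Int.negSucc 33, Int.ofNat 222, Int.ofNat 0, Int.ofNat 1226]) (ZT.node 12323 (ZT.leaf []) (ZT.leaf []))) (ZT.node 12325 (ZT.leaf []) (ZT.node 12326 (ZT.leaf []) (ZT.leaf [])))) (ZT.node 12330 (ZT.node 12328 (ZT.leaf []) (ZT.node 12329 (ZT.leaf []) (ZT.leaf []))) (ZT.node 12331 (ZT.leaf []) (ZT.node 12332 (ZT.leaf [Int.ofNat 77, Int.ofNat 7, Int.negSucc 18, Int.ofNat 1, Int.ofNat 0, Int.ofNat 7, Int.ofNat 0, Int.ofNat 0, Int.ofNat 1, Int.ofNat 0, Int.ofNat 0, Int.ofNat 0, Int.ofNat 0, Int.ofNat 0, Int.ofNat 1, Int.ofNat 0, Int.ofNat 0, Int.ofNat 0, Int.ofNat 5]) (ZT.leaf [Int.negSucc 101, Int.negSucc 6, Int.ofNat 24, Int.ofNat 0, Int.ofNat 0, Int.negSucc 5, Int.ofNat 0, Int.negSucc 1, Int.negSucc 1, Int.ofNat 0, Int.ofNat 0, Int.ofNat 0, Int.ofNat 0, Int.negSucc 1, Int.negSucc 2, Int.ofNat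 0, Int.ofNat 1, Int.ofNat 0, Int.negSucc 4]))))))) (ZT.node 12355 (ZT.node 12344 (ZT.node 12338 (ZT.node 12335 (ZT.node 12334 (ZT.leaf []) (ZT.leaf [])) (ZT.node 12336 (ZT.leaf []) (ZT.node 12337 (ZT.leaf []) (ZT.leaf [])))) (ZT.node 12341 (ZT.node 12339 (ZT.leaf [Int.negSucc 3138, Int.negSucc 1992, Int.ofNat 751, Int.negSucc 332, Int.negSucc 6, Int.negSucc 522, Int.negSucc 75, Int.ofNat 165, Int.ofNat 24, Int.ofNat 0, Int.ofNat 0, Int.ofNat 0, Int.negSucc 3, Int.negSucc 9, Int.ofNat 680, Int.ofNat 11, Int.negSucc 78, Int.ofNat 0, Int.negSucc 463]) (ZT.node 12340 (ZT.leaf []) (ZT.leaf []))) (ZT.node 12342 (ZT.leaf []) (ZT.node 12343 (ZT.leaf []) (ZT.leaf []))))) (ZT.node 12349 (ZT.node 12346 (ZT.node 12345 (ZT.leaf [Int.ofNat 3904, Int.ofNat 1275, Int.negSucc 919, Int.ofNat 204, Int.ofNat 4, Int.ofNat 476, Int.ofNat 52, Int.negSucc 101, Int.ofNat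 3, Int.ofNat 0, Int.ofNat 0, Int.ofNat 0, Int.ofNat 4, Int.ofNat 3, Int.negSucc 460, Int.ofNat 1, Int.ofNat 79, Int.ofNat 0, Int.ofNat 409]) (ZT.leaf [Int.negSucc 675, Int.negSucc 258, Int.ofNat 169, Int.negSucc 47, Int.negSucc 0, Int.negSucc 102, Int.negSucc 9, Int.ofNat 24, Int.negSucc 1, Int.ofNat 0, Int.ofNat 0, Int.ofNat 0, Int.ofNat 2, Int.negSucc 0, Int.ofNat 64, Int.ofNat 2, Int.negSucc 15, Int.ofNat 0, Int.negSucc 79])) (ZT.node 12347 (ZT.leaf [Int.negSucc 395, Int.negSucc 92, Int.ofNat 96, Int.negSucc 17, Int.ofNat 0, Int.negSucc 34, Int.ofNat 10, Int.negSucc 13, Int.negSucc 8, Int.ofNat 0, Int.ofNat 0, Int.ofNat 0, Int.negSucc 2, Int.negSucc 2, Int.negSucc 16, Int.ofNat 3, Int.ofNat 0, Int.ofNat 0, Int.negSucc 23]) (ZT.node 12348 (ZT.leaf [Int.ofNat 2291, Int.ofNat 854, Int.negSucc 589, Int.ofNat 164, Int.ofNat 4, Int.ofNat 316, Int.ofNat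 24, Int.negSucc 59, Int.ofNat 5, Int.ofNat 0, Int.ofNat 0, Int.ofNat 0, Int.ofNat 2, Int.ofNat 3, Int.negSucc 296, Int.negSucc 3, Int.ofNat 43, Int.ofNat 0, Int.ofNat 264]) (ZT.leaf [])))) (ZT.node 12352 (ZT.node 12350 (ZT.leaf []) (ZT.node 12351 (ZT.leaf []) (ZT.leaf []))) (ZT.node 12353 (ZT.leaf []) (ZT.node 12354 (ZT.leaf [Int.negSucc 0]) (ZT.leaf [])))))) (ZT.node 12366 (ZT.node 12360 (ZT.node 12357 (ZT.node 12356 (ZT.leaf [Int.ofNat 5052, Int.ofNat 3339, Int.negSucc 1278, Int.ofNat 599, Int.ofNat 16, Int.ofNat 887, Int.ofNat 97, Int.negSucc 242, Int.negSucc 22, Int.negSucc 0, Int.ofNat 0, Int.ofNat 0, Int.ofNat 2, Int.ofNat 21, Int.negSucc 1097, Int.negSucc 22, Int.ofNat 144, Int.ofNat 0, Int.ofNat 772]) (ZT.leaf [Int.ofNat 1])) (ZT.node 12358 (ZT.leaf [Int.negSucc 0]) (ZT.node 12359 (ZT.leaf []) (ZT.leaf [])))) (ZT.node 12363 (ZT.node 12361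 (ZT.leaf []) (ZT.node 12362 (ZT.leaf []) (ZT.leaf []))) (ZT.node 12364 (ZT.leaf []) (ZT.node 12365 (ZT.leaf []) (ZT.leaf []))))) (ZT.node 12372 (ZT.node 12369 (ZT.node 12367 (ZT.leaf []) (ZT.node 12368 (ZT.leaf []) (ZT.leaf []))) (ZT.node 12370 (ZT.leaf []) (ZT.node 12371 (ZT.leaf []) (ZT.leaf [])))) (ZT.node 12375 (ZT.node 12373 (ZT.leaf []) (ZT.node 12374 (ZT.leaf []) (ZT.leaf []))) (ZT.node 12376 (ZT.leaf [Int.ofNat 2576, Int.ofNat 819, Int.negSucc 595, Int.ofNat 120, Int.ofNat 1, Int.ofNat 284, Int.ofNat 21, Int.negSucc 47, Int.ofNat 2, Int.negSucc 0, Int.ofNat 0, Int.ofNat 0, Int.ofNat 9, Int.ofNat 2, Int.negSucc 278, Int.ofNat 2, Int.ofNat 53, Int.ofNat 0, Int.ofNat 256]) (ZT.node 12377 (ZT.leaf []) (ZT.leaf [])))))))) (ZT.node 12423 (ZT.node 12400 (ZT.node 12389 (ZT.node 12383 (ZT.node 12380 (ZT.node 12379 (ZT.leaf []) (ZT.leaf [])) (ZT.node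 12381 (ZT.leaf []) (ZT.node 12382 (ZT.leaf []) (ZT.leaf [])))) (ZT.node 12386 (ZT.node 12384 (ZT.leaf []) (ZT.node 12385 (ZT.leaf []) (ZT.leaf []))) (ZT.node 12387 (ZT.leaf []) (ZT.node 12388 (ZT.leaf []) (ZT.leaf []))))) (ZT.node 12394 (ZT.node 12391 (ZT.node 12390 (ZT.leaf []) (ZT.leaf [])) (ZT.node 12392 (ZT.leaf []) (ZT.node 12393 (ZT.leaf [Int.ofNat 195, Int.ofNat 415, Int.ofNat 1, Int.ofNat 43, Int.ofNat 1, Int.ofNat 44, Int.ofNat 30, Int.negSucc 46, Int.negSucc 18, Int.ofNat 0, Int.ofNat 0, Int.ofNat 0, Int.ofNat 2, Int.ofNat 0, Int.negSucc 148, Int.negSucc 1, Int.ofNat 7, Int.ofNat 0, Int.ofNat 58]) (ZT.leaf [])))) (ZT.node 12397 (ZT.node 12395 (ZT.leaf []) (ZT.node 12396 (ZT.leaf []) (ZT.leaf [Int.negSucc 2291, Int.negSucc 853, Int.ofNat 590, Int.negSucc 163, Int.negSucc 3, Int.negSucc 315, Int.negSucc 23, Int.ofNat 60, Int.negSucc 4,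 Int.ofNat 0, Int.ofNat 0, Int.ofNat 0, Int.negSucc 1, Int.negSucc 2, Int.ofNat 297, Int.ofNat 4, Int.negSucc 42, Int.ofNat 0, Int.negSucc 263]))) (ZT.node 12398 (ZT.leaf []) (ZT.node 12399 (ZT.leaf []) (ZT.leaf [])))))) (ZT.node 12411 (ZT.node 12405 (ZT.node 12402 (ZT.node 12401 (ZT.leaf []) (ZT.leaf [Int.ofNat 1049, Int.ofNat 435, Int.negSucc 230, Int.ofNat 63, Int.ofNat 2, Int.ofNat 119, Int.ofNat 17, Int.negSucc 30, Int.negSucc 5, Int.ofNat 0, Int.ofNat 0, Int.ofNat 0, Int.ofNat 4, Int.ofNat 1, Int.negSucc 154, Int.ofNat 0, Int.ofNat 20, Int.ofNat 0, Int.ofNat 114])) (ZT.node 12403 (ZT.leaf []) (ZT.node 12404 (ZT.leaf []) (ZT.leaf [])))) (ZT.node 12408 (ZT.node 12406 (ZT.leaf []) (ZT.node 12407 (ZT.leaf []) (ZT.leaf []))) (ZT.node 12409 (ZT.leaf []) (ZT.node 12410 (ZT.leaf []) (ZT.leaf []))))) (ZT.node 12417 (ZT.node 12414 (ZT.node 12412 (ZT.leaf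 []) (ZT.node 12413 (ZT.leaf []) (ZT.leaf []))) (ZT.node 12415 (ZT.leaf []) (ZT.node 12416 (ZT.leaf []) (ZT.leaf [])))) (ZT.node 12420 (ZT.node 12418 (ZT.leaf []) (ZT.node 12419 (ZT.leaf []) (ZT.leaf [Int.ofNat 1602, Int.ofNat 653, Int.negSucc 425, Int.ofNat 128, Int.negSucc 2, Int.ofNat 241, Int.ofNat 0, Int.negSucc 20, Int.ofNat 19, Int.ofNat 0, Int.ofNat 0, Int.ofNat 0, Int.ofNat 1, Int.ofNat 13, Int.negSucc 116, Int.negSucc 8, Int.ofNat 13, Int.ofNat 0, Int.ofNat 182]))) (ZT.node 12421 (ZT.leaf []) (ZT.node 12422 (ZT.leaf []) (ZT.leaf []))))))) (ZT.node 12445 (ZT.node 12434 (ZT.node 12428 (ZT.node 12425 (ZT.node 12424 (ZT.leaf [Int.ofNat 1895, Int.ofNat 630, Int.negSucc 422, Int.ofNat 87, Int.ofNat 1, Int.ofNat 214, Int.ofNat 30, Int.negSucc 48, Int.negSucc 2, Int.ofNat 0, Int.ofNat 0, Int.ofNat 0, Int.ofNat 7, Int.ofNat 0, Int.negSucc 245,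 Int.ofNat 1, Int.ofNat 41, Int.ofNat 0, Int.ofNat 193]) (ZT.leaf [Int.ofNat 1])) (ZT.node 12426 (ZT.leaf []) (ZT.node 12427 (ZT.leaf [Int.negSucc 7610, Int.negSucc 4168, Int.ofNat 1867, Int.negSucc 718, Int.negSucc 16, Int.negSucc 1169, Int.negSucc 117, Int.ofNat 291, Int.ofNat 22, Int.ofNat 1, Int.ofNat 0, Int.ofNat 0, Int.negSucc 10, Int.negSucc 22, Int.ofNat 1384, Int.ofNat 21, Int.negSucc 198, Int.ofNat 0, Int.negSucc 1028]) (ZT.leaf [])))) (ZT.node 12431 (ZT.node 12429 (ZT.leaf [Int.ofNat 1]) (ZT.node 12430 (ZT.leaf [Int.ofNat 1667, Int.ofNat 2940, Int.negSucc 367, Int.ofNat 480, Int.ofNat 19, Int.ofNat 520, Int.ofNat 154, Int.negSucc 287, Int.negSucc 89, Int.negSucc 0, Int.ofNat 0, Int.ofNat 0, Int.ofNat 0, Int.ofNat 2, Int.negSucc 1142, Int.negSucc 20, Int.ofNat 106, Int.ofNat 0, Int.ofNat 523]) (ZT.leaf []))) (ZT.node 12432 (ZT.leaf [])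 (ZT.node 12433 (ZT.leaf []) (ZT.leaf []))))) (ZT.node 12439 (ZT.node 12436 (ZT.node 12435 (ZT.leaf []) (ZT.leaf [])) (ZT.node 12437 (ZT.leaf []) (ZT.node 12438 (ZT.leaf []) (ZT.leaf [])))) (ZT.node 12442 (ZT.node 12440 (ZT.leaf []) (ZT.node 12441 (ZT.leaf []) (ZT.leaf []))) (ZT.node 12443 (ZT.leaf []) (ZT.node 12444 (ZT.leaf []) (ZT.leaf [])))))) (ZT.node 12456 (ZT.node 12450 (ZT.node 12447 (ZT.node 12446 (ZT.leaf []) (ZT.leaf [])) (ZT.node 12448 (ZT.leaf []) (ZT.node 12449 (ZT.leaf []) (ZT.leaf [])))) (ZT.node 12453 (ZT.node 12451 (ZT.leaf []) (ZT.node 12452 (ZT.leaf []) (ZT.leaf []))) (ZT.node 12454 (ZT.leaf []) (ZT.node 12455 (ZT.leaf []) (ZT.leaf []))))) (ZT.node 12462 (ZT.node 12459 (ZT.node 12457 (ZT.leaf []) (ZT.node 12458 (ZT.leaf []) (ZT.leaf []))) (ZT.node 12460 (ZT.leaf []) (ZT.node 12461 (ZT.leaf [Int.negSucc 0]) (ZT.leaf [])))) (ZT.node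 12465 (ZT.node 12463 (ZT.leaf []) (ZT.node 12464 (ZT.leaf []) (ZT.leaf []))) (ZT.node 12466 (ZT.leaf []) (ZT.node 12467 (ZT.leaf []) (ZT.leaf []))))))))) (ZT.node 12558 (ZT.node 12513 (ZT.node 12490 (ZT.node 12479 (ZT.node 12473 (ZT.node 12470 (ZT.node 12469 (ZT.leaf []) (ZT.leaf [])) (ZT.node 12471 (ZT.leaf []) (ZT.node 12472 (ZT.leaf []) (ZT.leaf [])))) (ZT.node 12476 (ZT.node 12474 (ZT.leaf []) (ZT.node 12475 (ZT.leaf []) (ZT.leaf [Int.ofNat 1]))) (ZT.node 12477 (ZT.leaf []) (ZT.node 12478 (ZT.leaf [Int.negSucc 1104, Int.negSucc 689, Int.ofNat 201, Int.negSucc 82, Int.negSucc 1, Int.negSucc 127, Int.negSucc 47, Int.ofNat 76, Int.ofNat 24, Int.ofNat 0, Int.ofNat 0, Int.ofNat 0, Int.negSucc 3, Int.ofNat 0, Int.ofNat 264, Int.ofNat 0, Int.negSucc 34, Int.ofNat 0, Int.negSucc 143]) (ZT.leaf []))))) (ZT.node 12484 (ZT.node 12481 (ZT.node 12480 (ZT.leaf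 []) (ZT.leaf [])) (ZT.node 12482 (ZT.leaf []) (ZT.node 12483 (ZT.leaf []) (ZT.leaf [])))) (ZT.node 12487 (ZT.node 12485 (ZT.leaf []) (ZT.node 12486 (ZT.leaf []) (ZT.leaf []))) (ZT.node 12488 (ZT.leaf []) (ZT.node 12489 (ZT.leaf []) (ZT.leaf [])))))) (ZT.node 12501 (ZT.node 12495 (ZT.node 12492 (ZT.node 12491 (ZT.leaf []) (ZT.leaf [])) (ZT.node 12493 (ZT.leaf []) (ZT.node 12494 (ZT.leaf []) (ZT.leaf [])))) (ZT.node 12498 (ZT.node 12496 (ZT.leaf []) (ZT.node 12497 (ZT.leaf []) (ZT.leaf []))) (ZT.node 12499 (ZT.leaf []) (ZT.node 12500 (ZT.leaf []) (ZT.leaf []))))) (ZT.node 12507 (ZT.node 12504 (ZT.node 12502 (ZT.leaf [Int.negSucc 1026, Int.negSucc 539, Int.ofNat 239, Int.negSucc 88, Int.negSucc 1, Int.negSucc 145, Int.negSucc 18, Int.ofNat 36, Int.ofNat 4, Int.ofNat 0, Int.ofNat 0, Int.ofNat 0, Int.negSucc 2, Int.negSucc 2, Int.ofNat 171, Int.ofNat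 3, Int.negSucc 17, Int.ofNat 0, Int.negSucc 129]) (ZT.node 12503 (ZT.leaf []) (ZT.leaf []))) (ZT.node 12505 (ZT.leaf []) (ZT.node 12506 (ZT.leaf [Int.ofNat 2793, Int.ofNat 966, Int.negSucc 713, Int.ofNat 187, Int.ofNat 4, Int.ofNat 364, Int.ofNat 14, Int.negSucc 46, Int.ofNat 15, Int.ofNat 0, Int.ofNat 0, Int.ofNat 0, Int.ofNat 5, Int.ofNat 6, Int.negSucc 286, Int.negSucc 6, Int.ofNat 46, Int.ofNat 0, Int.ofNat 299]) (ZT.leaf [])))) (ZT.node 12510 (ZT.node 12508 (ZT.leaf []) (ZT.node 12509 (ZT.leaf []) (ZT.leaf []))) (ZT.node 12511 (ZT.leaf []) (ZT.node 12512 (ZT.leaf []) (ZT.leaf []))))))) (ZT.node 12535 (ZT.node 12524 (ZT.node 12518 (ZT.node 12515 (ZT.node 12514 (ZT.leaf []) (ZT.leaf [Int.ofNat 2854, Int.ofNat 840, Int.negSucc 688, Int.ofNat 141, Int.ofNat 2, Int.ofNat 357, Int.ofNat 35, Int.negSucc 70, Int.ofNat 9, Int.ofNat 0, Int.ofNat 0,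 Int.ofNat 0, Int.ofNat 0, Int.ofNat 2, Int.negSucc 305, Int.ofNat 1, Int.ofNat 59, Int.ofNat 0, Int.ofNat 295])) (ZT.node 12516 (ZT.leaf []) (ZT.node 12517 (ZT.leaf []) (ZT.leaf [])))) (ZT.node 12521 (ZT.node 12519 (ZT.leaf [Int.negSucc 32, Int.ofNat 197, Int.ofNat 29, Int.ofNat 23, Int.ofNat 2, Int.ofNat 13, Int.ofNat 20, Int.negSucc 30, Int.negSucc 15, Int.ofNat 0, Int.ofNat 0, Int.ofNat 0, Int.ofNat 2, Int.negSucc 1, Int.negSucc 129, Int.ofNat 1, Int.ofNat 15, Int.ofNat 0, Int.ofNat 29]) (ZT.node 12520 (ZT.leaf [Int.ofNat 1989, Int.ofNat 1636, Int.negSucc 508, Int.ofNat 296, Int.ofNat 8, Int.ofNat 398, Int.ofNat 56, Int.negSucc 141, Int.negSucc 23, Int.ofNat 0, Int.ofNat 0, Int.ofNat 0, Int.negSucc 3, Int.ofNat 4, Int.negSucc 567, Int.negSucc 7, Int.ofNat 69, Int.ofNat 0, Int.ofNat 353]) (ZT.leaf []))) (ZT.node 12522 (ZT.leaf []) (ZT.node 12523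 (ZT.leaf []) (ZT.leaf []))))) (ZT.node 12529 (ZT.node 12526 (ZT.node 12525 (ZT.leaf []) (ZT.leaf [])) (ZT.node 12527 (ZT.leaf [Int.ofNat 25, Int.negSucc 4, Int.negSucc 11, Int.ofNat 4, Int.ofNat 0, Int.ofNat 10, Int.ofNat 1, Int.ofNat 0, Int.ofNat 2, Int.ofNat 0, Int.ofNat 0, Int.ofNat 0, Int.negSucc 0, Int.ofNat 0, Int.ofNat 7, Int.ofNat 0, Int.negSucc 3, Int.ofNat 0, Int.ofNat 3]) (ZT.node 12528 (ZT.leaf [Int.ofNat 2456, Int.ofNat 1128, Int.negSucc 586, Int.ofNat 190, Int.ofNat 3, Int.ofNat 323, Int.ofNat 29, Int.negSucc 67, Int.ofNat 0, Int.ofNat 0, Int.ofNat 0, Int.ofNat 0, Int.ofNat 7, Int.ofNat 7, Int.negSucc 342, Int.negSucc 7, Int.ofNat 46, Int.ofNat 0, Int.ofNat 286]) (ZT.leaf [])))) (ZT.node 12532 (ZT.node 12530 (ZT.leaf []) (ZT.node 12531 (ZT.leaf []) (ZT.leaf []))) (ZT.node 12533 (ZT.leaf []) (ZT.node 12534 (ZT.leaf []) (ZT.leaf []))))))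 (ZT.node 12546 (ZT.node 12540 (ZT.node 12537 (ZT.node 12536 (ZT.leaf []) (ZT.leaf [])) (ZT.node 12538 (ZT.leaf []) (ZT.node 12539 (ZT.leaf []) (ZT.leaf [])))) (ZT.node 12543 (ZT.node 12541 (ZT.leaf []) (ZT.node 12542 (ZT.leaf []) (ZT.leaf []))) (ZT.node 12544 (ZT.leaf [Int.ofNat 0, Int.ofNat 0, Int.ofNat 0, Int.ofNat 0, Int.negSucc 0]) (ZT.node 12545 (ZT.leaf []) (ZT.leaf []))))) (ZT.node 12552 (ZT.node 12549 (ZT.node 12547 (ZT.leaf []) (ZT.node 12548 (ZT.leaf []) (ZT.leaf []))) (ZT.node 12550 (ZT.leaf []) (ZT.node 12551 (ZT.leaf [Int.negSucc 4089, Int.negSucc 1632, Int.ofNat 1005, Int.negSucc 283, Int.negSucc 0, Int.negSucc 544, Int.negSucc 39, Int.ofNat 100, Int.negSucc 11, Int.ofNat 0, Int.ofNat 0, Int.ofNat 0, Int.negSucc 4, Int.negSucc 13, Int.ofNat 519, Int.ofNat 7, Int.negSucc 75, Int.ofNat 0, Int.negSucc 455]) (ZT.leaf [])))) (ZT.node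 12555 (ZT.node 12553 (ZT.leaf [Int.negSucc 1639, Int.negSucc 190, Int.ofNat 330, Int.negSucc 3, Int.ofNat 3, Int.negSucc 99, Int.negSucc 32, Int.ofNat 33, Int.ofNat 6, Int.ofNat 0, Int.ofNat 0, Int.ofNat 0, Int.negSucc 6, Int.ofNat 6, Int.ofNat 88, Int.negSucc 6, Int.negSucc 13, Int.ofNat 0, Int.negSucc 107]) (ZT.node 12554 (ZT.leaf []) (ZT.leaf [Int.ofNat 2558, Int.ofNat 830, Int.negSucc 587, Int.ofNat 120, Int.ofNat 1, Int.ofNat 283, Int.ofNat 21, Int.negSucc 47, Int.ofNat 1, Int.ofNat 0, Int.ofNat 0, Int.ofNat 0, Int.ofNat 9, Int.ofNat 2, Int.negSucc 285, Int.ofNat 2, Int.ofNat 55, Int.ofNat 0, Int.ofNat 257]))) (ZT.node 12556 (ZT.leaf []) (ZT.node 12557 (ZT.leaf [Int.negSucc 0]) (ZT.leaf [])))))))) (ZT.node 12603 (ZT.node 12580 (ZT.node 12569 (ZT.node 12563 (ZT.node 12560 (ZT.node 12559 (ZT.leaf []) (ZT.leaf [])) (ZT.node 12561 (ZT.leaf [])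 (ZT.node 12562 (ZT.leaf []) (ZT.leaf [])))) (ZT.node 12566 (ZT.node 12564 (ZT.leaf []) (ZT.node 12565 (ZT.leaf []) (ZT.leaf []))) (ZT.node 12567 (ZT.leaf []) (ZT.node 12568 (ZT.leaf [Int.negSucc 16, Int.ofNat 11, Int.ofNat 8, Int.ofNat 0, Int.ofNat 0, Int.negSucc 0, Int.ofNat 0, Int.ofNat 0, Int.negSucc 0, Int.ofNat 1, Int.ofNat 0, Int.ofNat 0, Int.ofNat 0, Int.ofNat 0, Int.negSucc 6, Int.ofNat 0, Int.ofNat 2, Int.ofNat 0, Int.ofNat 1]) (ZT.leaf [Int.ofNat 12212, Int.ofNat 6060, Int.negSucc 2940, Int.ofNat 1021, Int.ofNat 23, Int.ofNat 1757, Int.ofNat 189, Int.negSucc 441, Int.negSucc 35, Int.ofNat 0, Int.ofNat 0, Int.ofNat 0, Int.ofNat 21, Int.ofNat 25, Int.negSucc 2027, Int.negSucc 20, Int.ofNat 270, Int.ofNat 0, Int.ofNat 1538]))))) (ZT.node 12574 (ZT.node 12571 (ZT.node 12570 (ZT.leaf []) (ZT.leaf [])) (ZT.node 12572 (ZT.leaf [Int.negSucc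 1665, Int.negSucc 2939, Int.ofNat 368, Int.negSucc 479, Int.negSucc 18, Int.negSucc 519, Int.negSucc 153, Int.ofNat 288, Int.ofNat 90, Int.ofNat 1, Int.ofNat 0, Int.ofNat 0, Int.ofNat 0, Int.negSucc 1, Int.ofNat 1143, Int.ofNat 21, Int.negSucc 105, Int.ofNat 0, Int.negSucc 522]) (ZT.node 12573 (ZT.leaf []) (ZT.leaf [])))) (ZT.node 12577 (ZT.node 12575 (ZT.leaf [Int.negSucc 0]) (ZT.node 12576 (ZT.leaf []) (ZT.leaf []))) (ZT.node 12578 (ZT.leaf []) (ZT.node 12579 (ZT.leaf []) (ZT.leaf [Int.negSucc 0])))))) (ZT.node 12591 (ZT.node 12585 (ZT.node 12582 (ZT.node 12581 (ZT.leaf []) (ZT.leaf [Int.ofNat 1])) (ZT.node 12583 (ZT.leaf []) (ZT.node 12584 (ZT.leaf []) (ZT.leaf [])))) (ZT.node 12588 (ZT.node 12586 (ZT.leaf []) (ZT.node 12587 (ZT.leaf []) (ZT.leaf []))) (ZT.node 12589 (ZT.leaf []) (ZT.node 12590 (ZT.leaf []) (ZT.leaf []))))) (ZT.node 12597 (ZT.node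 12594 (ZT.node 12592 (ZT.leaf []) (ZT.node 12593 (ZT.leaf []) (ZT.leaf []))) (ZT.node 12595 (ZT.leaf []) (ZT.node 12596 (ZT.leaf []) (ZT.leaf [])))) (ZT.node 12600 (ZT.node 12598 (ZT.leaf [Int.negSucc 0]) (ZT.node 12599 (ZT.leaf []) (ZT.leaf []))) (ZT.node 12601 (ZT.leaf []) (ZT.node 12602 (ZT.leaf []) (ZT.leaf [Int.ofNat 8111, Int.ofNat 3615, Int.negSucc 1850, Int.ofNat 555, Int.ofNat 13, Int.ofNat 1065, Int.ofNat 153, Int.negSucc 293, Int.negSucc 31, Int.ofNat 1, Int.ofNat 0, Int.ofNat 0, Int.ofNat 17, Int.ofNat 11, Int.negSucc 1364, Int.negSucc 10, Int.ofNat 186, Int.ofNat 0, Int.ofNat 967]))))))) (ZT.node 12625 (ZT.node 12614 (ZT.node 12608 (ZT.node 12605 (ZT.node 12604 (ZT.leaf []) (ZT.leaf [])) (ZT.node 12606 (ZT.leaf []) (ZT.node 12607 (ZT.leaf []) (ZT.leaf [])))) (ZT.node 12611 (ZT.node 12609 (ZT.leaf []) (ZT.node 12610 (ZT.leaf []) (ZT.leaf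 []))) (ZT.node 12612 (ZT.leaf []) (ZT.node 12613 (ZT.leaf []) (ZT.leaf [Int.ofNat 1768, Int.ofNat 1996, Int.negSucc 470, Int.ofNat 359, Int.ofNat 10, Int.ofNat 444, Int.ofNat 61, Int.negSucc 162, Int.negSucc 30, Int.ofNat 0, Int.ofNat 0, Int.ofNat 0, Int.negSucc 3, Int.ofNat 12, Int.negSucc 659, Int.negSucc 15, Int.ofNat 81, Int.ofNat 0, Int.ofNat 395]))))) (ZT.node 12619 (ZT.node 12616 (ZT.node 12615 (ZT.leaf [Int.negSucc 1767, Int.negSucc 1995, Int.ofNat 471, Int.negSucc 358, Int.negSucc 9, Int.negSucc 443, Int.negSucc 60, Int.ofNat 163, Int.ofNat 31, Int.ofNat 0, Int.ofNat 0, Int.ofNat 0, Int.ofNat 4, Int.negSucc 11, Int.ofNat 660, Int.ofNat 16, Int.negSucc 80, Int.ofNat 0, Int.negSucc 394]) (ZT.leaf [])) (ZT.node 12617 (ZT.leaf []) (ZT.node 12618 (ZT.leaf []) (ZT.leaf [])))) (ZT.node 12622 (ZT.node 12620 (ZT.leaf [Int.negSucc 1915, Int.negSucc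 757, Int.ofNat 450, Int.negSucc 123, Int.negSucc 3, Int.negSucc 240, Int.negSucc 24, Int.ofNat 59, Int.ofNat 3, Int.ofNat 0, Int.ofNat 0, Int.ofNat 0, Int.negSucc 2, Int.negSucc 1, Int.ofNat 270, Int.ofNat 1, Int.negSucc 39, Int.ofNat 0, Int.negSucc 212]) (ZT.node 12621 (ZT.leaf []) (ZT.leaf []))) (ZT.node 12623 (ZT.leaf []) (ZT.node 12624 (ZT.leaf []) (ZT.leaf [Int.negSucc 2522, Int.negSucc 882, Int.ofNat 616, Int.negSucc 153, Int.negSucc 5, Int.negSucc 321, Int.negSucc 23, Int.ofNat 56, Int.negSucc 3, Int.ofNat 0, Int.ofNat 0, Int.ofNat 0, Int.negSucc 3, Int.negSucc 2, Int.ofNat 301, Int.ofNat 2, Int.negSucc 41, Int.ofNat 0, Int.negSucc 267])))))) (ZT.node 12636 (ZT.node 12630 (ZT.node 12627 (ZT.node 12626 (ZT.leaf []) (ZT.leaf [])) (ZT.node 12628 (ZT.leaf []) (ZT.node 12629 (ZT.leaf []) (ZT.leaf [])))) (ZT.node 12633 (ZT.node 12631 (ZT.leaf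 []) (ZT.node 12632 (ZT.leaf [Int.ofNat 608, Int.ofNat 225, Int.negSucc 142, Int.ofNat 35, Int.ofNat 0, Int.ofNat 75, Int.ofNat 8, Int.negSucc 9, Int.negSucc 0, Int.ofNat 0, Int.ofNat 0, Int.ofNat 0, Int.ofNat 4, Int.ofNat 1, Int.negSucc 88, Int.ofNat 2, Int.ofNat 12, Int.ofNat 0, Int.ofNat 67]) (ZT.leaf []))) (ZT.node 12634 (ZT.leaf []) (ZT.node 12635 (ZT.leaf []) (ZT.leaf []))))) (ZT.node 12642 (ZT.node 12639 (ZT.node 12637 (ZT.leaf []) (ZT.node 12638 (ZT.leaf []) (ZT.leaf []))) (ZT.node 12640 (ZT.leaf []) (ZT.node 12641 (ZT.leaf []) (ZT.leaf [])))) (ZT.node 12645 (ZT.node 12643 (ZT.leaf []) (ZT.node 12644 (ZT.leaf []) (ZT.leaf []))) (ZT.node 12646 (ZT.leaf []) (ZT.node 12647 (ZT.leaf []) (ZT.leaf []))))))))))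

noncomputable def labT_25 : ZT := (ZT.node 12828 (ZT.node 12738 (ZT.node 12693 (ZT.node 12670 (ZT.node 12659 (ZT.node 12653 (ZT.node 12650 (ZT.node 12649 (ZT.leaf []) (ZT.leaf [])) (ZT.node 12651 (ZT.leaf [Int.ofNat 1640, Int.ofNat 191, Int.negSucc 329, Int.ofNat 4, Int.negSucc 2, Int.ofNat 100, Int.ofNat 33, Int.negSucc 32, Int.negSucc 5, Int.ofNat 0, Int.ofNat 0, Int.ofNat 0, Int.ofNat 7, Int.negSucc 5, Int.negSucc 87, Int.ofNat 7, Int.ofNat 14, Int.ofNat 0, Int.ofNat 108]) (ZT.node 12652 (ZT.leaf []) (ZT.leaf [])))) (ZT.node 12656 (ZT.node 12654 (ZT.leaf []) (ZT.node 12655 (ZT.leaf []) (ZT.leaf []))) (ZT.node 12657 (ZT.leaf []) (ZT.node 12658 (ZT.leaf []) (ZT.leaf []))))) (ZT.node 12664 (ZT.node 12661 (ZT.node 12660 (ZT.leaf [Int.negSucc 0]) (ZT.leaf [Int.ofNat 459, Int.ofNat 300, Int.negSucc 95, Int.ofNat 46, Int.ofNat 0, Int.ofNat 67, Int.ofNat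 17, Int.negSucc 18, Int.negSucc 4, Int.ofNat 0, Int.ofNat 0, Int.ofNat 0, Int.ofNat 3, Int.ofNat 2, Int.negSucc 98, Int.negSucc 1, Int.ofNat 2, Int.ofNat 0, Int.ofNat 64])) (ZT.node 12662 (ZT.leaf []) (ZT.node 12663 (ZT.leaf []) (ZT.leaf [])))) (ZT.node 12667 (ZT.node 12665 (ZT.leaf []) (ZT.node 12666 (ZT.leaf []) (ZT.leaf []))) (ZT.node 12668 (ZT.leaf []) (ZT.node 12669 (ZT.leaf []) (ZT.leaf [])))))) (ZT.node 12681 (ZT.node 12675 (ZT.node 12672 (ZT.node 12671 (ZT.leaf []) (ZT.leaf [])) (ZT.node 12673 (ZT.leaf []) (ZT.node 12674 (ZT.leaf []) (ZT.leaf [])))) (ZT.node 12678 (ZT.node 12676 (ZT.leaf []) (ZT.node 12677 (ZT.leaf []) (ZT.leaf []))) (ZT.node 12679 (ZT.leaf []) (ZT.node 12680 (ZT.leaf []) (ZT.leaf []))))) (ZT.node 12687 (ZT.node 12684 (ZT.node 12682 (ZT.leaf []) (ZT.node 12683 (ZT.leaf [Int.negSucc 2292, Int.negSucc 754, Int.ofNat 523,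 Int.negSucc 104, Int.ofNat 0, Int.negSucc 260, Int.negSucc 19, Int.ofNat 44, Int.negSucc 0, Int.ofNat 0, Int.ofNat 0, Int.ofNat 0, Int.negSucc 7, Int.negSucc 1, Int.ofNat 256, Int.negSucc 1, Int.negSucc 48, Int.ofNat 0, Int.negSucc 232]) (ZT.leaf []))) (ZT.node 12685 (ZT.leaf [Int.ofNat 1343, Int.ofNat 662, Int.negSucc 329, Int.ofNat 116, Int.ofNat 3, Int.ofNat 206, Int.ofNat 21, Int.negSucc 47, Int.negSucc 0, Int.ofNat 0, Int.ofNat 0, Int.ofNat 0, Int.ofNat 1, Int.ofNat 3, Int.negSucc 230, Int.negSucc 3, Int.ofNat 27, Int.ofNat 0, Int.ofNat 173]) (ZT.node 12686 (ZT.leaf []) (ZT.leaf [])))) (ZT.node 12690 (ZT.node 12688 (ZT.leaf []) (ZT.node 12689 (ZT.leaf [Int.negSucc 160, Int.negSucc 20, Int.ofNat 45, Int.negSucc 6, Int.ofNat 0, Int.negSucc 22, Int.ofNat 0, Int.negSucc 0, Int.negSucc 2, Int.ofNat 0, Int.ofNat 0, Int.ofNat 0, Int.ofNat 0, Int.ofNat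 0, Int.ofNat 1, Int.ofNat 0, Int.ofNat 0, Int.ofNat 0, Int.negSucc 14]) (ZT.leaf []))) (ZT.node 12691 (ZT.leaf []) (ZT.node 12692 (ZT.leaf []) (ZT.leaf []))))))) (ZT.node 12715 (ZT.node 12704 (ZT.node 12698 (ZT.node 12695 (ZT.node 12694 (ZT.leaf []) (ZT.leaf [])) (ZT.node 12696 (ZT.leaf []) (ZT.node 12697 (ZT.leaf [Int.ofNat 984, Int.ofNat 558, Int.negSucc 212, Int.ofNat 83, Int.ofNat 3, Int.ofNat 131, Int.ofNat 39, Int.negSucc 67, Int.negSucc 17, Int.ofNat 0, Int.ofNat 0, Int.ofNat 0, Int.ofNat 0, Int.ofNat 0, Int.negSucc 222, Int.ofNat 0, Int.ofNat 32, Int.ofNat 0, Int.ofNat 133]) (ZT.leaf [])))) (ZT.node 12701 (ZT.node 12699 (ZT.leaf [Int.negSucc 2890, Int.negSucc 1032, Int.ofNat 683, Int.negSucc 169, Int.negSucc 3, Int.negSucc 345, Int.negSucc 37, Int.ofNat 76, Int.ofNat 2, Int.ofNat 0, Int.ofNat 0, Int.ofNat 0, Int.negSucc 5, Int.negSucc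 1, Int.ofNat 411, Int.negSucc 1, Int.negSucc 63, Int.ofNat 0, Int.negSucc 308]) (ZT.node 12700 (ZT.leaf []) (ZT.leaf []))) (ZT.node 12702 (ZT.leaf []) (ZT.node 12703 (ZT.leaf []) (ZT.leaf []))))) (ZT.node 12709 (ZT.node 12706 (ZT.node 12705 (ZT.leaf [Int.ofNat 1]) (ZT.leaf [])) (ZT.node 12707 (ZT.leaf []) (ZT.node 12708 (ZT.leaf [Int.ofNat 11716, Int.ofNat 3392, Int.negSucc 2687, Int.ofNat 515, Int.ofNat 2, Int.ofNat 1258, Int.ofNat 123, Int.negSucc 228, Int.ofNat 12, Int.negSucc 1, Int.ofNat 1, Int.ofNat 0, Int.ofNat 42, Int.ofNat 7, Int.negSucc 1257, Int.ofNat 2, Int.ofNat 209, Int.ofNat 0, Int.ofNat 1120]) (ZT.leaf [])))) (ZT.node 12712 (ZT.node 12710 (ZT.leaf []) (ZT.node 12711 (ZT.leaf []) (ZT.leaf []))) (ZT.node 12713 (ZT.leaf []) (ZT.node 12714 (ZT.leaf []) (ZT.leaf [])))))) (ZT.node 12726 (ZT.node 12720 (ZT.node 12717 (ZT.node 12716 (ZT.leaf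 []) (ZT.leaf [])) (ZT.node 12718 (ZT.leaf []) (ZT.node 12719 (ZT.leaf []) (ZT.leaf [])))) (ZT.node 12723 (ZT.node 12721 (ZT.leaf []) (ZT.node 12722 (ZT.leaf [Int.negSucc 2560, Int.negSucc 1146, Int.ofNat 615, Int.negSucc 194, Int.negSucc 2, Int.negSucc 335, Int.negSucc 28, Int.ofNat 69, Int.negSucc 0, Int.ofNat 0, Int.ofNat 0, Int.ofNat 0, Int.negSucc 6, Int.negSucc 6, Int.ofNat 350, Int.ofNat 8, Int.negSucc 48, Int.ofNat 0, Int.negSucc 296]) (ZT.leaf []))) (ZT.node 12724 (ZT.leaf []) (ZT.node 12725 (ZT.leaf []) (ZT.leaf []))))) (ZT.node 12732 (ZT.node 12729 (ZT.node 12727 (ZT.leaf []) (ZT.node 12728 (ZT.leaf [Int.ofNat 609, Int.ofNat 225, Int.negSucc 142, Int.ofNat 35, Int.ofNat 0, Int.ofNat 75, Int.ofNat 8, Int.negSucc 9, Int.negSucc 0, Int.ofNat 0, Int.ofNat 0, Int.ofNat 0, Int.ofNat 4, Int.ofNat 1, Int.negSucc 88, Int.ofNat 2, Int.ofNat 12,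 Int.ofNat 0, Int.ofNat 67]) (ZT.leaf []))) (ZT.node 12730 (ZT.leaf []) (ZT.node 12731 (ZT.leaf []) (ZT.leaf [])))) (ZT.node 12735 (ZT.node 12733 (ZT.leaf []) (ZT.node 12734 (ZT.leaf []) (ZT.leaf []))) (ZT.node 12736 (ZT.leaf []) (ZT.node 12737 (ZT.leaf []) (ZT.leaf [])))))))) (ZT.node 12783 (ZT.node 12760 (ZT.node 12749 (ZT.node 12743 (ZT.node 12740 (ZT.node 12739 (ZT.leaf [Int.negSucc 2854, Int.negSucc 839, Int.ofNat 689, Int.negSucc 140, Int.negSucc 1, Int.negSucc 356, Int.negSucc 34, Int.ofNat 71, Int.negSucc 8, Int.ofNat 0, Int.ofNat 0, Int.ofNat 0, Int.ofNat 0, Int.negSucc 1, Int.ofNat 306, Int.negSucc 0, Int.negSucc 58, Int.ofNat 0, Int.negSucc 294]) (ZT.leaf [Int.negSucc 0])) (ZT.node 12741 (ZT.leaf []) (ZT.node 12742 (ZT.leaf []) (ZT.leaf [Int.negSucc 1047, Int.negSucc 434, Int.ofNat 231, Int.negSucc 62, Int.negSucc 1, Int.negSucc 118,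 Int.negSucc 16, Int.ofNat 31, Int.ofNat 6, Int.ofNat 0, Int.ofNat 0, Int.ofNat 0, Int.negSucc 3, Int.negSucc 0, Int.ofNat 155, Int.ofNat 0, Int.negSucc 19, Int.ofNat 0, Int.negSucc 113])))) (ZT.node 12746 (ZT.node 12744 (ZT.leaf []) (ZT.node 12745 (ZT.leaf []) (ZT.leaf []))) (ZT.node 12747 (ZT.leaf [Int.ofNat 33, Int.negSucc 196, Int.negSucc 28, Int.negSucc 22, Int.negSucc 1, Int.negSucc 12, Int.negSucc 19, Int.ofNat 31, Int.ofNat 16, Int.ofNat 0, Int.ofNat 0, Int.ofNat 0, Int.negSucc 1, Int.ofNat 2, Int.ofNat 130, Int.negSucc 0, Int.negSucc 14, Int.ofNat 0, Int.negSucc 28]) (ZT.node 12748 (ZT.leaf []) (ZT.leaf []))))) (ZT.node 12754 (ZT.node 12751 (ZT.node 12750 (ZT.leaf []) (ZT.leaf [])) (ZT.node 12752 (ZT.leaf []) (ZT.node 12753 (ZT.leaf []) (ZT.leaf [])))) (ZT.node 12757 (ZT.node 12755 (ZT.leaf []) (ZT.node 12756 (ZT.leaf []) (ZT.leaf [])))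 (ZT.node 12758 (ZT.leaf []) (ZT.node 12759 (ZT.leaf []) (ZT.leaf [])))))) (ZT.node 12771 (ZT.node 12765 (ZT.node 12762 (ZT.node 12761 (ZT.leaf []) (ZT.leaf [])) (ZT.node 12763 (ZT.leaf [Int.negSucc 24, Int.ofNat 5, Int.ofNat 12, Int.negSucc 3, Int.ofNat 0, Int.negSucc 9, Int.negSucc 0, Int.ofNat 0, Int.negSucc 1, Int.ofNat 0, Int.ofNat 0, Int.ofNat 0, Int.ofNat 1, Int.ofNat 0, Int.negSucc 6, Int.ofNat 0, Int.ofNat 4, Int.ofNat 0, Int.negSucc 2]) (ZT.node 12764 (ZT.leaf []) (ZT.leaf [])))) (ZT.node 12768 (ZT.node 12766 (ZT.leaf []) (ZT.node 12767 (ZT.leaf []) (ZT.leaf []))) (ZT.node 12769 (ZT.leaf [Int.ofNat 0, Int.ofNat 0, Int.ofNat 0, Int.ofNat 0, Int.ofNat 1]) (ZT.node 12770 (ZT.leaf []) (ZT.leaf []))))) (ZT.node 12777 (ZT.node 12774 (ZT.node 12772 (ZT.leaf []) (ZT.node 12773 (ZT.leaf []) (ZT.leaf []))) (ZT.node 12775 (ZT.leaf []) (ZT.node 12776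 (ZT.leaf []) (ZT.leaf [])))) (ZT.node 12780 (ZT.node 12778 (ZT.leaf []) (ZT.node 12779 (ZT.leaf []) (ZT.leaf []))) (ZT.node 12781 (ZT.leaf []) (ZT.node 12782 (ZT.leaf []) (ZT.leaf []))))))) (ZT.node 12805 (ZT.node 12794 (ZT.node 12788 (ZT.node 12785 (ZT.node 12784 (ZT.leaf []) (ZT.leaf [])) (ZT.node 12786 (ZT.leaf []) (ZT.node 12787 (ZT.leaf []) (ZT.leaf [])))) (ZT.node 12791 (ZT.node 12789 (ZT.leaf [Int.negSucc 0]) (ZT.node 12790 (ZT.leaf []) (ZT.leaf []))) (ZT.node 12792 (ZT.leaf []) (ZT.node 12793 (ZT.leaf []) (ZT.leaf []))))) (ZT.node 12799 (ZT.node 12796 (ZT.node 12795 (ZT.leaf []) (ZT.leaf [])) (ZT.node 12797 (ZT.leaf []) (ZT.node 12798 (ZT.leaf []) (ZT.leaf [])))) (ZT.node 12802 (ZT.node 12800 (ZT.leaf []) (ZT.node 12801 (ZT.leaf []) (ZT.leaf []))) (ZT.node 12803 (ZT.leaf []) (ZT.node 12804 (ZT.leaf []) (ZT.leaf [])))))) (ZT.node 12816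 (ZT.node 12810 (ZT.node 12807 (ZT.node 12806 (ZT.leaf [Int.ofNat 3312, Int.ofNat 1520, Int.negSucc 806, Int.ofNat 257, Int.ofNat 2, Int.ofNat 464, Int.ofNat 52, Int.negSucc 108, Int.negSucc 2, Int.ofNat 0, Int.ofNat 0, Int.ofNat 0, Int.ofNat 5, Int.ofNat 9, Int.negSucc 555, Int.negSucc 4, Int.ofNat 77, Int.ofNat 0, Int.ofNat 404]) (ZT.leaf [])) (ZT.node 12808 (ZT.leaf []) (ZT.node 12809 (ZT.leaf []) (ZT.leaf [])))) (ZT.node 12813 (ZT.node 12811 (ZT.leaf []) (ZT.node 12812 (ZT.leaf [Int.negSucc 675, Int.negSucc 194, Int.ofNat 125, Int.negSucc 12, Int.ofNat 1, Int.negSucc 53, Int.negSucc 13, Int.ofNat 3, Int.ofNat 1, Int.ofNat 0, Int.ofNat 0, Int.ofNat 0, Int.negSucc 5, Int.negSucc 1, Int.ofNat 73, Int.negSucc 1, Int.negSucc 2, Int.ofNat 0, Int.negSucc 55]) (ZT.leaf []))) (ZT.node 12814 (ZT.leaf [Int.negSucc 2493, Int.negSucc 859, Int.ofNat 606,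 Int.negSucc 141, Int.negSucc 1, Int.negSucc 303, Int.negSucc 14, Int.ofNat 55, Int.negSucc 0, Int.ofNat 0, Int.ofNat 0, Int.ofNat 0, Int.negSucc 6, Int.negSucc 0, Int.ofNat 302, Int.negSucc 1, Int.negSucc 63, Int.ofNat 0, Int.negSucc 267]) (ZT.node 12815 (ZT.leaf [Int.ofNat 1501, Int.ofNat 2197, Int.negSucc 572, Int.ofNat 487, Int.ofNat 29, Int.ofNat 534, Int.ofNat 32, Int.negSucc 175, Int.negSucc 17, Int.ofNat 1, Int.negSucc 0, Int.ofNat 1, Int.negSucc 28, Int.ofNat 12, Int.negSucc 607, Int.negSucc 25, Int.ofNat 87, Int.ofNat 1, Int.ofNat 432]) (ZT.leaf []))))) (ZT.node 12822 (ZT.node 12819 (ZT.node 12817 (ZT.leaf []) (ZT.node 12818 (ZT.leaf []) (ZT.leaf [Int.negSucc 202, Int.negSucc 1175, Int.ofNat 103, Int.negSucc 213, Int.negSucc 2, Int.negSucc 213, Int.negSucc 24, Int.ofNat 95, Int.ofNat 21, Int.ofNat 0, Int.ofNat 0, Int.ofNat 0, Int.ofNat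 5, Int.negSucc 8, Int.ofNat 345, Int.ofNat 14, Int.negSucc 39, Int.ofNat 0, Int.negSucc 188]))) (ZT.node 12820 (ZT.leaf []) (ZT.node 12821 (ZT.leaf [Int.negSucc 120, Int.negSucc 58, Int.ofNat 33, Int.negSucc 12, Int.negSucc 0, Int.negSucc 22, Int.negSucc 1, Int.ofNat 8, Int.ofNat 0, Int.ofNat 0, Int.ofNat 0, Int.ofNat 0, Int.ofNat 2, Int.ofNat 0, Int.ofNat 21, Int.ofNat 0, Int.ofNat 0, Int.ofNat 0, Int.negSucc 14]) (ZT.leaf [])))) (ZT.node 12825 (ZT.node 12823 (ZT.leaf []) (ZT.node 12824 (ZT.leaf [Int.negSucc 0]) (ZT.leaf [Int.ofNat 343, Int.ofNat 1233, Int.negSucc 123, Int.ofNat 219, Int.ofNat 3, Int.ofNat 222, Int.ofNat 28, Int.negSucc 93, Int.negSucc 22, Int.ofNat 0, Int.ofNat 0, Int.ofNat 0, Int.negSucc 1, Int.ofNat 9, Int.negSucc 367, Int.negSucc 12, Int.ofNat 41, Int.ofNat 0, Int.ofNat 199]))) (ZT.node 12826 (ZT.leaf [Int.negSucc 139, Int.negSucc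 56, Int.ofNat 21, Int.negSucc 4, Int.ofNat 0, Int.negSucc 7, Int.negSucc 2, Int.negSucc 0, Int.ofNat 2, Int.ofNat 0, Int.ofNat 0, Int.ofNat 0, Int.negSucc 2, Int.ofNat 0, Int.ofNat 23, Int.negSucc 0, Int.negSucc 0, Int.ofNat 0, Int.negSucc 9]) (ZT.node 12827 (ZT.leaf []) (ZT.leaf []))))))))) (ZT.node 12918 (ZT.node 12873 (ZT.node 12850 (ZT.node 12839 (ZT.node 12833 (ZT.node 12830 (ZT.node 12829 (ZT.leaf []) (ZT.leaf [])) (ZT.node 12831 (ZT.leaf []) (ZT.node 12832 (ZT.leaf []) (ZT.leaf [])))) (ZT.node 12836 (ZT.node 12834 (ZT.leaf []) (ZT.node 12835 (ZT.leaf []) (ZT.leaf []))) (ZT.node 12837 (ZT.leaf []) (ZT.node 12838 (ZT.leaf []) (ZT.leaf []))))) (ZT.node 12844 (ZT.node 12841 (ZT.node 12840 (ZT.leaf []) (ZT.leaf [])) (ZT.node 12842 (ZT.leaf []) (ZT.node 12843 (ZT.leaf []) (ZT.leaf [])))) (ZT.node 12847 (ZT.node 12845 (ZT.leaf []) (ZT.node 12846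 (ZT.leaf []) (ZT.leaf []))) (ZT.node 12848 (ZT.leaf []) (ZT.node 12849 (ZT.leaf []) (ZT.leaf [])))))) (ZT.node 12861 (ZT.node 12855 (ZT.node 12852 (ZT.node 12851 (ZT.leaf [Int.negSucc 0]) (ZT.leaf [])) (ZT.node 12853 (ZT.leaf []) (ZT.node 12854 (ZT.leaf []) (ZT.leaf [])))) (ZT.node 12858 (ZT.node 12856 (ZT.leaf []) (ZT.node 12857 (ZT.leaf []) (ZT.leaf []))) (ZT.node 12859 (ZT.leaf []) (ZT.node 12860 (ZT.leaf []) (ZT.leaf [Int.negSucc 3, Int.negSucc 1, Int.ofNat 0, Int.ofNat 0, Int.ofNat 0, Int.ofNat 1]))))) (ZT.node 12867 (ZT.node 12864 (ZT.node 12862 (ZT.leaf []) (ZT.node 12863 (ZT.leaf [Int.ofNat 384, Int.ofNat 146, Int.negSucc 87, Int.ofNat 23, Int.ofNat 1, Int.ofNat 44, Int.ofNat 4, Int.negSucc 6, Int.ofNat 0, Int.ofNat 0, Int.ofNat 0, Int.ofNat 0, Int.ofNat 2, Int.ofNat 1, Int.negSucc 46, Int.ofNat 0, Int.ofNat 6, Int.ofNat 0, Int.ofNat 39])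 (ZT.leaf []))) (ZT.node 12865 (ZT.leaf [Int.ofNat 0, Int.ofNat 0, Int.ofNat 0, Int.ofNat 0, Int.ofNat 0, Int.ofNat 1]) (ZT.node 12866 (ZT.leaf []) (ZT.leaf [])))) (ZT.node 12870 (ZT.node 12868 (ZT.leaf []) (ZT.node 12869 (ZT.leaf [Int.negSucc 0]) (ZT.leaf []))) (ZT.node 12871 (ZT.leaf []) (ZT.node 12872 (ZT.leaf []) (ZT.leaf []))))))) (ZT.node 12895 (ZT.node 12884 (ZT.node 12878 (ZT.node 12875 (ZT.node 12874 (ZT.leaf []) (ZT.leaf [])) (ZT.node 12876 (ZT.leaf []) (ZT.node 12877 (ZT.leaf []) (ZT.leaf [])))) (ZT.node 12881 (ZT.node 12879 (ZT.leaf []) (ZT.node 12880 (ZT.leaf [Int.negSucc 608, Int.negSucc 224, Int.ofNat 143, Int.negSucc 34, Int.ofNat 0, Int.negSucc 74, Int.negSucc 7, Int.ofNat 10, Int.ofNat 1, Int.ofNat 0, Int.ofNat 0, Int.ofNat 0, Int.negSucc 3, Int.negSucc 0, Int.ofNat 89, Int.negSucc 1, Int.negSucc 11, Int.ofNat 0, Int.negSucc 66])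 (ZT.leaf []))) (ZT.node 12882 (ZT.leaf []) (ZT.node 12883 (ZT.leaf []) (ZT.leaf []))))) (ZT.node 12889 (ZT.node 12886 (ZT.node 12885 (ZT.leaf []) (ZT.leaf [])) (ZT.node 12887 (ZT.leaf []) (ZT.node 12888 (ZT.leaf []) (ZT.leaf [])))) (ZT.node 12892 (ZT.node 12890 (ZT.leaf []) (ZT.node 12891 (ZT.leaf []) (ZT.leaf []))) (ZT.node 12893 (ZT.leaf []) (ZT.node 12894 (ZT.leaf [Int.ofNat 3430, Int.ofNat 1354, Int.negSucc 820, Int.ofNat 238, Int.ofNat 4, Int.ofNat 450, Int.ofNat 44, Int.negSucc 88, Int.ofNat 0, Int.ofNat 0, Int.ofNat 0, Int.ofNat 0, Int.ofNat 10, Int.ofNat 3, Int.negSucc 415, Int.negSucc 2, Int.ofNat 50, Int.ofNat 0, Int.ofNat 378]) (ZT.leaf [])))))) (ZT.node 12906 (ZT.node 12900 (ZT.node 12897 (ZT.node 12896 (ZT.leaf []) (ZT.leaf [])) (ZT.node 12898 (ZT.leaf []) (ZT.node 12899 (ZT.leaf []) (ZT.leaf [])))) (ZT.node 12903 (ZT.node 12901 (ZT.leaf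 []) (ZT.node 12902 (ZT.leaf []) (ZT.leaf []))) (ZT.node 12904 (ZT.leaf []) (ZT.node 12905 (ZT.leaf []) (ZT.leaf []))))) (ZT.node 12912 (ZT.node 12909 (ZT.node 12907 (ZT.leaf []) (ZT.node 12908 (ZT.leaf [Int.ofNat 676, Int.ofNat 195, Int.negSucc 124, Int.ofNat 13, Int.negSucc 0, Int.ofNat 54, Int.ofNat 14, Int.negSucc 2, Int.negSucc 0, Int.ofNat 0, Int.ofNat 0, Int.ofNat 0, Int.ofNat 6, Int.ofNat 2, Int.negSucc 72, Int.ofNat 2, Int.ofNat 3, Int.ofNat 0, Int.ofNat 56]) (ZT.leaf [Int.negSucc 22, Int.negSucc 5, Int.ofNat 3, Int.ofNat 1, Int.ofNat 0, Int.ofNat 0, Int.ofNat 0, Int.negSucc 0, Int.ofNat 0, Int.ofNat 0, Int.ofNat 0, Int.ofNat 0, Int.ofNat 0, Int.ofNat 0, Int.ofNat 1, Int.ofNat 0, Int.ofNat 0, Int.ofNat 0, Int.negSucc 0]))) (ZT.node 12910 (ZT.leaf []) (ZT.node 12911 (ZT.leaf []) (ZT.leaf [])))) (ZT.node 12915 (ZT.node 12913 (ZT.leaf [])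 (ZT.node 12914 (ZT.leaf []) (ZT.leaf []))) (ZT.node 12916 (ZT.leaf []) (ZT.node 12917 (ZT.leaf []) (ZT.leaf [])))))))) (ZT.node 12963 (ZT.node 12940 (ZT.node 12929 (ZT.node 12923 (ZT.node 12920 (ZT.node 12919 (ZT.leaf []) (ZT.leaf [])) (ZT.node 12921 (ZT.leaf []) (ZT.node 12922 (ZT.leaf []) (ZT.leaf [])))) (ZT.node 12926 (ZT.node 12924 (ZT.leaf [Int.ofNat 1]) (ZT.node 12925 (ZT.leaf []) (ZT.leaf []))) (ZT.node 12927 (ZT.leaf []) (ZT.node 12928 (ZT.leaf []) (ZT.leaf []))))) (ZT.node 12934 (ZT.node 12931 (ZT.node 12930 (ZT.leaf [Int.negSucc 1784, Int.negSucc 1210, Int.ofNat 467, Int.negSucc 222, Int.negSucc 3, Int.negSucc 334, Int.negSucc 37, Int.ofNat 100, Int.ofNat 11, Int.ofNat 0, Int.ofNat 0, Int.ofNat 0, Int.ofNat 1, Int.negSucc 5, Int.ofNat 400, Int.ofNat 7, Int.negSucc 50, Int.ofNat 0, Int.negSucc 286]) (ZT.leaf [])) (ZT.node 12932 (ZT.leaf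 []) (ZT.node 12933 (ZT.leaf []) (ZT.leaf [])))) (ZT.node 12937 (ZT.node 12935 (ZT.leaf []) (ZT.node 12936 (ZT.leaf [Int.negSucc 0]) (ZT.leaf []))) (ZT.node 12938 (ZT.leaf []) (ZT.node 12939 (ZT.leaf []) (ZT.leaf [Int.negSucc 2667, Int.negSucc 2037, Int.ofNat 677, Int.negSucc 365, Int.negSucc 10, Int.negSucc 508, Int.negSucc 54, Int.ofNat 154, Int.ofNat 21, Int.ofNat 0, Int.ofNat 0, Int.ofNat 0, Int.ofNat 1, Int.negSucc 10, Int.ofNat 661, Int.ofNat 14, Int.negSucc 89, Int.ofNat 0, Int.negSucc 443])))))) (ZT.node 12951 (ZT.node 12945 (ZT.node 12942 (ZT.node 12941 (ZT.leaf []) (ZT.leaf [])) (ZT.node 12943 (ZT.leaf []) (ZT.node 12944 (ZT.leaf []) (ZT.leaf [])))) (ZT.node 12948 (ZT.node 12946 (ZT.leaf []) (ZT.node 12947 (ZT.leaf []) (ZT.leaf []))) (ZT.node 12949 (ZT.leaf []) (ZT.node 12950 (ZT.leaf []) (ZT.leaf []))))) (ZT.node 12957 (ZT.node 12954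 (ZT.node 12952 (ZT.leaf []) (ZT.node 12953 (ZT.leaf []) (ZT.leaf []))) (ZT.node 12955 (ZT.leaf []) (ZT.node 12956 (ZT.leaf [Int.negSucc 607, Int.negSucc 224, Int.ofNat 143, Int.negSucc 34, Int.ofNat 0, Int.negSucc 74, Int.negSucc 7, Int.ofNat 10, Int.ofNat 1, Int.ofNat 0, Int.ofNat 0, Int.ofNat 0, Int.negSucc 3, Int.negSucc 0, Int.ofNat 89, Int.negSucc 1, Int.negSucc 11, Int.ofNat 0, Int.negSucc 66]) (ZT.leaf [])))) (ZT.node 12960 (ZT.node 12958 (ZT.leaf []) (ZT.node 12959 (ZT.leaf []) (ZT.leaf []))) (ZT.node 12961 (ZT.leaf []) (ZT.node 12962 (ZT.leaf []) (ZT.leaf []))))))) (ZT.node 12985 (ZT.node 12974 (ZT.node 12968 (ZT.node 12965 (ZT.node 12964 (ZT.leaf []) (ZT.leaf [])) (ZT.node 12966 (ZT.leaf []) (ZT.node 12967 (ZT.leaf []) (ZT.leaf [])))) (ZT.node 12971 (ZT.node 12969 (ZT.leaf []) (ZT.node 12970 (ZT.leaf []) (ZT.leaf []))) (ZT.node 12972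 (ZT.leaf []) (ZT.node 12973 (ZT.leaf []) (ZT.leaf []))))) (ZT.node 12979 (ZT.node 12976 (ZT.node 12975 (ZT.leaf []) (ZT.leaf [])) (ZT.node 12977 (ZT.leaf []) (ZT.node 12978 (ZT.leaf []) (ZT.leaf [])))) (ZT.node 12982 (ZT.node 12980 (ZT.leaf []) (ZT.node 12981 (ZT.leaf []) (ZT.leaf []))) (ZT.node 12983 (ZT.leaf []) (ZT.node 12984 (ZT.leaf [Int.negSucc 1101, Int.ofNat 147, Int.ofNat 229, Int.ofNat 40, Int.ofNat 4, Int.negSucc 43, Int.negSucc 1, Int.negSucc 15, Int.negSucc 12, Int.ofNat 0, Int.ofNat 0, Int.ofNat 0, Int.negSucc 4, Int.ofNat 4, Int.negSucc 65, Int.negSucc 4, Int.ofNat 11, Int.ofNat 0, Int.negSucc 33]) (ZT.leaf [])))))) (ZT.node 12996 (ZT.node 12990 (ZT.node 12987 (ZT.node 12986 (ZT.leaf []) (ZT.leaf [Int.ofNat 1105, Int.ofNat 690, Int.negSucc 200, Int.ofNat 83, Int.ofNat 2, Int.ofNat 128, Int.ofNat 48, Int.negSucc 75, Int.negSucc 23,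 Int.ofNat 0, Int.ofNat 0, Int.ofNat 0, Int.ofNat 4, Int.ofNat 0, Int.negSucc 263, Int.ofNat 0, Int.ofNat 35, Int.ofNat 0, Int.ofNat 144])) (ZT.node 12988 (ZT.leaf []) (ZT.node 12989 (ZT.leaf []) (ZT.leaf [])))) (ZT.node 12993 (ZT.node 12991 (ZT.leaf []) (ZT.node 12992 (ZT.leaf [Int.negSucc 541, Int.negSucc 302, Int.ofNat 141, Int.negSucc 55, Int.negSucc 1, Int.negSucc 87, Int.negSucc 5, Int.ofNat 27, Int.ofNat 3, Int.ofNat 0, Int.ofNat 0, Int.ofNat 0, Int.ofNat 1, Int.negSucc 0, Int.ofNat 101, Int.ofNat 1, Int.negSucc 18, Int.ofNat 0, Int.negSucc 75]) (ZT.leaf []))) (ZT.node 12994 (ZT.leaf []) (ZT.node 12995 (ZT.leaf []) (ZT.leaf []))))) (ZT.node 13002 (ZT.node 12999 (ZT.node 12997 (ZT.leaf []) (ZT.node 12998 (ZT.leaf []) (ZT.leaf []))) (ZT.node 13000 (ZT.leaf []) (ZT.node 13001 (ZT.leaf []) (ZT.leaf [])))) (ZT.node 13005 (ZT.node 13003 (ZT.leaf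 []) (ZT.node 13004 (ZT.leaf [Int.negSucc 2488, Int.negSucc 1183, Int.ofNat 539, Int.negSucc 172, Int.negSucc 6, Int.negSucc 321, Int.negSucc 71, Int.ofNat 126, Int.ofNat 26, Int.ofNat 0, Int.ofNat 0, Int.ofNat 0, Int.negSucc 2, Int.ofNat 0, Int.ofNat 539, Int.negSucc 1, Int.negSucc 67, Int.ofNat 0, Int.negSucc 307]) (ZT.leaf []))) (ZT.node 13006 (ZT.leaf []) (ZT.node 13007 (ZT.leaf []) (ZT.leaf [Int.negSucc 0]))))))))))

noncomputable def labT_26 : ZT := (ZT.node 13188 (ZT.node 13098 (ZT.node 13053 (ZT.node 13030 (ZT.node 13019 (ZT.node 13013 (ZT.node 13010 (ZT.node 13009 (ZT.leaf [Int.ofNat 31, Int.negSucc 3, Int.negSucc 7, Int.ofNat 1, Int.ofNat 0, Int.ofNat 3, Int.ofNat 0, Int.ofNat 0, Int.ofNat 1, Int.ofNat 1, Int.ofNat 0, Int.ofNat 0, Int.ofNat 0, Int.ofNat 0, Int.ofNat 2, Int.ofNat 0, Int.ofNat 1, Int.ofNat 0, Int.ofNat 2]) (ZT.leaf []))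 (ZT.node 13011 (ZT.leaf []) (ZT.node 13012 (ZT.leaf []) (ZT.leaf [Int.ofNat 542, Int.ofNat 303, Int.negSucc 140, Int.ofNat 56, Int.ofNat 2, Int.ofNat 88, Int.ofNat 6, Int.negSucc 26, Int.negSucc 2, Int.ofNat 0, Int.ofNat 0, Int.ofNat 0, Int.negSucc 0, Int.ofNat 1, Int.negSucc 100, Int.negSucc 0, Int.ofNat 19, Int.ofNat 0, Int.ofNat 76])))) (ZT.node 13016 (ZT.node 13014 (ZT.leaf []) (ZT.node 13015 (ZT.leaf []) (ZT.leaf []))) (ZT.node 13017 (ZT.leaf []) (ZT.node 13018 (ZT.leaf []) (ZT.leaf []))))) (ZT.node 13024 (ZT.node 13021 (ZT.node 13020 (ZT.leaf []) (ZT.leaf [])) (ZT.node 13022 (ZT.leaf []) (ZT.node 13023 (ZT.leaf []) (ZT.leaf [])))) (ZT.node 13027 (ZT.node 13025 (ZT.leaf []) (ZT.node 13026 (ZT.leaf []) (ZT.leaf []))) (ZT.node 13028 (ZT.leaf []) (ZT.node 13029 (ZT.leaf []) (ZT.leaf [])))))) (ZT.node 13041 (ZT.node 13035 (ZT.node 13032 (ZT.node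 13031 (ZT.leaf []) (ZT.leaf [])) (ZT.node 13033 (ZT.leaf []) (ZT.node 13034 (ZT.leaf []) (ZT.leaf [])))) (ZT.node 13038 (ZT.node 13036 (ZT.leaf []) (ZT.node 13037 (ZT.leaf []) (ZT.leaf []))) (ZT.node 13039 (ZT.leaf []) (ZT.node 13040 (ZT.leaf []) (ZT.leaf []))))) (ZT.node 13047 (ZT.node 13044 (ZT.node 13042 (ZT.leaf [Int.negSucc 0]) (ZT.node 13043 (ZT.leaf []) (ZT.leaf []))) (ZT.node 13045 (ZT.leaf [Int.ofNat 2293, Int.ofNat 755, Int.negSucc 522, Int.ofNat 105, Int.ofNat 0, Int.ofNat 261, Int.ofNat 20, Int.negSucc 43, Int.ofNat 1, Int.ofNat 0, Int.ofNat 0, Int.ofNat 0, Int.ofNat 8, Int.ofNat 2, Int.negSucc 255, Int.ofNat 2, Int.ofNat 49, Int.ofNat 0, Int.ofNat 233]) (ZT.node 13046 (ZT.leaf []) (ZT.leaf [])))) (ZT.node 13050 (ZT.node 13048 (ZT.leaf [Int.ofNat 8391, Int.ofNat 6335, Int.negSucc 1979, Int.ofNat 1055, Int.ofNat 28, Int.ofNat 1489,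 Int.ofNat 289, Int.negSucc 563, Int.negSucc 119, Int.negSucc 0, Int.ofNat 0, Int.negSucc 0, Int.ofNat 8, Int.ofNat 22, Int.negSucc 2273, Int.negSucc 37, Int.ofNat 246, Int.negSucc 0, Int.ofNat 1386]) (ZT.node 13049 (ZT.leaf []) (ZT.leaf []))) (ZT.node 13051 (ZT.leaf [Int.negSucc 1342, Int.negSucc 661, Int.ofNat 330, Int.negSucc 115, Int.negSucc 2, Int.negSucc 205, Int.negSucc 20, Int.ofNat 48, Int.ofNat 1, Int.ofNat 0, Int.ofNat 0, Int.ofNat 0, Int.negSucc 0, Int.negSucc 2, Int.ofNat 231, Int.ofNat 4, Int.negSucc 26, Int.ofNat 0, Int.negSucc 172]) (ZT.node 13052 (ZT.leaf []) (ZT.leaf []))))))) (ZT.node 13075 (ZT.node 13064 (ZT.node 13058 (ZT.node 13055 (ZT.node 13054 (ZT.leaf []) (ZT.leaf [])) (ZT.node 13056 (ZT.leaf []) (ZT.node 13057 (ZT.leaf [Int.negSucc 1, Int.negSucc 0, Int.ofNat 0, Int.ofNat 0, Int.ofNat 0, Int.ofNat 0, Int.ofNat 0, Int.ofNat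 0, Int.ofNat 0, Int.ofNat 0, Int.ofNat 0, Int.ofNat 0, Int.ofNat 0, Int.ofNat 0, Int.ofNat 0, Int.ofNat 0, Int.ofNat 0, Int.ofNat 0, Int.ofNat 0]) (ZT.leaf [])))) (ZT.node 13061 (ZT.node 13059 (ZT.leaf []) (ZT.node 13060 (ZT.leaf []) (ZT.leaf []))) (ZT.node 13062 (ZT.leaf []) (ZT.node 13063 (ZT.leaf []) (ZT.leaf []))))) (ZT.node 13069 (ZT.node 13066 (ZT.node 13065 (ZT.leaf []) (ZT.leaf [Int.ofNat 4928, Int.ofNat 1654, Int.negSucc 1181, Int.ofNat 289, Int.ofNat 4, Int.ofNat 619, Int.ofNat 48, Int.negSucc 98, Int.ofNat 14, Int.ofNat 0, Int.ofNat 0, Int.ofNat 0, Int.ofNat 13, Int.ofNat 4, Int.negSucc 558, Int.ofNat 0, Int.ofNat 71, Int.ofNat 0, Int.ofNat 512])) (ZT.node 13067 (ZT.leaf []) (ZT.node 13068 (ZT.leaf []) (ZT.leaf [Int.ofNat 1])))) (ZT.node 13072 (ZT.node 13070 (ZT.leaf []) (ZT.node 13071 (ZT.leaf [Int.ofNat 110, Int.ofNat 101, Int.ofNat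 9, Int.negSucc 5, Int.negSucc 0, Int.ofNat 0, Int.ofNat 5, Int.negSucc 3, Int.negSucc 4, Int.ofNat 0, Int.ofNat 0, Int.ofNat 0, Int.ofNat 3, Int.ofNat 1, Int.negSucc 51, Int.ofNat 1, Int.ofNat 6, Int.ofNat 0, Int.ofNat 10]) (ZT.leaf [Int.ofNat 21, Int.negSucc 5, Int.negSucc 11, Int.ofNat 4, Int.ofNat 0, Int.ofNat 10, Int.ofNat 1, Int.ofNat 0, Int.ofNat 2, Int.ofNat 0, Int.ofNat 0, Int.ofNat 0, Int.negSucc 0, Int.ofNat 0, Int.ofNat 7, Int.ofNat 0, Int.negSucc 3, Int.ofNat 0, Int.ofNat 3]))) (ZT.node 13073 (ZT.leaf []) (ZT.node 13074 (ZT.leaf []) (ZT.leaf [])))))) (ZT.node 13086 (ZT.node 13080 (ZT.node 13077 (ZT.node 13076 (ZT.leaf []) (ZT.leaf [])) (ZT.node 13078 (ZT.leaf []) (ZT.node 13079 (ZT.leaf [Int.negSucc 0]) (ZT.leaf [])))) (ZT.node 13083 (ZT.node 13081 (ZT.leaf []) (ZT.node 13082 (ZT.leaf []) (ZT.leaf []))) (ZT.node 13084 (ZT.leaf [])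 (ZT.node 13085 (ZT.leaf []) (ZT.leaf []))))) (ZT.node 13092 (ZT.node 13089 (ZT.node 13087 (ZT.leaf []) (ZT.node 13088 (ZT.leaf []) (ZT.leaf [Int.ofNat 2386, Int.ofNat 961, Int.negSucc 550, Int.ofNat 152, Int.ofNat 4, Int.ofNat 293, Int.ofNat 40, Int.negSucc 77, Int.negSucc 7, Int.ofNat 0, Int.ofNat 0, Int.ofNat 0, Int.ofNat 4, Int.ofNat 1, Int.negSucc 397, Int.ofNat 2, Int.ofNat 62, Int.ofNat 0, Int.ofNat 265]))) (ZT.node 13090 (ZT.leaf [Int.ofNat 1026, Int.ofNat 540, Int.negSucc 238, Int.ofNat 89, Int.ofNat 2, Int.ofNat 146, Int.ofNat 19, Int.negSucc 35, Int.negSucc 3, Int.ofNat 0, Int.ofNat 0, Int.ofNat 0, Int.ofNat 3, Int.ofNat 3, Int.negSucc 170, Int.negSucc 2, Int.ofNat 18, Int.ofNat 0, Int.ofNat 130]) (ZT.node 13091 (ZT.leaf [Int.ofNat 6576, Int.ofNat 3560, Int.negSucc 1501, Int.ofNat 557, Int.ofNat 14, Int.ofNat 951, Int.ofNat 141, Int.negSucc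 283, Int.negSucc 39, Int.ofNat 0, Int.ofNat 0, Int.ofNat 0, Int.ofNat 15, Int.ofNat 14, Int.negSucc 1266, Int.negSucc 17, Int.ofNat 155, Int.ofNat 0, Int.ofNat 863]) (ZT.leaf [])))) (ZT.node 13095 (ZT.node 13093 (ZT.leaf []) (ZT.node 13094 (ZT.leaf []) (ZT.leaf []))) (ZT.node 13096 (ZT.leaf []) (ZT.node 13097 (ZT.leaf []) (ZT.leaf [])))))))) (ZT.node 13143 (ZT.node 13120 (ZT.node 13109 (ZT.node 13103 (ZT.node 13100 (ZT.node 13099 (ZT.leaf []) (ZT.leaf [])) (ZT.node 13101 (ZT.leaf []) (ZT.node 13102 (ZT.leaf []) (ZT.leaf [])))) (ZT.node 13106 (ZT.node 13104 (ZT.leaf []) (ZT.node 13105 (ZT.leaf []) (ZT.leaf []))) (ZT.node 13107 (ZT.leaf []) (ZT.node 13108 (ZT.leaf []) (ZT.leaf [Int.negSucc 5869, Int.negSucc 153, Int.ofNat 1198, Int.ofNat 100, Int.ofNat 1, Int.negSucc 323, Int.negSucc 45, Int.ofNat 15, Int.negSucc 15, Int.ofNat 1, Int.ofNat 0, Int.ofNat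 0, Int.negSucc 28, Int.ofNat 2, Int.ofNat 234, Int.negSucc 27, Int.negSucc 99, Int.ofNat 0, Int.negSucc 326]))))) (ZT.node 13114 (ZT.node 13111 (ZT.node 13110 (ZT.leaf [Int.ofNat 2523, Int.ofNat 883, Int.negSucc 615, Int.ofNat 154, Int.ofNat 6, Int.ofNat 322, Int.ofNat 24, Int.negSucc 55, Int.ofNat 4, Int.ofNat 0, Int.ofNat 0, Int.ofNat 0, Int.ofNat 4, Int.ofNat 3, Int.negSucc 300, Int.negSucc 1, Int.ofNat 42, Int.ofNat 0, Int.ofNat 268]) (ZT.leaf [])) (ZT.node 13112 (ZT.leaf []) (ZT.node 13113 (ZT.leaf []) (ZT.leaf [])))) (ZT.node 13117 (ZT.node 13115 (ZT.leaf []) (ZT.node 13116 (ZT.leaf []) (ZT.leaf []))) (ZT.node 13118 (ZT.leaf []) (ZT.node 13119 (ZT.leaf []) (ZT.leaf [])))))) (ZT.node 13131 (ZT.node 13125 (ZT.node 13122 (ZT.node 13121 (ZT.leaf []) (ZT.leaf [])) (ZT.node 13123 (ZT.leaf []) (ZT.node 13124 (ZT.leaf []) (ZT.leaf [])))) (ZT.node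 13128 (ZT.node 13126 (ZT.leaf []) (ZT.node 13127 (ZT.leaf []) (ZT.leaf []))) (ZT.node 13129 (ZT.leaf []) (ZT.node 13130 (ZT.leaf []) (ZT.leaf []))))) (ZT.node 13137 (ZT.node 13134 (ZT.node 13132 (ZT.leaf []) (ZT.node 13133 (ZT.leaf []) (ZT.leaf [Int.negSucc 252, Int.negSucc 84, Int.ofNat 57, Int.negSucc 13, Int.negSucc 0, Int.negSucc 20, Int.negSucc 0, Int.ofNat 3, Int.ofNat 1, Int.ofNat 0, Int.ofNat 0, Int.ofNat 0, Int.negSucc 1, Int.ofNat 0, Int.ofNat 34, Int.ofNat 0, Int.negSucc 5, Int.ofNat 0, Int.negSucc 21]))) (ZT.node 13135 (ZT.leaf [Int.ofNat 2551, Int.ofNat 842, Int.negSucc 580, Int.ofNat 119, Int.ofNat 1, Int.ofNat 281, Int.ofNat 21, Int.negSucc 46, Int.ofNat 0, Int.ofNat 0, Int.ofNat 0, Int.ofNat 0, Int.ofNat 10, Int.ofNat 2, Int.negSucc 289, Int.ofNat 2, Int.ofNat 53, Int.ofNat 0, Int.ofNat 255]) (ZT.node 13136 (ZT.leaf []) (ZT.leaf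 [])))) (ZT.node 13140 (ZT.node 13138 (ZT.leaf [Int.ofNat 1]) (ZT.node 13139 (ZT.leaf [Int.ofNat 9656, Int.ofNat 4864, Int.negSucc 2300, Int.ofNat 827, Int.ofNat 19, Int.ofNat 1448, Int.ofNat 141, Int.negSucc 405, Int.negSucc 30, Int.ofNat 0, Int.ofNat 0, Int.ofNat 0, Int.negSucc 0, Int.ofNat 10, Int.negSucc 1509, Int.negSucc 16, Int.ofNat 259, Int.ofNat 0, Int.ofNat 1236]) (ZT.leaf [Int.ofNat 2390, Int.ofNat 962, Int.negSucc 550, Int.ofNat 152, Int.ofNat 4, Int.ofNat 293, Int.ofNat 40, Int.negSucc 77, Int.negSucc 7, Int.ofNat 0, Int.ofNat 0, Int.ofNat 0, Int.ofNat 4, Int.ofNat 1, Int.negSucc 397, Int.ofNat 2, Int.ofNat 62, Int.ofNat 0, Int.ofNat 265]))) (ZT.node 13141 (ZT.leaf []) (ZT.node 13142 (ZT.leaf []) (ZT.leaf []))))))) (ZT.node 13165 (ZT.node 13154 (ZT.node 13148 (ZT.node 13145 (ZT.node 13144 (ZT.leaf []) (ZT.leaf [])) (ZT.node 13146 (ZT.leaf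 []) (ZT.node 13147 (ZT.leaf []) (ZT.leaf [])))) (ZT.node 13151 (ZT.node 13149 (ZT.leaf [Int.ofNat 760, Int.ofNat 576, Int.negSucc 181, Int.ofNat 96, Int.ofNat 2, Int.ofNat 133, Int.ofNat 28, Int.negSucc 56, Int.negSucc 12, Int.ofNat 0, Int.ofNat 0, Int.ofNat 0, Int.negSucc 0, Int.ofNat 1, Int.negSucc 209, Int.negSucc 1, Int.ofNat 21, Int.ofNat 0, Int.ofNat 126]) (ZT.node 13150 (ZT.leaf []) (ZT.leaf []))) (ZT.node 13152 (ZT.leaf []) (ZT.node 13153 (ZT.leaf []) (ZT.leaf []))))) (ZT.node 13159 (ZT.node 13156 (ZT.node 13155 (ZT.leaf []) (ZT.leaf [])) (ZT.node 13157 (ZT.leaf []) (ZT.node 13158 (ZT.leaf []) (ZT.leaf [Int.negSucc 1512, Int.negSucc 912, Int.ofNat 349, Int.negSucc 146, Int.negSucc 1, Int.negSucc 227, Int.negSucc 37, Int.ofNat 79, Int.ofNat 15, Int.ofNat 0, Int.ofNat 0, Int.ofNat 0, Int.negSucc 1, Int.negSucc 1, Int.ofNat 319, Int.ofNat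 3, Int.negSucc 34, Int.ofNat 0, Int.negSucc 210])))) (ZT.node 13162 (ZT.node 13160 (ZT.leaf [Int.negSucc 5393, Int.negSucc 2128, Int.ofNat 1258, Int.negSucc 344, Int.negSucc 7, Int.negSucc 676, Int.negSucc 74, Int.ofNat 158, Int.ofNat 8, Int.ofNat 0, Int.ofNat 0, Int.ofNat 0, Int.negSucc 9, Int.negSucc 4, Int.ofNat 774, Int.ofNat 0, Int.negSucc 114, Int.ofNat 0, Int.negSucc 598]) (ZT.node 13161 (ZT.leaf [Int.negSucc 2223, Int.negSucc 1755, Int.ofNat 558, Int.negSucc 312, Int.negSucc 8, Int.negSucc 424, Int.negSucc 55, Int.ofNat 142, Int.ofNat 22, Int.ofNat 0, Int.ofNat 0, Int.ofNat 0, Int.ofNat 3, Int.negSucc 5, Int.ofNat 584, Int.ofNat 10, Int.negSucc 68, Int.ofNat 0, Int.negSucc 374]) (ZT.leaf [Int.negSucc 503, Int.negSucc 111, Int.ofNat 124, Int.negSucc 22, Int.ofNat 0, Int.negSucc 47, Int.ofNat 10, Int.negSucc 12, Int.negSucc 9, Int.ofNat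 0, Int.ofNat 0, Int.ofNat 0, Int.negSucc 2, Int.negSucc 2, Int.negSucc 9, Int.ofNat 3, Int.negSucc 2, Int.ofNat 0, Int.negSucc 34]))) (ZT.node 13163 (ZT.leaf []) (ZT.node 13164 (ZT.leaf []) (ZT.leaf [])))))) (ZT.node 13176 (ZT.node 13170 (ZT.node 13167 (ZT.node 13166 (ZT.leaf [Int.negSucc 72, Int.negSucc 298, Int.ofNat 267, Int.negSucc 160, Int.ofNat 23, Int.negSucc 202, Int.ofNat 64, Int.negSucc 89, Int.negSucc 66, Int.ofNat 2, Int.negSucc 0, Int.ofNat 1, Int.negSucc 10, Int.negSucc 26, Int.negSucc 198, Int.ofNat 33, Int.ofNat 76, Int.ofNat 1, Int.negSucc 84]) (ZT.leaf [])) (ZT.node 13168 (ZT.leaf []) (ZT.node 13169 (ZT.leaf [Int.negSucc 23, Int.ofNat 5, Int.ofNat 12, Int.negSucc 3, Int.ofNat 0, Int.negSucc 9, Int.negSucc 0, Int.ofNat 0, Int.negSucc 1, Int.ofNat 0, Int.ofNat 0, Int.ofNat 0, Int.ofNat 1, Int.ofNat 0, Int.negSucc 6, Int.ofNat 0,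 Int.ofNat 4, Int.ofNat 0, Int.negSucc 2]) (ZT.leaf [])))) (ZT.node 13173 (ZT.node 13171 (ZT.leaf []) (ZT.node 13172 (ZT.leaf []) (ZT.leaf []))) (ZT.node 13174 (ZT.leaf []) (ZT.node 13175 (ZT.leaf []) (ZT.leaf []))))) (ZT.node 13182 (ZT.node 13179 (ZT.node 13177 (ZT.leaf []) (ZT.node 13178 (ZT.leaf []) (ZT.leaf []))) (ZT.node 13180 (ZT.leaf []) (ZT.node 13181 (ZT.leaf []) (ZT.leaf [])))) (ZT.node 13185 (ZT.node 13183 (ZT.leaf []) (ZT.node 13184 (ZT.leaf []) (ZT.leaf []))) (ZT.node 13186 (ZT.leaf []) (ZT.node 13187 (ZT.leaf []) (ZT.leaf []))))))))) (ZT.node 13278 (ZT.node 13233 (ZT.node 13210 (ZT.node 13199 (ZT.node 13193 (ZT.node 13190 (ZT.node 13189 (ZT.leaf [Int.negSucc 0]) (ZT.leaf [Int.negSucc 305, Int.negSucc 112, Int.ofNat 89, Int.negSucc 26, Int.negSucc 0, Int.negSucc 51, Int.negSucc 4, Int.ofNat 12, Int.negSucc 1, Int.ofNat 0, Int.ofNat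 0, Int.ofNat 0, Int.ofNat 3, Int.negSucc 0, Int.ofNat 33, Int.ofNat 1, Int.negSucc 2, Int.ofNat 0, Int.negSucc 38])) (ZT.node 13191 (ZT.leaf []) (ZT.node 13192 (ZT.leaf []) (ZT.leaf [])))) (ZT.node 13196 (ZT.node 13194 (ZT.leaf []) (ZT.node 13195 (ZT.leaf []) (ZT.leaf []))) (ZT.node 13197 (ZT.leaf []) (ZT.node 13198 (ZT.leaf []) (ZT.leaf []))))) (ZT.node 13204 (ZT.node 13201 (ZT.node 13200 (ZT.leaf []) (ZT.leaf [])) (ZT.node 13202 (ZT.leaf []) (ZT.node 13203 (ZT.leaf []) (ZT.leaf [])))) (ZT.node 13207 (ZT.node 13205 (ZT.leaf []) (ZT.node 13206 (ZT.leaf []) (ZT.leaf []))) (ZT.node 13208 (ZT.leaf []) (ZT.node 13209 (ZT.leaf []) (ZT.leaf [])))))) (ZT.node 13221 (ZT.node 13215 (ZT.node 13212 (ZT.node 13211 (ZT.leaf []) (ZT.leaf [])) (ZT.node 13213 (ZT.leaf []) (ZT.node 13214 (ZT.leaf []) (ZT.leaf [])))) (ZT.node 13218 (ZT.node 13216 (ZT.leaf [Int.ofNat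 2167, Int.ofNat 1490, Int.negSucc 512, Int.ofNat 254, Int.ofNat 4, Int.ofNat 364, Int.ofNat 57, Int.negSucc 98, Int.negSucc 17, Int.ofNat 0, Int.ofNat 0, Int.ofNat 0, Int.ofNat 8, Int.ofNat 8, Int.negSucc 523, Int.negSucc 7, Int.ofNat 37, Int.ofNat 0, Int.ofNat 328]) (ZT.node 13217 (ZT.leaf [Int.ofNat 1]) (ZT.leaf []))) (ZT.node 13219 (ZT.leaf []) (ZT.node 13220 (ZT.leaf []) (ZT.leaf []))))) (ZT.node 13227 (ZT.node 13224 (ZT.node 13222 (ZT.leaf [Int.ofNat 0, Int.ofNat 0, Int.ofNat 0, Int.ofNat 0, Int.ofNat 0, Int.ofNat 0, Int.ofNat 0, Int.ofNat 1]) (ZT.node 13223 (ZT.leaf []) (ZT.leaf []))) (ZT.node 13225 (ZT.leaf []) (ZT.node 13226 (ZT.leaf []) (ZT.leaf [])))) (ZT.node 13230 (ZT.node 13228 (ZT.leaf []) (ZT.node 13229 (ZT.leaf []) (ZT.leaf []))) (ZT.node 13231 (ZT.leaf []) (ZT.node 13232 (ZT.leaf []) (ZT.leaf []))))))) (ZT.node 13255 (ZT.node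 13244 (ZT.node 13238 (ZT.node 13235 (ZT.node 13234 (ZT.leaf []) (ZT.leaf [])) (ZT.node 13236 (ZT.leaf []) (ZT.node 13237 (ZT.leaf []) (ZT.leaf [])))) (ZT.node 13241 (ZT.node 13239 (ZT.leaf []) (ZT.node 13240 (ZT.leaf []) (ZT.leaf [Int.negSucc 103, Int.negSucc 17, Int.ofNat 28, Int.negSucc 3, Int.ofNat 0, Int.negSucc 10, Int.ofNat 0, Int.ofNat 1, Int.negSucc 0, Int.ofNat 0, Int.ofNat 0, Int.ofNat 0, Int.ofNat 0, Int.ofNat 0, Int.ofNat 4, Int.ofNat 0, Int.negSucc 0, Int.ofNat 0, Int.negSucc 8]))) (ZT.node 13242 (ZT.leaf []) (ZT.node 13243 (ZT.leaf [Int.ofNat 103, Int.ofNat 18, Int.negSucc 27, Int.ofNat 4, Int.ofNat 0, Int.ofNat 11, Int.ofNat 0, Int.negSucc 0, Int.ofNat 1, Int.ofNat 0, Int.ofNat 0, Int.ofNat 0, Int.ofNat 0, Int.ofNat 0, Int.negSucc 3, Int.ofNat 0, Int.ofNat 1, Int.ofNat 0, Int.ofNat 9]) (ZT.leaf []))))) (ZT.node 13249 (ZT.node 13246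 (ZT.node 13245 (ZT.leaf [Int.negSucc 926, Int.negSucc 557, Int.ofNat 256, Int.negSucc 104, Int.ofNat 2, Int.negSucc 170, Int.negSucc 11, Int.ofNat 31, Int.negSucc 4, Int.ofNat 0, Int.ofNat 0, Int.ofNat 0, Int.negSucc 0, Int.negSucc 7, Int.ofNat 158, Int.ofNat 7, Int.negSucc 14, Int.ofNat 0, Int.negSucc 138]) (ZT.leaf [Int.ofNat 7753, Int.ofNat 4295, Int.negSucc 1769, Int.ofNat 678, Int.ofNat 18, Int.ofNat 1121, Int.ofNat 191, Int.negSucc 367, Int.negSucc 63, Int.ofNat 0, Int.ofNat 0, Int.ofNat 0, Int.ofNat 16, Int.ofNat 13, Int.negSucc 1565, Int.negSucc 19, Int.ofNat 194, Int.ofNat 0, Int.ofNat 1037])) (ZT.node 13247 (ZT.leaf []) (ZT.node 13248 (ZT.leaf []) (ZT.leaf [Int.ofNat 1332, Int.ofNat 737, Int.negSucc 317, Int.ofNat 122, Int.ofNat 3, Int.ofNat 199, Int.ofNat 28, Int.negSucc 66, Int.negSucc 9, Int.ofNat 0, Int.ofNat 0, Int.ofNat 0, Int.ofNat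 0, Int.ofNat 3, Int.negSucc 253, Int.negSucc 1, Int.ofNat 37, Int.ofNat 0, Int.ofNat 183])))) (ZT.node 13252 (ZT.node 13250 (ZT.leaf []) (ZT.node 13251 (ZT.leaf []) (ZT.leaf [Int.negSucc 0]))) (ZT.node 13253 (ZT.leaf []) (ZT.node 13254 (ZT.leaf []) (ZT.leaf [])))))) (ZT.node 13266 (ZT.node 13260 (ZT.node 13257 (ZT.node 13256 (ZT.leaf []) (ZT.leaf [Int.negSucc 751, Int.negSucc 249, Int.ofNat 83, Int.negSucc 1, Int.ofNat 2, Int.negSucc 37, Int.negSucc 27, Int.ofNat 11, Int.ofNat 1, Int.ofNat 1, Int.negSucc 0, Int.ofNat 0, Int.negSucc 5, Int.negSucc 4, Int.ofNat 116, Int.ofNat 1, Int.negSucc 0, Int.ofNat 0, Int.negSucc 48])) (ZT.node 13258 (ZT.leaf []) (ZT.node 13259 (ZT.leaf [Int.negSucc 0]) (ZT.leaf [])))) (ZT.node 13263 (ZT.node 13261 (ZT.leaf [Int.ofNat 688, Int.ofNat 280, Int.negSucc 100, Int.ofNat 24, Int.negSucc 0, Int.ofNat 59, Int.ofNat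 22, Int.negSucc 17, Int.negSucc 0, Int.negSucc 0, Int.ofNat 1, Int.ofNat 0, Int.ofNat 4, Int.ofNat 4, Int.negSucc 131, Int.negSucc 0, Int.ofNat 10, Int.ofNat 0, Int.ofNat 60]) (ZT.node 13262 (ZT.leaf []) (ZT.leaf []))) (ZT.node 13264 (ZT.leaf [Int.negSucc 0]) (ZT.node 13265 (ZT.leaf []) (ZT.leaf [Int.ofNat 122, Int.ofNat 59, Int.negSucc 32, Int.ofNat 13, Int.ofNat 1, Int.ofNat 23, Int.ofNat 2, Int.negSucc 7, Int.ofNat 0, Int.ofNat 0, Int.ofNat 0, Int.ofNat 0, Int.negSucc 1, Int.ofNat 0, Int.negSucc 20, Int.ofNat 0, Int.ofNat 0, Int.ofNat 0, Int.ofNat 15]))))) (ZT.node 13272 (ZT.node 13269 (ZT.node 13267 (ZT.leaf []) (ZT.node 13268 (ZT.leaf []) (ZT.leaf [Int.negSucc 343, Int.negSucc 1232, Int.ofNat 124, Int.negSucc 218, Int.negSucc 2, Int.negSucc 221, Int.negSucc 27, Int.ofNat 94, Int.ofNat 23, Int.ofNat 0, Int.ofNat 0, Int.ofNat 0, Int.ofNat 2,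 Int.negSucc 8, Int.ofNat 368, Int.ofNat 13, Int.negSucc 40, Int.ofNat 0, Int.negSucc 198]))) (ZT.node 13270 (ZT.leaf []) (ZT.node 13271 (ZT.leaf [Int.ofNat 2460, Int.ofNat 844, Int.negSucc 565, Int.ofNat 127, Int.ofNat 2, Int.ofNat 292, Int.ofNat 37, Int.negSucc 65, Int.negSucc 2, Int.ofNat 0, Int.ofNat 0, Int.ofNat 0, Int.ofNat 7, Int.ofNat 1, Int.negSucc 319, Int.ofNat 1, Int.ofNat 52, Int.ofNat 0, Int.ofNat 259]) (ZT.leaf [Int.negSucc 2461, Int.negSucc 844, Int.ofNat 566, Int.negSucc 126, Int.negSucc 1, Int.negSucc 291, Int.negSucc 36, Int.ofNat 66, Int.ofNat 3, Int.ofNat 0, Int.ofNat 0, Int.ofNat 0, Int.negSucc 6, Int.negSucc 0, Int.ofNat 320, Int.negSucc 0, Int.negSucc 51, Int.ofNat 0, Int.negSucc 258])))) (ZT.node 13275 (ZT.node 13273 (ZT.leaf []) (ZT.node 13274 (ZT.leaf [Int.ofNat 568, Int.ofNat 215, Int.negSucc 142, Int.ofNat 40, Int.ofNat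 1, Int.ofNat 78, Int.ofNat 7, Int.negSucc 16, Int.ofNat 0, Int.ofNat 0, Int.ofNat 0, Int.ofNat 0, Int.ofNat 0, Int.ofNat 1, Int.negSucc 73, Int.ofNat 0, Int.ofNat 11, Int.ofNat 0, Int.ofNat 66]) (ZT.leaf [Int.ofNat 1]))) (ZT.node 13276 (ZT.leaf [Int.ofNat 691, Int.ofNat 336, Int.negSucc 179, Int.ofNat 65, Int.ofNat 0, Int.ofNat 107, Int.ofNat 4, Int.negSucc 11, Int.ofNat 6, Int.ofNat 1, Int.ofNat 0, Int.ofNat 0, Int.ofNat 0, Int.ofNat 4, Int.negSucc 84, Int.negSucc 1, Int.ofNat 12, Int.ofNat 0, Int.ofNat 86]) (ZT.node 13277 (ZT.leaf []) (ZT.leaf [Int.ofNat 2899, Int.ofNat 1134, Int.negSucc 658, Int.ofNat 171, Int.ofNat 4, Int.ofNat 357, Int.ofNat 49, Int.negSucc 87, Int.negSucc 7, Int.ofNat 0, Int.ofNat 0, Int.ofNat 0, Int.ofNat 8, Int.ofNat 3, Int.negSucc 423, Int.negSucc 0, Int.ofNat 66, Int.ofNat 0, Int.ofNat 322])))))))) (ZT.node 13323 (ZT.node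 13300 (ZT.node 13289 (ZT.node 13283 (ZT.node 13280 (ZT.node 13279 (ZT.leaf []) (ZT.leaf [])) (ZT.node 13281 (ZT.leaf [Int.negSucc 2204, Int.ofNat 391, Int.ofNat 457, Int.ofNat 100, Int.ofNat 2, Int.negSucc 57, Int.ofNat 7, Int.negSucc 46, Int.negSucc 22, Int.ofNat 0, Int.ofNat 0, Int.ofNat 0, Int.negSucc 11, Int.ofNat 7, Int.negSucc 77, Int.negSucc 14, Int.negSucc 11, Int.ofNat 0, Int.negSucc 55]) (ZT.node 13282 (ZT.leaf []) (ZT.leaf [])))) (ZT.node 13286 (ZT.node 13284 (ZT.leaf []) (ZT.node 13285 (ZT.leaf []) (ZT.leaf []))) (ZT.node 13287 (ZT.leaf [Int.negSucc 3334, Int.ofNat 1492, Int.ofNat 611, Int.ofNat 361, Int.ofNat 19, Int.ofNat 56, Int.ofNat 60, Int.negSucc 161, Int.negSucc 59, Int.negSucc 0, Int.ofNat 0, Int.negSucc 0, Int.negSucc 36, Int.ofNat 13, Int.negSucc 319, Int.negSucc 39, Int.negSucc 10, Int.negSucc 0, Int.ofNat 57]) (ZT.node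 13288 (ZT.leaf []) (ZT.leaf [Int.ofNat 539, Int.ofNat 117, Int.negSucc 28, Int.negSucc 22, Int.negSucc 2, Int.ofNat 18, Int.ofNat 34, Int.negSucc 15, Int.negSucc 1, Int.negSucc 1, Int.ofNat 1, Int.ofNat 0, Int.ofNat 3, Int.ofNat 4, Int.negSucc 90, Int.ofNat 0, Int.negSucc 6, Int.ofNat 0, Int.ofNat 28]))))) (ZT.node 13294 (ZT.node 13291 (ZT.node 13290 (ZT.leaf []) (ZT.leaf [])) (ZT.node 13292 (ZT.leaf []) (ZT.node 13293 (ZT.leaf []) (ZT.leaf [])))) (ZT.node 13297 (ZT.node 13295 (ZT.leaf [Int.negSucc 2258, Int.negSucc 1192, Int.ofNat 508, Int.negSucc 188, Int.negSucc 2, Int.negSucc 317, Int.negSucc 48, Int.ofNat 86, Int.ofNat 13, Int.ofNat 0, Int.ofNat 0, Int.ofNat 0, Int.negSucc 6, Int.negSucc 3, Int.ofNat 419, Int.ofNat 4, Int.negSucc 36, Int.ofNat 0, Int.negSucc 281]) (ZT.node 13296 (ZT.leaf []) (ZT.leaf [Int.ofNat 1]))) (ZT.node 13298 (ZT.leaf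 []) (ZT.node 13299 (ZT.leaf []) (ZT.leaf [])))))) (ZT.node 13311 (ZT.node 13305 (ZT.node 13302 (ZT.node 13301 (ZT.leaf []) (ZT.leaf [])) (ZT.node 13303 (ZT.leaf [Int.ofNat 48, Int.ofNat 37, Int.negSucc 10, Int.ofNat 8, Int.ofNat 0, Int.ofNat 8, Int.ofNat 1, Int.negSucc 2, Int.negSucc 0, Int.ofNat 0, Int.ofNat 0, Int.ofNat 0, Int.ofNat 0, Int.ofNat 0, Int.negSucc 13, Int.ofNat 0, Int.ofNat 2, Int.ofNat 0, Int.ofNat 7]) (ZT.node 13304 (ZT.leaf []) (ZT.leaf [])))) (ZT.node 13308 (ZT.node 13306 (ZT.leaf []) (ZT.node 13307 (ZT.leaf []) (ZT.leaf []))) (ZT.node 13309 (ZT.leaf []) (ZT.node 13310 (ZT.leaf []) (ZT.leaf []))))) (ZT.node 13317 (ZT.node 13314 (ZT.node 13312 (ZT.leaf [Int.negSucc 46, Int.negSucc 36, Int.ofNat 11, Int.negSucc 7, Int.ofNat 0, Int.negSucc 7, Int.negSucc 0, Int.ofNat 3, Int.ofNat 1, Int.ofNat 0, Int.ofNat 0, Int.ofNat 0, Int.ofNat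 0, Int.ofNat 0, Int.ofNat 14, Int.ofNat 0, Int.negSucc 1, Int.ofNat 0, Int.negSucc 6]) (ZT.node 13313 (ZT.leaf []) (ZT.leaf [Int.ofNat 31, Int.ofNat 1, Int.negSucc 4, Int.negSucc 1, Int.ofNat 1, Int.ofNat 1, Int.negSucc 0, Int.ofNat 3, Int.ofNat 1, Int.ofNat 0, Int.ofNat 0, Int.ofNat 0, Int.ofNat 0, Int.ofNat 1, Int.ofNat 5, Int.ofNat 0, Int.negSucc 1, Int.ofNat 0, Int.ofNat 0]))) (ZT.node 13315 (ZT.leaf []) (ZT.node 13316 (ZT.leaf []) (ZT.leaf [])))) (ZT.node 13320 (ZT.node 13318 (ZT.leaf []) (ZT.node 13319 (ZT.leaf []) (ZT.leaf []))) (ZT.node 13321 (ZT.leaf []) (ZT.node 13322 (ZT.leaf []) (ZT.leaf []))))))) (ZT.node 13345 (ZT.node 13334 (ZT.node 13328 (ZT.node 13325 (ZT.node 13324 (ZT.leaf []) (ZT.leaf [])) (ZT.node 13326 (ZT.leaf []) (ZT.node 13327 (ZT.leaf [Int.negSucc 383, Int.negSucc 145, Int.ofNat 88, Int.negSucc 22, Int.negSucc 0, Int.negSucc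 43, Int.negSucc 3, Int.ofNat 7, Int.ofNat 0, Int.ofNat 0, Int.ofNat 0, Int.ofNat 0, Int.negSucc 1, Int.negSucc 0, Int.ofNat 47, Int.ofNat 0, Int.negSucc 5, Int.ofNat 0, Int.negSucc 38]) (ZT.leaf [Int.ofNat 4, Int.ofNat 2, Int.ofNat 0, Int.ofNat 0, Int.ofNat 0, Int.negSucc 0])))) (ZT.node 13331 (ZT.node 13329 (ZT.leaf []) (ZT.node 13330 (ZT.leaf []) (ZT.leaf []))) (ZT.node 13332 (ZT.leaf []) (ZT.node 13333 (ZT.leaf [Int.ofNat 0, Int.ofNat 0, Int.ofNat 0, Int.ofNat 0, Int.ofNat 0, Int.negSucc 0]) (ZT.leaf []))))) (ZT.node 13339 (ZT.node 13336 (ZT.node 13335 (ZT.leaf []) (ZT.leaf [])) (ZT.node 13337 (ZT.leaf []) (ZT.node 13338 (ZT.leaf []) (ZT.leaf [])))) (ZT.node 13342 (ZT.node 13340 (ZT.leaf []) (ZT.node 13341 (ZT.leaf []) (ZT.leaf []))) (ZT.node 13343 (ZT.leaf []) (ZT.node 13344 (ZT.leaf []) (ZT.leaf [])))))) (ZT.node 13356 (ZT.node 13350 (ZT.node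 13347 (ZT.node 13346 (ZT.leaf []) (ZT.leaf [])) (ZT.node 13348 (ZT.leaf []) (ZT.node 13349 (ZT.leaf []) (ZT.leaf [])))) (ZT.node 13353 (ZT.node 13351 (ZT.leaf []) (ZT.node 13352 (ZT.leaf []) (ZT.leaf []))) (ZT.node 13354 (ZT.leaf []) (ZT.node 13355 (ZT.leaf []) (ZT.leaf []))))) (ZT.node 13362 (ZT.node 13359 (ZT.node 13357 (ZT.leaf []) (ZT.node 13358 (ZT.leaf []) (ZT.leaf []))) (ZT.node 13360 (ZT.leaf []) (ZT.node 13361 (ZT.leaf []) (ZT.leaf [])))) (ZT.node 13365 (ZT.node 13363 (ZT.leaf []) (ZT.node 13364 (ZT.leaf []) (ZT.leaf []))) (ZT.node 13366 (ZT.leaf []) (ZT.node 13367 (ZT.leaf []) (ZT.leaf []))))))))))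

noncomputable def labT_27 : ZT := (ZT.node 13548 (ZT.node 13458 (ZT.node 13413 (ZT.node 13390 (ZT.node 13379 (ZT.node 13373 (ZT.node 13370 (ZT.node 13369 (ZT.leaf []) (ZT.leaf [])) (ZT.node 13371 (ZT.leaf [Int.negSucc 13856, Int.negSucc 4146, Int.ofNat 3103, Int.negSucc 573, Int.negSucc 8, Int.negSucc 1479, Int.negSucc 175, Int.ofNat 296, Int.ofNat 1, Int.ofNat 1, Int.ofNat 0, Int.ofNat 0, Int.negSucc 47, Int.negSucc 19, Int.ofNat 1506, Int.negSucc 6, Int.negSucc 251, Int.ofNat 0, Int.negSucc 1328]) (ZT.node 13372 (ZT.leaf [Int.negSucc 5911, Int.negSucc 2211, Int.ofNat 1395, Int.negSucc 371, Int.negSucc 6, Int.negSucc 749, Int.negSucc 86, Int.ofNat 167, Int.ofNat 4, Int.ofNat 0, Int.ofNat 0, Int.ofNat 0, Int.negSucc 12, Int.negSucc 3, Int.ofNat 782, Int.ofNat 0, Int.negSucc 102, Int.ofNat 0, Int.negSucc 644]) (ZT.leaf [])))) (ZT.node 13376 (ZT.node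 13374 (ZT.leaf []) (ZT.node 13375 (ZT.leaf [Int.ofNat 5911, Int.ofNat 2212, Int.negSucc 1394, Int.ofNat 372, Int.ofNat 7, Int.ofNat 750, Int.ofNat 87, Int.negSucc 166, Int.negSucc 3, Int.ofNat 0, Int.ofNat 0, Int.ofNat 0, Int.ofNat 13, Int.ofNat 4, Int.negSucc 781, Int.ofNat 0, Int.ofNat 103, Int.ofNat 0, Int.ofNat 645]) (ZT.leaf [Int.ofNat 10778, Int.ofNat 3005, Int.negSucc 2357, Int.ofNat 365, Int.ofNat 0, Int.ofNat 1086, Int.ofNat 150, Int.negSucc 222, Int.negSucc 6, Int.negSucc 0, Int.ofNat 0, Int.ofNat 0, Int.ofNat 43, Int.ofNat 15, Int.negSucc 1181, Int.ofNat 12, Int.ofNat 195, Int.ofNat 0, Int.ofNat 1002]))) (ZT.node 13377 (ZT.leaf []) (ZT.node 13378 (ZT.leaf []) (ZT.leaf []))))) (ZT.node 13384 (ZT.node 13381 (ZT.node 13380 (ZT.leaf []) (ZT.leaf [])) (ZT.node 13382 (ZT.leaf []) (ZT.node 13383 (ZT.leaf []) (ZT.leaf [])))) (ZT.node 13387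 (ZT.node 13385 (ZT.leaf []) (ZT.node 13386 (ZT.leaf []) (ZT.leaf []))) (ZT.node 13388 (ZT.leaf [Int.negSucc 7754, Int.negSucc 4295, Int.ofNat 1770, Int.negSucc 677, Int.negSucc 17, Int.negSucc 1120, Int.negSucc 190, Int.ofNat 368, Int.ofNat 64, Int.ofNat 0, Int.ofNat 0, Int.ofNat 0, Int.negSucc 15, Int.negSucc 12, Int.ofNat 1566, Int.ofNat 20, Int.negSucc 193, Int.ofNat 0, Int.negSucc 1036]) (ZT.node 13389 (ZT.leaf [Int.ofNat 971, Int.ofNat 957, Int.negSucc 228, Int.ofNat 161, Int.ofNat 5, Int.ofNat 213, Int.ofNat 45, Int.negSucc 85, Int.negSucc 17, Int.negSucc 0, Int.ofNat 0, Int.ofNat 0, Int.negSucc 0, Int.ofNat 5, Int.negSucc 318, Int.negSucc 6, Int.ofNat 26, Int.ofNat 0, Int.ofNat 194]) (ZT.leaf [])))))) (ZT.node 13401 (ZT.node 13395 (ZT.node 13392 (ZT.node 13391 (ZT.leaf []) (ZT.leaf [Int.negSucc 1901, Int.negSucc 1484, Int.ofNat 441, Int.negSucc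 245, Int.negSucc 4, Int.negSucc 339, Int.negSucc 63, Int.ofNat 122, Int.ofNat 25, Int.ofNat 1, Int.ofNat 0, Int.ofNat 0, Int.negSucc 3, Int.negSucc 6, Int.ofNat 504, Int.ofNat 8, Int.negSucc 41, Int.ofNat 0, Int.negSucc 315])) (ZT.node 13393 (ZT.leaf []) (ZT.node 13394 (ZT.leaf []) (ZT.leaf [])))) (ZT.node 13398 (ZT.node 13396 (ZT.leaf []) (ZT.node 13397 (ZT.leaf [Int.ofNat 23, Int.ofNat 6, Int.negSucc 2, Int.negSucc 0, Int.ofNat 0, Int.ofNat 0, Int.ofNat 0, Int.ofNat 1, Int.ofNat 0, Int.ofNat 0, Int.ofNat 0, Int.ofNat 0, Int.ofNat 0, Int.ofNat 0, Int.negSucc 0, Int.ofNat 0, Int.ofNat 0, Int.ofNat 0, Int.ofNat 1]) (ZT.leaf []))) (ZT.node 13399 (ZT.leaf []) (ZT.node 13400 (ZT.leaf []) (ZT.leaf []))))) (ZT.node 13407 (ZT.node 13404 (ZT.node 13402 (ZT.leaf []) (ZT.node 13403 (ZT.leaf []) (ZT.leaf []))) (ZT.node 13405 (ZT.leaf []) (ZT.node 13406 (ZT.leaf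 []) (ZT.leaf [])))) (ZT.node 13410 (ZT.node 13408 (ZT.leaf []) (ZT.node 13409 (ZT.leaf []) (ZT.leaf []))) (ZT.node 13411 (ZT.leaf []) (ZT.node 13412 (ZT.leaf []) (ZT.leaf []))))))) (ZT.node 13435 (ZT.node 13424 (ZT.node 13418 (ZT.node 13415 (ZT.node 13414 (ZT.leaf []) (ZT.leaf [])) (ZT.node 13416 (ZT.leaf []) (ZT.node 13417 (ZT.leaf []) (ZT.leaf [])))) (ZT.node 13421 (ZT.node 13419 (ZT.leaf []) (ZT.node 13420 (ZT.leaf []) (ZT.leaf []))) (ZT.node 13422 (ZT.leaf []) (ZT.node 13423 (ZT.leaf []) (ZT.leaf []))))) (ZT.node 13429 (ZT.node 13426 (ZT.node 13425 (ZT.leaf [Int.ofNat 3702, Int.ofNat 1969, Int.negSucc 916, Int.ofNat 347, Int.ofNat 8, Int.ofNat 576, Int.ofNat 63, Int.negSucc 158, Int.negSucc 13, Int.ofNat 0, Int.ofNat 0, Int.ofNat 0, Int.ofNat 2, Int.ofNat 8, Int.negSucc 669, Int.negSucc 7, Int.ofNat 91, Int.ofNat 0, Int.ofNat 500]) (ZT.leaf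 [])) (ZT.node 13427 (ZT.leaf []) (ZT.node 13428 (ZT.leaf []) (ZT.leaf [Int.ofNat 1027, Int.ofNat 540, Int.negSucc 238, Int.ofNat 89, Int.ofNat 2, Int.ofNat 146, Int.ofNat 19, Int.negSucc 35, Int.negSucc 3, Int.ofNat 0, Int.ofNat 0, Int.ofNat 0, Int.ofNat 3, Int.ofNat 3, Int.negSucc 170, Int.negSucc 2, Int.ofNat 18, Int.ofNat 0, Int.ofNat 130])))) (ZT.node 13432 (ZT.node 13430 (ZT.leaf []) (ZT.node 13431 (ZT.leaf []) (ZT.leaf []))) (ZT.node 13433 (ZT.leaf []) (ZT.node 13434 (ZT.leaf []) (ZT.leaf [])))))) (ZT.node 13446 (ZT.node 13440 (ZT.node 13437 (ZT.node 13436 (ZT.leaf []) (ZT.leaf [])) (ZT.node 13438 (ZT.leaf []) (ZT.node 13439 (ZT.leaf []) (ZT.leaf [])))) (ZT.node 13443 (ZT.node 13441 (ZT.leaf []) (ZT.node 13442 (ZT.leaf [Int.negSucc 25915, Int.negSucc 11758, Int.ofNat 6064, Int.negSucc 1902, Int.negSucc 50, Int.negSucc 3493, Int.negSucc 412,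 Int.ofNat 940, Int.ofNat 91, Int.negSucc 1, Int.ofNat 1, Int.negSucc 0, Int.negSucc 41, Int.negSucc 38, Int.ofNat 4034, Int.ofNat 26, Int.negSucc 629, Int.negSucc 0, Int.negSucc 3109]) (ZT.leaf []))) (ZT.node 13444 (ZT.leaf []) (ZT.node 13445 (ZT.leaf []) (ZT.leaf []))))) (ZT.node 13452 (ZT.node 13449 (ZT.node 13447 (ZT.leaf []) (ZT.node 13448 (ZT.leaf []) (ZT.leaf []))) (ZT.node 13450 (ZT.leaf []) (ZT.node 13451 (ZT.leaf []) (ZT.leaf [])))) (ZT.node 13455 (ZT.node 13453 (ZT.leaf []) (ZT.node 13454 (ZT.leaf []) (ZT.leaf []))) (ZT.node 13456 (ZT.leaf []) (ZT.node 13457 (ZT.leaf [Int.ofNat 84, Int.ofNat 28, Int.negSucc 21, Int.ofNat 4, Int.ofNat 0, Int.ofNat 10, Int.ofNat 0, Int.negSucc 0, Int.ofNat 0, Int.negSucc 0, Int.ofNat 0, Int.ofNat 0, Int.ofNat 0, Int.ofNat 0, Int.negSucc 10, Int.ofNat 0, Int.ofNat 2, Int.ofNat 0, Int.ofNat 9]) (ZT.leaf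 [])))))))) (ZT.node 13503 (ZT.node 13480 (ZT.node 13469 (ZT.node 13463 (ZT.node 13460 (ZT.node 13459 (ZT.leaf []) (ZT.leaf [])) (ZT.node 13461 (ZT.leaf []) (ZT.node 13462 (ZT.leaf []) (ZT.leaf [Int.negSucc 0])))) (ZT.node 13466 (ZT.node 13464 (ZT.leaf [Int.negSucc 9655, Int.negSucc 4863, Int.ofNat 2301, Int.negSucc 826, Int.negSucc 18, Int.negSucc 1447, Int.negSucc 140, Int.ofNat 406, Int.ofNat 31, Int.ofNat 0, Int.ofNat 0, Int.ofNat 0, Int.ofNat 1, Int.negSucc 9, Int.ofNat 1510, Int.ofNat 17, Int.negSucc 258, Int.ofNat 0, Int.negSucc 1235]) (ZT.node 13465 (ZT.leaf []) (ZT.leaf [Int.ofNat 2337, Int.negSucc 270, Int.negSucc 457, Int.negSucc 92, Int.negSucc 1, Int.ofNat 148, Int.ofNat 1, Int.negSucc 18, Int.ofNat 12, Int.ofNat 0, Int.ofNat 0, Int.ofNat 0, Int.ofNat 0, Int.negSucc 14, Int.ofNat 135, Int.ofNat 20, Int.ofNat 54, Int.ofNat 0, Int.ofNat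 97]))) (ZT.node 13467 (ZT.leaf []) (ZT.node 13468 (ZT.leaf []) (ZT.leaf [Int.negSucc 1331, Int.negSucc 736, Int.ofNat 318, Int.negSucc 121, Int.negSucc 2, Int.negSucc 198, Int.negSucc 27, Int.ofNat 67, Int.ofNat 10, Int.ofNat 0, Int.ofNat 0, Int.ofNat 0, Int.ofNat 0, Int.negSucc 2, Int.ofNat 254, Int.ofNat 2, Int.negSucc 36, Int.ofNat 0, Int.negSucc 182]))))) (ZT.node 13474 (ZT.node 13471 (ZT.node 13470 (ZT.leaf []) (ZT.leaf [])) (ZT.node 13472 (ZT.leaf []) (ZT.node 13473 (ZT.leaf []) (ZT.leaf [])))) (ZT.node 13477 (ZT.node 13475 (ZT.leaf []) (ZT.node 13476 (ZT.leaf []) (ZT.leaf []))) (ZT.node 13478 (ZT.leaf []) (ZT.node 13479 (ZT.leaf []) (ZT.leaf [Int.negSucc 6, Int.ofNat 12, Int.ofNat 2, Int.ofNat 1, Int.ofNat 0, Int.ofNat 0, Int.ofNat 0, Int.negSucc 0, Int.negSucc 0, Int.negSucc 0, Int.ofNat 0, Int.ofNat 0, Int.ofNat 0, Int.ofNat 0, Int.negSucc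 6, Int.ofNat 0, Int.ofNat 0, Int.ofNat 0, Int.ofNat 1])))))) (ZT.node 13491 (ZT.node 13485 (ZT.node 13482 (ZT.node 13481 (ZT.leaf []) (ZT.leaf [])) (ZT.node 13483 (ZT.leaf []) (ZT.node 13484 (ZT.leaf []) (ZT.leaf [])))) (ZT.node 13488 (ZT.node 13486 (ZT.leaf []) (ZT.node 13487 (ZT.leaf []) (ZT.leaf []))) (ZT.node 13489 (ZT.leaf []) (ZT.node 13490 (ZT.leaf []) (ZT.leaf []))))) (ZT.node 13497 (ZT.node 13494 (ZT.node 13492 (ZT.leaf []) (ZT.node 13493 (ZT.leaf []) (ZT.leaf []))) (ZT.node 13495 (ZT.leaf []) (ZT.node 13496 (ZT.leaf []) (ZT.leaf [])))) (ZT.node 13500 (ZT.node 13498 (ZT.leaf []) (ZT.node 13499 (ZT.leaf []) (ZT.leaf []))) (ZT.node 13501 (ZT.leaf []) (ZT.node 13502 (ZT.leaf []) (ZT.leaf []))))))) (ZT.node 13525 (ZT.node 13514 (ZT.node 13508 (ZT.node 13505 (ZT.node 13504 (ZT.leaf []) (ZT.leaf [])) (ZT.node 13506 (ZT.leaf []) (ZT.node 13507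 (ZT.leaf []) (ZT.leaf [])))) (ZT.node 13511 (ZT.node 13509 (ZT.leaf [Int.ofNat 2414, Int.ofNat 2137, Int.negSucc 630, Int.ofNat 384, Int.ofNat 10, Int.ofNat 512, Int.ofNat 62, Int.negSucc 168, Int.negSucc 26, Int.ofNat 0, Int.ofNat 0, Int.ofNat 0, Int.negSucc 1, Int.ofNat 13, Int.negSucc 692, Int.negSucc 15, Int.ofNat 91, Int.ofNat 0, Int.ofNat 452]) (ZT.node 13510 (ZT.leaf []) (ZT.leaf []))) (ZT.node 13512 (ZT.leaf [Int.ofNat 6186, Int.ofNat 2481, Int.negSucc 1461, Int.ofNat 399, Int.ofNat 7, Int.ofNat 791, Int.ofNat 70, Int.negSucc 168, Int.negSucc 5, Int.ofNat 0, Int.ofNat 0, Int.ofNat 0, Int.ofNat 16, Int.ofNat 11, Int.negSucc 845, Int.negSucc 1, Int.ofNat 143, Int.ofNat 0, Int.ofNat 701]) (ZT.node 13513 (ZT.leaf [Int.negSucc 1311, Int.negSucc 2283, Int.ofNat 402, Int.negSucc 423, Int.negSucc 13, Int.negSucc 467, Int.negSucc 59, Int.ofNat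 185, Int.ofNat 40, Int.ofNat 0, Int.ofNat 0, Int.ofNat 0, Int.ofNat 7, Int.negSucc 16, Int.ofNat 759, Int.ofNat 21, Int.negSucc 101, Int.ofNat 0, Int.negSucc 417]) (ZT.leaf []))))) (ZT.node 13519 (ZT.node 13516 (ZT.node 13515 (ZT.leaf []) (ZT.leaf [])) (ZT.node 13517 (ZT.leaf []) (ZT.node 13518 (ZT.leaf []) (ZT.leaf [])))) (ZT.node 13522 (ZT.node 13520 (ZT.leaf []) (ZT.node 13521 (ZT.leaf []) (ZT.leaf [Int.negSucc 99, Int.negSucc 26, Int.ofNat 21, Int.negSucc 1, Int.ofNat 0, Int.negSucc 9, Int.ofNat 1, Int.negSucc 0, Int.negSucc 0, Int.ofNat 0, Int.ofNat 0, Int.ofNat 0, Int.negSucc 0, Int.ofNat 0, Int.ofNat 4, Int.ofNat 0, Int.negSucc 0, Int.ofNat 0, Int.negSucc 7]))) (ZT.node 13523 (ZT.leaf []) (ZT.node 13524 (ZT.leaf []) (ZT.leaf [])))))) (ZT.node 13536 (ZT.node 13530 (ZT.node 13527 (ZT.node 13526 (ZT.leaf []) (ZT.leaf [])) (ZT.node 13528 (ZT.leaf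 []) (ZT.node 13529 (ZT.leaf []) (ZT.leaf [])))) (ZT.node 13533 (ZT.node 13531 (ZT.leaf []) (ZT.node 13532 (ZT.leaf []) (ZT.leaf []))) (ZT.node 13534 (ZT.leaf []) (ZT.node 13535 (ZT.leaf []) (ZT.leaf []))))) (ZT.node 13542 (ZT.node 13539 (ZT.node 13537 (ZT.leaf [Int.negSucc 27263, Int.negSucc 13460, Int.ofNat 6305, Int.negSucc 2154, Int.negSucc 62, Int.negSucc 3777, Int.negSucc 508, Int.ofNat 1124, Int.ofNat 149, Int.negSucc 0, Int.ofNat 1, Int.negSucc 0, Int.negSucc 41, Int.negSucc 40, Int.ofNat 4757, Int.ofNat 29, Int.negSucc 711, Int.negSucc 0, Int.negSucc 3412]) (ZT.node 13538 (ZT.leaf []) (ZT.leaf []))) (ZT.node 13540 (ZT.leaf []) (ZT.node 13541 (ZT.leaf []) (ZT.leaf [])))) (ZT.node 13545 (ZT.node 13543 (ZT.leaf []) (ZT.node 13544 (ZT.leaf []) (ZT.leaf []))) (ZT.node 13546 (ZT.leaf []) (ZT.node 13547 (ZT.leaf []) (ZT.leaf []))))))))) (ZT.node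 13638 (ZT.node 13593 (ZT.node 13570 (ZT.node 13559 (ZT.node 13553 (ZT.node 13550 (ZT.node 13549 (ZT.leaf []) (ZT.leaf [])) (ZT.node 13551 (ZT.leaf []) (ZT.node 13552 (ZT.leaf []) (ZT.leaf [])))) (ZT.node 13556 (ZT.node 13554 (ZT.leaf []) (ZT.node 13555 (ZT.leaf []) (ZT.leaf []))) (ZT.node 13557 (ZT.leaf []) (ZT.node 13558 (ZT.leaf []) (ZT.leaf []))))) (ZT.node 13564 (ZT.node 13561 (ZT.node 13560 (ZT.leaf []) (ZT.leaf [])) (ZT.node 13562 (ZT.leaf []) (ZT.node 13563 (ZT.leaf []) (ZT.leaf [])))) (ZT.node 13567 (ZT.node 13565 (ZT.leaf []) (ZT.node 13566 (ZT.leaf []) (ZT.leaf []))) (ZT.node 13568 (ZT.leaf []) (ZT.node 13569 (ZT.leaf []) (ZT.leaf [])))))) (ZT.node 13581 (ZT.node 13575 (ZT.node 13572 (ZT.node 13571 (ZT.leaf []) (ZT.leaf [])) (ZT.node 13573 (ZT.leaf []) (ZT.node 13574 (ZT.leaf []) (ZT.leaf [])))) (ZT.node 13578 (ZT.node 13576 (ZT.leaf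 []) (ZT.node 13577 (ZT.leaf []) (ZT.leaf []))) (ZT.node 13579 (ZT.leaf []) (ZT.node 13580 (ZT.leaf []) (ZT.leaf []))))) (ZT.node 13587 (ZT.node 13584 (ZT.node 13582 (ZT.leaf []) (ZT.node 13583 (ZT.leaf []) (ZT.leaf []))) (ZT.node 13585 (ZT.leaf [Int.negSucc 23, Int.ofNat 7, Int.ofNat 13, Int.negSucc 3, Int.ofNat 0, Int.negSucc 9, Int.negSucc 0, Int.ofNat 0, Int.negSucc 1, Int.ofNat 0, Int.ofNat 0, Int.ofNat 0, Int.ofNat 1, Int.ofNat 0, Int.negSucc 6, Int.ofNat 0, Int.ofNat 4, Int.ofNat 0, Int.negSucc 2]) (ZT.node 13586 (ZT.leaf [Int.ofNat 161, Int.ofNat 21, Int.negSucc 44, Int.ofNat 7, Int.ofNat 0, Int.ofNat 23, Int.ofNat 0, Int.ofNat 1, Int.ofNat 3, Int.ofNat 0, Int.ofNat 0, Int.ofNat 0, Int.ofNat 0, Int.ofNat 0, Int.negSucc 0, Int.ofNat 0, Int.ofNat 0, Int.ofNat 0, Int.ofNat 15]) (ZT.leaf [])))) (ZT.node 13590 (ZT.node 13588 (ZT.leaf []) (ZT.node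 13589 (ZT.leaf []) (ZT.leaf []))) (ZT.node 13591 (ZT.leaf []) (ZT.node 13592 (ZT.leaf []) (ZT.leaf [Int.ofNat 3335, Int.negSucc 1491, Int.negSucc 610, Int.negSucc 360, Int.negSucc 18, Int.negSucc 55, Int.negSucc 59, Int.ofNat 162, Int.ofNat 60, Int.ofNat 1, Int.ofNat 0, Int.ofNat 1, Int.ofNat 37, Int.negSucc 12, Int.ofNat 320, Int.ofNat 40, Int.ofNat 11, Int.ofNat 1, Int.negSucc 56]))))))) (ZT.node 13615 (ZT.node 13604 (ZT.node 13598 (ZT.node 13595 (ZT.node 13594 (ZT.leaf []) (ZT.leaf [])) (ZT.node 13596 (ZT.leaf [Int.negSucc 7074, Int.negSucc 5605, Int.ofNat 1661, Int.negSucc 932, Int.negSucc 25, Int.negSucc 1288, Int.negSucc 259, Int.ofNat 499, Int.ofNat 110, Int.ofNat 1, Int.ofNat 0, Int.ofNat 1, Int.negSucc 5, Int.negSucc 19, Int.ofNat 2012, Int.ofNat 36, Int.negSucc 210, Int.ofNat 1, Int.negSucc 1202]) (ZT.node 13597 (ZT.leaf []) (ZT.leaf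 [Int.negSucc 1315, Int.negSucc 728, Int.ofNat 319, Int.negSucc 121, Int.negSucc 1, Int.negSucc 199, Int.negSucc 28, Int.ofNat 65, Int.ofNat 10, Int.ofNat 0, Int.ofNat 0, Int.ofNat 0, Int.negSucc 1, Int.negSucc 1, Int.ofNat 262, Int.ofNat 2, Int.negSucc 34, Int.ofNat 0, Int.negSucc 182])))) (ZT.node 13601 (ZT.node 13599 (ZT.leaf []) (ZT.node 13600 (ZT.leaf []) (ZT.leaf []))) (ZT.node 13602 (ZT.leaf []) (ZT.node 13603 (ZT.leaf []) (ZT.leaf [Int.negSucc 2, Int.negSucc 1, Int.ofNat 0, Int.ofNat 0, Int.ofNat 0, Int.ofNat 0, Int.ofNat 0, Int.ofNat 0, Int.ofNat 0, Int.ofNat 0, Int.ofNat 0, Int.ofNat 0, Int.ofNat 0, Int.ofNat 0, Int.ofNat 0, Int.ofNat 0, Int.ofNat 0, Int.ofNat 0, Int.ofNat 0]))))) (ZT.node 13609 (ZT.node 13606 (ZT.node 13605 (ZT.leaf [Int.ofNat 109, Int.ofNat 21, Int.negSucc 27, Int.ofNat 4, Int.ofNat 0, Int.ofNat 11, Int.ofNat 0, Int.negSucc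 0, Int.ofNat 1, Int.ofNat 0, Int.ofNat 0, Int.ofNat 0, Int.ofNat 0, Int.ofNat 0, Int.negSucc 3, Int.ofNat 0, Int.ofNat 1, Int.ofNat 0, Int.ofNat 9]) (ZT.leaf [])) (ZT.node 13607 (ZT.leaf []) (ZT.node 13608 (ZT.leaf []) (ZT.leaf [])))) (ZT.node 13612 (ZT.node 13610 (ZT.leaf []) (ZT.node 13611 (ZT.leaf []) (ZT.leaf [Int.ofNat 2480, Int.ofNat 859, Int.negSucc 573, Int.ofNat 134, Int.ofNat 3, Int.ofNat 300, Int.ofNat 43, Int.negSucc 77, Int.negSucc 3, Int.ofNat 0, Int.ofNat 0, Int.ofNat 0, Int.ofNat 3, Int.ofNat 1, Int.negSucc 365, Int.ofNat 3, Int.ofNat 53, Int.ofNat 0, Int.ofNat 267]))) (ZT.node 13613 (ZT.leaf []) (ZT.node 13614 (ZT.leaf []) (ZT.leaf [Int.negSucc 2386, Int.negSucc 960, Int.ofNat 551, Int.negSucc 151, Int.negSucc 3, Int.negSucc 292, Int.negSucc 39, Int.ofNat 78, Int.ofNat 8, Int.ofNat 0, Int.ofNat 0, Int.ofNat 0, Int.negSucc 3, Int.negSucc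 0, Int.ofNat 398, Int.negSucc 1, Int.negSucc 61, Int.ofNat 0, Int.negSucc 264])))))) (ZT.node 13626 (ZT.node 13620 (ZT.node 13617 (ZT.node 13616 (ZT.leaf []) (ZT.leaf [Int.ofNat 505, Int.ofNat 72, Int.negSucc 131, Int.ofNat 18, Int.ofNat 0, Int.ofNat 53, Int.negSucc 1, Int.ofNat 2, Int.ofNat 6, Int.ofNat 0, Int.ofNat 0, Int.ofNat 0, Int.ofNat 2, Int.ofNat 1, Int.negSucc 12, Int.ofNat 0, Int.ofNat 2, Int.ofNat 0, Int.ofNat 44])) (ZT.node 13618 (ZT.leaf []) (ZT.node 13619 (ZT.leaf []) (ZT.leaf [])))) (ZT.node 13623 (ZT.node 13621 (ZT.leaf []) (ZT.node 13622 (ZT.leaf []) (ZT.leaf [Int.negSucc 109, Int.negSucc 100, Int.negSucc 8, Int.ofNat 6, Int.ofNat 1, Int.ofNat 0, Int.negSucc 4, Int.ofNat 4, Int.ofNat 5, Int.ofNat 0, Int.ofNat 0, Int.ofNat 0, Int.negSucc 2, Int.negSucc 0, Int.ofNat 52, Int.negSucc 0, Int.negSucc 5, Int.ofNat 0, Int.negSucc 9])))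 (ZT.node 13624 (ZT.leaf []) (ZT.node 13625 (ZT.leaf []) (ZT.leaf []))))) (ZT.node 13632 (ZT.node 13629 (ZT.node 13627 (ZT.leaf []) (ZT.node 13628 (ZT.leaf []) (ZT.leaf []))) (ZT.node 13630 (ZT.leaf []) (ZT.node 13631 (ZT.leaf []) (ZT.leaf [])))) (ZT.node 13635 (ZT.node 13633 (ZT.leaf []) (ZT.node 13634 (ZT.leaf []) (ZT.leaf []))) (ZT.node 13636 (ZT.leaf []) (ZT.node 13637 (ZT.leaf []) (ZT.leaf [])))))))) (ZT.node 13683 (ZT.node 13660 (ZT.node 13649 (ZT.node 13643 (ZT.node 13640 (ZT.node 13639 (ZT.leaf []) (ZT.leaf [])) (ZT.node 13641 (ZT.leaf []) (ZT.node 13642 (ZT.leaf []) (ZT.leaf [])))) (ZT.node 13646 (ZT.node 13644 (ZT.leaf [Int.ofNat 1902, Int.ofNat 1485, Int.negSucc 440, Int.ofNat 246, Int.ofNat 5, Int.ofNat 340, Int.ofNat 64, Int.negSucc 121, Int.negSucc 24, Int.negSucc 0, Int.ofNat 0, Int.ofNat 0, Int.ofNat 4, Int.ofNat 7, Int.negSucc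 503, Int.negSucc 7, Int.ofNat 42, Int.ofNat 0, Int.ofNat 316]) (ZT.node 13645 (ZT.leaf []) (ZT.leaf [Int.ofNat 393, Int.ofNat 298, Int.negSucc 82, Int.ofNat 43, Int.ofNat 1, Int.ofNat 65, Int.ofNat 11, Int.negSucc 18, Int.negSucc 3, Int.ofNat 1, Int.ofNat 0, Int.ofNat 0, Int.ofNat 2, Int.ofNat 1, Int.negSucc 87, Int.negSucc 1, Int.ofNat 6, Int.ofNat 0, Int.ofNat 58]))) (ZT.node 13647 (ZT.leaf [Int.negSucc 268, Int.negSucc 20, Int.ofNat 52, Int.ofNat 1, Int.ofNat 1, Int.negSucc 14, Int.negSucc 5, Int.ofNat 6, Int.negSucc 0, Int.ofNat 0, Int.ofNat 0, Int.ofNat 0, Int.negSucc 0, Int.ofNat 0, Int.ofNat 32, Int.negSucc 0, Int.negSucc 2, Int.ofNat 0, Int.negSucc 16]) (ZT.node 13648 (ZT.leaf [Int.negSucc 18905, Int.negSucc 8376, Int.ofNat 4262, Int.negSucc 1294, Int.negSucc 44, Int.negSucc 2384, Int.negSucc 336, Int.ofNat 730, Int.ofNat 105, Int.negSucc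 0, Int.ofNat 0, Int.negSucc 0, Int.negSucc 26, Int.negSucc 2, Int.ofNat 3165, Int.ofNat 3, Int.negSucc 496, Int.negSucc 0, Int.negSucc 2200]) (ZT.leaf [Int.negSucc 4137, Int.negSucc 2389, Int.ofNat 1012, Int.negSucc 407, Int.negSucc 2, Int.negSucc 659, Int.negSucc 48, Int.ofNat 133, Int.ofNat 4, Int.negSucc 0, Int.ofNat 0, Int.ofNat 0, Int.negSucc 11, Int.negSucc 18, Int.ofNat 705, Int.ofNat 14, Int.negSucc 87, Int.negSucc 0, Int.negSucc 561]))))) (ZT.node 13654 (ZT.node 13651 (ZT.node 13650 (ZT.leaf [Int.ofNat 6262, Int.ofNat 4866, Int.negSucc 1546, Int.ofNat 839, Int.ofNat 17, Int.ofNat 1188, Int.ofNat 139, Int.negSucc 337, Int.negSucc 49, Int.ofNat 0, Int.ofNat 0, Int.ofNat 0, Int.ofNat 9, Int.ofNat 35, Int.negSucc 1531, Int.negSucc 31, Int.ofNat 177, Int.ofNat 1, Int.ofNat 1038]) (ZT.leaf [])) (ZT.node 13652 (ZT.leaf []) (ZT.node 13653 (ZT.leaf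 []) (ZT.leaf [Int.negSucc 7601, Int.negSucc 4099, Int.ofNat 1741, Int.negSucc 645, Int.negSucc 15, Int.negSucc 1096, Int.negSucc 159, Int.ofNat 320, Int.ofNat 44, Int.ofNat 0, Int.ofNat 0, Int.ofNat 0, Int.negSucc 17, Int.negSucc 16, Int.ofNat 1438, Int.ofNat 21, Int.negSucc 172, Int.ofNat 0, Int.negSucc 992])))) (ZT.node 13657 (ZT.node 13655 (ZT.leaf [Int.negSucc 0]) (ZT.node 13656 (ZT.leaf []) (ZT.leaf []))) (ZT.node 13658 (ZT.leaf []) (ZT.node 13659 (ZT.leaf []) (ZT.leaf [Int.negSucc 0])))))) (ZT.node 13671 (ZT.node 13665 (ZT.node 13662 (ZT.node 13661 (ZT.leaf [Int.negSucc 5093, Int.negSucc 3260, Int.ofNat 1168, Int.negSucc 528, Int.negSucc 14, Int.negSucc 783, Int.negSucc 122, Int.ofNat 264, Int.ofNat 48, Int.ofNat 0, Int.ofNat 0, Int.negSucc 0, Int.negSucc 10, Int.negSucc 13, Int.ofNat 1091, Int.ofNat 17, Int.negSucc 137, Int.negSucc 0, Int.negSucc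 726]) (ZT.leaf [Int.ofNat 2637, Int.negSucc 1004, Int.negSucc 429, Int.negSucc 290, Int.negSucc 9, Int.negSucc 88, Int.negSucc 6, Int.ofNat 97, Int.ofNat 22, Int.ofNat 1, Int.ofNat 0, Int.ofNat 0, Int.ofNat 31, Int.negSucc 6, Int.ofNat 187, Int.ofNat 32, Int.ofNat 28, Int.ofNat 0, Int.negSucc 30])) (ZT.node 13663 (ZT.leaf []) (ZT.node 13664 (ZT.leaf []) (ZT.leaf [Int.ofNat 0, Int.ofNat 0, Int.ofNat 0, Int.ofNat 0, Int.ofNat 0, Int.ofNat 0, Int.ofNat 0, Int.ofNat 0, Int.ofNat 1])))) (ZT.node 13668 (ZT.node 13666 (ZT.leaf []) (ZT.node 13667 (ZT.leaf []) (ZT.leaf []))) (ZT.node 13669 (ZT.leaf []) (ZT.node 13670 (ZT.leaf []) (ZT.leaf []))))) (ZT.node 13677 (ZT.node 13674 (ZT.node 13672 (ZT.leaf []) (ZT.node 13673 (ZT.leaf []) (ZT.leaf []))) (ZT.node 13675 (ZT.leaf []) (ZT.node 13676 (ZT.leaf []) (ZT.leaf [])))) (ZT.node 13680 (ZT.node 13678 (ZT.leaf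 []) (ZT.node 13679 (ZT.leaf []) (ZT.leaf []))) (ZT.node 13681 (ZT.leaf []) (ZT.node 13682 (ZT.leaf []) (ZT.leaf []))))))) (ZT.node 13705 (ZT.node 13694 (ZT.node 13688 (ZT.node 13685 (ZT.node 13684 (ZT.leaf []) (ZT.leaf [])) (ZT.node 13686 (ZT.leaf [Int.ofNat 7803, Int.ofNat 1989, Int.negSucc 1722, Int.ofNat 251, Int.ofNat 9, Int.ofNat 756, Int.ofNat 82, Int.negSucc 156, Int.negSucc 3, Int.negSucc 0, Int.ofNat 0, Int.ofNat 0, Int.ofNat 24, Int.ofNat 2, Int.negSucc 795, Int.ofNat 14, Int.ofNat 181, Int.ofNat 0, Int.ofNat 699]) (ZT.node 13687 (ZT.leaf []) (ZT.leaf [])))) (ZT.node 13691 (ZT.node 13689 (ZT.leaf []) (ZT.node 13690 (ZT.leaf []) (ZT.leaf [Int.negSucc 355, Int.ofNat 681, Int.ofNat 81, Int.ofNat 123, Int.ofNat 5, Int.ofNat 56, Int.ofNat 38, Int.negSucc 73, Int.negSucc 31, Int.negSucc 0, Int.ofNat 0, Int.ofNat 0, Int.negSucc 0, Int.ofNat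 2, Int.negSucc 200, Int.negSucc 8, Int.ofNat 8, Int.ofNat 0, Int.ofNat 70]))) (ZT.node 13692 (ZT.leaf []) (ZT.node 13693 (ZT.leaf []) (ZT.leaf []))))) (ZT.node 13699 (ZT.node 13696 (ZT.node 13695 (ZT.leaf []) (ZT.leaf [])) (ZT.node 13697 (ZT.leaf []) (ZT.node 13698 (ZT.leaf []) (ZT.leaf [])))) (ZT.node 13702 (ZT.node 13700 (ZT.leaf []) (ZT.node 13701 (ZT.leaf []) (ZT.leaf []))) (ZT.node 13703 (ZT.leaf []) (ZT.node 13704 (ZT.leaf []) (ZT.leaf [])))))) (ZT.node 13716 (ZT.node 13710 (ZT.node 13707 (ZT.node 13706 (ZT.leaf []) (ZT.leaf [])) (ZT.node 13708 (ZT.leaf []) (ZT.node 13709 (ZT.leaf []) (ZT.leaf [])))) (ZT.node 13713 (ZT.node 13711 (ZT.leaf []) (ZT.node 13712 (ZT.leaf []) (ZT.leaf []))) (ZT.node 13714 (ZT.leaf []) (ZT.node 13715 (ZT.leaf []) (ZT.leaf []))))) (ZT.node 13722 (ZT.node 13719 (ZT.node 13717 (ZT.leaf []) (ZT.node 13718 (ZT.leaf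 [Int.negSucc 1048, Int.negSucc 953, Int.ofNat 243, Int.negSucc 156, Int.negSucc 3, Int.negSucc 214, Int.negSucc 43, Int.ofNat 83, Int.ofNat 17, Int.ofNat 1, Int.ofNat 0, Int.ofNat 0, Int.ofNat 0, Int.negSucc 4, Int.ofNat 318, Int.ofNat 6, Int.negSucc 25, Int.ofNat 0, Int.negSucc 195]) (ZT.leaf [Int.ofNat 2549, Int.ofNat 842, Int.negSucc 580, Int.ofNat 119, Int.ofNat 1, Int.ofNat 280, Int.ofNat 21, Int.negSucc 46, Int.ofNat 0, Int.ofNat 0, Int.ofNat 0, Int.ofNat 0, Int.ofNat 10, Int.ofNat 2, Int.negSucc 289, Int.ofNat 2, Int.ofNat 53, Int.ofNat 0, Int.ofNat 255]))) (ZT.node 13720 (ZT.leaf [Int.ofNat 620, Int.ofNat 79, Int.negSucc 133, Int.negSucc 4, Int.negSucc 3, Int.ofNat 41, Int.negSucc 2, Int.ofNat 9, Int.ofNat 3, Int.ofNat 0, Int.ofNat 0, Int.ofNat 0, Int.ofNat 6, Int.ofNat 0, Int.negSucc 12, Int.ofNat 3, Int.ofNat 12, Int.ofNat 0, Int.ofNat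 43]) (ZT.node 13721 (ZT.leaf [Int.negSucc 2297, Int.negSucc 756, Int.ofNat 524, Int.negSucc 104, Int.ofNat 0, Int.negSucc 259, Int.negSucc 19, Int.ofNat 44, Int.negSucc 0, Int.ofNat 0, Int.ofNat 0, Int.ofNat 0, Int.negSucc 7, Int.negSucc 1, Int.ofNat 256, Int.negSucc 1, Int.negSucc 46, Int.ofNat 0, Int.negSucc 232]) (ZT.leaf [])))) (ZT.node 13725 (ZT.node 13723 (ZT.leaf []) (ZT.node 13724 (ZT.leaf [Int.negSucc 2762, Int.negSucc 1688, Int.ofNat 620, Int.negSucc 233, Int.negSucc 0, Int.negSucc 424, Int.negSucc 71, Int.ofNat 150, Int.ofNat 28, Int.ofNat 1, Int.ofNat 0, Int.ofNat 0, Int.negSucc 7, Int.negSucc 11, Int.ofNat 600, Int.ofNat 6, Int.negSucc 98, Int.ofNat 0, Int.negSucc 411]) (ZT.leaf []))) (ZT.node 13726 (ZT.leaf []) (ZT.node 13727 (ZT.leaf []) (ZT.leaf []))))))))))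

noncomputable def labT_28 : ZT := (ZT.node 13908 (ZT.node 13818 (ZT.node 13773 (ZT.node 13750 (ZT.node 13739 (ZT.node 13733 (ZT.node 13730 (ZT.node 13729 (ZT.leaf [Int.negSucc 1, Int.negSucc 0, Int.ofNat 0, Int.ofNat 0, Int.ofNat 0, Int.ofNat 0, Int.ofNat 0, Int.ofNat 0, Int.ofNat 0, Int.ofNat 0, Int.ofNat 0, Int.ofNat 0, Int.ofNat 0, Int.ofNat 0, Int.ofNat 0, Int.ofNat 0, Int.ofNat 0, Int.ofNat 0, Int.ofNat 0]) (ZT.leaf [])) (ZT.node 13731 (ZT.leaf []) (ZT.node 13732 (ZT.leaf []) (ZT.leaf [])))) (ZT.node 13736 (ZT.node 13734 (ZT.leaf []) (ZT.node 13735 (ZT.leaf []) (ZT.leaf []))) (ZT.node 13737 (ZT.leaf []) (ZT.node 13738 (ZT.leaf []) (ZT.leaf []))))) (ZT.node 13744 (ZT.node 13741 (ZT.node 13740 (ZT.leaf [Int.ofNat 235, Int.ofNat 120, Int.negSucc 48, Int.ofNat 17, Int.ofNat 1, Int.ofNat 27, Int.ofNat 0, Int.ofNat 0, Int.ofNat 2, Int.ofNat 0,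 Int.ofNat 0, Int.ofNat 0, Int.ofNat 1, Int.ofNat 2, Int.negSucc 15, Int.negSucc 1, Int.ofNat 0, Int.ofNat 0, Int.ofNat 22]) (ZT.leaf [])) (ZT.node 13742 (ZT.leaf [Int.negSucc 760, Int.negSucc 575, Int.ofNat 182, Int.negSucc 95, Int.negSucc 1, Int.negSucc 132, Int.negSucc 27, Int.ofNat 57, Int.ofNat 13, Int.ofNat 0, Int.ofNat 0, Int.ofNat 0, Int.ofNat 1, Int.negSucc 0, Int.ofNat 210, Int.ofNat 2, Int.negSucc 20, Int.ofNat 0, Int.negSucc 125]) (ZT.node 13743 (ZT.leaf []) (ZT.leaf [])))) (ZT.node 13747 (ZT.node 13745 (ZT.leaf []) (ZT.node 13746 (ZT.leaf []) (ZT.leaf []))) (ZT.node 13748 (ZT.leaf []) (ZT.node 13749 (ZT.leaf []) (ZT.leaf [])))))) (ZT.node 13761 (ZT.node 13755 (ZT.node 13752 (ZT.node 13751 (ZT.leaf []) (ZT.leaf [Int.ofNat 1514, Int.ofNat 913, Int.negSucc 348, Int.ofNat 147, Int.ofNat 2, Int.ofNat 228, Int.ofNat 38, Int.negSucc 78, Int.negSucc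 14, Int.ofNat 0, Int.ofNat 0, Int.ofNat 0, Int.ofNat 2, Int.ofNat 2, Int.negSucc 318, Int.negSucc 2, Int.ofNat 35, Int.ofNat 0, Int.ofNat 211])) (ZT.node 13753 (ZT.leaf []) (ZT.node 13754 (ZT.leaf []) (ZT.leaf [])))) (ZT.node 13758 (ZT.node 13756 (ZT.leaf []) (ZT.node 13757 (ZT.leaf []) (ZT.leaf []))) (ZT.node 13759 (ZT.leaf []) (ZT.node 13760 (ZT.leaf [Int.ofNat 1]) (ZT.leaf []))))) (ZT.node 13767 (ZT.node 13764 (ZT.node 13762 (ZT.leaf [Int.ofNat 73, Int.ofNat 299, Int.negSucc 266, Int.ofNat 161, Int.negSucc 22, Int.ofNat 203, Int.negSucc 63, Int.ofNat 90, Int.ofNat 67, Int.negSucc 1, Int.ofNat 1, Int.negSucc 0, Int.ofNat 11, Int.ofNat 27, Int.ofNat 199, Int.negSucc 32, Int.negSucc 75, Int.negSucc 0, Int.ofNat 85]) (ZT.node 13763 (ZT.leaf []) (ZT.leaf []))) (ZT.node 13765 (ZT.leaf [Int.ofNat 24, Int.negSucc 4, Int.negSucc 11, Int.ofNat 4, Int.ofNat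 0, Int.ofNat 10, Int.ofNat 1, Int.ofNat 0, Int.ofNat 2, Int.ofNat 0, Int.ofNat 0, Int.ofNat 0, Int.negSucc 0, Int.ofNat 0, Int.ofNat 7, Int.ofNat 0, Int.negSucc 3, Int.ofNat 0, Int.ofNat 3]) (ZT.node 13766 (ZT.leaf [Int.negSucc 1480, Int.negSucc 761, Int.ofNat 360, Int.negSucc 128, Int.negSucc 1, Int.negSucc 219, Int.negSucc 29, Int.ofNat 66, Int.ofNat 8, Int.ofNat 0, Int.negSucc 0, Int.ofNat 0, Int.negSucc 0, Int.negSucc 1, Int.ofNat 272, Int.ofNat 2, Int.negSucc 35, Int.ofNat 0, Int.negSucc 198]) (ZT.leaf [])))) (ZT.node 13770 (ZT.node 13768 (ZT.leaf []) (ZT.node 13769 (ZT.leaf [Int.negSucc 5346, Int.negSucc 1938, Int.ofNat 1254, Int.negSucc 306, Int.negSucc 6, Int.negSucc 665, Int.negSucc 75, Int.ofNat 152, Int.ofNat 3, Int.ofNat 0, Int.ofNat 0, Int.ofNat 0, Int.negSucc 7, Int.negSucc 7, Int.ofNat 703, Int.negSucc 0, Int.negSucc 108, Int.ofNat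 0, Int.negSucc 583]) (ZT.leaf []))) (ZT.node 13771 (ZT.leaf []) (ZT.node 13772 (ZT.leaf []) (ZT.leaf []))))))) (ZT.node 13795 (ZT.node 13784 (ZT.node 13778 (ZT.node 13775 (ZT.node 13774 (ZT.leaf []) (ZT.leaf [])) (ZT.node 13776 (ZT.leaf []) (ZT.node 13777 (ZT.leaf []) (ZT.leaf [])))) (ZT.node 13781 (ZT.node 13779 (ZT.leaf []) (ZT.node 13780 (ZT.leaf []) (ZT.leaf []))) (ZT.node 13782 (ZT.leaf []) (ZT.node 13783 (ZT.leaf []) (ZT.leaf []))))) (ZT.node 13789 (ZT.node 13786 (ZT.node 13785 (ZT.leaf []) (ZT.leaf [])) (ZT.node 13787 (ZT.leaf []) (ZT.node 13788 (ZT.leaf []) (ZT.leaf [])))) (ZT.node 13792 (ZT.node 13790 (ZT.leaf [Int.ofNat 1]) (ZT.node 13791 (ZT.leaf []) (ZT.leaf []))) (ZT.node 13793 (ZT.leaf []) (ZT.node 13794 (ZT.leaf []) (ZT.leaf [Int.ofNat 354, Int.ofNat 114, Int.negSucc 101, Int.ofNat 28, Int.ofNat 1, Int.ofNat 57, Int.ofNat 5, Int.negSucc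 10, Int.ofNat 3, Int.ofNat 0, Int.ofNat 0, Int.ofNat 0, Int.negSucc 2, Int.ofNat 1, Int.negSucc 31, Int.negSucc 0, Int.ofNat 4, Int.ofNat 0, Int.ofNat 43])))))) (ZT.node 13806 (ZT.node 13800 (ZT.node 13797 (ZT.node 13796 (ZT.leaf []) (ZT.leaf [])) (ZT.node 13798 (ZT.leaf []) (ZT.node 13799 (ZT.leaf [Int.negSucc 6, Int.ofNat 10, Int.ofNat 2, Int.ofNat 1, Int.ofNat 0, Int.ofNat 0, Int.ofNat 1, Int.negSucc 0, Int.negSucc 0, Int.ofNat 0, Int.ofNat 0, Int.ofNat 0, Int.ofNat 0, Int.ofNat 0, Int.negSucc 6, Int.ofNat 0, Int.ofNat 0, Int.ofNat 0, Int.ofNat 1]) (ZT.leaf [])))) (ZT.node 13803 (ZT.node 13801 (ZT.leaf []) (ZT.node 13802 (ZT.leaf []) (ZT.leaf []))) (ZT.node 13804 (ZT.leaf []) (ZT.node 13805 (ZT.leaf []) (ZT.leaf [Int.ofNat 0, Int.ofNat 0, Int.ofNat 0, Int.ofNat 0, Int.ofNat 0, Int.ofNat 0, Int.ofNat 0, Int.ofNat 0, Int.ofNat 0, Int.negSucc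 0]))))) (ZT.node 13812 (ZT.node 13809 (ZT.node 13807 (ZT.leaf []) (ZT.node 13808 (ZT.leaf []) (ZT.leaf [Int.ofNat 0, Int.ofNat 0, Int.ofNat 0, Int.ofNat 0, Int.ofNat 0, Int.ofNat 0, Int.ofNat 0, Int.ofNat 0, Int.ofNat 0, Int.ofNat 1]))) (ZT.node 13810 (ZT.leaf []) (ZT.node 13811 (ZT.leaf []) (ZT.leaf [])))) (ZT.node 13815 (ZT.node 13813 (ZT.leaf []) (ZT.node 13814 (ZT.leaf []) (ZT.leaf []))) (ZT.node 13816 (ZT.leaf []) (ZT.node 13817 (ZT.leaf []) (ZT.leaf [])))))))) (ZT.node 13863 (ZT.node 13840 (ZT.node 13829 (ZT.node 13823 (ZT.node 13820 (ZT.node 13819 (ZT.leaf []) (ZT.leaf [])) (ZT.node 13821 (ZT.leaf []) (ZT.node 13822 (ZT.leaf []) (ZT.leaf [])))) (ZT.node 13826 (ZT.node 13824 (ZT.leaf []) (ZT.node 13825 (ZT.leaf []) (ZT.leaf [Int.ofNat 612, Int.ofNat 165, Int.negSucc 159, Int.ofNat 32, Int.ofNat 0, Int.ofNat 78, Int.ofNat 2, Int.negSucc 7,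 Int.ofNat 6, Int.ofNat 0, Int.ofNat 0, Int.ofNat 0, Int.ofNat 0, Int.ofNat 1, Int.negSucc 45, Int.ofNat 0, Int.ofNat 7, Int.ofNat 0, Int.ofNat 62]))) (ZT.node 13827 (ZT.leaf []) (ZT.node 13828 (ZT.leaf []) (ZT.leaf []))))) (ZT.node 13834 (ZT.node 13831 (ZT.node 13830 (ZT.leaf []) (ZT.leaf [])) (ZT.node 13832 (ZT.leaf []) (ZT.node 13833 (ZT.leaf []) (ZT.leaf [])))) (ZT.node 13837 (ZT.node 13835 (ZT.leaf []) (ZT.node 13836 (ZT.leaf []) (ZT.leaf []))) (ZT.node 13838 (ZT.leaf []) (ZT.node 13839 (ZT.leaf []) (ZT.leaf [])))))) (ZT.node 13851 (ZT.node 13845 (ZT.node 13842 (ZT.node 13841 (ZT.leaf []) (ZT.leaf [])) (ZT.node 13843 (ZT.leaf []) (ZT.node 13844 (ZT.leaf []) (ZT.leaf [])))) (ZT.node 13848 (ZT.node 13846 (ZT.leaf []) (ZT.node 13847 (ZT.leaf []) (ZT.leaf []))) (ZT.node 13849 (ZT.leaf []) (ZT.node 13850 (ZT.leaf [Int.negSucc 4021, Int.negSucc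 2409, Int.ofNat 986, Int.negSucc 412, Int.negSucc 5, Int.negSucc 668, Int.negSucc 73, Int.ofNat 188, Int.ofNat 22, Int.ofNat 0, Int.ofNat 0, Int.negSucc 0, Int.negSucc 6, Int.negSucc 10, Int.ofNat 795, Int.ofNat 9, Int.negSucc 109, Int.ofNat 0, Int.negSucc 583]) (ZT.leaf []))))) (ZT.node 13857 (ZT.node 13854 (ZT.node 13852 (ZT.leaf []) (ZT.node 13853 (ZT.leaf []) (ZT.leaf []))) (ZT.node 13855 (ZT.leaf []) (ZT.node 13856 (ZT.leaf []) (ZT.leaf [Int.ofNat 667, Int.negSucc 1725, Int.ofNat 13, Int.negSucc 399, Int.negSucc 10, Int.negSucc 303, Int.negSucc 37, Int.ofNat 151, Int.ofNat 29, Int.ofNat 1, Int.ofNat 0, Int.ofNat 0, Int.ofNat 24, Int.negSucc 5, Int.ofNat 514, Int.ofNat 27, Int.negSucc 27, Int.ofNat 0, Int.negSucc 235])))) (ZT.node 13860 (ZT.node 13858 (ZT.leaf [Int.negSucc 7752, Int.negSucc 4294, Int.ofNat 1770, Int.negSucc 677, Int.negSucc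 17, Int.negSucc 1120, Int.negSucc 190, Int.ofNat 368, Int.ofNat 64, Int.ofNat 0, Int.ofNat 0, Int.ofNat 0, Int.negSucc 15, Int.negSucc 12, Int.ofNat 1566, Int.ofNat 20, Int.negSucc 193, Int.ofNat 0, Int.negSucc 1036]) (ZT.node 13859 (ZT.leaf []) (ZT.leaf []))) (ZT.node 13861 (ZT.leaf []) (ZT.node 13862 (ZT.leaf []) (ZT.leaf []))))))) (ZT.node 13885 (ZT.node 13874 (ZT.node 13868 (ZT.node 13865 (ZT.node 13864 (ZT.leaf []) (ZT.leaf [])) (ZT.node 13866 (ZT.leaf []) (ZT.node 13867 (ZT.leaf []) (ZT.leaf [])))) (ZT.node 13871 (ZT.node 13869 (ZT.leaf []) (ZT.node 13870 (ZT.leaf []) (ZT.leaf []))) (ZT.node 13872 (ZT.leaf []) (ZT.node 13873 (ZT.leaf [Int.ofNat 356, Int.ofNat 514, Int.negSucc 84, Int.ofNat 81, Int.ofNat 2, Int.ofNat 88, Int.ofNat 19, Int.negSucc 32, Int.negSucc 10, Int.ofNat 0, Int.ofNat 0, Int.ofNat 0, Int.ofNat 4, Int.ofNat 3, Int.negSucc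 189, Int.negSucc 2, Int.ofNat 11, Int.ofNat 0, Int.ofNat 90]) (ZT.leaf []))))) (ZT.node 13879 (ZT.node 13876 (ZT.node 13875 (ZT.leaf [Int.negSucc 4915, Int.negSucc 2597, Int.ofNat 1198, Int.negSucc 443, Int.negSucc 10, Int.negSucc 745, Int.negSucc 83, Int.ofNat 200, Int.ofNat 19, Int.ofNat 0, Int.ofNat 0, Int.ofNat 0, Int.negSucc 5, Int.negSucc 10, Int.ofNat 876, Int.ofNat 11, Int.negSucc 112, Int.ofNat 0, Int.negSucc 649]) (ZT.leaf [Int.negSucc 15671, Int.negSucc 6566, Int.ofNat 3611, Int.negSucc 1032, Int.negSucc 23, Int.negSucc 1975, Int.negSucc 237, Int.ofNat 493, Int.ofNat 38, Int.ofNat 0, Int.ofNat 0, Int.ofNat 0, Int.negSucc 33, Int.negSucc 18, Int.ofNat 2364, Int.ofNat 10, Int.negSucc 352, Int.ofNat 0, Int.negSucc 1779])) (ZT.node 13877 (ZT.leaf [Int.ofNat 1]) (ZT.node 13878 (ZT.leaf [Int.ofNat 6480, Int.ofNat 611, Int.negSucc 1383, Int.negSucc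 6, Int.negSucc 2, Int.ofNat 468, Int.ofNat 54, Int.negSucc 46, Int.ofNat 22, Int.ofNat 0, Int.ofNat 0, Int.ofNat 0, Int.ofNat 26, Int.ofNat 6, Int.negSucc 351, Int.ofNat 20, Int.ofNat 112, Int.ofNat 0, Int.ofNat 439]) (ZT.leaf [])))) (ZT.node 13882 (ZT.node 13880 (ZT.leaf []) (ZT.node 13881 (ZT.leaf []) (ZT.leaf []))) (ZT.node 13883 (ZT.leaf []) (ZT.node 13884 (ZT.leaf [Int.negSucc 0]) (ZT.leaf [])))))) (ZT.node 13896 (ZT.node 13890 (ZT.node 13887 (ZT.node 13886 (ZT.leaf [Int.negSucc 1745, Int.negSucc 598, Int.ofNat 388, Int.negSucc 81, Int.negSucc 0, Int.negSucc 199, Int.negSucc 29, Int.ofNat 48, Int.ofNat 4, Int.ofNat 0, Int.ofNat 0, Int.ofNat 0, Int.negSucc 5, Int.ofNat 0, Int.ofNat 238, Int.negSucc 0, Int.negSucc 38, Int.ofNat 0, Int.negSucc 180]) (ZT.leaf [])) (ZT.node 13888 (ZT.leaf []) (ZT.node 13889 (ZT.leaf []) (ZT.leaf [])))) (ZT.node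 13893 (ZT.node 13891 (ZT.leaf []) (ZT.node 13892 (ZT.leaf [Int.negSucc 713, Int.negSucc 244, Int.ofNat 178, Int.negSucc 44, Int.negSucc 0, Int.negSucc 91, Int.negSucc 6, Int.ofNat 18, Int.negSucc 0, Int.ofNat 0, Int.ofNat 0, Int.ofNat 0, Int.negSucc 0, Int.negSucc 0, Int.ofNat 82, Int.ofNat 0, Int.negSucc 12, Int.ofNat 0, Int.negSucc 77]) (ZT.leaf []))) (ZT.node 13894 (ZT.leaf []) (ZT.node 13895 (ZT.leaf []) (ZT.leaf []))))) (ZT.node 13902 (ZT.node 13899 (ZT.node 13897 (ZT.leaf [Int.negSucc 2032, Int.negSucc 1371, Int.ofNat 483, Int.negSucc 235, Int.negSucc 3, Int.negSucc 341, Int.negSucc 51, Int.ofNat 91, Int.ofNat 15, Int.negSucc 0, Int.ofNat 0, Int.ofNat 0, Int.negSucc 6, Int.negSucc 6, Int.ofNat 484, Int.ofNat 7, Int.negSucc 32, Int.ofNat 0, Int.negSucc 303]) (ZT.node 13898 (ZT.leaf [Int.ofNat 3216, Int.ofNat 1079, Int.negSucc 759, Int.ofNat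 177, Int.ofNat 4, Int.ofNat 394, Int.ofNat 44, Int.negSucc 87, Int.ofNat 1, Int.ofNat 0, Int.ofNat 0, Int.ofNat 0, Int.ofNat 4, Int.ofNat 2, Int.negSucc 392, Int.ofNat 1, Int.ofNat 55, Int.ofNat 0, Int.ofNat 337]) (ZT.leaf []))) (ZT.node 13900 (ZT.leaf []) (ZT.node 13901 (ZT.leaf []) (ZT.leaf [])))) (ZT.node 13905 (ZT.node 13903 (ZT.leaf []) (ZT.node 13904 (ZT.leaf []) (ZT.leaf []))) (ZT.node 13906 (ZT.leaf []) (ZT.node 13907 (ZT.leaf []) (ZT.leaf [Int.negSucc 4530, Int.negSucc 2799, Int.ofNat 1185, Int.negSucc 535, Int.negSucc 20, Int.negSucc 775, Int.negSucc 69, Int.ofNat 206, Int.ofNat 10, Int.ofNat 0, Int.ofNat 0, Int.ofNat 0, Int.ofNat 10, Int.negSucc 12, Int.ofNat 914, Int.ofNat 17, Int.negSucc 129, Int.ofNat 0, Int.negSucc 667]))))))))) (ZT.node 13998 (ZT.node 13953 (ZT.node 13930 (ZT.node 13919 (ZT.node 13913 (ZT.node 13910 (ZT.node 13909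 (ZT.leaf []) (ZT.leaf [])) (ZT.node 13911 (ZT.leaf [Int.negSucc 538, Int.negSucc 116, Int.ofNat 29, Int.ofNat 23, Int.ofNat 3, Int.negSucc 17, Int.negSucc 33, Int.ofNat 16, Int.ofNat 2, Int.ofNat 2, Int.negSucc 0, Int.ofNat 0, Int.negSucc 2, Int.negSucc 3, Int.ofNat 91, Int.ofNat 0, Int.ofNat 7, Int.ofNat 0, Int.negSucc 27]) (ZT.node 13912 (ZT.leaf []) (ZT.leaf [])))) (ZT.node 13916 (ZT.node 13914 (ZT.leaf [Int.ofNat 0, Int.ofNat 0, Int.ofNat 0, Int.ofNat 0, Int.ofNat 0, Int.ofNat 0, Int.ofNat 0, Int.ofNat 0, Int.negSucc 0]) (ZT.node 13915 (ZT.leaf []) (ZT.leaf [Int.negSucc 2628, Int.negSucc 1591, Int.ofNat 635, Int.negSucc 272, Int.negSucc 4, Int.negSucc 421, Int.negSucc 60, Int.ofNat 115, Int.ofNat 17, Int.ofNat 0, Int.ofNat 0, Int.ofNat 0, Int.negSucc 6, Int.negSucc 6, Int.ofNat 568, Int.ofNat 7, Int.negSucc 46, Int.ofNat 0, Int.negSucc 372])))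 (ZT.node 13917 (ZT.leaf [Int.ofNat 7176, Int.ofNat 3791, Int.negSucc 1705, Int.ofNat 633, Int.ofNat 14, Int.ofNat 1064, Int.ofNat 133, Int.negSucc 285, Int.negSucc 31, Int.ofNat 0, Int.ofNat 0, Int.ofNat 0, Int.ofNat 13, Int.ofNat 15, Int.negSucc 1294, Int.negSucc 14, Int.ofNat 150, Int.ofNat 0, Int.ofNat 932]) (ZT.node 13918 (ZT.leaf [Int.negSucc 0]) (ZT.leaf []))))) (ZT.node 13924 (ZT.node 13921 (ZT.node 13920 (ZT.leaf [Int.negSucc 14548, Int.negSucc 5788, Int.ofNat 3399, Int.negSucc 927, Int.negSucc 20, Int.negSucc 1904, Int.negSucc 189, Int.ofNat 461, Int.ofNat 24, Int.ofNat 0, Int.ofNat 0, Int.ofNat 0, Int.negSucc 20, Int.negSucc 9, Int.ofNat 1893, Int.ofNat 1, Int.negSucc 323, Int.ofNat 0, Int.negSucc 1634]) (ZT.leaf [])) (ZT.node 13922 (ZT.leaf []) (ZT.node 13923 (ZT.leaf [Int.ofNat 24776, Int.ofNat 12277, Int.negSucc 5765, Int.ofNat 1982,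 Int.ofNat 56, Int.ofNat 3456, Int.ofNat 437, Int.negSucc 997, Int.negSucc 122, Int.ofNat 1, Int.negSucc 0, Int.ofNat 1, Int.ofNat 39, Int.ofNat 41, Int.negSucc 4217, Int.negSucc 30, Int.ofNat 644, Int.ofNat 1, Int.ofNat 3105]) (ZT.leaf [])))) (ZT.node 13927 (ZT.node 13925 (ZT.leaf []) (ZT.node 13926 (ZT.leaf []) (ZT.leaf []))) (ZT.node 13928 (ZT.leaf []) (ZT.node 13929 (ZT.leaf []) (ZT.leaf [])))))) (ZT.node 13941 (ZT.node 13935 (ZT.node 13932 (ZT.node 13931 (ZT.leaf []) (ZT.leaf [])) (ZT.node 13933 (ZT.leaf []) (ZT.node 13934 (ZT.leaf [Int.negSucc 1308, Int.negSucc 751, Int.ofNat 287, Int.negSucc 112, Int.negSucc 3, Int.negSucc 186, Int.negSucc 44, Int.ofNat 79, Int.ofNat 18, Int.ofNat 0, Int.ofNat 0, Int.ofNat 0, Int.negSucc 0, Int.negSucc 0, Int.ofNat 315, Int.ofNat 3, Int.negSucc 38, Int.ofNat 1, Int.negSucc 178]) (ZT.leaf [])))) (ZT.node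 13938 (ZT.node 13936 (ZT.leaf [Int.ofNat 0, Int.ofNat 0, Int.ofNat 0, Int.ofNat 0, Int.ofNat 0, Int.ofNat 0, Int.ofNat 0, Int.ofNat 0, Int.ofNat 0, Int.ofNat 0, Int.ofNat 0, Int.negSucc 0]) (ZT.node 13937 (ZT.leaf []) (ZT.leaf []))) (ZT.node 13939 (ZT.leaf [Int.negSucc 0]) (ZT.node 13940 (ZT.leaf [Int.ofNat 1]) (ZT.leaf [Int.negSucc 0]))))) (ZT.node 13947 (ZT.node 13944 (ZT.node 13942 (ZT.leaf []) (ZT.node 13943 (ZT.leaf []) (ZT.leaf [Int.negSucc 28, Int.negSucc 0, Int.ofNat 5, Int.ofNat 2, Int.negSucc 0, Int.negSucc 0, Int.ofNat 1, Int.negSucc 2, Int.negSucc 0, Int.ofNat 0, Int.ofNat 0, Int.ofNat 0, Int.ofNat 0, Int.negSucc 0, Int.negSucc 4, Int.ofNat 0, Int.ofNat 2, Int.ofNat 0, Int.ofNat 0]))) (ZT.node 13945 (ZT.leaf []) (ZT.node 13946 (ZT.leaf []) (ZT.leaf [])))) (ZT.node 13950 (ZT.node 13948 (ZT.leaf []) (ZT.node 13949 (ZT.leaf []) (ZT.leaf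 []))) (ZT.node 13951 (ZT.leaf []) (ZT.node 13952 (ZT.leaf []) (ZT.leaf []))))))) (ZT.node 13975 (ZT.node 13964 (ZT.node 13958 (ZT.node 13955 (ZT.node 13954 (ZT.leaf []) (ZT.leaf [Int.negSucc 0])) (ZT.node 13956 (ZT.leaf []) (ZT.node 13957 (ZT.leaf []) (ZT.leaf [])))) (ZT.node 13961 (ZT.node 13959 (ZT.leaf [Int.negSucc 83, Int.negSucc 27, Int.ofNat 22, Int.negSucc 3, Int.ofNat 0, Int.negSucc 9, Int.ofNat 0, Int.ofNat 1, Int.ofNat 0, Int.ofNat 1, Int.ofNat 0, Int.ofNat 0, Int.ofNat 0, Int.ofNat 0, Int.ofNat 11, Int.ofNat 0, Int.negSucc 1, Int.ofNat 0, Int.negSucc 8]) (ZT.node 13960 (ZT.leaf []) (ZT.leaf []))) (ZT.node 13962 (ZT.leaf [Int.ofNat 9848, Int.ofNat 5534, Int.negSucc 2348, Int.ofNat 931, Int.ofNat 23, Int.ofNat 1512, Int.ofNat 204, Int.negSucc 431, Int.negSucc 57, Int.negSucc 0, Int.ofNat 0, Int.ofNat 0, Int.ofNat 18, Int.ofNat 23, Int.negSucc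 1913, Int.negSucc 20, Int.ofNat 235, Int.ofNat 0, Int.ofNat 1337]) (ZT.node 13963 (ZT.leaf []) (ZT.leaf []))))) (ZT.node 13969 (ZT.node 13966 (ZT.node 13965 (ZT.leaf []) (ZT.leaf [])) (ZT.node 13967 (ZT.leaf []) (ZT.node 13968 (ZT.leaf []) (ZT.leaf [])))) (ZT.node 13972 (ZT.node 13970 (ZT.leaf [Int.ofNat 271, Int.ofNat 92, Int.negSucc 70, Int.ofNat 16, Int.ofNat 0, Int.ofNat 37, Int.ofNat 6, Int.negSucc 13, Int.negSucc 1, Int.ofNat 0, Int.ofNat 0, Int.ofNat 0, Int.negSucc 0, Int.negSucc 0, Int.negSucc 43, Int.ofNat 1, Int.ofNat 8, Int.ofNat 0, Int.ofNat 32]) (ZT.node 13971 (ZT.leaf []) (ZT.leaf []))) (ZT.node 13973 (ZT.leaf []) (ZT.node 13974 (ZT.leaf []) (ZT.leaf [])))))) (ZT.node 13986 (ZT.node 13980 (ZT.node 13977 (ZT.node 13976 (ZT.leaf []) (ZT.leaf [])) (ZT.node 13978 (ZT.leaf [Int.negSucc 0]) (ZT.node 13979 (ZT.leaf []) (ZT.leaf [])))) (ZT.node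 13983 (ZT.node 13981 (ZT.leaf []) (ZT.node 13982 (ZT.leaf []) (ZT.leaf []))) (ZT.node 13984 (ZT.leaf []) (ZT.node 13985 (ZT.leaf []) (ZT.leaf []))))) (ZT.node 13992 (ZT.node 13989 (ZT.node 13987 (ZT.leaf []) (ZT.node 13988 (ZT.leaf []) (ZT.leaf []))) (ZT.node 13990 (ZT.leaf []) (ZT.node 13991 (ZT.leaf []) (ZT.leaf [])))) (ZT.node 13995 (ZT.node 13993 (ZT.leaf []) (ZT.node 13994 (ZT.leaf [Int.ofNat 12, Int.ofNat 8, Int.negSucc 1, Int.ofNat 0, Int.ofNat 0, Int.ofNat 2, Int.ofNat 0, Int.ofNat 0, Int.ofNat 0, Int.ofNat 0, Int.ofNat 0, Int.ofNat 0, Int.ofNat 0, Int.ofNat 0, Int.negSucc 1, Int.ofNat 0, Int.negSucc 0, Int.ofNat 0, Int.ofNat 1]) (ZT.leaf []))) (ZT.node 13996 (ZT.leaf []) (ZT.node 13997 (ZT.leaf []) (ZT.leaf [Int.ofNat 5094, Int.ofNat 3261, Int.negSucc 1167, Int.ofNat 529, Int.ofNat 15, Int.ofNat 784, Int.ofNat 123, Int.negSucc 263, Int.negSucc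 47, Int.ofNat 0, Int.ofNat 0, Int.ofNat 1, Int.ofNat 11, Int.ofNat 14, Int.negSucc 1090, Int.negSucc 16, Int.ofNat 138, Int.ofNat 1, Int.ofNat 727])))))))) (ZT.node 14043 (ZT.node 14020 (ZT.node 14009 (ZT.node 14003 (ZT.node 14000 (ZT.node 13999 (ZT.leaf [Int.ofNat 2398, Int.ofNat 1464, Int.negSucc 684, Int.ofNat 319, Int.negSucc 1, Int.ofNat 437, Int.ofNat 3, Int.negSucc 52, Int.ofNat 16, Int.negSucc 0, Int.ofNat 1, Int.negSucc 0, Int.ofNat 6, Int.ofNat 10, Int.negSucc 378, Int.negSucc 14, Int.ofNat 22, Int.negSucc 0, Int.ofNat 345]) (ZT.leaf [Int.ofNat 739, Int.ofNat 235, Int.negSucc 173, Int.ofNat 34, Int.ofNat 0, Int.ofNat 88, Int.ofNat 2, Int.negSucc 6, Int.ofNat 4, Int.ofNat 0, Int.ofNat 0, Int.ofNat 0, Int.ofNat 3, Int.ofNat 2, Int.negSucc 72, Int.ofNat 0, Int.ofNat 14, Int.ofNat 0, Int.ofNat 75])) (ZT.node 14001 (ZT.leaf []) (ZT.node 14002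 (ZT.leaf []) (ZT.leaf [Int.ofNat 10428, Int.ofNat 2793, Int.negSucc 2281, Int.ofNat 336, Int.ofNat 5, Int.ofNat 1030, Int.ofNat 132, Int.negSucc 206, Int.negSucc 0, Int.negSucc 0, Int.ofNat 0, Int.ofNat 0, Int.ofNat 38, Int.ofNat 17, Int.negSucc 1089, Int.ofNat 10, Int.ofNat 202, Int.ofNat 0, Int.ofNat 951])))) (ZT.node 14006 (ZT.node 14004 (ZT.leaf [Int.negSucc 2491, Int.negSucc 866, Int.ofNat 576, Int.negSucc 133, Int.negSucc 2, Int.negSucc 301, Int.negSucc 42, Int.ofNat 78, Int.ofNat 4, Int.ofNat 0, Int.ofNat 0, Int.ofNat 0, Int.negSucc 2, Int.negSucc 0, Int.ofNat 368, Int.negSucc 2, Int.negSucc 51, Int.ofNat 0, Int.negSucc 267]) (ZT.node 14005 (ZT.leaf []) (ZT.leaf [Int.negSucc 16688, Int.negSucc 5216, Int.ofNat 3753, Int.negSucc 736, Int.negSucc 6, Int.negSucc 1835, Int.negSucc 236, Int.ofNat 390, Int.ofNat 11, Int.ofNat 1, Int.ofNat 0, Int.ofNat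 0, Int.negSucc 55, Int.negSucc 18, Int.ofNat 1964, Int.negSucc 11, Int.negSucc 297, Int.ofNat 0, Int.negSucc 1646]))) (ZT.node 14007 (ZT.leaf [Int.ofNat 68, Int.ofNat 16, Int.negSucc 7, Int.negSucc 0, Int.ofNat 0, Int.ofNat 2, Int.ofNat 1, Int.ofNat 1, Int.ofNat 0, Int.ofNat 1, Int.ofNat 0, Int.ofNat 0, Int.ofNat 1, Int.ofNat 0, Int.negSucc 0, Int.ofNat 0, Int.ofNat 0, Int.ofNat 0, Int.ofNat 3]) (ZT.node 14008 (ZT.leaf []) (ZT.leaf []))))) (ZT.node 14014 (ZT.node 14011 (ZT.node 14010 (ZT.leaf [Int.ofNat 0, Int.ofNat 0, Int.ofNat 0, Int.ofNat 0, Int.ofNat 0, Int.ofNat 0, Int.ofNat 0, Int.negSucc 0]) (ZT.leaf [])) (ZT.node 14012 (ZT.leaf []) (ZT.node 14013 (ZT.leaf []) (ZT.leaf [])))) (ZT.node 14017 (ZT.node 14015 (ZT.leaf []) (ZT.node 14016 (ZT.leaf []) (ZT.leaf []))) (ZT.node 14018 (ZT.leaf []) (ZT.node 14019 (ZT.leaf []) (ZT.leaf [])))))) (ZT.node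 14031 (ZT.node 14025 (ZT.node 14022 (ZT.node 14021 (ZT.leaf [Int.ofNat 78, Int.negSucc 2, Int.negSucc 13, Int.negSucc 3, Int.negSucc 0, Int.ofNat 2, Int.negSucc 0, Int.ofNat 3, Int.ofNat 1, Int.ofNat 0, Int.ofNat 0, Int.ofNat 0, Int.ofNat 1, Int.ofNat 0, Int.ofNat 1, Int.ofNat 1, Int.ofNat 0, Int.ofNat 0, Int.ofNat 2]) (ZT.leaf [])) (ZT.node 14023 (ZT.leaf []) (ZT.node 14024 (ZT.leaf []) (ZT.leaf [])))) (ZT.node 14028 (ZT.node 14026 (ZT.leaf []) (ZT.node 14027 (ZT.leaf []) (ZT.leaf []))) (ZT.node 14029 (ZT.leaf []) (ZT.node 14030 (ZT.leaf []) (ZT.leaf []))))) (ZT.node 14037 (ZT.node 14034 (ZT.node 14032 (ZT.leaf []) (ZT.node 14033 (ZT.leaf []) (ZT.leaf []))) (ZT.node 14035 (ZT.leaf []) (ZT.node 14036 (ZT.leaf []) (ZT.leaf [])))) (ZT.node 14040 (ZT.node 14038 (ZT.leaf []) (ZT.node 14039 (ZT.leaf []) (ZT.leaf []))) (ZT.node 14041 (ZT.leaf []) (ZT.node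 14042 (ZT.leaf []) (ZT.leaf []))))))) (ZT.node 14065 (ZT.node 14054 (ZT.node 14048 (ZT.node 14045 (ZT.node 14044 (ZT.leaf []) (ZT.leaf [])) (ZT.node 14046 (ZT.leaf []) (ZT.node 14047 (ZT.leaf []) (ZT.leaf [Int.negSucc 61, Int.negSucc 55, Int.ofNat 7, Int.negSucc 9, Int.negSucc 0, Int.ofNat 6, Int.negSucc 7, Int.ofNat 8, Int.ofNat 3, Int.ofNat 0, Int.ofNat 0, Int.ofNat 1, Int.ofNat 0, Int.ofNat 0, Int.ofNat 47, Int.ofNat 3, Int.ofNat 0, Int.ofNat 0, Int.negSucc 3])))) (ZT.node 14051 (ZT.node 14049 (ZT.leaf []) (ZT.node 14050 (ZT.leaf []) (ZT.leaf []))) (ZT.node 14052 (ZT.leaf []) (ZT.node 14053 (ZT.leaf []) (ZT.leaf []))))) (ZT.node 14059 (ZT.node 14056 (ZT.node 14055 (ZT.leaf [Int.ofNat 160, Int.ofNat 21, Int.negSucc 44, Int.ofNat 7, Int.ofNat 0, Int.ofNat 23, Int.ofNat 0, Int.ofNat 1, Int.ofNat 3, Int.ofNat 0, Int.ofNat 0, Int.ofNat 0, Int.ofNat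 0, Int.ofNat 0, Int.negSucc 0, Int.ofNat 0, Int.ofNat 0, Int.ofNat 0, Int.ofNat 15]) (ZT.leaf [])) (ZT.node 14057 (ZT.leaf [Int.negSucc 0]) (ZT.node 14058 (ZT.leaf []) (ZT.leaf [])))) (ZT.node 14062 (ZT.node 14060 (ZT.leaf []) (ZT.node 14061 (ZT.leaf []) (ZT.leaf []))) (ZT.node 14063 (ZT.leaf []) (ZT.node 14064 (ZT.leaf []) (ZT.leaf [])))))) (ZT.node 14076 (ZT.node 14070 (ZT.node 14067 (ZT.node 14066 (ZT.leaf []) (ZT.leaf [])) (ZT.node 14068 (ZT.leaf [Int.ofNat 2490, Int.ofNat 1184, Int.negSucc 538, Int.ofNat 173, Int.ofNat 7, Int.ofNat 322, Int.ofNat 72, Int.negSucc 125, Int.negSucc 25, Int.ofNat 0, Int.ofNat 0, Int.ofNat 0, Int.ofNat 3, Int.ofNat 0, Int.negSucc 538, Int.ofNat 2, Int.ofNat 68, Int.ofNat 0, Int.ofNat 308]) (ZT.node 14069 (ZT.leaf []) (ZT.leaf [])))) (ZT.node 14073 (ZT.node 14071 (ZT.leaf []) (ZT.node 14072 (ZT.leaf []) (ZT.leaf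 []))) (ZT.node 14074 (ZT.leaf []) (ZT.node 14075 (ZT.leaf []) (ZT.leaf []))))) (ZT.node 14082 (ZT.node 14079 (ZT.node 14077 (ZT.leaf []) (ZT.node 14078 (ZT.leaf []) (ZT.leaf []))) (ZT.node 14080 (ZT.leaf []) (ZT.node 14081 (ZT.leaf []) (ZT.leaf [])))) (ZT.node 14085 (ZT.node 14083 (ZT.leaf []) (ZT.node 14084 (ZT.leaf []) (ZT.leaf []))) (ZT.node 14086 (ZT.leaf []) (ZT.node 14087 (ZT.leaf []) (ZT.leaf []))))))))))

noncomputable def labT_29 : ZT := (ZT.node 14268 (ZT.node 14178 (ZT.node 14133 (ZT.node 14110 (ZT.node 14099 (ZT.node 14093 (ZT.node 14090 (ZT.node 14089 (ZT.leaf []) (ZT.leaf [])) (ZT.node 14091 (ZT.leaf []) (ZT.node 14092 (ZT.leaf []) (ZT.leaf [])))) (ZT.node 14096 (ZT.node 14094 (ZT.leaf []) (ZT.node 14095 (ZT.leaf []) (ZT.leaf []))) (ZT.node 14097 (ZT.leaf []) (ZT.node 14098 (ZT.leaf []) (ZT.leaf []))))) (ZT.node 14104 (ZT.node 14101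 (ZT.node 14100 (ZT.leaf []) (ZT.leaf [])) (ZT.node 14102 (ZT.leaf [Int.negSucc 232, Int.negSucc 65, Int.ofNat 41, Int.negSucc 3, Int.ofNat 0, Int.negSucc 13, Int.negSucc 2, Int.negSucc 1, Int.ofNat 1, Int.ofNat 0, Int.ofNat 0, Int.ofNat 0, Int.negSucc 2, Int.ofNat 0, Int.ofNat 19, Int.negSucc 1, Int.negSucc 1, Int.ofNat 0, Int.negSucc 15]) (ZT.node 14103 (ZT.leaf [Int.negSucc 7553, Int.negSucc 3254, Int.ofNat 1748, Int.negSucc 521, Int.negSucc 11, Int.negSucc 987, Int.negSucc 121, Int.ofNat 270, Int.ofNat 29, Int.negSucc 1, Int.ofNat 1, Int.ofNat 0, Int.negSucc 10, Int.negSucc 2, Int.ofNat 1127, Int.ofNat 4, Int.negSucc 167, Int.ofNat 0, Int.negSucc 872]) (ZT.leaf [])))) (ZT.node 14107 (ZT.node 14105 (ZT.leaf []) (ZT.node 14106 (ZT.leaf [Int.ofNat 19462, Int.ofNat 8385, Int.negSucc 4596, Int.ofNat 1372, Int.ofNat 32, Int.ofNat 2651, Int.ofNat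 274, Int.negSucc 660, Int.negSucc 42, Int.ofNat 0, Int.ofNat 0, Int.ofNat 0, Int.ofNat 27, Int.ofNat 21, Int.negSucc 2768, Int.negSucc 11, Int.ofNat 437, Int.ofNat 0, Int.ofNat 2285]) (ZT.leaf [Int.ofNat 1258, Int.ofNat 644, Int.negSucc 334, Int.ofNat 119, Int.negSucc 2, Int.ofNat 205, Int.ofNat 15, Int.negSucc 32, Int.ofNat 6, Int.ofNat 0, Int.ofNat 0, Int.ofNat 0, Int.ofNat 3, Int.ofNat 8, Int.negSucc 185, Int.negSucc 6, Int.ofNat 16, Int.ofNat 0, Int.ofNat 169]))) (ZT.node 14108 (ZT.leaf []) (ZT.node 14109 (ZT.leaf []) (ZT.leaf [])))))) (ZT.node 14121 (ZT.node 14115 (ZT.node 14112 (ZT.node 14111 (ZT.leaf []) (ZT.leaf [])) (ZT.node 14113 (ZT.leaf []) (ZT.node 14114 (ZT.leaf []) (ZT.leaf [])))) (ZT.node 14118 (ZT.node 14116 (ZT.leaf [Int.negSucc 23, Int.negSucc 7, Int.ofNat 6, Int.negSucc 1, Int.ofNat 0, Int.negSucc 2, Int.ofNat 0, Int.ofNat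 1, Int.ofNat 0, Int.ofNat 0, Int.ofNat 0, Int.ofNat 0, Int.ofNat 0, Int.ofNat 0, Int.ofNat 5, Int.ofNat 0, Int.negSucc 0, Int.ofNat 0, Int.negSucc 2]) (ZT.node 14117 (ZT.leaf []) (ZT.leaf []))) (ZT.node 14119 (ZT.leaf []) (ZT.node 14120 (ZT.leaf []) (ZT.leaf []))))) (ZT.node 14127 (ZT.node 14124 (ZT.node 14122 (ZT.leaf []) (ZT.node 14123 (ZT.leaf []) (ZT.leaf [Int.ofNat 0, Int.ofNat 0, Int.ofNat 0, Int.ofNat 0, Int.ofNat 0, Int.ofNat 0, Int.ofNat 0, Int.ofNat 0, Int.ofNat 0, Int.ofNat 0, Int.ofNat 1]))) (ZT.node 14125 (ZT.leaf []) (ZT.node 14126 (ZT.leaf []) (ZT.leaf [])))) (ZT.node 14130 (ZT.node 14128 (ZT.leaf []) (ZT.node 14129 (ZT.leaf []) (ZT.leaf []))) (ZT.node 14131 (ZT.leaf []) (ZT.node 14132 (ZT.leaf []) (ZT.leaf []))))))) (ZT.node 14155 (ZT.node 14144 (ZT.node 14138 (ZT.node 14135 (ZT.node 14134 (ZT.leaf []) (ZT.leaf [])) (ZT.node 14136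 (ZT.leaf []) (ZT.node 14137 (ZT.leaf []) (ZT.leaf [])))) (ZT.node 14141 (ZT.node 14139 (ZT.leaf []) (ZT.node 14140 (ZT.leaf []) (ZT.leaf []))) (ZT.node 14142 (ZT.leaf []) (ZT.node 14143 (ZT.leaf []) (ZT.leaf []))))) (ZT.node 14149 (ZT.node 14146 (ZT.node 14145 (ZT.leaf []) (ZT.leaf [])) (ZT.node 14147 (ZT.leaf []) (ZT.node 14148 (ZT.leaf []) (ZT.leaf [])))) (ZT.node 14152 (ZT.node 14150 (ZT.leaf []) (ZT.node 14151 (ZT.leaf []) (ZT.leaf [Int.negSucc 47, Int.negSucc 0, Int.ofNat 13, Int.negSucc 0, Int.ofNat 0, Int.negSucc 4, Int.ofNat 0, Int.negSucc 0, Int.negSucc 0, Int.ofNat 0, Int.ofNat 0, Int.ofNat 0, Int.ofNat 0, Int.ofNat 0, Int.negSucc 0, Int.ofNat 0, Int.negSucc 0, Int.ofNat 0, Int.negSucc 3]))) (ZT.node 14153 (ZT.leaf [Int.negSucc 0]) (ZT.node 14154 (ZT.leaf []) (ZT.leaf [])))))) (ZT.node 14166 (ZT.node 14160 (ZT.node 14157 (ZT.node 14156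 (ZT.leaf []) (ZT.leaf [])) (ZT.node 14158 (ZT.leaf []) (ZT.node 14159 (ZT.leaf []) (ZT.leaf [])))) (ZT.node 14163 (ZT.node 14161 (ZT.leaf []) (ZT.node 14162 (ZT.leaf []) (ZT.leaf []))) (ZT.node 14164 (ZT.leaf []) (ZT.node 14165 (ZT.leaf []) (ZT.leaf []))))) (ZT.node 14172 (ZT.node 14169 (ZT.node 14167 (ZT.leaf []) (ZT.node 14168 (ZT.leaf [Int.ofNat 0]) (ZT.leaf []))) (ZT.node 14170 (ZT.leaf [Int.ofNat 2489, Int.ofNat 1184, Int.negSucc 538, Int.ofNat 173, Int.ofNat 7, Int.ofNat 322, Int.ofNat 72, Int.negSucc 125, Int.negSucc 25, Int.ofNat 0, Int.ofNat 0, Int.ofNat 0, Int.ofNat 3, Int.ofNat 0, Int.negSucc 538, Int.ofNat 2, Int.ofNat 68, Int.ofNat 0, Int.ofNat 308]) (ZT.node 14171 (ZT.leaf []) (ZT.leaf [])))) (ZT.node 14175 (ZT.node 14173 (ZT.leaf []) (ZT.node 14174 (ZT.leaf [Int.negSucc 406, Int.negSucc 530, Int.ofNat 112, Int.negSucc 97, Int.negSucc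 4, Int.negSucc 99, Int.negSucc 10, Int.ofNat 35, Int.ofNat 8, Int.ofNat 0, Int.ofNat 0, Int.ofNat 0, Int.ofNat 0, Int.negSucc 4, Int.ofNat 161, Int.ofNat 6, Int.negSucc 22, Int.negSucc 0, Int.negSucc 92]) (ZT.leaf [Int.negSucc 457, Int.negSucc 299, Int.ofNat 96, Int.negSucc 45, Int.ofNat 0, Int.negSucc 66, Int.negSucc 16, Int.ofNat 19, Int.ofNat 5, Int.ofNat 0, Int.ofNat 0, Int.ofNat 0, Int.negSucc 2, Int.negSucc 1, Int.ofNat 99, Int.ofNat 2, Int.negSucc 1, Int.ofNat 0, Int.negSucc 63]))) (ZT.node 14176 (ZT.leaf []) (ZT.node 14177 (ZT.leaf []) (ZT.leaf [])))))))) (ZT.node 14223 (ZT.node 14200 (ZT.node 14189 (ZT.node 14183 (ZT.node 14180 (ZT.node 14179 (ZT.leaf []) (ZT.leaf [])) (ZT.node 14181 (ZT.leaf []) (ZT.node 14182 (ZT.leaf []) (ZT.leaf [])))) (ZT.node 14186 (ZT.node 14184 (ZT.leaf []) (ZT.node 14185 (ZT.leaf []) (ZT.leaf []))) (ZT.node 14187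 (ZT.leaf []) (ZT.node 14188 (ZT.leaf []) (ZT.leaf []))))) (ZT.node 14194 (ZT.node 14191 (ZT.node 14190 (ZT.leaf []) (ZT.leaf [])) (ZT.node 14192 (ZT.leaf []) (ZT.node 14193 (ZT.leaf [Int.negSucc 0]) (ZT.leaf [])))) (ZT.node 14197 (ZT.node 14195 (ZT.leaf []) (ZT.node 14196 (ZT.leaf []) (ZT.leaf []))) (ZT.node 14198 (ZT.leaf []) (ZT.node 14199 (ZT.leaf []) (ZT.leaf [])))))) (ZT.node 14211 (ZT.node 14205 (ZT.node 14202 (ZT.node 14201 (ZT.leaf []) (ZT.leaf [])) (ZT.node 14203 (ZT.leaf []) (ZT.node 14204 (ZT.leaf []) (ZT.leaf [])))) (ZT.node 14208 (ZT.node 14206 (ZT.leaf []) (ZT.node 14207 (ZT.leaf []) (ZT.leaf []))) (ZT.node 14209 (ZT.leaf []) (ZT.node 14210 (ZT.leaf []) (ZT.leaf []))))) (ZT.node 14217 (ZT.node 14214 (ZT.node 14212 (ZT.leaf []) (ZT.node 14213 (ZT.leaf []) (ZT.leaf []))) (ZT.node 14215 (ZT.leaf []) (ZT.node 14216 (ZT.leaf []) (ZT.leaf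 [])))) (ZT.node 14220 (ZT.node 14218 (ZT.leaf []) (ZT.node 14219 (ZT.leaf []) (ZT.leaf []))) (ZT.node 14221 (ZT.leaf []) (ZT.node 14222 (ZT.leaf [Int.negSucc 137, Int.negSucc 27, Int.ofNat 32, Int.negSucc 2, Int.ofNat 0, Int.negSucc 12, Int.ofNat 1, Int.negSucc 0, Int.negSucc 0, Int.ofNat 0, Int.ofNat 0, Int.ofNat 0, Int.negSucc 0, Int.ofNat 0, Int.ofNat 8, Int.ofNat 0, Int.negSucc 3, Int.ofNat 0, Int.negSucc 11]) (ZT.leaf []))))))) (ZT.node 14245 (ZT.node 14234 (ZT.node 14228 (ZT.node 14225 (ZT.node 14224 (ZT.leaf []) (ZT.leaf [])) (ZT.node 14226 (ZT.leaf []) (ZT.node 14227 (ZT.leaf [Int.negSucc 2721, Int.negSucc 1663, Int.ofNat 663, Int.negSucc 289, Int.negSucc 4, Int.negSucc 441, Int.negSucc 60, Int.ofNat 112, Int.ofNat 14, Int.ofNat 0, Int.ofNat 0, Int.ofNat 0, Int.negSucc 6, Int.negSucc 8, Int.ofNat 570, Int.ofNat 9, Int.negSucc 44, Int.ofNat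 0, Int.negSucc 388]) (ZT.leaf [])))) (ZT.node 14231 (ZT.node 14229 (ZT.leaf []) (ZT.node 14230 (ZT.leaf []) (ZT.leaf [Int.negSucc 159, Int.negSucc 20, Int.ofNat 45, Int.negSucc 6, Int.ofNat 0, Int.negSucc 22, Int.ofNat 0, Int.negSucc 0, Int.negSucc 2, Int.ofNat 0, Int.ofNat 0, Int.ofNat 0, Int.ofNat 0, Int.ofNat 0, Int.ofNat 1, Int.ofNat 0, Int.ofNat 0, Int.ofNat 0, Int.negSucc 14]))) (ZT.node 14232 (ZT.leaf []) (ZT.node 14233 (ZT.leaf [Int.ofNat 115, Int.ofNat 34, Int.negSucc 23, Int.ofNat 4, Int.ofNat 0, Int.ofNat 10, Int.ofNat 1, Int.negSucc 0, Int.ofNat 0, Int.ofNat 0, Int.ofNat 0, Int.ofNat 0, Int.ofNat 1, Int.ofNat 0, Int.negSucc 10, Int.ofNat 0, Int.ofNat 2, Int.ofNat 0, Int.ofNat 10]) (ZT.leaf []))))) (ZT.node 14239 (ZT.node 14236 (ZT.node 14235 (ZT.leaf []) (ZT.leaf [])) (ZT.node 14237 (ZT.leaf []) (ZT.node 14238 (ZT.leaf []) (ZT.leaf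 [Int.negSucc 0])))) (ZT.node 14242 (ZT.node 14240 (ZT.leaf []) (ZT.node 14241 (ZT.leaf []) (ZT.leaf []))) (ZT.node 14243 (ZT.leaf []) (ZT.node 14244 (ZT.leaf []) (ZT.leaf [])))))) (ZT.node 14256 (ZT.node 14250 (ZT.node 14247 (ZT.node 14246 (ZT.leaf [Int.negSucc 2416, Int.negSucc 964, Int.ofNat 554, Int.negSucc 148, Int.negSucc 3, Int.negSucc 303, Int.negSucc 41, Int.ofNat 83, Int.ofNat 8, Int.ofNat 0, Int.ofNat 0, Int.ofNat 0, Int.negSucc 3, Int.negSucc 2, Int.ofNat 351, Int.ofNat 1, Int.negSucc 49, Int.ofNat 0, Int.negSucc 271]) (ZT.leaf [])) (ZT.node 14248 (ZT.leaf []) (ZT.node 14249 (ZT.leaf []) (ZT.leaf [])))) (ZT.node 14253 (ZT.node 14251 (ZT.leaf []) (ZT.node 14252 (ZT.leaf []) (ZT.leaf []))) (ZT.node 14254 (ZT.leaf []) (ZT.node 14255 (ZT.leaf [Int.negSucc 584, Int.negSucc 185, Int.ofNat 148, Int.negSucc 33, Int.negSucc 0, Int.negSucc 69,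 Int.negSucc 3, Int.ofNat 15, Int.negSucc 0, Int.ofNat 0, Int.ofNat 0, Int.ofNat 0, Int.ofNat 0, Int.negSucc 0, Int.ofNat 56, Int.ofNat 1, Int.negSucc 14, Int.ofNat 0, Int.negSucc 59]) (ZT.leaf [Int.ofNat 1878, Int.negSucc 1082, Int.negSucc 318, Int.negSucc 276, Int.negSucc 12, Int.negSucc 98, Int.negSucc 21, Int.ofNat 114, Int.ofNat 34, Int.ofNat 1, Int.ofNat 0, Int.ofNat 0, Int.ofNat 26, Int.ofNat 2, Int.ofNat 330, Int.ofNat 19, Int.negSucc 11, Int.ofNat 0, Int.negSucc 66]))))) (ZT.node 14262 (ZT.node 14259 (ZT.node 14257 (ZT.leaf []) (ZT.node 14258 (ZT.leaf []) (ZT.leaf []))) (ZT.node 14260 (ZT.leaf [Int.ofNat 1]) (ZT.node 14261 (ZT.leaf [Int.negSucc 20, Int.ofNat 6, Int.ofNat 12, Int.negSucc 3, Int.ofNat 0, Int.negSucc 9, Int.negSucc 0, Int.ofNat 0, Int.negSucc 1, Int.ofNat 0, Int.ofNat 0, Int.ofNat 0, Int.ofNat 1, Int.ofNat 0, Int.negSucc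 6, Int.ofNat 0, Int.ofNat 4, Int.ofNat 0, Int.negSucc 2]) (ZT.leaf [])))) (ZT.node 14265 (ZT.node 14263 (ZT.leaf []) (ZT.node 14264 (ZT.leaf []) (ZT.leaf []))) (ZT.node 14266 (ZT.leaf []) (ZT.node 14267 (ZT.leaf []) (ZT.leaf []))))))))) (ZT.node 14358 (ZT.node 14313 (ZT.node 14290 (ZT.node 14279 (ZT.node 14273 (ZT.node 14270 (ZT.node 14269 (ZT.leaf []) (ZT.leaf [])) (ZT.node 14271 (ZT.leaf []) (ZT.node 14272 (ZT.leaf []) (ZT.leaf [])))) (ZT.node 14276 (ZT.node 14274 (ZT.leaf []) (ZT.node 14275 (ZT.leaf []) (ZT.leaf []))) (ZT.node 14277 (ZT.leaf []) (ZT.node 14278 (ZT.leaf []) (ZT.leaf []))))) (ZT.node 14284 (ZT.node 14281 (ZT.node 14280 (ZT.leaf []) (ZT.leaf [])) (ZT.node 14282 (ZT.leaf []) (ZT.node 14283 (ZT.leaf []) (ZT.leaf [])))) (ZT.node 14287 (ZT.node 14285 (ZT.leaf []) (ZT.node 14286 (ZT.leaf []) (ZT.leaf []))) (ZT.node 14288 (ZT.leaf [Int.negSucc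 383, Int.negSucc 303, Int.ofNat 80, Int.negSucc 42, Int.negSucc 0, Int.negSucc 64, Int.negSucc 10, Int.ofNat 20, Int.ofNat 5, Int.ofNat 0, Int.ofNat 0, Int.ofNat 0, Int.negSucc 1, Int.negSucc 0, Int.ofNat 90, Int.ofNat 2, Int.negSucc 5, Int.ofNat 0, Int.negSucc 57]) (ZT.node 14289 (ZT.leaf []) (ZT.leaf [Int.ofNat 270, Int.ofNat 21, Int.negSucc 51, Int.negSucc 0, Int.negSucc 0, Int.ofNat 15, Int.ofNat 6, Int.negSucc 5, Int.ofNat 1, Int.ofNat 0, Int.ofNat 0, Int.ofNat 0, Int.ofNat 1, Int.ofNat 0, Int.negSucc 31, Int.ofNat 1, Int.ofNat 3, Int.ofNat 0, Int.ofNat 17])))))) (ZT.node 14301 (ZT.node 14295 (ZT.node 14292 (ZT.node 14291 (ZT.leaf []) (ZT.leaf [Int.ofNat 7181, Int.ofNat 4991, Int.negSucc 1570, Int.ofNat 780, Int.ofNat 43, Int.ofNat 1127, Int.ofNat 214, Int.negSucc 501, Int.negSucc 117, Int.ofNat 2, Int.negSucc 0, Int.ofNat 1, Int.negSucc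 14, Int.negSucc 3, Int.negSucc 1908, Int.negSucc 4, Int.ofNat 288, Int.ofNat 1, Int.ofNat 1081])) (ZT.node 14293 (ZT.leaf []) (ZT.node 14294 (ZT.leaf [Int.ofNat 1]) (ZT.leaf [])))) (ZT.node 14298 (ZT.node 14296 (ZT.leaf []) (ZT.node 14297 (ZT.leaf []) (ZT.leaf []))) (ZT.node 14299 (ZT.leaf []) (ZT.node 14300 (ZT.leaf []) (ZT.leaf [Int.ofNat 1]))))) (ZT.node 14307 (ZT.node 14304 (ZT.node 14302 (ZT.leaf []) (ZT.node 14303 (ZT.leaf []) (ZT.leaf []))) (ZT.node 14305 (ZT.leaf [Int.negSucc 3058, Int.negSucc 2170, Int.ofNat 774, Int.negSucc 389, Int.negSucc 11, Int.negSucc 555, Int.negSucc 57, Int.ofNat 162, Int.ofNat 20, Int.ofNat 0, Int.ofNat 0, Int.ofNat 0, Int.ofNat 0, Int.negSucc 11, Int.ofNat 704, Int.ofNat 14, Int.negSucc 96, Int.ofNat 0, Int.negSucc 484]) (ZT.node 14306 (ZT.leaf [Int.negSucc 2123, Int.negSucc 2475, Int.ofNat 535, Int.negSucc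 430, Int.negSucc 13, Int.negSucc 527, Int.negSucc 89, Int.ofNat 205, Int.ofNat 46, Int.ofNat 1, Int.ofNat 0, Int.ofNat 0, Int.ofNat 3, Int.negSucc 15, Int.ofNat 827, Int.ofNat 18, Int.negSucc 88, Int.ofNat 0, Int.negSucc 475]) (ZT.leaf [Int.negSucc 2635, Int.ofNat 1005, Int.ofNat 430, Int.ofNat 291, Int.ofNat 10, Int.ofNat 89, Int.ofNat 7, Int.negSucc 96, Int.negSucc 21, Int.negSucc 0, Int.ofNat 0, Int.ofNat 0, Int.negSucc 30, Int.ofNat 7, Int.negSucc 186, Int.negSucc 31, Int.negSucc 27, Int.ofNat 0, Int.ofNat 31])))) (ZT.node 14310 (ZT.node 14308 (ZT.leaf []) (ZT.node 14309 (ZT.leaf [Int.ofNat 5094, Int.ofNat 3261, Int.negSucc 1167, Int.ofNat 529, Int.ofNat 15, Int.ofNat 784, Int.ofNat 123, Int.negSucc 263, Int.negSucc 47, Int.ofNat 0, Int.ofNat 0, Int.ofNat 1, Int.ofNat 11, Int.ofNat 14, Int.negSucc 1090, Int.negSucc 16, Int.ofNat 138, Int.ofNat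 1, Int.ofNat 727]) (ZT.leaf []))) (ZT.node 14311 (ZT.leaf []) (ZT.node 14312 (ZT.leaf []) (ZT.leaf []))))))) (ZT.node 14335 (ZT.node 14324 (ZT.node 14318 (ZT.node 14315 (ZT.node 14314 (ZT.leaf [Int.ofNat 1]) (ZT.leaf [])) (ZT.node 14316 (ZT.leaf []) (ZT.node 14317 (ZT.leaf []) (ZT.leaf [])))) (ZT.node 14321 (ZT.node 14319 (ZT.leaf []) (ZT.node 14320 (ZT.leaf []) (ZT.leaf []))) (ZT.node 14322 (ZT.leaf []) (ZT.node 14323 (ZT.leaf []) (ZT.leaf []))))) (ZT.node 14329 (ZT.node 14326 (ZT.node 14325 (ZT.leaf []) (ZT.leaf [])) (ZT.node 14327 (ZT.leaf []) (ZT.node 14328 (ZT.leaf []) (ZT.leaf [])))) (ZT.node 14332 (ZT.node 14330 (ZT.leaf []) (ZT.node 14331 (ZT.leaf []) (ZT.leaf []))) (ZT.node 14333 (ZT.leaf [Int.negSucc 1932, Int.negSucc 1834, Int.ofNat 525, Int.negSucc 350, Int.negSucc 9, Int.negSucc 431, Int.negSucc 35, Int.ofNat 142, Int.ofNat 20, Int.ofNat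 0, Int.ofNat 0, Int.ofNat 0, Int.ofNat 5, Int.negSucc 3, Int.ofNat 562, Int.ofNat 14, Int.negSucc 80, Int.ofNat 0, Int.negSucc 371]) (ZT.node 14334 (ZT.leaf []) (ZT.leaf [])))))) (ZT.node 14346 (ZT.node 14340 (ZT.node 14337 (ZT.node 14336 (ZT.leaf []) (ZT.leaf [])) (ZT.node 14338 (ZT.leaf []) (ZT.node 14339 (ZT.leaf []) (ZT.leaf [])))) (ZT.node 14343 (ZT.node 14341 (ZT.leaf []) (ZT.node 14342 (ZT.leaf []) (ZT.leaf []))) (ZT.node 14344 (ZT.leaf []) (ZT.node 14345 (ZT.leaf []) (ZT.leaf []))))) (ZT.node 14352 (ZT.node 14349 (ZT.node 14347 (ZT.leaf []) (ZT.node 14348 (ZT.leaf []) (ZT.leaf []))) (ZT.node 14350 (ZT.leaf []) (ZT.node 14351 (ZT.leaf []) (ZT.leaf [])))) (ZT.node 14355 (ZT.node 14353 (ZT.leaf []) (ZT.node 14354 (ZT.leaf []) (ZT.leaf []))) (ZT.node 14356 (ZT.leaf []) (ZT.node 14357 (ZT.leaf []) (ZT.leaf [])))))))) (ZT.node 14403 (ZT.node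 14380 (ZT.node 14369 (ZT.node 14363 (ZT.node 14360 (ZT.node 14359 (ZT.leaf []) (ZT.leaf [Int.ofNat 2, Int.ofNat 0, Int.ofNat 0, Int.ofNat 0, Int.ofNat 0, Int.ofNat 0, Int.ofNat 0, Int.ofNat 0, Int.ofNat 0, Int.ofNat 0, Int.ofNat 0, Int.ofNat 0, Int.ofNat 0, Int.ofNat 0, Int.ofNat 0, Int.ofNat 0, Int.ofNat 0, Int.ofNat 0, Int.ofNat 0])) (ZT.node 14361 (ZT.leaf []) (ZT.node 14362 (ZT.leaf []) (ZT.leaf [])))) (ZT.node 14366 (ZT.node 14364 (ZT.leaf []) (ZT.node 14365 (ZT.leaf []) (ZT.leaf []))) (ZT.node 14367 (ZT.leaf []) (ZT.node 14368 (ZT.leaf []) (ZT.leaf []))))) (ZT.node 14374 (ZT.node 14371 (ZT.node 14370 (ZT.leaf []) (ZT.leaf [])) (ZT.node 14372 (ZT.leaf []) (ZT.node 14373 (ZT.leaf []) (ZT.leaf [])))) (ZT.node 14377 (ZT.node 14375 (ZT.leaf []) (ZT.node 14376 (ZT.leaf [Int.ofNat 7555, Int.ofNat 3255, Int.negSucc 1747, Int.ofNat 522, Int.ofNat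 12, Int.ofNat 988, Int.ofNat 122, Int.negSucc 269, Int.negSucc 28, Int.ofNat 2, Int.negSucc 0, Int.ofNat 0, Int.ofNat 11, Int.ofNat 3, Int.negSucc 1126, Int.negSucc 3, Int.ofNat 168, Int.ofNat 0, Int.ofNat 873]) (ZT.leaf []))) (ZT.node 14378 (ZT.leaf []) (ZT.node 14379 (ZT.leaf []) (ZT.leaf [])))))) (ZT.node 14391 (ZT.node 14385 (ZT.node 14382 (ZT.node 14381 (ZT.leaf []) (ZT.leaf [])) (ZT.node 14383 (ZT.leaf []) (ZT.node 14384 (ZT.leaf []) (ZT.leaf [])))) (ZT.node 14388 (ZT.node 14386 (ZT.leaf [Int.negSucc 0]) (ZT.node 14387 (ZT.leaf []) (ZT.leaf []))) (ZT.node 14389 (ZT.leaf []) (ZT.node 14390 (ZT.leaf []) (ZT.leaf []))))) (ZT.node 14397 (ZT.node 14394 (ZT.node 14392 (ZT.leaf [Int.ofNat 5394, Int.ofNat 2129, Int.negSucc 1257, Int.ofNat 345, Int.ofNat 8, Int.ofNat 677, Int.ofNat 75, Int.negSucc 157, Int.negSucc 7, Int.ofNat 0, Int.ofNat 0, Int.ofNat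 0, Int.ofNat 10, Int.ofNat 5, Int.negSucc 773, Int.ofNat 0, Int.ofNat 115, Int.ofNat 0, Int.ofNat 599]) (ZT.node 14393 (ZT.leaf []) (ZT.leaf []))) (ZT.node 14395 (ZT.leaf []) (ZT.node 14396 (ZT.leaf []) (ZT.leaf [])))) (ZT.node 14400 (ZT.node 14398 (ZT.leaf []) (ZT.node 14399 (ZT.leaf []) (ZT.leaf []))) (ZT.node 14401 (ZT.leaf []) (ZT.node 14402 (ZT.leaf []) (ZT.leaf []))))))) (ZT.node 14425 (ZT.node 14414 (ZT.node 14408 (ZT.node 14405 (ZT.node 14404 (ZT.leaf []) (ZT.leaf [Int.ofNat 1013, Int.ofNat 822, Int.negSucc 256, Int.ofNat 147, Int.ofNat 0, Int.ofNat 203, Int.ofNat 24, Int.negSucc 40, Int.negSucc 6, Int.ofNat 0, Int.ofNat 0, Int.ofNat 0, Int.ofNat 7, Int.ofNat 5, Int.negSucc 275, Int.negSucc 1, Int.ofNat 8, Int.ofNat 1, Int.ofNat 177])) (ZT.node 14406 (ZT.leaf [Int.ofNat 504, Int.ofNat 112, Int.negSucc 123, Int.ofNat 23, Int.ofNat 0, Int.ofNat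 48, Int.negSucc 9, Int.ofNat 13, Int.ofNat 10, Int.ofNat 0, Int.ofNat 0, Int.ofNat 0, Int.ofNat 3, Int.ofNat 3, Int.ofNat 10, Int.negSucc 2, Int.ofNat 3, Int.ofNat 0, Int.ofNat 35]) (ZT.node 14407 (ZT.leaf [Int.ofNat 1309, Int.ofNat 752, Int.negSucc 286, Int.ofNat 113, Int.ofNat 4, Int.ofNat 187, Int.ofNat 45, Int.negSucc 78, Int.negSucc 17, Int.ofNat 0, Int.ofNat 0, Int.ofNat 0, Int.ofNat 1, Int.ofNat 1, Int.negSucc 314, Int.negSucc 2, Int.ofNat 39, Int.negSucc 0, Int.ofNat 179]) (ZT.leaf [])))) (ZT.node 14411 (ZT.node 14409 (ZT.leaf []) (ZT.node 14410 (ZT.leaf []) (ZT.leaf []))) (ZT.node 14412 (ZT.leaf []) (ZT.node 14413 (ZT.leaf []) (ZT.leaf [Int.negSucc 61983, Int.negSucc 28210, Int.ofNat 14460, Int.negSucc 4586, Int.negSucc 92, Int.negSucc 8464, Int.negSucc 1055, Int.ofNat 2214, Int.ofNat 213, Int.ofNat 3, Int.negSucc 0, Int.negSucc 0, Int.negSucc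 128, Int.negSucc 83, Int.ofNat 9815, Int.ofNat 56, Int.negSucc 1388, Int.negSucc 1, Int.negSucc 7467]))))) (ZT.node 14419 (ZT.node 14416 (ZT.node 14415 (ZT.leaf []) (ZT.leaf [])) (ZT.node 14417 (ZT.leaf [Int.ofNat 170, Int.ofNat 48, Int.negSucc 40, Int.ofNat 9, Int.ofNat 0, Int.ofNat 22, Int.ofNat 1, Int.negSucc 2, Int.ofNat 1, Int.negSucc 0, Int.ofNat 1, Int.ofNat 0, Int.ofNat 0, Int.ofNat 0, Int.negSucc 14, Int.ofNat 0, Int.ofNat 2, Int.ofNat 0, Int.ofNat 17]) (ZT.node 14418 (ZT.leaf [Int.ofNat 1311, Int.ofNat 714, Int.negSucc 318, Int.ofNat 120, Int.ofNat 2, Int.ofNat 198, Int.ofNat 29, Int.negSucc 62, Int.negSucc 8, Int.ofNat 1, Int.ofNat 0, Int.ofNat 0, Int.ofNat 1, Int.ofNat 2, Int.negSucc 256, Int.negSucc 1, Int.ofNat 34, Int.ofNat 0, Int.ofNat 182]) (ZT.leaf [])))) (ZT.node 14422 (ZT.node 14420 (ZT.leaf [Int.ofNat 5347, Int.ofNat 1939,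 Int.negSucc 1253, Int.ofNat 307, Int.ofNat 7, Int.ofNat 666, Int.ofNat 76, Int.negSucc 151, Int.negSucc 2, Int.ofNat 0, Int.ofNat 0, Int.ofNat 0, Int.ofNat 8, Int.ofNat 8, Int.negSucc 702, Int.ofNat 1, Int.ofNat 109, Int.ofNat 0, Int.ofNat 584]) (ZT.node 14421 (ZT.leaf []) (ZT.leaf []))) (ZT.node 14423 (ZT.leaf []) (ZT.node 14424 (ZT.leaf []) (ZT.leaf [])))))) (ZT.node 14436 (ZT.node 14430 (ZT.node 14427 (ZT.node 14426 (ZT.leaf []) (ZT.leaf [])) (ZT.node 14428 (ZT.leaf []) (ZT.node 14429 (ZT.leaf []) (ZT.leaf [])))) (ZT.node 14433 (ZT.node 14431 (ZT.leaf []) (ZT.node 14432 (ZT.leaf []) (ZT.leaf [Int.ofNat 296, Int.ofNat 124, Int.negSucc 73, Int.ofNat 21, Int.ofNat 1, Int.ofNat 41, Int.ofNat 3, Int.negSucc 10, Int.negSucc 0, Int.negSucc 0, Int.ofNat 0, Int.ofNat 0, Int.ofNat 0, Int.ofNat 1, Int.negSucc 35, Int.negSucc 0, Int.ofNat 7, Int.ofNat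 0, Int.ofNat 36]))) (ZT.node 14434 (ZT.leaf []) (ZT.node 14435 (ZT.leaf [Int.ofNat 11276, Int.ofNat 1856, Int.negSucc 2458, Int.ofNat 164, Int.negSucc 3, Int.ofNat 970, Int.ofNat 121, Int.negSucc 137, Int.ofNat 26, Int.ofNat 0, Int.ofNat 0, Int.ofNat 0, Int.ofNat 43, Int.ofNat 3, Int.negSucc 840, Int.ofNat 29, Int.ofNat 171, Int.ofNat 0, Int.ofNat 875]) (ZT.leaf []))))) (ZT.node 14442 (ZT.node 14439 (ZT.node 14437 (ZT.leaf [Int.negSucc 0]) (ZT.node 14438 (ZT.leaf []) (ZT.leaf [Int.ofNat 1]))) (ZT.node 14440 (ZT.leaf []) (ZT.node 14441 (ZT.leaf []) (ZT.leaf [])))) (ZT.node 14445 (ZT.node 14443 (ZT.leaf []) (ZT.node 14444 (ZT.leaf []) (ZT.leaf []))) (ZT.node 14446 (ZT.leaf []) (ZT.node 14447 (ZT.leaf []) (ZT.leaf []))))))))))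

end Cfsg.Agent.Helper9.TCData.L34L0
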