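import Cfsg.Agent.Lib.Helper9.LTC
import Cfsg.Agent.Lib.Helper9.TCData.L34A0.Main
import Cfsg.Agent.Lib.Helper9.TCData.L34L0.P1
import Cfsg.Agent.Lib.Helper9.TCData.L34L0.P2
import Cfsg.Agent.Lib.Helper9.TCData.L34L0.P3
import Cfsg.Agent.Lib.Helper9.TCData.L34L0.P4
import Cfsg.Agent.Lib.Helper9.TCData.L34L0.P5
import Cfsg.Agent.Lib.Helper9.TCData.L34L0.P6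
import Cfsg.Agent.Lib.Helper9.TCData.L34L0.P0

set_option autoImplicit false
set_option maxRecDepth 1000000

namespace Cfsg.Agent.Helper9.TCData.L34L0
open Cfsg.Agent.Helper9.TC2 Cfsg.Agent.Helper9.LTC Cfsg.Agent.Helper9.TCData

/-- The rotated relators without their heads, reversed. -/
noncomputable def rotBT : WT := (WT.node 37 (WT.node 18 (WT.node 9 (WT.node 4 (WT.node 2 (WT.node 1 (WT.leaf [2, 2, 2, 2, 2, 2]) (WT.leaf [2, 2, 2, 2, 2, 2])) (WT.node 3 (WT.leaf [2, 2, 2, 2, 2, 2]) (WT.leaf [2, 2, 2, 2, 2, 2]))) (WT.node 6 (WT.node 5 (WT.leaf [2, 2, 2, 2, 2, 2]) (WT.leaf [2, 2, 2, 2, 2, 2])) (WT.node 7 (WT.leaf [0, 0, 0, 0]) (WT.node 8 (WT.leaf [0, 0, 0, 0]) (WT.leaf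 [3, 0, 3, 0, 3, 0, 3]))))) (WT.node 13 (WT.node 11 (WT.node 10 (WT.leaf [2, 2, 1, 2, 2]) (WT.leaf [2, 2, 1, 2, 2])) (WT.node 12 (WT.leaf [3, 0, 3, 0, 3, 0, 3]) (WT.leaf [0, 0, 0, 0]))) (WT.node 15 (WT.node 14 (WT.leaf [3, 0, 3, 0, 3, 0, 3]) (WT.leaf [0, 0, 0, 0])) (WT.node 16 (WT.leaf [3, 0, 3, 0, 3, 0, 3]) (WT.node 17 (WT.leaf [0, 0, 0, 0]) (WT.leaf [0, 3, 0, 3, 0, 3, 0])))))) (WT.node 27 (WT.node 22 (WT.node 20 (WT.node 19 (WT.leaf [1, 2, 2, 1, 2]) (WT.leaf [2, 1, 2, 2, 2, 2, 1, 2, 1, 2, 2, 2, 2, 1, 2, 1, 2, 2, 2, 2, 1, 2, 1, 2, 2, 2, 2, 1, 2, 1, 2, 2, 2, 2])) (WT.node 21 (WT.leaf [2, 2, 2, 2, 1, 2, 1, 2, 2, 2, 2, 1, 2, 1, 2, 2, 2, 2, 1, 2, 1, 2, 2, 2, 2, 1, 2, 1,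 2, 2, 2, 2, 1, 2]) (WT.leaf [2, 1, 2, 2, 2, 2, 1, 2, 1, 2, 2, 2, 2, 1, 2, 1, 2, 2, 2, 2, 1, 2, 1, 2, 2, 2, 2, 1, 2, 1, 2, 2, 2, 2]))) (WT.node 24 (WT.node 23 (WT.leaf [2, 1, 2, 2, 2, 2, 1, 2, 1, 2, 2, 2, 2, 1, 2, 1, 2, 2, 2, 2, 1, 2, 1, 2, 2, 2, 2, 1, 2, 1, 2, 2, 2, 2]) (WT.leaf [2, 2, 2, 2, 1, 2, 1, 2, 2, 2, 2, 1, 2, 1, 2, 2, 2, 2, 1, 2, 1, 2, 2, 2, 2, 1, 2, 1, 2, 2, 2, 2, 1, 2])) (WT.node 25 (WT.leaf [2, 1, 2, 2, 2, 2, 1, 2, 1, 2, 2, 2, 2, 1, 2, 1, 2, 2, 2, 2, 1, 2, 1, 2, 2, 2, 2, 1, 2, 1, 2, 2, 2, 2]) (WT.node 26 (WT.leaf [1, 2, 2, 1, 2]) (WT.leaf [2, 2, 2, 0, 2, 1, 2, 1, 2, 2, 2, 0, 2, 1, 2, 1, 2, 2, 2, 0, 2, 1, 2, 1, 2, 2, 2, 0, 2, 1, 2, 1, 2, 2, 2, 0, 2, 1, 2])))))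 (WT.node 32 (WT.node 29 (WT.node 28 (WT.leaf [2, 1, 2, 1, 2, 2, 2, 0, 2, 1, 2, 1, 2, 2, 2, 0, 2, 1, 2, 1, 2, 2, 2, 0, 2, 1, 2, 1, 2, 2, 2, 0, 2, 1, 2, 1, 2, 2, 2]) (WT.leaf [2, 2, 2, 2, 1, 2, 1, 2, 2, 2, 2, 1, 2, 1, 2, 2, 2, 2, 1, 2, 1, 2, 2, 2, 2, 1, 2, 1, 2, 2, 2, 2, 1, 2])) (WT.node 30 (WT.leaf [2, 2, 2, 2, 1, 2, 1, 2, 2, 2, 2, 1, 2, 1, 2, 2, 2, 2, 1, 2, 1, 2, 2, 2, 2, 1, 2, 1, 2, 2, 2, 2, 1, 2]) (WT.node 31 (WT.leaf [2, 1, 2, 2, 2, 0, 2, 1, 2, 1, 2, 2, 2, 0, 2, 1, 2, 1, 2, 2, 2, 0, 2, 1, 2, 1, 2, 2, 2, 0, 2, 1, 2, 1, 2, 2, 2, 0, 2]) (WT.leaf [2, 1, 2, 1, 2, 2, 2, 0, 2, 1, 2, 1, 2, 2, 2, 0, 2, 1, 2, 1, 2, 2, 2, 0, 2, 1, 2, 1, 2, 2, 2, 0, 2, 1, 2, 1, 2, 2, 2]))))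 (WT.node 34 (WT.node 33 (WT.leaf [2, 1, 2, 2, 2, 2, 1, 2, 1, 2, 2, 2, 2, 1, 2, 1, 2, 2, 2, 2, 1, 2, 1, 2, 2, 2, 2, 1, 2, 1, 2, 2, 2, 2]) (WT.leaf [2, 1, 2, 2, 1])) (WT.node 35 (WT.leaf [2, 2, 2, 0, 2, 1, 2, 1, 2, 2, 2, 0, 2, 1, 2, 1, 2, 2, 2, 0, 2, 1, 2, 1, 2, 2, 2, 0, 2, 1, 2, 1, 2, 2, 2, 0, 2, 1, 2]) (WT.node 36 (WT.leaf [2, 1, 2, 2, 2, 0, 2, 1, 2, 1, 2, 2, 2, 0, 2, 1, 2, 1, 2, 2, 2, 0, 2, 1, 2, 1, 2, 2, 2, 0, 2, 1, 2, 1, 2, 2, 2, 0, 2]) (WT.leaf [2, 2, 2, 2, 1, 2, 1, 2, 2, 2, 2, 1, 2, 1, 2, 2, 2, 2, 1, 2, 1, 2, 2, 2, 2, 1, 2, 1, 2, 2, 2, 2, 1, 2]))))))) (WT.node 55 (WT.node 46 (WT.node 41 (WT.node 39 (WT.node 38 (WT.leaf [2, 1, 2, 1, 2, 2, 2, 0, 2, 1, 2, 1, 2, 2,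 2, 0, 2, 1, 2, 1, 2, 2, 2, 0, 2, 1, 2, 1, 2, 2, 2, 0, 2, 1, 2, 1, 2, 2, 2]) (WT.leaf [2, 1, 2, 1, 2, 2, 2, 0, 2, 1, 2, 1, 2, 2, 2, 0, 2, 1, 2, 1, 2, 2, 2, 0, 2, 1, 2, 1, 2, 2, 2, 0, 2, 1, 2, 1, 2, 2, 2])) (WT.node 40 (WT.leaf [1, 2, 1, 2, 2, 2, 0, 2, 1, 2, 1, 2, 2, 2, 0, 2, 1, 2, 1, 2, 2, 2, 0, 2, 1, 2, 1, 2, 2, 2, 0, 2, 1, 2, 1, 2, 2, 2, 0]) (WT.leaf [2, 2, 2, 0, 2, 1, 2, 1, 2, 2, 2, 0, 2, 1, 2, 1, 2, 2, 2, 0, 2, 1, 2, 1, 2, 2, 2, 0, 2, 1, 2, 1, 2, 2, 2, 0, 2, 1, 2]))) (WT.node 43 (WT.node 42 (WT.leaf [2, 2, 2, 0, 2, 1, 2, 1, 2, 2, 2, 0, 2, 1, 2, 1, 2, 2, 2, 0, 2, 1, 2, 1, 2, 2, 2, 0, 2, 1, 2, 1, 2, 2, 2, 0, 2, 1, 2]) (WT.leaf [2, 1, 2, 2, 2, 0, 2, 1, 2, 1, 2, 2, 2,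 0, 2, 1, 2, 1, 2, 2, 2, 0, 2, 1, 2, 1, 2, 2, 2, 0, 2, 1, 2, 1, 2, 2, 2, 0, 2])) (WT.node 44 (WT.leaf [2, 1, 2, 1, 2, 2, 2, 2, 1, 2, 1, 2, 2, 2, 2, 1, 2, 1, 2, 2, 2, 2, 1, 2, 1, 2, 2, 2, 2, 1, 2, 1, 2, 2]) (WT.node 45 (WT.leaf [2, 1, 2, 1, 2, 2, 2, 0, 2, 1, 2, 1, 2, 2, 2, 0, 2, 1, 2, 1, 2, 2, 2, 0, 2, 1, 2, 1, 2, 2, 2, 0, 2, 1, 2, 1, 2, 2, 2]) (WT.leaf [1, 2, 1, 2, 2, 2, 0, 2, 1, 2, 1, 2, 2, 2, 0, 2, 1, 2, 1, 2, 2, 2, 0, 2, 1, 2, 1, 2, 2, 2, 0, 2, 1, 2, 1, 2, 2, 2, 0]))))) (WT.node 50 (WT.node 48 (WT.node 47 (WT.leaf [1, 2, 1, 2, 2, 2, 2, 1, 2, 1, 2, 2, 2, 2, 1, 2, 1, 2, 2, 2, 2, 1, 2, 1, 2, 2, 2, 2, 1, 2, 1, 2, 2, 2]) (WT.leaf [2, 1, 2, 2, 1])) (WT.node 49 (WT.leaf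 [2, 1, 2, 2, 2, 0, 2, 1, 2, 1, 2, 2, 2, 0, 2, 1, 2, 1, 2, 2, 2, 0, 2, 1, 2, 1, 2, 2, 2, 0, 2, 1, 2, 1, 2, 2, 2, 0, 2]) (WT.leaf [2, 2, 1, 2, 1, 2, 2, 2, 2, 1, 2, 1, 2, 2, 2, 2, 1, 2, 1, 2, 2, 2, 2, 1, 2, 1, 2, 2, 2, 2, 1, 2, 1, 2]))) (WT.node 52 (WT.node 51 (WT.leaf [1, 2, 2, 2, 2, 1, 2, 1, 2, 2, 2, 2, 1, 2, 1, 2, 2, 2, 2, 1, 2, 1, 2, 2, 2, 2, 1, 2, 1, 2, 2, 2, 2, 1]) (WT.leaf [2, 2, 1, 2, 1, 2, 2, 2, 2, 1, 2, 1, 2, 2, 2, 2, 1, 2, 1, 2, 2, 2, 2, 1, 2, 1, 2, 2, 2, 2, 1, 2, 1, 2])) (WT.node 53 (WT.leaf [2, 2, 2, 2, 2, 2]) (WT.node 54 (WT.leaf [2, 2, 2, 0, 2, 1, 2, 1, 2, 2, 2, 0, 2, 1, 2, 1, 2, 2, 2, 0, 2, 1, 2, 1, 2, 2, 2, 0, 2, 1, 2, 1, 2, 2, 2, 0, 2, 1, 2]) (WT.leaf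 [0, 2, 1, 2, 1, 2, 2, 2, 0, 2, 1, 2, 1, 2, 2, 2, 0, 2, 1, 2, 1, 2, 2, 2, 0, 2, 1, 2, 1, 2, 2, 2, 0, 2, 1, 2, 1, 2, 2])))))) (WT.node 64 (WT.node 59 (WT.node 57 (WT.node 56 (WT.leaf [2, 1, 2, 1, 2, 2, 2, 2, 1, 2, 1, 2, 2, 2, 2, 1, 2, 1, 2, 2, 2, 2, 1, 2, 1, 2, 2, 2, 2, 1, 2, 1, 2, 2]) (WT.leaf [1, 2, 1, 2, 2, 2, 0, 2, 1, 2, 1, 2, 2, 2, 0, 2, 1, 2, 1, 2, 2, 2, 0, 2, 1, 2, 1, 2, 2, 2, 0, 2, 1, 2, 1, 2, 2, 2, 0])) (WT.node 58 (WT.leaf [2, 0, 2, 1, 2, 1, 2, 2, 2, 0, 2, 1, 2, 1, 2, 2, 2, 0, 2, 1, 2, 1, 2, 2, 2, 0, 2, 1, 2, 1, 2, 2, 2, 0, 2, 1, 2, 1, 2]) (WT.leaf [1, 2, 1, 2, 2, 2, 0, 2, 1, 2, 1, 2, 2, 2, 0, 2, 1, 2, 1, 2, 2, 2, 0, 2, 1, 2, 1, 2, 2, 2, 0, 2, 1, 2, 1, 2, 2,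 2, 0]))) (WT.node 61 (WT.node 60 (WT.leaf [2, 2, 1, 2, 1, 2, 2, 2, 2, 1, 2, 1, 2, 2, 2, 2, 1, 2, 1, 2, 2, 2, 2, 1, 2, 1, 2, 2, 2, 2, 1, 2, 1, 2]) (WT.leaf [2, 1, 2, 2, 2, 0, 2, 1, 2, 1, 2, 2, 2, 0, 2, 1, 2, 1, 2, 2, 2, 0, 2, 1, 2, 1, 2, 2, 2, 0, 2, 1, 2, 1, 2, 2, 2, 0, 2])) (WT.node 62 (WT.leaf [1, 2, 2, 2, 2, 1, 2, 1, 2, 2, 2, 2, 1, 2, 1, 2, 2, 2, 2, 1, 2, 1, 2, 2, 2, 2, 1, 2, 1, 2, 2, 2, 2, 1]) (WT.node 63 (WT.leaf [1, 2, 1, 2, 2, 2, 0, 2, 1, 2, 1, 2, 2, 2, 0, 2, 1, 2, 1, 2, 2, 2, 0, 2, 1, 2, 1, 2, 2, 2, 0, 2, 1, 2, 1, 2, 2, 2, 0]) (WT.leaf [1, 2, 1, 2, 2, 2, 2, 1, 2, 1, 2, 2, 2, 2, 1, 2, 1, 2, 2, 2, 2, 1, 2, 1, 2, 2, 2, 2, 1, 2, 1, 2, 2, 2]))))) (WT.node 69 (WT.node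 66 (WT.node 65 (WT.leaf [1, 2, 2, 2, 2, 1, 2, 1, 2, 2, 2, 2, 1, 2, 1, 2, 2, 2, 2, 1, 2, 1, 2, 2, 2, 2, 1, 2, 1, 2, 2, 2, 2, 1]) (WT.leaf [1, 2, 1, 2, 2, 2, 2, 1, 2, 1, 2, 2, 2, 2, 1, 2, 1, 2, 2, 2, 2, 1, 2, 1, 2, 2, 2, 2, 1, 2, 1, 2, 2, 2])) (WT.node 67 (WT.leaf [1, 2, 1, 2, 2, 2, 2, 1, 2, 1, 2, 2, 2, 2, 1, 2, 1, 2, 2, 2, 2, 1, 2, 1, 2, 2, 2, 2, 1, 2, 1, 2, 2, 2]) (WT.node 68 (WT.leaf [2, 1, 2, 1, 2, 2, 2, 2, 1, 2, 1, 2, 2, 2, 2, 1, 2, 1, 2, 2, 2, 2, 1, 2, 1, 2, 2, 2, 2, 1, 2, 1, 2, 2]) (WT.leaf [1, 2, 2, 2, 2, 1, 2, 1, 2, 2, 2, 2, 1, 2, 1, 2, 2, 2, 2, 1, 2, 1, 2, 2, 2, 2, 1, 2, 1, 2, 2, 2, 2, 1])))) (WT.node 71 (WT.node 70 (WT.leaf [2, 2, 2, 1, 2, 1, 2, 2, 2, 2, 1,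 2, 1, 2, 2, 2, 2, 1, 2, 1, 2, 2, 2, 2, 1, 2, 1, 2, 2, 2, 2, 1, 2, 1]) (WT.leaf [1, 2, 1, 2, 2, 2, 2, 1, 2, 1, 2, 2, 2, 2, 1, 2, 1, 2, 2, 2, 2, 1, 2, 1, 2, 2, 2, 2, 1, 2, 1, 2, 2, 2])) (WT.node 72 (WT.leaf [1, 2, 1, 2, 1, 3, 0, 3, 0, 2, 1, 2, 1, 3, 0, 3, 0, 2, 1, 2, 1, 3, 0, 3, 0, 2, 1, 2, 1, 3, 0, 3, 0, 2, 1, 2, 1, 3, 0, 3, 0, 2, 1, 2, 1, 3, 0, 3, 0, 2, 1, 2, 1, 3, 0, 3, 0, 2, 1, 2, 1, 3, 0, 3, 0, 2, 1, 2, 1, 3, 0, 3, 0, 2, 1, 2, 1, 3, 0, 3, 0, 2, 1, 2, 1, 3, 0, 3, 0, 2, 1, 2, 1, 3, 0, 3, 0, 2, 1, 2, 1, 3, 0, 3, 0, 2, 1, 2, 1, 3, 0, 3, 0, 2, 1, 2, 1, 3, 0, 3, 0, 2, 1, 2, 1, 3, 0, 3, 0, 2, 1, 2, 1, 3, 0, 3, 0, 2, 1, 2, 1, 3, 0, 3, 0, 2, 1, 2, 1, 3, 0, 3, 0, 2, 1, 2,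 1, 3, 0, 3, 0, 2, 1, 2, 1, 3, 0, 3, 0, 2, 1, 2, 1, 3, 0, 3, 0, 2, 1, 2, 1, 3, 0, 3, 0, 2, 1, 2, 1, 3, 0, 3, 0, 2, 1, 2, 1, 3, 0, 3, 0, 2, 1, 2, 1, 3, 0, 3, 0, 2, 1, 2, 1, 3, 0, 3, 0, 2, 1, 2, 1, 3, 0, 3, 0, 2, 1, 2, 1, 3, 0, 3, 0, 2, 1, 2, 1, 3, 0, 3, 0, 2, 1, 2, 1, 3, 0, 3, 0, 2, 1, 2, 1, 3, 0, 3, 0, 2, 1, 2, 1, 3, 0, 3, 0, 2, 1, 2, 1, 3, 0, 3, 0, 2, 1, 2, 1, 3, 0, 3, 0, 2, 1, 2, 1, 3, 0, 3, 0, 2, 1, 2, 1, 3, 0, 3, 0, 2, 1, 2, 1, 3, 0, 3, 0, 2, 1, 2, 1, 3, 0, 3, 0, 2, 1, 2, 1, 3, 0, 3, 0, 2, 1, 2, 1, 3, 0, 3, 0, 2, 1, 2, 1, 3, 0, 3, 0, 2, 1, 2, 1, 3, 0, 3, 0, 2, 1, 2, 1, 3, 0, 3, 0, 2, 1, 2, 1, 3, 0, 3, 0, 2, 1, 2, 1, 3, 0, 3, 0, 2, 1, 2, 1, 3, 0, 3, 0, 2, 1, 2, 1,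 3, 0, 3, 0, 2, 1, 2, 1, 3, 0, 3, 0, 2, 1, 2, 1, 3, 0, 3, 0, 2, 1, 2, 1, 3, 0, 3, 0, 2, 1, 2, 1, 3, 0, 3, 0, 2, 1, 2, 1, 3, 0, 3, 0, 2, 1, 2, 1, 3, 0, 3, 0, 2, 1, 2, 1, 3, 0, 3, 0, 2, 1, 2, 1, 3, 0, 3, 0, 2, 1, 2, 1, 3, 0, 3, 0, 2, 1, 2, 1, 3, 0, 3, 0, 2, 1, 2, 1, 3, 0, 3, 0, 2, 1, 2, 1, 3, 0, 3, 0, 2, 1, 2, 1, 3, 0, 3, 0, 2, 1, 2, 1, 3, 0, 3, 0, 2, 1, 2, 1, 3, 0, 3, 0, 2, 1, 2, 1, 3, 0, 3, 0, 2, 1, 2, 1, 3, 0, 3, 0, 2, 1, 2, 1, 3, 0, 3, 0, 2, 1, 2, 1, 3, 0, 3, 0, 2, 1, 2, 1, 3, 0, 3, 0, 2, 1, 2, 1, 3, 0, 3, 0, 2, 1, 2, 1, 3, 0, 3, 0, 2, 1, 2, 1, 3, 0, 3, 0, 2, 1, 2, 1, 3, 0, 3, 0, 2, 1, 2, 1, 3, 0, 3, 0, 2, 1, 2, 1, 3, 0, 3, 0, 2, 1, 2, 1, 3, 0, 3, 0, 2, 1, 2, 1, 3,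 0, 3, 0, 2, 1, 2, 1, 3, 0, 3, 0, 2, 1, 2, 1, 3, 0, 3, 0, 2, 1, 2, 1, 3, 0, 3, 0, 2, 1, 2, 1, 3, 0, 3, 0, 2, 1, 2, 1, 3, 0, 3, 0, 2, 1, 2, 1, 3, 0, 3, 0, 2, 1, 2, 1, 3, 0, 3, 0, 2, 1, 2, 1, 3, 0, 3, 0, 2, 1, 2, 1, 3, 0, 3, 0, 2, 1, 2, 1, 3, 0, 3, 0, 2, 1, 2, 1, 3, 0, 3, 0, 2, 1, 2, 1, 3, 0, 3, 0, 2, 1, 2, 1, 3, 0, 3, 0, 2, 1, 2, 1, 3, 0, 3, 0, 2, 1, 2, 1, 3, 0, 3, 0, 2, 1, 2, 1, 3, 0, 3, 0, 2, 1, 2, 1, 3, 0, 3, 0, 2, 1, 2, 1, 3, 0, 3, 0, 2, 1, 2, 1, 3, 0, 3, 0, 2, 1, 2, 1, 3, 0]) (WT.node 73 (WT.leaf [0, 2, 1, 2, 1, 2, 2, 2, 0, 2, 1, 2, 1, 2, 2, 2, 0, 2, 1, 2, 1, 2, 2, 2, 0, 2, 1, 2, 1, 2, 2, 2, 0, 2, 1, 2, 1, 2, 2]) (WT.leaf [3, 3, 3, 1, 2, 0, 3, 0, 2, 1, 3, 1, 2, 0,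 3, 0, 2, 1, 3, 1, 2, 0, 3, 0, 2, 1, 3, 1, 2, 0, 3, 0, 2, 1, 3, 1, 2, 0, 3, 0, 2, 1, 3, 1, 2, 0, 3, 0, 2, 1, 3, 1, 2, 0, 3, 0, 2, 1, 3, 1, 2, 0, 3, 0, 2, 1, 3, 1, 2, 0, 3, 0, 2, 1, 3, 1, 2, 0, 3, 0, 2, 1, 3, 1, 2, 0, 3, 0, 2, 1, 3, 1, 2, 0, 3, 0, 2, 1, 3, 1, 2, 0, 3, 0, 2, 1, 3, 1, 2, 0, 3, 0, 2, 1, 3, 1, 2, 0, 3, 0, 2, 1, 3, 1, 2, 0, 3, 0, 2, 1, 3, 1, 2, 0, 3, 0, 2, 1, 3, 1, 2, 0, 3, 0, 2, 1, 3, 1, 2, 0, 3, 0, 2, 1, 3, 1, 2, 0, 3, 0, 2, 1, 3, 1, 2, 0, 3, 0, 2, 1, 3, 1, 2, 0, 3, 0, 2, 1, 3, 1, 2, 0, 3, 0, 2, 1, 3, 1, 2, 0, 3, 0, 2, 1, 3, 1, 2, 0, 3, 0, 2, 1, 3, 1, 2, 0, 3, 0, 2, 1, 3, 1, 2, 0, 3, 0, 2, 1, 3, 1, 2, 0, 3, 0, 2, 1, 3, 1, 2, 0, 3, 0, 2, 1, 3, 1, 2, 0, 3,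 0, 2, 1, 3, 1, 2, 0, 3, 0, 2, 1, 3, 1, 2, 0, 3, 0, 2, 1, 3, 1, 2, 0, 3, 0, 2, 1, 3, 1, 2, 0, 3, 0, 2, 1, 3, 1, 2, 0, 3, 0, 2, 1, 3, 1, 2, 0, 3, 0, 2, 1, 3, 1, 2, 0, 3, 0, 2, 1, 3, 1, 2, 0, 3, 0, 2, 1, 3, 1, 2, 0, 3, 0, 2, 1, 3, 1, 2, 0, 3, 0, 2, 1, 3, 1, 2, 0, 3, 0, 2, 1, 3, 1, 2, 0, 3, 0, 2, 1, 3, 1, 2, 0, 3, 0, 2, 1, 3, 1, 2, 0, 3, 0, 2, 1, 3, 1, 2, 0, 3, 0, 2, 1, 3, 1, 2, 0, 3, 0, 2, 1, 3, 1, 2, 0, 3, 0, 2, 1, 3, 1, 2, 0, 3, 0, 2, 1, 3, 1, 2, 0, 3, 0, 2, 1, 3, 1, 2, 0, 3, 0, 2, 1, 3, 1, 2, 0, 3, 0, 2, 1, 3, 1, 2, 0, 3, 0, 2, 1, 3, 1, 2, 0, 3, 0, 2, 1, 3, 1, 2, 0, 3, 0, 2, 1, 3, 1, 2, 0, 3, 0, 2, 1, 3, 1, 2, 0, 3, 0, 2, 1, 3, 1, 2, 0, 3, 0, 2, 1, 3, 1, 2, 0, 3, 0,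 2, 1, 3, 1, 2, 0, 3, 0, 2, 1, 3, 1, 2, 0, 3, 0, 2, 1, 3, 1, 2, 0, 3, 0, 2, 1, 3, 1, 2, 0, 3, 0, 2, 1, 3, 1, 2, 0, 3, 0, 2, 1, 3, 1, 2, 0, 3, 0, 2, 1, 3, 1, 2, 0, 3, 0, 2, 1, 3, 1, 2, 0, 3, 0, 2, 1, 3, 1, 2, 0, 3, 0, 2, 1, 3, 1, 2, 0, 3, 0, 2, 1, 3, 1, 2, 0, 3, 0, 2, 1, 3, 1, 2, 0, 3, 0, 2, 1, 3, 1, 2, 0, 3, 0, 2, 1, 3, 1, 2, 0, 3, 0, 2, 1, 3, 1, 2, 0, 3, 0, 2, 1, 3, 1, 2, 0, 3, 0, 2, 1, 3, 1, 2, 0, 3, 0, 2, 1, 3, 1, 2, 0, 3, 0, 2, 1, 3, 1, 2, 0, 3, 0, 2, 1, 3, 1, 2, 0, 3, 0, 2, 1, 3, 1, 2, 0, 3, 0, 2, 1, 3, 1, 2, 0, 3, 0, 2, 1, 3, 1, 2, 0, 3, 0, 2, 1, 3, 1, 2, 0, 3, 0, 2, 1, 3, 1, 2, 0, 3, 0, 2, 1, 3, 1, 2, 0, 3, 0, 2, 1, 3, 1, 2, 0, 3, 0, 2, 1, 3, 1, 2, 0, 3, 0, 2,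 1, 3, 1, 2, 0, 3, 0, 2, 1, 3, 1, 2, 0, 3, 0, 2, 1, 3, 1, 2, 0, 3, 0, 2, 1, 3, 1, 2, 0, 3, 0, 2, 1, 3, 1, 2, 0, 3, 0, 2, 1, 3, 1, 2, 0, 3, 0, 2, 1, 3, 1, 2, 0, 3, 0, 2, 1, 3, 1, 2, 0, 3, 0, 2, 1, 3, 1, 2, 0, 3, 0, 2, 1, 3, 1, 2, 0, 3, 0, 2, 1, 3, 1, 2, 0, 3, 0, 2, 1, 3, 1, 2, 0, 3, 0, 2, 1, 3, 1, 2, 0, 3, 0, 2, 1, 3, 1, 2, 0, 3, 0, 2, 1, 3, 1, 2, 0, 3, 0, 2, 1, 3, 1, 2, 0, 3, 0, 2, 1, 3, 1, 2, 0, 3, 0, 2, 1, 3, 1, 2, 0, 3, 0, 2, 1, 3, 1, 2, 0, 3, 0, 2, 1, 3, 1, 2, 0, 3, 0, 2, 1, 3, 1, 2, 0, 3, 0, 2, 1, 3, 1, 2, 0, 3, 0, 2, 1, 3, 1, 2, 0, 3, 0, 2, 1, 3, 1, 2, 0, 3, 0, 2, 1, 3, 1, 2, 0, 3, 0, 2, 1, 3, 1, 2, 0, 3, 0, 2, 1, 3, 1, 2, 0, 3, 0, 2, 1, 3, 1, 2, 0, 3, 0, 2, 1,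 3, 1, 2, 0, 3, 0, 2, 1, 3, 1, 2, 0, 3, 0, 2, 1, 3, 1, 2, 0, 3, 0, 2, 1, 3, 1, 2, 0, 3, 0, 2, 1, 3, 1, 2, 0, 3, 0, 2, 1, 3, 1, 2, 0, 3, 0, 2, 1]))))))))

/-- The labels of the rotated relators. -/
noncomputable def rotAT : ZT := (ZT.node 37 (ZT.node 18 (ZT.node 9 (ZT.node 4 (ZT.node 2 (ZT.node 1 (ZT.leaf []) (ZT.leaf [])) (ZT.node 3 (ZT.leaf []) (ZT.leaf []))) (ZT.node 6 (ZT.node 5 (ZT.leaf []) (ZT.leaf [])) (ZT.node 7 (ZT.leaf []) (ZT.node 8 (ZT.leaf []) (ZT.leaf [Int.ofNat 0, Int.ofNat 1]))))) (ZT.node 13 (ZT.node 11 (ZT.node 10 (ZT.leaf [Int.ofNat 1]) (ZT.leaf [Int.ofNat 1])) (ZT.node 12 (ZT.leaf [Int.ofNat 0, Int.ofNat 1]) (ZT.leaf []))) (ZT.node 15 (ZT.node 14 (ZT.leaf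 [Int.ofNat 0, Int.ofNat 1]) (ZT.leaf [])) (ZT.node 16 (ZT.leaf [Int.ofNat 0, Int.ofNat 1]) (ZT.node 17 (ZT.leaf []) (ZT.leaf [Int.ofNat 0, Int.ofNat 1])))))) (ZT.node 27 (ZT.node 22 (ZT.node 20 (ZT.node 19 (ZT.leaf [Int.ofNat 1]) (ZT.leaf [Int.ofNat 0, Int.ofNat 0, Int.ofNat 1])) (ZT.node 21 (ZT.leaf [Int.ofNat 0, Int.ofNat 0, Int.ofNat 1]) (ZT.leaf [Int.ofNat 0, Int.ofNat 0, Int.ofNat 1]))) (ZT.node 24 (ZT.node 23 (ZT.leaf [Int.ofNat 0, Int.ofNat 0, Int.ofNat 1]) (ZT.leaf [Int.ofNat 0, Int.ofNat 0, Int.ofNat 1])) (ZT.node 25 (ZT.leaf [Int.ofNat 0, Int.ofNat 0, Int.ofNat 1]) (ZT.node 26 (ZT.leaf [Int.ofNat 1]) (ZT.leaf [Int.ofNat 0, Int.ofNat 0, Int.ofNat 0, Int.ofNat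 1]))))) (ZT.node 32 (ZT.node 29 (ZT.node 28 (ZT.leaf [Int.ofNat 0, Int.ofNat 0, Int.ofNat 0, Int.ofNat 1]) (ZT.leaf [Int.ofNat 0, Int.ofNat 0, Int.ofNat 1])) (ZT.node 30 (ZT.leaf [Int.ofNat 0, Int.ofNat 0, Int.ofNat 1]) (ZT.node 31 (ZT.leaf [Int.ofNat 0, Int.ofNat 0, Int.ofNat 0, Int.ofNat 1]) (ZT.leaf [Int.ofNat 0, Int.ofNat 0, Int.ofNat 0, Int.ofNat 1])))) (ZT.node 34 (ZT.node 33 (ZT.leaf [Int.ofNat 0, Int.ofNat 0, Int.ofNat 1]) (ZT.leaf [Int.ofNat 1])) (ZT.node 35 (ZT.leaf [Int.ofNat 0, Int.ofNat 0, Int.ofNat 0, Int.ofNat 1]) (ZT.node 36 (ZT.leaf [Int.ofNat 0, Int.ofNat 0, Int.ofNat 0, Int.ofNat 1]) (ZT.leaf [Int.ofNat 0, Int.ofNat 0, Int.ofNat 1]))))))) (ZT.node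 55 (ZT.node 46 (ZT.node 41 (ZT.node 39 (ZT.node 38 (ZT.leaf [Int.ofNat 0, Int.ofNat 0, Int.ofNat 0, Int.ofNat 1]) (ZT.leaf [Int.ofNat 0, Int.ofNat 0, Int.ofNat 0, Int.ofNat 1])) (ZT.node 40 (ZT.leaf [Int.ofNat 0, Int.ofNat 0, Int.ofNat 0, Int.ofNat 1]) (ZT.leaf [Int.ofNat 0, Int.ofNat 0, Int.ofNat 0, Int.ofNat 1]))) (ZT.node 43 (ZT.node 42 (ZT.leaf [Int.ofNat 0, Int.ofNat 0, Int.ofNat 0, Int.ofNat 1]) (ZT.leaf [Int.ofNat 0, Int.ofNat 0, Int.ofNat 0, Int.ofNat 1])) (ZT.node 44 (ZT.leaf [Int.ofNat 0, Int.ofNat 0, Int.ofNat 1]) (ZT.node 45 (ZT.leaf [Int.ofNat 0, Int.ofNat 0, Int.ofNat 0, Int.ofNat 1]) (ZT.leaf [Int.ofNat 0, Int.ofNat 0, Int.ofNat 0, Int.ofNat 1]))))) (ZT.node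 50 (ZT.node 48 (ZT.node 47 (ZT.leaf [Int.ofNat 0, Int.ofNat 0, Int.ofNat 1]) (ZT.leaf [Int.ofNat 1])) (ZT.node 49 (ZT.leaf [Int.ofNat 0, Int.ofNat 0, Int.ofNat 0, Int.ofNat 1]) (ZT.leaf [Int.ofNat 0, Int.ofNat 0, Int.ofNat 1]))) (ZT.node 52 (ZT.node 51 (ZT.leaf [Int.ofNat 0, Int.ofNat 0, Int.ofNat 1]) (ZT.leaf [Int.ofNat 0, Int.ofNat 0, Int.ofNat 1])) (ZT.node 53 (ZT.leaf []) (ZT.node 54 (ZT.leaf [Int.ofNat 0, Int.ofNat 0, Int.ofNat 0, Int.ofNat 1]) (ZT.leaf [Int.ofNat 0, Int.ofNat 0, Int.ofNat 0, Int.ofNat 1])))))) (ZT.node 64 (ZT.node 59 (ZT.node 57 (ZT.node 56 (ZT.leaf [Int.ofNat 0, Int.ofNat 0, Int.ofNat 1]) (ZT.leaf [Int.ofNat 0, Int.ofNat 0, Int.ofNat 0, Int.ofNat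 1])) (ZT.node 58 (ZT.leaf [Int.ofNat 0, Int.ofNat 0, Int.ofNat 0, Int.ofNat 1]) (ZT.leaf [Int.ofNat 0, Int.ofNat 0, Int.ofNat 0, Int.ofNat 1]))) (ZT.node 61 (ZT.node 60 (ZT.leaf [Int.ofNat 0, Int.ofNat 0, Int.ofNat 1]) (ZT.leaf [Int.ofNat 0, Int.ofNat 0, Int.ofNat 0, Int.ofNat 1])) (ZT.node 62 (ZT.leaf [Int.ofNat 0, Int.ofNat 0, Int.ofNat 1]) (ZT.node 63 (ZT.leaf [Int.ofNat 0, Int.ofNat 0, Int.ofNat 0, Int.ofNat 1]) (ZT.leaf [Int.ofNat 0, Int.ofNat 0, Int.ofNat 1]))))) (ZT.node 69 (ZT.node 66 (ZT.node 65 (ZT.leaf [Int.ofNat 0, Int.ofNat 0, Int.ofNat 1]) (ZT.leaf [Int.ofNat 0, Int.ofNat 0, Int.ofNat 1])) (ZT.node 67 (ZT.leaf [Int.ofNat 0, Int.ofNat 0, Int.ofNat 1]) (ZT.node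 68 (ZT.leaf [Int.ofNat 0, Int.ofNat 0, Int.ofNat 1]) (ZT.leaf [Int.ofNat 0, Int.ofNat 0, Int.ofNat 1])))) (ZT.node 71 (ZT.node 70 (ZT.leaf [Int.ofNat 0, Int.ofNat 0, Int.ofNat 1]) (ZT.leaf [Int.ofNat 0, Int.ofNat 0, Int.ofNat 1])) (ZT.node 72 (ZT.leaf []) (ZT.node 73 (ZT.leaf [Int.ofNat 0, Int.ofNat 0, Int.ofNat 0, Int.ofNat 1]) (ZT.leaf []))))))))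

/-- The heads of the rotated relators. -/
def rotHL : List ℕ := [2, 2, 2, 2, 2, 2, 0, 0, 0, 1, 1, 0, 0, 0, 0, 0, 0, 3, 2, 1, 1, 1, 1, 1, 1, 2, 1, 0, 1, 1, 1, 0, 1, 2, 1, 1, 1, 0, 0, 2, 1, 1, 1, 2, 0, 2, 2, 2, 1, 2, 2, 2, 2, 1, 2, 2, 2, 2, 2, 2, 1, 2, 2, 2, 2, 2, 2, 2, 2, 2, 2, 3, 2, 3]

/-- The sources of the rotated relators: relator and rotation. -/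
def rotSrc : List (ℕ × ℕ) := [(1, 4), (1, 5), (1, 2), (1, 3), (1, 0), (1, 1), (0, 1), (0, 0), (3, 1), (2, 4), (2, 1), (3, 3), (0, 3), (3, 5), (0, 4), (3, 7), (0, 2), (3, 0), (2, 2), (4, 12), (4, 3), (4, 19), (4, 33), (4, 10), (4, 26), (2, 5), (5, 27), (5, 15), (4, 17), (4, 31), (5, 29), (5, 23), (4, 5), (2, 0), (5, 19), (5, 21), (4, 24), (5, 31), (5, 39), (5, 6), (5, 11), (5, 35), (5, 5), (4, 0), (5, 7), (5, 14), (4, 6), (2, 3), (5, 13), (4, 1), (4, 25), (4, 15), (1, 6), (5, 3), (5, 24), (4, 28), (5, 38), (5, 33), (5, 30), (4, 22), (5, 37), (4, 4), (5, 22), (4, 34), (4, 18), (4, 27), (4, 13), (4, 21), (4, 32), (4, 9), (4, 20), (6, 0), (5, 0), (7, 0)]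

/-- The relators, as words of columns. -/
def relWords : List (List ℕ) := [[0, 0, 0, 0, 0], [2, 2, 2, 2, 2, 2, 2], [2, 1, 2, 2, 1, 2], [3, 0, 3, 0, 3, 0, 3, 0], [2, 2, 2, 1, 2, 1, 2, 2, 2, 2, 1, 2, 1, 2, 2, 2, 2, 1, 2, 1, 2, 2, 2, 2, 1, 2, 1, 2, 2, 2, 2, 1, 2, 1, 2], [2, 2, 2, 1, 2, 1, 2, 0, 2, 2, 2, 1, 2, 1, 2, 0, 2, 2, 2, 1, 2, 1, 2, 0, 2, 2, 2, 1, 2, 1, 2, 0, 2, 2, 2, 1, 2, 1, 2, 0], [3, 0, 3, 1, 2, 1, 2, 0, 3, 0, 3, 1, 2, 1, 2, 0, 3, 0, 3, 1, 2, 1, 2, 0, 3, 0, 3, 1, 2, 1, 2, 0, 3, 0, 3, 1, 2, 1, 2, 0, 3, 0, 3, 1, 2, 1, 2, 0, 3, 0, 3, 1, 2, 1, 2, 0, 3, 0, 3, 1, 2, 1, 2, 0, 3, 0, 3, 1, 2, 1, 2, 0, 3, 0, 3, 1, 2, 1, 2, 0, 3, 0, 3, 1, 2, 1, 2, 0, 3, 0, 3, 1, 2, 1,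 2, 0, 3, 0, 3, 1, 2, 1, 2, 0, 3, 0, 3, 1, 2, 1, 2, 0, 3, 0, 3, 1, 2, 1, 2, 0, 3, 0, 3, 1, 2, 1, 2, 0, 3, 0, 3, 1, 2, 1, 2, 0, 3, 0, 3, 1, 2, 1, 2, 0, 3, 0, 3, 1, 2, 1, 2, 0, 3, 0, 3, 1, 2, 1, 2, 0, 3, 0, 3, 1, 2, 1, 2, 0, 3, 0, 3, 1, 2, 1, 2, 0, 3, 0, 3, 1, 2, 1, 2, 0, 3, 0, 3, 1, 2, 1, 2, 0, 3, 0, 3, 1, 2, 1, 2, 0, 3, 0, 3, 1, 2, 1, 2, 0, 3, 0, 3, 1, 2, 1, 2, 0, 3, 0, 3, 1, 2, 1, 2, 0, 3, 0, 3, 1, 2, 1, 2, 0, 3, 0, 3, 1, 2, 1, 2, 0, 3, 0, 3, 1, 2, 1, 2, 0, 3, 0, 3, 1, 2, 1, 2, 0, 3, 0, 3, 1, 2, 1, 2, 0, 3, 0, 3, 1, 2, 1, 2, 0, 3, 0, 3, 1, 2, 1, 2, 0, 3, 0, 3, 1, 2, 1, 2, 0, 3, 0, 3, 1, 2, 1, 2, 0, 3, 0, 3, 1, 2, 1, 2, 0, 3, 0, 3, 1, 2, 1, 2, 0, 3, 0, 3, 1, 2, 1, 2,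 0, 3, 0, 3, 1, 2, 1, 2, 0, 3, 0, 3, 1, 2, 1, 2, 0, 3, 0, 3, 1, 2, 1, 2, 0, 3, 0, 3, 1, 2, 1, 2, 0, 3, 0, 3, 1, 2, 1, 2, 0, 3, 0, 3, 1, 2, 1, 2, 0, 3, 0, 3, 1, 2, 1, 2, 0, 3, 0, 3, 1, 2, 1, 2, 0, 3, 0, 3, 1, 2, 1, 2, 0, 3, 0, 3, 1, 2, 1, 2, 0, 3, 0, 3, 1, 2, 1, 2, 0, 3, 0, 3, 1, 2, 1, 2, 0, 3, 0, 3, 1, 2, 1, 2, 0, 3, 0, 3, 1, 2, 1, 2, 0, 3, 0, 3, 1, 2, 1, 2, 0, 3, 0, 3, 1, 2, 1, 2, 0, 3, 0, 3, 1, 2, 1, 2, 0, 3, 0, 3, 1, 2, 1, 2, 0, 3, 0, 3, 1, 2, 1, 2, 0, 3, 0, 3, 1, 2, 1, 2, 0, 3, 0, 3, 1, 2, 1, 2, 0, 3, 0, 3, 1, 2, 1, 2, 0, 3, 0, 3, 1, 2, 1, 2, 0, 3, 0, 3, 1, 2, 1, 2, 0, 3, 0, 3, 1, 2, 1, 2, 0, 3, 0, 3, 1, 2, 1, 2, 0, 3, 0, 3, 1, 2, 1, 2, 0, 3, 0, 3, 1, 2, 1, 2, 0,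 3, 0, 3, 1, 2, 1, 2, 0, 3, 0, 3, 1, 2, 1, 2, 0, 3, 0, 3, 1, 2, 1, 2, 0, 3, 0, 3, 1, 2, 1, 2, 0, 3, 0, 3, 1, 2, 1, 2, 0, 3, 0, 3, 1, 2, 1, 2, 0, 3, 0, 3, 1, 2, 1, 2, 0, 3, 0, 3, 1, 2, 1, 2, 0, 3, 0, 3, 1, 2, 1, 2, 0, 3, 0, 3, 1, 2, 1, 2, 0, 3, 0, 3, 1, 2, 1, 2, 0, 3, 0, 3, 1, 2, 1, 2, 0, 3, 0, 3, 1, 2, 1, 2, 0, 3, 0, 3, 1, 2, 1, 2, 0, 3, 0, 3, 1, 2, 1, 2, 0, 3, 0, 3, 1, 2, 1, 2, 0, 3, 0, 3, 1, 2, 1, 2, 0, 3, 0, 3, 1, 2, 1, 2, 0, 3, 0, 3, 1, 2, 1, 2, 0, 3, 0, 3, 1, 2, 1, 2, 0, 3, 0, 3, 1, 2, 1, 2, 0, 3, 0, 3, 1, 2, 1, 2, 0, 3, 0, 3, 1, 2, 1, 2, 0, 3, 0, 3, 1, 2, 1, 2, 0, 3, 0, 3, 1, 2, 1, 2, 0, 3, 0, 3, 1, 2, 1, 2, 0, 3, 0, 3, 1, 2, 1, 2, 0, 3, 0, 3, 1, 2, 1, 2, 1], [3,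 1, 2, 0, 3, 0, 2, 1, 3, 1, 2, 0, 3, 0, 2, 1, 3, 1, 2, 0, 3, 0, 2, 1, 3, 1, 2, 0, 3, 0, 2, 1, 3, 1, 2, 0, 3, 0, 2, 1, 3, 1, 2, 0, 3, 0, 2, 1, 3, 1, 2, 0, 3, 0, 2, 1, 3, 1, 2, 0, 3, 0, 2, 1, 3, 1, 2, 0, 3, 0, 2, 1, 3, 1, 2, 0, 3, 0, 2, 1, 3, 1, 2, 0, 3, 0, 2, 1, 3, 1, 2, 0, 3, 0, 2, 1, 3, 1, 2, 0, 3, 0, 2, 1, 3, 1, 2, 0, 3, 0, 2, 1, 3, 1, 2, 0, 3, 0, 2, 1, 3, 1, 2, 0, 3, 0, 2, 1, 3, 1, 2, 0, 3, 0, 2, 1, 3, 1, 2, 0, 3, 0, 2, 1, 3, 1, 2, 0, 3, 0, 2, 1, 3, 1, 2, 0, 3, 0, 2, 1, 3, 1, 2, 0, 3, 0, 2, 1, 3, 1, 2, 0, 3, 0, 2, 1, 3, 1, 2, 0, 3, 0, 2, 1, 3, 1, 2, 0, 3, 0, 2, 1, 3, 1, 2, 0, 3, 0, 2, 1, 3, 1, 2, 0, 3, 0, 2, 1, 3, 1, 2, 0, 3, 0, 2, 1, 3, 1, 2, 0, 3, 0, 2, 1, 3, 1,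 2, 0, 3, 0, 2, 1, 3, 1, 2, 0, 3, 0, 2, 1, 3, 1, 2, 0, 3, 0, 2, 1, 3, 1, 2, 0, 3, 0, 2, 1, 3, 1, 2, 0, 3, 0, 2, 1, 3, 1, 2, 0, 3, 0, 2, 1, 3, 1, 2, 0, 3, 0, 2, 1, 3, 1, 2, 0, 3, 0, 2, 1, 3, 1, 2, 0, 3, 0, 2, 1, 3, 1, 2, 0, 3, 0, 2, 1, 3, 1, 2, 0, 3, 0, 2, 1, 3, 1, 2, 0, 3, 0, 2, 1, 3, 1, 2, 0, 3, 0, 2, 1, 3, 1, 2, 0, 3, 0, 2, 1, 3, 1, 2, 0, 3, 0, 2, 1, 3, 1, 2, 0, 3, 0, 2, 1, 3, 1, 2, 0, 3, 0, 2, 1, 3, 1, 2, 0, 3, 0, 2, 1, 3, 1, 2, 0, 3, 0, 2, 1, 3, 1, 2, 0, 3, 0, 2, 1, 3, 1, 2, 0, 3, 0, 2, 1, 3, 1, 2, 0, 3, 0, 2, 1, 3, 1, 2, 0, 3, 0, 2, 1, 3, 1, 2, 0, 3, 0, 2, 1, 3, 1, 2, 0, 3, 0, 2, 1, 3, 1, 2, 0, 3, 0, 2, 1, 3, 1, 2, 0, 3, 0, 2, 1, 3, 1, 2, 0, 3, 0, 2, 1, 3, 1, 2,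 0, 3, 0, 2, 1, 3, 1, 2, 0, 3, 0, 2, 1, 3, 1, 2, 0, 3, 0, 2, 1, 3, 1, 2, 0, 3, 0, 2, 1, 3, 1, 2, 0, 3, 0, 2, 1, 3, 1, 2, 0, 3, 0, 2, 1, 3, 1, 2, 0, 3, 0, 2, 1, 3, 1, 2, 0, 3, 0, 2, 1, 3, 1, 2, 0, 3, 0, 2, 1, 3, 1, 2, 0, 3, 0, 2, 1, 3, 1, 2, 0, 3, 0, 2, 1, 3, 1, 2, 0, 3, 0, 2, 1, 3, 1, 2, 0, 3, 0, 2, 1, 3, 1, 2, 0, 3, 0, 2, 1, 3, 1, 2, 0, 3, 0, 2, 1, 3, 1, 2, 0, 3, 0, 2, 1, 3, 1, 2, 0, 3, 0, 2, 1, 3, 1, 2, 0, 3, 0, 2, 1, 3, 1, 2, 0, 3, 0, 2, 1, 3, 1, 2, 0, 3, 0, 2, 1, 3, 1, 2, 0, 3, 0, 2, 1, 3, 1, 2, 0, 3, 0, 2, 1, 3, 1, 2, 0, 3, 0, 2, 1, 3, 1, 2, 0, 3, 0, 2, 1, 3, 1, 2, 0, 3, 0, 2, 1, 3, 1, 2, 0, 3, 0, 2, 1, 3, 1, 2, 0, 3, 0, 2, 1, 3, 1, 2, 0, 3, 0, 2, 1, 3, 1, 2, 0,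 3, 0, 2, 1, 3, 1, 2, 0, 3, 0, 2, 1, 3, 1, 2, 0, 3, 0, 2, 1, 3, 1, 2, 0, 3, 0, 2, 1, 3, 1, 2, 0, 3, 0, 2, 1, 3, 1, 2, 0, 3, 0, 2, 1, 3, 1, 2, 0, 3, 0, 2, 1, 3, 1, 2, 0, 3, 0, 2, 1, 3, 1, 2, 0, 3, 0, 2, 1, 3, 1, 2, 0, 3, 0, 2, 1, 3, 1, 2, 0, 3, 0, 2, 1, 3, 1, 2, 0, 3, 0, 2, 1, 3, 1, 2, 0, 3, 0, 2, 1, 3, 1, 2, 0, 3, 0, 2, 1, 3, 1, 2, 0, 3, 0, 2, 1, 3, 1, 2, 0, 3, 0, 2, 1, 3, 1, 2, 0, 3, 0, 2, 1, 3, 1, 2, 0, 3, 0, 2, 1, 3, 1, 2, 0, 3, 0, 2, 1, 3, 1, 2, 0, 3, 0, 2, 1, 3, 1, 2, 0, 3, 0, 2, 1, 3, 1, 2, 0, 3, 0, 2, 1, 3, 1, 2, 0, 3, 0, 2, 1, 3, 1, 2, 0, 3, 0, 2, 1, 3, 1, 2, 0, 3, 0, 2, 1, 3, 1, 2, 0, 3, 0, 2, 1, 3, 1, 2, 0, 3, 0, 2, 1, 3, 1, 2, 0, 3, 0, 2, 1, 3, 1, 2, 0, 3,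 0, 2, 1, 3, 1, 2, 0, 3, 0, 2, 1, 3, 1, 2, 0, 3, 0, 2, 1, 3, 1, 2, 0, 3, 0, 2, 1, 3, 1, 2, 0, 3, 0, 2, 1, 3, 1, 2, 0, 3, 0, 2, 1, 3, 1, 2, 0, 3, 0, 2, 1, 3, 1, 2, 0, 3, 0, 2, 1, 3, 3, 3]]

/-- The labels of the relators. -/
def relLabs : List (List ℤ) := [[], [], [Int.ofNat 1], [Int.ofNat 0, Int.ofNat 1], [Int.ofNat 0, Int.ofNat 0, Int.ofNat 1], [Int.ofNat 0, Int.ofNat 0, Int.ofNat 0, Int.ofNat 1], [], []]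

/-- The free entries. -/
def freeL : List (ℕ × ℕ) := [(3, 480), (3, 576), (1, 684), (3, 933), (2, 1376), (3, 1520), (2, 1521), (2, 1640), (0, 1700), (0, 1734), (2, 2504), (1, 2574), (2, 2669), (1, 2687), (3, 2781)]

/-- The labels. -/
noncomputable def labT : ZT := (ZT.node 8192 (ZT.node 4096 (ZT.node 1440 (ZT.node 720 (ZT.node 360 labT_0 labT_1) (ZT.node 1080 labT_2 labT_3)) (ZT.node 2160 (ZT.node 1800 labT_4 labT_5) (ZT.node 2520 labT_6 labT_7))) (ZT.node 5536 (ZT.node 4816 (ZT.node 4456 labT_8 labT_9) (ZT.node 5176 labT_10 labT_11)) (ZT.node 6256 (ZT.node 5896 labT_12 labT_13) (ZT.node 6616 labT_14 labT_15)))) (ZT.node 12288 (ZT.node 9632 (ZT.node 8912 (ZT.node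 8552 labT_16 labT_17) (ZT.node 9272 labT_18 labT_19)) (ZT.node 10352 (ZT.node 9992 labT_20 labT_21) (ZT.node 10712 labT_22 labT_23))) (ZT.node 13728 (ZT.node 13008 (ZT.node 12648 labT_24 labT_25) (ZT.node 13368 labT_26 labT_27)) (ZT.node 14448 (ZT.node 14088 labT_28 labT_29) (ZT.node 14808 labT_30 labT_31)))))

/-- The table. -/
noncomputable def tab : LTab where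
  k := 4
  n := 2880
  d := 19
  m := 4
  Tmax := 11520
  inv := fun c => (bif Nat.beq c 0 then 1 else (bif Nat.beq c 1 then 0 else (bif Nat.beq c 2 then 3 else (bif Nat.beq c 3 then 2 else c))))
  tau := L34A0.tab.tau
  stp := fun c i => bget2 stpT 2 10 14 0x3fff 1023 c i
  cer := fun c i => bget2 cerT 2 10 10 0x3ff 1023 c i
  lab := fun c i => labT.getF (Nat.lor (Nat.shiftLeft c 12) i)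
  pn := fun i => bget pnT 10 12 0xfff 1023 i
  pc := fun i => bget pcT 13 2 0x3 8191 i
  rk := fun i => bget rkT 11 7 0x7f 2047 i
  nrot := 74
  rotH := fun i => rotHL.getD i 0
  rotB := fun i => rotBT.getF i
  rotA := fun i => rotAT.getF i
  hcols := [2]
  freeC := fun i => (freeL.getD i (0, 0)).1
  freeX := fun i => (freeL.getD i (0, 0)).2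

end Cfsg.Agent.Helper9.TCData.L34L0
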