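import Cfsg.Agent.Lib.Helper9.LTC

set_option autoImplicit false
set_option maxRecDepth 1000000

namespace Cfsg.Agent.Helper9.TCData.L34L0
open Cfsg.Agent.Helper9.TC2 Cfsg.Agent.Helper9.LTC

noncomputable def labT_30 : ZT := (ZT.node 14628 (ZT.node 14538 (ZT.node 14493 (ZT.node 14470 (ZT.node 14459 (ZT.node 14453 (ZT.node 14450 (ZT.node 14449 (ZT.leaf []) (ZT.leaf [])) (ZT.node 14451 (ZT.leaf []) (ZT.node 14452 (ZT.leaf []) (ZT.leaf [])))) (ZT.node 14456 (ZT.node 14454 (ZT.leaf []) (ZT.node 14455 (ZT.leaf [Int.ofNat 0, Int.ofNat 0, Int.ofNat 0, Int.ofNat 0, Int.ofNat 0, Int.ofNat 0, Int.ofNat 0, Int.ofNat 0, Int.ofNat 0, Int.ofNat 0, Int.negSucc 0]) (ZT.leaf []))) (ZT.node 14457 (ZT.leaf []) (ZT.node 14458 (ZT.leaf []) (ZT.leaf []))))) (ZT.node 14464 (ZT.node 14461 (ZT.node 14460 (ZT.leaf []) (ZT.leaf [])) (ZT.node 14462 (ZT.leaf []) (ZT.node 14463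 (ZT.leaf []) (ZT.leaf [])))) (ZT.node 14467 (ZT.node 14465 (ZT.leaf []) (ZT.node 14466 (ZT.leaf []) (ZT.leaf [Int.negSucc 0]))) (ZT.node 14468 (ZT.leaf []) (ZT.node 14469 (ZT.leaf []) (ZT.leaf [])))))) (ZT.node 14481 (ZT.node 14475 (ZT.node 14472 (ZT.node 14471 (ZT.leaf [Int.negSucc 136, Int.negSucc 118, Int.ofNat 30, Int.negSucc 17, Int.ofNat 0, Int.negSucc 21, Int.negSucc 4, Int.ofNat 8, Int.ofNat 3, Int.ofNat 1, Int.ofNat 0, Int.ofNat 0, Int.negSucc 0, Int.negSucc 0, Int.ofNat 40, Int.ofNat 1, Int.negSucc 3, Int.ofNat 0, Int.negSucc 23]) (ZT.leaf [])) (ZT.node 14473 (ZT.leaf []) (ZT.node 14474 (ZT.leaf []) (ZT.leaf [Int.negSucc 114, Int.negSucc 33, Int.ofNat 24, Int.negSucc 3, Int.ofNat 0, Int.negSucc 9, Int.negSucc 0, Int.ofNat 1, Int.ofNat 0, Int.ofNat 0, Int.ofNat 0, Int.ofNat 0, Int.negSucc 0, Int.ofNat 0, Int.ofNat 11, Int.ofNat 0, Int.negSucc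 1, Int.ofNat 0, Int.negSucc 9])))) (ZT.node 14478 (ZT.node 14476 (ZT.leaf []) (ZT.node 14477 (ZT.leaf []) (ZT.leaf [Int.ofNat 661, Int.ofNat 333, Int.negSucc 183, Int.ofNat 69, Int.ofNat 0, Int.ofNat 116, Int.ofNat 2, Int.negSucc 11, Int.ofNat 7, Int.ofNat 0, Int.ofNat 0, Int.ofNat 0, Int.ofNat 0, Int.ofNat 4, Int.negSucc 92, Int.negSucc 1, Int.ofNat 10, Int.ofNat 0, Int.ofNat 91]))) (ZT.node 14479 (ZT.leaf []) (ZT.node 14480 (ZT.leaf []) (ZT.leaf []))))) (ZT.node 14487 (ZT.node 14484 (ZT.node 14482 (ZT.leaf [Int.negSucc 0]) (ZT.node 14483 (ZT.leaf []) (ZT.leaf []))) (ZT.node 14485 (ZT.leaf []) (ZT.node 14486 (ZT.leaf []) (ZT.leaf [])))) (ZT.node 14490 (ZT.node 14488 (ZT.leaf []) (ZT.node 14489 (ZT.leaf []) (ZT.leaf []))) (ZT.node 14491 (ZT.leaf []) (ZT.node 14492 (ZT.leaf []) (ZT.leaf []))))))) (ZT.node 14515 (ZT.node 14504 (ZT.node 14498 (ZT.node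 14495 (ZT.node 14494 (ZT.leaf []) (ZT.leaf [])) (ZT.node 14496 (ZT.leaf [Int.ofNat 1133, Int.ofNat 1037, Int.negSucc 300, Int.ofNat 195, Int.ofNat 9, Int.ofNat 235, Int.ofNat 24, Int.negSucc 73, Int.negSucc 12, Int.ofNat 0, Int.ofNat 0, Int.negSucc 0, Int.ofNat 0, Int.ofNat 9, Int.negSucc 372, Int.negSucc 10, Int.ofNat 50, Int.ofNat 0, Int.ofNat 211]) (ZT.node 14497 (ZT.leaf [Int.negSucc 4149, Int.negSucc 2938, Int.ofNat 1057, Int.negSucc 522, Int.negSucc 12, Int.negSucc 759, Int.negSucc 85, Int.ofNat 232, Int.ofNat 31, Int.ofNat 0, Int.ofNat 0, Int.ofNat 0, Int.negSucc 0, Int.negSucc 17, Int.ofNat 985, Int.ofNat 19, Int.negSucc 134, Int.ofNat 0, Int.negSucc 669]) (ZT.leaf [])))) (ZT.node 14501 (ZT.node 14499 (ZT.leaf []) (ZT.node 14500 (ZT.leaf [Int.negSucc 755, Int.ofNat 1708, Int.ofNat 15, Int.ofNat 396, Int.ofNat 11, Int.ofNat 293, Int.ofNat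 38, Int.negSucc 150, Int.negSucc 29, Int.ofNat 0, Int.ofNat 0, Int.ofNat 0, Int.negSucc 23, Int.ofNat 6, Int.negSucc 504, Int.negSucc 26, Int.ofNat 26, Int.ofNat 0, Int.ofNat 226]) (ZT.leaf []))) (ZT.node 14502 (ZT.leaf []) (ZT.node 14503 (ZT.leaf []) (ZT.leaf []))))) (ZT.node 14509 (ZT.node 14506 (ZT.node 14505 (ZT.leaf [Int.negSucc 1499, Int.negSucc 2196, Int.ofNat 573, Int.negSucc 486, Int.negSucc 28, Int.negSucc 533, Int.negSucc 31, Int.ofNat 176, Int.ofNat 18, Int.negSucc 0, Int.ofNat 1, Int.negSucc 0, Int.ofNat 29, Int.negSucc 11, Int.ofNat 608, Int.ofNat 26, Int.negSucc 86, Int.negSucc 0, Int.negSucc 431]) (ZT.leaf [])) (ZT.node 14507 (ZT.leaf []) (ZT.node 14508 (ZT.leaf []) (ZT.leaf [])))) (ZT.node 14512 (ZT.node 14510 (ZT.leaf []) (ZT.node 14511 (ZT.leaf [Int.negSucc 6114, Int.negSucc 2212, Int.ofNat 1419, Int.negSucc 347, Int.negSucc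 7, Int.negSucc 750, Int.negSucc 92, Int.ofNat 176, Int.ofNat 7, Int.ofNat 0, Int.ofNat 0, Int.ofNat 0, Int.negSucc 11, Int.negSucc 4, Int.ofNat 817, Int.ofNat 0, Int.negSucc 120, Int.ofNat 0, Int.negSucc 658]) (ZT.leaf [Int.negSucc 8877, Int.negSucc 2074, Int.ofNat 2069, Int.negSucc 311, Int.ofNat 5, Int.negSucc 904, Int.negSucc 56, Int.ofNat 100, Int.negSucc 37, Int.ofNat 1, Int.negSucc 0, Int.ofNat 1, Int.negSucc 31, Int.negSucc 15, Int.ofNat 731, Int.negSucc 4, Int.negSucc 133, Int.ofNat 1, Int.negSucc 783]))) (ZT.node 14513 (ZT.leaf []) (ZT.node 14514 (ZT.leaf []) (ZT.leaf [])))))) (ZT.node 14526 (ZT.node 14520 (ZT.node 14517 (ZT.node 14516 (ZT.leaf []) (ZT.leaf [])) (ZT.node 14518 (ZT.leaf []) (ZT.node 14519 (ZT.leaf []) (ZT.leaf [])))) (ZT.node 14523 (ZT.node 14521 (ZT.leaf []) (ZT.node 14522 (ZT.leaf []) (ZT.leaf []))) (ZT.node 14524 (ZT.leaf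 []) (ZT.node 14525 (ZT.leaf [Int.negSucc 11934, Int.negSucc 2188, Int.ofNat 2643, Int.negSucc 232, Int.ofNat 4, Int.negSucc 1085, Int.negSucc 122, Int.ofNat 150, Int.negSucc 32, Int.ofNat 0, Int.ofNat 0, Int.ofNat 0, Int.negSucc 42, Int.negSucc 6, Int.ofNat 934, Int.negSucc 26, Int.negSucc 180, Int.ofNat 0, Int.negSucc 965]) (ZT.leaf []))))) (ZT.node 14532 (ZT.node 14529 (ZT.node 14527 (ZT.leaf [Int.negSucc 19020, Int.negSucc 8295, Int.ofNat 4358, Int.negSucc 1304, Int.negSucc 36, Int.negSucc 2464, Int.negSucc 337, Int.ofNat 690, Int.ofNat 85, Int.ofNat 0, Int.ofNat 1, Int.ofNat 0, Int.negSucc 36, Int.negSucc 16, Int.ofNat 2991, Int.ofNat 9, Int.negSucc 440, Int.ofNat 0, Int.negSucc 2207]) (ZT.node 14528 (ZT.leaf []) (ZT.leaf [Int.ofNat 137, Int.ofNat 119, Int.negSucc 29, Int.ofNat 18, Int.ofNat 0, Int.ofNat 22, Int.ofNat 5, Int.negSucc 7, Int.negSucc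 2, Int.negSucc 0, Int.ofNat 0, Int.ofNat 0, Int.ofNat 1, Int.ofNat 1, Int.negSucc 39, Int.negSucc 0, Int.ofNat 4, Int.ofNat 0, Int.ofNat 24]))) (ZT.node 14530 (ZT.leaf []) (ZT.node 14531 (ZT.leaf [Int.ofNat 7, Int.negSucc 9, Int.negSucc 1, Int.negSucc 0, Int.ofNat 0, Int.ofNat 0, Int.negSucc 0, Int.ofNat 1, Int.ofNat 1, Int.ofNat 0, Int.ofNat 0, Int.ofNat 0, Int.ofNat 0, Int.ofNat 0, Int.ofNat 7, Int.ofNat 0, Int.ofNat 0, Int.ofNat 0, Int.negSucc 0]) (ZT.leaf [])))) (ZT.node 14535 (ZT.node 14533 (ZT.leaf [Int.negSucc 56588, Int.negSucc 26264, Int.ofNat 13172, Int.negSucc 4243, Int.negSucc 91, Int.negSucc 7902, Int.negSucc 977, Int.ofNat 2165, Int.ofNat 216, Int.ofNat 4, Int.negSucc 1, Int.negSucc 1, Int.negSucc 83, Int.negSucc 75, Int.ofNat 8675, Int.ofNat 53, Int.negSucc 1321, Int.negSucc 1, Int.negSucc 6909]) (ZT.node 14534 (ZT.leaf []) (ZT.leaf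 []))) (ZT.node 14536 (ZT.leaf []) (ZT.node 14537 (ZT.leaf []) (ZT.leaf [])))))))) (ZT.node 14583 (ZT.node 14560 (ZT.node 14549 (ZT.node 14543 (ZT.node 14540 (ZT.node 14539 (ZT.leaf []) (ZT.leaf [])) (ZT.node 14541 (ZT.leaf []) (ZT.node 14542 (ZT.leaf []) (ZT.leaf [])))) (ZT.node 14546 (ZT.node 14544 (ZT.leaf [Int.negSucc 0]) (ZT.node 14545 (ZT.leaf []) (ZT.leaf []))) (ZT.node 14547 (ZT.leaf []) (ZT.node 14548 (ZT.leaf [Int.ofNat 2415, Int.ofNat 1518, Int.negSucc 573, Int.ofNat 256, Int.ofNat 5, Int.ofNat 386, Int.ofNat 55, Int.negSucc 100, Int.negSucc 15, Int.negSucc 0, Int.ofNat 0, Int.ofNat 0, Int.ofNat 8, Int.ofNat 8, Int.negSucc 527, Int.negSucc 7, Int.ofNat 39, Int.ofNat 0, Int.ofNat 342]) (ZT.leaf [Int.ofNat 14, Int.ofNat 2, Int.negSucc 2, Int.ofNat 0, Int.ofNat 0, Int.ofNat 1, Int.ofNat 0, Int.ofNat 0, Int.ofNat 0, Int.ofNat 0, Int.ofNat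 0, Int.ofNat 0, Int.ofNat 0, Int.ofNat 0, Int.ofNat 0, Int.ofNat 0, Int.ofNat 0, Int.ofNat 0, Int.ofNat 1]))))) (ZT.node 14554 (ZT.node 14551 (ZT.node 14550 (ZT.leaf [Int.ofNat 2488, Int.ofNat 1184, Int.negSucc 538, Int.ofNat 173, Int.ofNat 7, Int.ofNat 322, Int.ofNat 72, Int.negSucc 125, Int.negSucc 25, Int.ofNat 0, Int.ofNat 0, Int.ofNat 0, Int.ofNat 3, Int.ofNat 0, Int.negSucc 538, Int.ofNat 2, Int.ofNat 68, Int.ofNat 0, Int.ofNat 308]) (ZT.leaf [])) (ZT.node 14552 (ZT.leaf [Int.ofNat 162, Int.ofNat 21, Int.negSucc 44, Int.ofNat 7, Int.ofNat 0, Int.ofNat 23, Int.ofNat 0, Int.ofNat 1, Int.ofNat 3, Int.ofNat 0, Int.ofNat 0, Int.ofNat 0, Int.ofNat 0, Int.ofNat 0, Int.negSucc 0, Int.ofNat 0, Int.ofNat 0, Int.ofNat 0, Int.ofNat 15]) (ZT.node 14553 (ZT.leaf []) (ZT.leaf [])))) (ZT.node 14557 (ZT.node 14555 (ZT.leaf []) (ZT.node 14556 (ZT.leaf [])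 (ZT.leaf []))) (ZT.node 14558 (ZT.leaf []) (ZT.node 14559 (ZT.leaf []) (ZT.leaf [])))))) (ZT.node 14571 (ZT.node 14565 (ZT.node 14562 (ZT.node 14561 (ZT.leaf []) (ZT.leaf [])) (ZT.node 14563 (ZT.leaf []) (ZT.node 14564 (ZT.leaf []) (ZT.leaf [Int.ofNat 3683, Int.ofNat 1352, Int.negSucc 878, Int.ofNat 226, Int.ofNat 8, Int.ofNat 453, Int.ofNat 52, Int.negSucc 114, Int.negSucc 7, Int.ofNat 0, Int.ofNat 1, Int.ofNat 0, Int.ofNat 2, Int.ofNat 2, Int.negSucc 461, Int.negSucc 1, Int.ofNat 78, Int.negSucc 0, Int.ofNat 401])))) (ZT.node 14568 (ZT.node 14566 (ZT.leaf []) (ZT.node 14567 (ZT.leaf []) (ZT.leaf [Int.ofNat 3017, Int.ofNat 1902, Int.negSucc 755, Int.ofNat 328, Int.ofNat 4, Int.ofNat 525, Int.ofNat 62, Int.negSucc 157, Int.negSucc 17, Int.ofNat 0, Int.ofNat 0, Int.ofNat 1, Int.ofNat 1, Int.ofNat 9, Int.negSucc 611, Int.negSucc 7, Int.ofNat 85,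 Int.ofNat 0, Int.ofNat 459]))) (ZT.node 14569 (ZT.leaf []) (ZT.node 14570 (ZT.leaf []) (ZT.leaf [Int.negSucc 0]))))) (ZT.node 14577 (ZT.node 14574 (ZT.node 14572 (ZT.leaf []) (ZT.node 14573 (ZT.leaf []) (ZT.leaf []))) (ZT.node 14575 (ZT.leaf []) (ZT.node 14576 (ZT.leaf [Int.ofNat 324, Int.ofNat 181, Int.negSucc 63, Int.ofNat 22, Int.ofNat 1, Int.ofNat 39, Int.ofNat 9, Int.negSucc 10, Int.negSucc 2, Int.ofNat 0, Int.ofNat 0, Int.ofNat 0, Int.ofNat 2, Int.ofNat 1, Int.negSucc 61, Int.ofNat 0, Int.ofNat 0, Int.ofNat 0, Int.ofNat 36]) (ZT.leaf [])))) (ZT.node 14580 (ZT.node 14578 (ZT.leaf []) (ZT.node 14579 (ZT.leaf [Int.negSucc 1281, Int.negSucc 730, Int.ofNat 254, Int.negSucc 91, Int.negSucc 0, Int.negSucc 148, Int.negSucc 25, Int.ofNat 45, Int.ofNat 10, Int.ofNat 0, Int.ofNat 0, Int.ofNat 0, Int.negSucc 9, Int.negSucc 4, Int.ofNat 223, Int.ofNat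 4, Int.negSucc 23, Int.ofNat 0, Int.negSucc 150]) (ZT.leaf []))) (ZT.node 14581 (ZT.leaf []) (ZT.node 14582 (ZT.leaf []) (ZT.leaf []))))))) (ZT.node 14605 (ZT.node 14594 (ZT.node 14588 (ZT.node 14585 (ZT.node 14584 (ZT.leaf [Int.negSucc 56, Int.negSucc 17, Int.ofNat 10, Int.ofNat 1, Int.ofNat 0, Int.negSucc 0, Int.ofNat 0, Int.ofNat 0, Int.ofNat 1, Int.ofNat 1, Int.ofNat 0, Int.ofNat 0, Int.ofNat 0, Int.ofNat 0, Int.ofNat 4, Int.ofNat 0, Int.ofNat 0, Int.ofNat 0, Int.negSucc 0]) (ZT.leaf [Int.negSucc 737, Int.negSucc 234, Int.ofNat 174, Int.negSucc 33, Int.ofNat 0, Int.negSucc 87, Int.negSucc 1, Int.ofNat 7, Int.negSucc 3, Int.ofNat 0, Int.ofNat 0, Int.ofNat 0, Int.negSucc 2, Int.negSucc 1, Int.ofNat 73, Int.ofNat 0, Int.negSucc 13, Int.ofNat 0, Int.negSucc 74])) (ZT.node 14586 (ZT.leaf []) (ZT.node 14587 (ZT.leaf [Int.ofNat 1322, Int.ofNat 421,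 Int.negSucc 321, Int.ofNat 68, Int.ofNat 1, Int.ofNat 158, Int.ofNat 6, Int.negSucc 21, Int.ofNat 5, Int.ofNat 0, Int.ofNat 0, Int.ofNat 0, Int.ofNat 3, Int.ofNat 3, Int.negSucc 128, Int.negSucc 0, Int.ofNat 29, Int.ofNat 0, Int.ofNat 135]) (ZT.leaf [])))) (ZT.node 14591 (ZT.node 14589 (ZT.leaf [Int.negSucc 11, Int.ofNat 7, Int.ofNat 2, Int.ofNat 1, Int.ofNat 0, Int.ofNat 0, Int.ofNat 0, Int.negSucc 0, Int.negSucc 0, Int.negSucc 0, Int.ofNat 0, Int.ofNat 0, Int.ofNat 0, Int.ofNat 0, Int.negSucc 6, Int.ofNat 0, Int.ofNat 0, Int.ofNat 0, Int.ofNat 1]) (ZT.node 14590 (ZT.leaf []) (ZT.leaf []))) (ZT.node 14592 (ZT.leaf []) (ZT.node 14593 (ZT.leaf [Int.ofNat 278, Int.ofNat 255, Int.negSucc 68, Int.ofNat 46, Int.ofNat 2, Int.ofNat 50, Int.ofNat 4, Int.negSucc 15, Int.negSucc 2, Int.ofNat 0, Int.ofNat 0, Int.ofNat 0, Int.ofNat 0, Int.ofNat 2, Int.negSucc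 61, Int.negSucc 2, Int.ofNat 10, Int.ofNat 0, Int.ofNat 45]) (ZT.leaf []))))) (ZT.node 14599 (ZT.node 14596 (ZT.node 14595 (ZT.leaf []) (ZT.leaf [])) (ZT.node 14597 (ZT.leaf []) (ZT.node 14598 (ZT.leaf [Int.negSucc 0]) (ZT.leaf [Int.negSucc 739, Int.negSucc 234, Int.ofNat 174, Int.negSucc 33, Int.ofNat 0, Int.negSucc 87, Int.negSucc 1, Int.ofNat 7, Int.negSucc 3, Int.ofNat 0, Int.ofNat 0, Int.ofNat 0, Int.negSucc 2, Int.negSucc 1, Int.ofNat 73, Int.ofNat 0, Int.negSucc 13, Int.ofNat 0, Int.negSucc 74])))) (ZT.node 14602 (ZT.node 14600 (ZT.leaf [Int.ofNat 96, Int.ofNat 21, Int.negSucc 20, Int.ofNat 2, Int.ofNat 0, Int.ofNat 10, Int.negSucc 0, Int.ofNat 1, Int.ofNat 1, Int.ofNat 0, Int.ofNat 0, Int.ofNat 0, Int.ofNat 1, Int.ofNat 0, Int.negSucc 3, Int.ofNat 0, Int.ofNat 1, Int.ofNat 0, Int.ofNat 8]) (ZT.node 14601 (ZT.leaf []) (ZT.leaf []))) (ZT.node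 14603 (ZT.leaf []) (ZT.node 14604 (ZT.leaf [Int.ofNat 0, Int.ofNat 0, Int.ofNat 0, Int.ofNat 0, Int.ofNat 0, Int.ofNat 0, Int.ofNat 0, Int.ofNat 0, Int.ofNat 0, Int.ofNat 0, Int.ofNat 0, Int.ofNat 0, Int.ofNat 0, Int.ofNat 0, Int.ofNat 0, Int.ofNat 0, Int.ofNat 0, Int.ofNat 0, Int.negSucc 0]) (ZT.leaf [])))))) (ZT.node 14616 (ZT.node 14610 (ZT.node 14607 (ZT.node 14606 (ZT.leaf []) (ZT.leaf [])) (ZT.node 14608 (ZT.leaf []) (ZT.node 14609 (ZT.leaf [Int.negSucc 4685, Int.negSucc 2729, Int.ofNat 1056, Int.negSucc 430, Int.negSucc 9, Int.negSucc 683, Int.negSucc 111, Int.ofNat 229, Int.ofNat 40, Int.ofNat 0, Int.ofNat 0, Int.negSucc 0, Int.negSucc 10, Int.negSucc 8, Int.ofNat 930, Int.ofNat 11, Int.negSucc 114, Int.ofNat 0, Int.negSucc 633]) (ZT.leaf [Int.negSucc 0])))) (ZT.node 14613 (ZT.node 14611 (ZT.leaf []) (ZT.node 14612 (ZT.leaf [Int.negSucc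 594, Int.negSucc 1904, Int.ofNat 189, Int.negSucc 336, Int.negSucc 9, Int.negSucc 327, Int.negSucc 63, Int.ofNat 164, Int.ofNat 44, Int.ofNat 0, Int.ofNat 1, Int.ofNat 0, Int.ofNat 3, Int.negSucc 13, Int.ofNat 650, Int.ofNat 20, Int.negSucc 64, Int.ofNat 0, Int.negSucc 313]) (ZT.leaf []))) (ZT.node 14614 (ZT.leaf []) (ZT.node 14615 (ZT.leaf [Int.ofNat 2417, Int.ofNat 965, Int.negSucc 553, Int.ofNat 149, Int.ofNat 4, Int.ofNat 304, Int.ofNat 42, Int.negSucc 82, Int.negSucc 7, Int.ofNat 0, Int.ofNat 0, Int.ofNat 0, Int.ofNat 4, Int.ofNat 3, Int.negSucc 350, Int.negSucc 0, Int.ofNat 50, Int.ofNat 0, Int.ofNat 272]) (ZT.leaf [Int.negSucc 5149, Int.ofNat 350, Int.ofNat 1038, Int.ofNat 183, Int.ofNat 12, Int.negSucc 218, Int.negSucc 28, Int.negSucc 36, Int.negSucc 31, Int.ofNat 0, Int.ofNat 0, Int.ofNat 0, Int.negSucc 30, Int.ofNat 2, Int.ofNat 31,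 Int.negSucc 28, Int.negSucc 49, Int.ofNat 0, Int.negSucc 216]))))) (ZT.node 14622 (ZT.node 14619 (ZT.node 14617 (ZT.leaf []) (ZT.node 14618 (ZT.leaf [Int.negSucc 67, Int.negSucc 15, Int.ofNat 8, Int.ofNat 1, Int.ofNat 0, Int.negSucc 1, Int.negSucc 0, Int.negSucc 0, Int.ofNat 0, Int.negSucc 0, Int.ofNat 0, Int.ofNat 0, Int.negSucc 0, Int.ofNat 0, Int.ofNat 1, Int.ofNat 0, Int.ofNat 0, Int.ofNat 0, Int.negSucc 2]) (ZT.leaf []))) (ZT.node 14620 (ZT.leaf []) (ZT.node 14621 (ZT.leaf []) (ZT.leaf [])))) (ZT.node 14625 (ZT.node 14623 (ZT.leaf []) (ZT.node 14624 (ZT.leaf []) (ZT.leaf []))) (ZT.node 14626 (ZT.leaf []) (ZT.node 14627 (ZT.leaf []) (ZT.leaf []))))))))) (ZT.node 14718 (ZT.node 14673 (ZT.node 14650 (ZT.node 14639 (ZT.node 14633 (ZT.node 14630 (ZT.node 14629 (ZT.leaf []) (ZT.leaf [])) (ZT.node 14631 (ZT.leaf []) (ZT.node 14632 (ZT.leaf []) (ZT.leaf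 [])))) (ZT.node 14636 (ZT.node 14634 (ZT.leaf []) (ZT.node 14635 (ZT.leaf []) (ZT.leaf []))) (ZT.node 14637 (ZT.leaf []) (ZT.node 14638 (ZT.leaf []) (ZT.leaf []))))) (ZT.node 14644 (ZT.node 14641 (ZT.node 14640 (ZT.leaf []) (ZT.leaf [])) (ZT.node 14642 (ZT.leaf []) (ZT.node 14643 (ZT.leaf []) (ZT.leaf [])))) (ZT.node 14647 (ZT.node 14645 (ZT.leaf []) (ZT.node 14646 (ZT.leaf []) (ZT.leaf []))) (ZT.node 14648 (ZT.leaf []) (ZT.node 14649 (ZT.leaf []) (ZT.leaf [])))))) (ZT.node 14661 (ZT.node 14655 (ZT.node 14652 (ZT.node 14651 (ZT.leaf []) (ZT.leaf [])) (ZT.node 14653 (ZT.leaf [Int.negSucc 810, Int.ofNat 911, Int.ofNat 127, Int.ofNat 186, Int.ofNat 5, Int.ofNat 103, Int.ofNat 28, Int.negSucc 85, Int.negSucc 25, Int.ofNat 0, Int.ofNat 0, Int.negSucc 0, Int.negSucc 8, Int.ofNat 8, Int.negSucc 271, Int.negSucc 17, Int.ofNat 14, Int.ofNat 0, Int.ofNat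 92]) (ZT.node 14654 (ZT.leaf []) (ZT.leaf [])))) (ZT.node 14658 (ZT.node 14656 (ZT.leaf []) (ZT.node 14657 (ZT.leaf []) (ZT.leaf []))) (ZT.node 14659 (ZT.leaf [Int.ofNat 1092, Int.ofNat 1968, Int.negSucc 265, Int.ofNat 330, Int.ofNat 9, Int.ofNat 360, Int.ofNat 73, Int.negSucc 168, Int.negSucc 43, Int.negSucc 0, Int.ofNat 0, Int.ofNat 0, Int.negSucc 1, Int.ofNat 12, Int.negSucc 667, Int.negSucc 17, Int.ofNat 68, Int.ofNat 0, Int.ofNat 341]) (ZT.node 14660 (ZT.leaf []) (ZT.leaf []))))) (ZT.node 14667 (ZT.node 14664 (ZT.node 14662 (ZT.leaf []) (ZT.node 14663 (ZT.leaf [Int.ofNat 1]) (ZT.leaf []))) (ZT.node 14665 (ZT.leaf [Int.negSucc 2488, Int.negSucc 1183, Int.ofNat 539, Int.negSucc 172, Int.negSucc 6, Int.negSucc 321, Int.negSucc 71, Int.ofNat 126, Int.ofNat 26, Int.ofNat 0, Int.ofNat 0, Int.ofNat 0, Int.negSucc 2, Int.ofNat 0, Int.ofNat 539, Int.negSucc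 1, Int.negSucc 67, Int.ofNat 0, Int.negSucc 307]) (ZT.node 14666 (ZT.leaf []) (ZT.leaf [])))) (ZT.node 14670 (ZT.node 14668 (ZT.leaf []) (ZT.node 14669 (ZT.leaf []) (ZT.leaf []))) (ZT.node 14671 (ZT.leaf []) (ZT.node 14672 (ZT.leaf []) (ZT.leaf []))))))) (ZT.node 14695 (ZT.node 14684 (ZT.node 14678 (ZT.node 14675 (ZT.node 14674 (ZT.leaf []) (ZT.leaf [Int.ofNat 28584, Int.ofNat 13797, Int.negSucc 6740, Int.ofNat 2269, Int.ofNat 62, Int.ofNat 4003, Int.ofNat 468, Int.negSucc 1093, Int.negSucc 111, Int.ofNat 2, Int.negSucc 0, Int.ofNat 1, Int.ofNat 41, Int.ofNat 50, Int.negSucc 4694, Int.negSucc 39, Int.ofNat 720, Int.ofNat 1, Int.ofNat 3554])) (ZT.node 14676 (ZT.leaf []) (ZT.node 14677 (ZT.leaf []) (ZT.leaf [Int.negSucc 659, Int.negSucc 332, Int.ofNat 184, Int.negSucc 68, Int.ofNat 0, Int.negSucc 115, Int.negSucc 1, Int.ofNat 12, Int.negSucc 6,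 Int.ofNat 0, Int.ofNat 0, Int.ofNat 0, Int.ofNat 0, Int.negSucc 3, Int.ofNat 93, Int.ofNat 2, Int.negSucc 9, Int.ofNat 0, Int.negSucc 90])))) (ZT.node 14681 (ZT.node 14679 (ZT.leaf []) (ZT.node 14680 (ZT.leaf []) (ZT.leaf [Int.negSucc 7, Int.ofNat 10, Int.ofNat 2, Int.ofNat 1, Int.ofNat 0, Int.ofNat 0, Int.ofNat 1, Int.negSucc 0, Int.negSucc 0, Int.ofNat 0, Int.ofNat 0, Int.ofNat 0, Int.ofNat 0, Int.ofNat 0, Int.negSucc 6, Int.ofNat 0, Int.ofNat 0, Int.ofNat 0, Int.ofNat 1]))) (ZT.node 14682 (ZT.leaf [Int.ofNat 457, Int.ofNat 866, Int.negSucc 148, Int.ofNat 164, Int.ofNat 7, Int.ofNat 168, Int.ofNat 15, Int.negSucc 66, Int.negSucc 13, Int.ofNat 0, Int.ofNat 0, Int.ofNat 0, Int.negSucc 4, Int.ofNat 8, Int.negSucc 286, Int.negSucc 9, Int.ofNat 41, Int.ofNat 0, Int.ofNat 153]) (ZT.node 14683 (ZT.leaf []) (ZT.leaf []))))) (ZT.node 14689 (ZT.node 14686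 (ZT.node 14685 (ZT.leaf []) (ZT.leaf [])) (ZT.node 14687 (ZT.leaf []) (ZT.node 14688 (ZT.leaf []) (ZT.leaf [])))) (ZT.node 14692 (ZT.node 14690 (ZT.leaf []) (ZT.node 14691 (ZT.leaf []) (ZT.leaf []))) (ZT.node 14693 (ZT.leaf []) (ZT.node 14694 (ZT.leaf []) (ZT.leaf [Int.negSucc 0])))))) (ZT.node 14706 (ZT.node 14700 (ZT.node 14697 (ZT.node 14696 (ZT.leaf [Int.ofNat 25990, Int.ofNat 10307, Int.negSucc 5942, Int.ofNat 1576, Int.ofNat 17, Int.ofNat 3238, Int.ofNat 401, Int.negSucc 715, Int.negSucc 37, Int.negSucc 0, Int.ofNat 1, Int.ofNat 0, Int.ofNat 83, Int.ofNat 55, Int.negSucc 3651, Int.negSucc 16, Int.ofNat 481, Int.ofNat 1, Int.ofNat 2881]) (ZT.leaf [Int.negSucc 34456, Int.negSucc 14082, Int.ofNat 7905, Int.negSucc 2217, Int.negSucc 47, Int.negSucc 4394, Int.negSucc 523, Int.ofNat 1103, Int.ofNat 86, Int.ofNat 0, Int.negSucc 0, Int.negSucc 1,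 Int.negSucc 68, Int.negSucc 38, Int.ofNat 4742, Int.ofNat 14, Int.negSucc 744, Int.negSucc 1, Int.negSucc 3877])) (ZT.node 14698 (ZT.leaf [Int.negSucc 34694, Int.negSucc 14720, Int.ofNat 8127, Int.negSucc 2358, Int.negSucc 35, Int.negSucc 4658, Int.negSucc 520, Int.ofNat 1084, Int.ofNat 62, Int.ofNat 1, Int.negSucc 0, Int.ofNat 0, Int.negSucc 81, Int.negSucc 67, Int.ofNat 4933, Int.ofNat 30, Int.negSucc 677, Int.negSucc 0, Int.negSucc 4035]) (ZT.node 14699 (ZT.leaf [Int.negSucc 1168, Int.negSucc 625, Int.ofNat 307, Int.negSucc 114, Int.ofNat 3, Int.negSucc 193, Int.negSucc 14, Int.ofNat 33, Int.negSucc 4, Int.negSucc 0, Int.ofNat 0, Int.ofNat 0, Int.negSucc 2, Int.negSucc 7, Int.ofNat 177, Int.ofNat 7, Int.negSucc 13, Int.ofNat 0, Int.negSucc 158]) (ZT.leaf [])))) (ZT.node 14703 (ZT.node 14701 (ZT.leaf []) (ZT.node 14702 (ZT.leaf []) (ZT.leaf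 []))) (ZT.node 14704 (ZT.leaf []) (ZT.node 14705 (ZT.leaf []) (ZT.leaf []))))) (ZT.node 14712 (ZT.node 14709 (ZT.node 14707 (ZT.leaf []) (ZT.node 14708 (ZT.leaf []) (ZT.leaf []))) (ZT.node 14710 (ZT.leaf []) (ZT.node 14711 (ZT.leaf []) (ZT.leaf [])))) (ZT.node 14715 (ZT.node 14713 (ZT.leaf []) (ZT.node 14714 (ZT.leaf []) (ZT.leaf []))) (ZT.node 14716 (ZT.leaf [Int.negSucc 78, Int.negSucc 6, Int.ofNat 23, Int.negSucc 3, Int.ofNat 0, Int.negSucc 9, Int.ofNat 0, Int.ofNat 0, Int.negSucc 0, Int.ofNat 0, Int.ofNat 0, Int.ofNat 0, Int.ofNat 0, Int.ofNat 0, Int.ofNat 0, Int.negSucc 0, Int.negSucc 1, Int.ofNat 0, Int.negSucc 7]) (ZT.node 14717 (ZT.leaf []) (ZT.leaf [])))))))) (ZT.node 14763 (ZT.node 14740 (ZT.node 14729 (ZT.node 14723 (ZT.node 14720 (ZT.node 14719 (ZT.leaf [Int.ofNat 1342, Int.ofNat 1036, Int.negSucc 302, Int.ofNat 171, Int.ofNat 4, Int.ofNat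 235, Int.ofNat 48, Int.negSucc 78, Int.negSucc 20, Int.ofNat 0, Int.ofNat 0, Int.ofNat 0, Int.ofNat 7, Int.ofNat 3, Int.negSucc 398, Int.negSucc 4, Int.ofNat 21, Int.ofNat 0, Int.ofNat 218]) (ZT.leaf [])) (ZT.node 14721 (ZT.leaf []) (ZT.node 14722 (ZT.leaf [Int.negSucc 6184, Int.negSucc 2480, Int.ofNat 1462, Int.negSucc 398, Int.negSucc 6, Int.negSucc 790, Int.negSucc 69, Int.ofNat 169, Int.ofNat 6, Int.ofNat 0, Int.ofNat 0, Int.ofNat 0, Int.negSucc 15, Int.negSucc 10, Int.ofNat 846, Int.ofNat 2, Int.negSucc 142, Int.ofNat 0, Int.negSucc 700]) (ZT.leaf [])))) (ZT.node 14726 (ZT.node 14724 (ZT.leaf []) (ZT.node 14725 (ZT.leaf []) (ZT.leaf []))) (ZT.node 14727 (ZT.leaf []) (ZT.node 14728 (ZT.leaf []) (ZT.leaf [Int.ofNat 130, Int.negSucc 36, Int.negSucc 31, Int.negSucc 5, Int.ofNat 0, Int.ofNat 4, Int.negSucc 3, Int.ofNat 7, Int.ofNat 4, Int.ofNat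 0, Int.ofNat 0, Int.ofNat 0, Int.ofNat 1, Int.ofNat 0, Int.ofNat 17, Int.ofNat 0, Int.ofNat 0, Int.ofNat 0, Int.ofNat 1]))))) (ZT.node 14734 (ZT.node 14731 (ZT.node 14730 (ZT.leaf [Int.ofNat 100, Int.ofNat 27, Int.negSucc 20, Int.ofNat 2, Int.ofNat 0, Int.ofNat 10, Int.negSucc 0, Int.ofNat 1, Int.ofNat 1, Int.ofNat 0, Int.ofNat 0, Int.ofNat 0, Int.ofNat 1, Int.ofNat 0, Int.negSucc 3, Int.ofNat 0, Int.ofNat 1, Int.ofNat 0, Int.ofNat 8]) (ZT.leaf [Int.ofNat 233, Int.ofNat 66, Int.negSucc 40, Int.ofNat 4, Int.ofNat 0, Int.ofNat 14, Int.ofNat 3, Int.ofNat 2, Int.negSucc 0, Int.ofNat 0, Int.ofNat 0, Int.ofNat 0, Int.ofNat 3, Int.ofNat 0, Int.negSucc 18, Int.ofNat 2, Int.ofNat 2, Int.ofNat 0, Int.ofNat 16])) (ZT.node 14732 (ZT.leaf []) (ZT.node 14733 (ZT.leaf [Int.negSucc 94, Int.negSucc 20, Int.ofNat 21, Int.negSucc 1, Int.ofNat 0, Int.negSucc 9, Int.ofNat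 1, Int.negSucc 0, Int.negSucc 0, Int.ofNat 0, Int.ofNat 0, Int.ofNat 0, Int.negSucc 0, Int.ofNat 0, Int.ofNat 4, Int.ofNat 0, Int.negSucc 0, Int.ofNat 0, Int.negSucc 7]) (ZT.leaf [])))) (ZT.node 14737 (ZT.node 14735 (ZT.leaf []) (ZT.node 14736 (ZT.leaf []) (ZT.leaf []))) (ZT.node 14738 (ZT.leaf []) (ZT.node 14739 (ZT.leaf []) (ZT.leaf [Int.negSucc 0])))))) (ZT.node 14751 (ZT.node 14745 (ZT.node 14742 (ZT.node 14741 (ZT.leaf []) (ZT.leaf [])) (ZT.node 14743 (ZT.leaf [Int.ofNat 0, Int.ofNat 0, Int.ofNat 0, Int.ofNat 0, Int.ofNat 0, Int.ofNat 0, Int.ofNat 0, Int.ofNat 0, Int.ofNat 0, Int.ofNat 0, Int.ofNat 0, Int.ofNat 1]) (ZT.node 14744 (ZT.leaf []) (ZT.leaf [])))) (ZT.node 14748 (ZT.node 14746 (ZT.leaf []) (ZT.node 14747 (ZT.leaf []) (ZT.leaf []))) (ZT.node 14749 (ZT.leaf []) (ZT.node 14750 (ZT.leaf []) (ZT.leaf []))))) (ZT.node 14757 (ZT.node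 14754 (ZT.node 14752 (ZT.leaf [Int.negSucc 1267, Int.negSucc 511, Int.ofNat 301, Int.negSucc 86, Int.negSucc 3, Int.negSucc 154, Int.negSucc 11, Int.ofNat 34, Int.ofNat 1, Int.ofNat 0, Int.ofNat 0, Int.ofNat 0, Int.negSucc 3, Int.negSucc 1, Int.ofNat 182, Int.ofNat 2, Int.negSucc 27, Int.ofNat 0, Int.negSucc 137]) (ZT.node 14753 (ZT.leaf []) (ZT.leaf []))) (ZT.node 14755 (ZT.leaf []) (ZT.node 14756 (ZT.leaf []) (ZT.leaf [])))) (ZT.node 14760 (ZT.node 14758 (ZT.leaf []) (ZT.node 14759 (ZT.leaf []) (ZT.leaf []))) (ZT.node 14761 (ZT.leaf []) (ZT.node 14762 (ZT.leaf []) (ZT.leaf []))))))) (ZT.node 14785 (ZT.node 14774 (ZT.node 14768 (ZT.node 14765 (ZT.node 14764 (ZT.leaf []) (ZT.leaf [])) (ZT.node 14766 (ZT.leaf []) (ZT.node 14767 (ZT.leaf []) (ZT.leaf [])))) (ZT.node 14771 (ZT.node 14769 (ZT.leaf []) (ZT.node 14770 (ZT.leaf []) (ZT.leaf []))) (ZT.node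 14772 (ZT.leaf []) (ZT.node 14773 (ZT.leaf []) (ZT.leaf []))))) (ZT.node 14779 (ZT.node 14776 (ZT.node 14775 (ZT.leaf []) (ZT.leaf [])) (ZT.node 14777 (ZT.leaf []) (ZT.node 14778 (ZT.leaf [Int.negSucc 2259, Int.negSucc 1519, Int.ofNat 536, Int.negSucc 257, Int.negSucc 3, Int.negSucc 373, Int.negSucc 56, Int.ofNat 100, Int.ofNat 18, Int.ofNat 0, Int.ofNat 0, Int.ofNat 0, Int.negSucc 8, Int.negSucc 7, Int.ofNat 535, Int.ofNat 8, Int.negSucc 39, Int.ofNat 0, Int.negSucc 336]) (ZT.leaf [])))) (ZT.node 14782 (ZT.node 14780 (ZT.leaf [Int.negSucc 56, Int.ofNat 9, Int.ofNat 10, Int.ofNat 4, Int.ofNat 1, Int.ofNat 0, Int.ofNat 2, Int.negSucc 4, Int.negSucc 1, Int.ofNat 0, Int.ofNat 0, Int.ofNat 0, Int.negSucc 0, Int.ofNat 0, Int.ofNat 0, Int.negSucc 0, Int.ofNat 1, Int.ofNat 0, Int.negSucc 0]) (ZT.node 14781 (ZT.leaf []) (ZT.leaf []))) (ZT.node 14783 (ZT.leaf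 [Int.negSucc 13, Int.negSucc 1, Int.ofNat 3, Int.ofNat 0, Int.ofNat 0, Int.negSucc 0, Int.ofNat 0, Int.ofNat 0, Int.ofNat 0, Int.ofNat 0, Int.ofNat 0, Int.ofNat 0, Int.ofNat 0, Int.ofNat 0, Int.ofNat 0, Int.ofNat 0, Int.ofNat 0, Int.ofNat 0, Int.negSucc 0]) (ZT.node 14784 (ZT.leaf [Int.ofNat 562, Int.ofNat 238, Int.negSucc 148, Int.ofNat 49, Int.ofNat 2, Int.ofNat 89, Int.ofNat 9, Int.negSucc 22, Int.ofNat 1, Int.ofNat 0, Int.ofNat 0, Int.ofNat 0, Int.negSucc 2, Int.ofNat 2, Int.negSucc 68, Int.negSucc 1, Int.ofNat 8, Int.ofNat 0, Int.ofNat 72]) (ZT.leaf [])))))) (ZT.node 14796 (ZT.node 14790 (ZT.node 14787 (ZT.node 14786 (ZT.leaf [Int.ofNat 1775, Int.ofNat 696, Int.negSucc 417, Int.ofNat 115, Int.ofNat 4, Int.ofNat 232, Int.ofNat 23, Int.negSucc 53, Int.negSucc 0, Int.ofNat 0, Int.ofNat 0, Int.ofNat 0, Int.ofNat 2, Int.ofNat 2, Int.negSucc 249,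 Int.negSucc 0, Int.ofNat 38, Int.ofNat 0, Int.ofNat 201]) (ZT.leaf [])) (ZT.node 14788 (ZT.leaf []) (ZT.node 14789 (ZT.leaf []) (ZT.leaf [])))) (ZT.node 14793 (ZT.node 14791 (ZT.leaf []) (ZT.node 14792 (ZT.leaf []) (ZT.leaf [Int.ofNat 0, Int.ofNat 0, Int.ofNat 0, Int.ofNat 0, Int.ofNat 0, Int.ofNat 0, Int.ofNat 0, Int.ofNat 0, Int.ofNat 0, Int.ofNat 0, Int.ofNat 0, Int.ofNat 0, Int.ofNat 0, Int.ofNat 0, Int.negSucc 0]))) (ZT.node 14794 (ZT.leaf []) (ZT.node 14795 (ZT.leaf [Int.negSucc 562, Int.negSucc 237, Int.ofNat 149, Int.negSucc 48, Int.negSucc 1, Int.negSucc 88, Int.negSucc 8, Int.ofNat 23, Int.negSucc 0, Int.ofNat 0, Int.ofNat 0, Int.ofNat 0, Int.ofNat 3, Int.negSucc 1, Int.ofNat 69, Int.ofNat 2, Int.negSucc 7, Int.ofNat 0, Int.negSucc 71]) (ZT.leaf []))))) (ZT.node 14802 (ZT.node 14799 (ZT.node 14797 (ZT.leaf []) (ZT.node 14798 (ZT.leaf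 []) (ZT.leaf []))) (ZT.node 14800 (ZT.leaf []) (ZT.node 14801 (ZT.leaf [Int.negSucc 0]) (ZT.leaf [])))) (ZT.node 14805 (ZT.node 14803 (ZT.leaf []) (ZT.node 14804 (ZT.leaf []) (ZT.leaf []))) (ZT.node 14806 (ZT.leaf []) (ZT.node 14807 (ZT.leaf []) (ZT.leaf [Int.ofNat 5119, Int.ofNat 1980, Int.negSucc 1152, Int.ofNat 284, Int.ofNat 5, Int.ofNat 615, Int.ofNat 82, Int.negSucc 150, Int.negSucc 13, Int.ofNat 0, Int.ofNat 0, Int.ofNat 0, Int.ofNat 16, Int.ofNat 6, Int.negSucc 745, Int.ofNat 4, Int.ofNat 113, Int.ofNat 0, Int.ofNat 560]))))))))))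

noncomputable def labT_31 : ZT := (ZT.node 14988 (ZT.node 14898 (ZT.node 14853 (ZT.node 14830 (ZT.node 14819 (ZT.node 14813 (ZT.node 14810 (ZT.node 14809 (ZT.leaf []) (ZT.leaf [Int.negSucc 1265, Int.negSucc 402, Int.ofNat 312, Int.negSucc 68, Int.negSucc 0, Int.negSucc 156, Int.negSucc 5, Int.ofNat 22, Int.negSucc 5, Int.negSucc 0, Int.ofNat 0, Int.ofNat 0, Int.negSucc 2, Int.negSucc 2, Int.ofNat 125, Int.ofNat 1, Int.negSucc 28, Int.ofNat 0, Int.negSucc 133])) (ZT.node 14811 (ZT.leaf []) (ZT.node 14812 (ZT.leaf []) (ZT.leaf [])))) (ZT.node 14816 (ZT.node 14814 (ZT.leaf []) (ZT.node 14815 (ZT.leaf []) (ZT.leaf []))) (ZT.node 14817 (ZT.leaf []) (ZT.node 14818 (ZT.leaf []) (ZT.leaf []))))) (ZT.node 14824 (ZT.node 14821 (ZT.node 14820 (ZT.leaf []) (ZT.leaf [])) (ZT.node 14822 (ZT.leaf []) (ZT.node 14823 (ZT.leaf []) (ZT.leaf [])))) (ZT.node 14827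 (ZT.node 14825 (ZT.leaf []) (ZT.node 14826 (ZT.leaf []) (ZT.leaf []))) (ZT.node 14828 (ZT.leaf [Int.negSucc 0]) (ZT.node 14829 (ZT.leaf []) (ZT.leaf [])))))) (ZT.node 14841 (ZT.node 14835 (ZT.node 14832 (ZT.node 14831 (ZT.leaf []) (ZT.leaf [])) (ZT.node 14833 (ZT.leaf []) (ZT.node 14834 (ZT.leaf []) (ZT.leaf [Int.ofNat 188, Int.ofNat 319, Int.negSucc 70, Int.ofNat 66, Int.ofNat 2, Int.ofNat 69, Int.ofNat 6, Int.negSucc 13, Int.negSucc 1, Int.ofNat 0, Int.ofNat 0, Int.ofNat 0, Int.ofNat 1, Int.ofNat 4, Int.negSucc 102, Int.negSucc 3, Int.ofNat 2, Int.ofNat 0, Int.ofNat 60])))) (ZT.node 14838 (ZT.node 14836 (ZT.leaf [Int.negSucc 186, Int.negSucc 318, Int.ofNat 71, Int.negSucc 65, Int.negSucc 1, Int.negSucc 68, Int.negSucc 5, Int.ofNat 14, Int.ofNat 2, Int.ofNat 0, Int.ofNat 0, Int.ofNat 0, Int.negSucc 0, Int.negSucc 3, Int.ofNat 103, Int.ofNat 4,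 Int.negSucc 1, Int.ofNat 0, Int.negSucc 59]) (ZT.node 14837 (ZT.leaf []) (ZT.leaf []))) (ZT.node 14839 (ZT.leaf []) (ZT.node 14840 (ZT.leaf [Int.ofNat 596, Int.negSucc 1317, Int.negSucc 143, Int.negSucc 213, Int.negSucc 3, Int.negSucc 141, Int.negSucc 55, Int.ofNat 124, Int.ofNat 46, Int.ofNat 1, Int.ofNat 0, Int.ofNat 0, Int.ofNat 3, Int.negSucc 8, Int.ofNat 453, Int.ofNat 15, Int.negSucc 37, Int.ofNat 0, Int.negSucc 156]) (ZT.leaf []))))) (ZT.node 14847 (ZT.node 14844 (ZT.node 14842 (ZT.leaf []) (ZT.node 14843 (ZT.leaf []) (ZT.leaf []))) (ZT.node 14845 (ZT.leaf [Int.negSucc 25989, Int.negSucc 10306, Int.ofNat 5943, Int.negSucc 1575, Int.negSucc 16, Int.negSucc 3237, Int.negSucc 400, Int.ofNat 716, Int.ofNat 38, Int.ofNat 1, Int.negSucc 0, Int.ofNat 0, Int.negSucc 82, Int.negSucc 54, Int.ofNat 3652, Int.ofNat 17, Int.negSucc 480, Int.negSucc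 0, Int.negSucc 2880]) (ZT.node 14846 (ZT.leaf []) (ZT.leaf [Int.ofNat 2736, Int.ofNat 1990, Int.negSucc 709, Int.ofNat 368, Int.ofNat 11, Int.ofNat 517, Int.ofNat 49, Int.negSucc 150, Int.negSucc 16, Int.ofNat 0, Int.ofNat 0, Int.ofNat 0, Int.negSucc 1, Int.ofNat 11, Int.negSucc 641, Int.negSucc 13, Int.ofNat 97, Int.ofNat 0, Int.ofNat 449])))) (ZT.node 14850 (ZT.node 14848 (ZT.leaf []) (ZT.node 14849 (ZT.leaf [Int.ofNat 9173, Int.ofNat 2762, Int.negSucc 2008, Int.ofNat 374, Int.ofNat 14, Int.ofNat 953, Int.ofNat 134, Int.negSucc 257, Int.negSucc 26, Int.ofNat 1, Int.negSucc 0, Int.ofNat 0, Int.ofNat 19, Int.negSucc 5, Int.negSucc 1076, Int.ofNat 12, Int.ofNat 206, Int.ofNat 0, Int.ofNat 871]) (ZT.leaf []))) (ZT.node 14851 (ZT.leaf []) (ZT.node 14852 (ZT.leaf []) (ZT.leaf []))))))) (ZT.node 14875 (ZT.node 14864 (ZT.node 14858 (ZT.node 14855 (ZT.node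 14854 (ZT.leaf []) (ZT.leaf [])) (ZT.node 14856 (ZT.leaf []) (ZT.node 14857 (ZT.leaf []) (ZT.leaf [])))) (ZT.node 14861 (ZT.node 14859 (ZT.leaf []) (ZT.node 14860 (ZT.leaf []) (ZT.leaf []))) (ZT.node 14862 (ZT.leaf []) (ZT.node 14863 (ZT.leaf []) (ZT.leaf []))))) (ZT.node 14869 (ZT.node 14866 (ZT.node 14865 (ZT.leaf []) (ZT.leaf [])) (ZT.node 14867 (ZT.leaf []) (ZT.node 14868 (ZT.leaf [Int.negSucc 0]) (ZT.leaf [])))) (ZT.node 14872 (ZT.node 14870 (ZT.leaf []) (ZT.node 14871 (ZT.leaf []) (ZT.leaf []))) (ZT.node 14873 (ZT.leaf [Int.negSucc 5177, Int.negSucc 3274, Int.ofNat 1184, Int.negSucc 528, Int.negSucc 14, Int.negSucc 787, Int.negSucc 122, Int.ofNat 264, Int.ofNat 48, Int.ofNat 0, Int.ofNat 0, Int.negSucc 0, Int.negSucc 10, Int.negSucc 13, Int.ofNat 1091, Int.ofNat 17, Int.negSucc 138, Int.negSucc 0, Int.negSucc 730]) (ZT.node 14874 (ZT.leaf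 []) (ZT.leaf [])))))) (ZT.node 14886 (ZT.node 14880 (ZT.node 14877 (ZT.node 14876 (ZT.leaf []) (ZT.leaf [])) (ZT.node 14878 (ZT.leaf []) (ZT.node 14879 (ZT.leaf []) (ZT.leaf [])))) (ZT.node 14883 (ZT.node 14881 (ZT.leaf []) (ZT.node 14882 (ZT.leaf []) (ZT.leaf []))) (ZT.node 14884 (ZT.leaf []) (ZT.node 14885 (ZT.leaf []) (ZT.leaf []))))) (ZT.node 14892 (ZT.node 14889 (ZT.node 14887 (ZT.leaf []) (ZT.node 14888 (ZT.leaf []) (ZT.leaf [Int.negSucc 456, Int.negSucc 865, Int.ofNat 149, Int.negSucc 163, Int.negSucc 6, Int.negSucc 167, Int.negSucc 14, Int.ofNat 67, Int.ofNat 14, Int.ofNat 0, Int.ofNat 0, Int.ofNat 0, Int.ofNat 5, Int.negSucc 7, Int.ofNat 287, Int.ofNat 10, Int.negSucc 40, Int.ofNat 0, Int.negSucc 152]))) (ZT.node 14890 (ZT.leaf []) (ZT.node 14891 (ZT.leaf []) (ZT.leaf [])))) (ZT.node 14895 (ZT.node 14893 (ZT.leaf [Int.negSucc 278, Int.negSucc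 254, Int.ofNat 69, Int.negSucc 45, Int.negSucc 1, Int.negSucc 49, Int.negSucc 3, Int.ofNat 16, Int.ofNat 3, Int.ofNat 0, Int.ofNat 0, Int.ofNat 0, Int.ofNat 0, Int.negSucc 1, Int.ofNat 62, Int.ofNat 3, Int.negSucc 9, Int.ofNat 0, Int.negSucc 44]) (ZT.node 14894 (ZT.leaf []) (ZT.leaf []))) (ZT.node 14896 (ZT.leaf []) (ZT.node 14897 (ZT.leaf []) (ZT.leaf [])))))))) (ZT.node 14943 (ZT.node 14920 (ZT.node 14909 (ZT.node 14903 (ZT.node 14900 (ZT.node 14899 (ZT.leaf []) (ZT.leaf [])) (ZT.node 14901 (ZT.leaf [Int.negSucc 2015, Int.negSucc 9, Int.ofNat 485, Int.negSucc 23, Int.negSucc 3, Int.negSucc 151, Int.ofNat 5, Int.negSucc 20, Int.negSucc 23, Int.negSucc 0, Int.ofNat 0, Int.ofNat 0, Int.negSucc 2, Int.ofNat 6, Int.ofNat 34, Int.negSucc 8, Int.negSucc 1, Int.ofNat 0, Int.negSucc 99]) (ZT.node 14902 (ZT.leaf []) (ZT.leaf [Int.ofNat 7055, Int.ofNat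 1045, Int.negSucc 1565, Int.ofNat 92, Int.negSucc 6, Int.ofNat 578, Int.ofNat 53, Int.negSucc 24, Int.ofNat 32, Int.ofNat 0, Int.ofNat 0, Int.ofNat 0, Int.ofNat 36, Int.ofNat 8, Int.negSucc 462, Int.ofNat 18, Int.ofNat 90, Int.ofNat 0, Int.ofNat 528])))) (ZT.node 14906 (ZT.node 14904 (ZT.leaf [Int.negSucc 6368, Int.negSucc 699, Int.ofNat 1388, Int.negSucc 25, Int.ofNat 7, Int.negSucc 470, Int.negSucc 48, Int.ofNat 12, Int.negSucc 26, Int.ofNat 0, Int.ofNat 0, Int.ofNat 0, Int.negSucc 35, Int.negSucc 3, Int.ofNat 371, Int.negSucc 19, Int.negSucc 77, Int.ofNat 0, Int.negSucc 440]) (ZT.node 14905 (ZT.leaf [Int.ofNat 6368, Int.ofNat 700, Int.negSucc 1387, Int.ofNat 26, Int.negSucc 6, Int.ofNat 471, Int.ofNat 49, Int.negSucc 11, Int.ofNat 27, Int.ofNat 0, Int.ofNat 0, Int.ofNat 0, Int.ofNat 36, Int.ofNat 4, Int.negSucc 370, Int.ofNat 20, Int.ofNat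 78, Int.ofNat 0, Int.ofNat 441]) (ZT.leaf [Int.negSucc 0]))) (ZT.node 14907 (ZT.leaf []) (ZT.node 14908 (ZT.leaf []) (ZT.leaf []))))) (ZT.node 14914 (ZT.node 14911 (ZT.node 14910 (ZT.leaf []) (ZT.leaf [])) (ZT.node 14912 (ZT.leaf []) (ZT.node 14913 (ZT.leaf [Int.ofNat 78, Int.ofNat 290, Int.negSucc 43, Int.ofNat 61, Int.ofNat 2, Int.ofNat 55, Int.ofNat 6, Int.negSucc 11, Int.negSucc 2, Int.ofNat 0, Int.ofNat 0, Int.ofNat 0, Int.ofNat 1, Int.ofNat 3, Int.negSucc 96, Int.negSucc 3, Int.ofNat 0, Int.ofNat 0, Int.ofNat 49]) (ZT.leaf [Int.negSucc 355, Int.negSucc 513, Int.ofNat 85, Int.negSucc 80, Int.negSucc 1, Int.negSucc 87, Int.negSucc 18, Int.ofNat 33, Int.ofNat 11, Int.ofNat 0, Int.ofNat 0, Int.ofNat 0, Int.negSucc 3, Int.negSucc 2, Int.ofNat 190, Int.ofNat 3, Int.negSucc 10, Int.ofNat 0, Int.negSucc 89])))) (ZT.node 14917 (ZT.node 14915 (ZT.leaf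 []) (ZT.node 14916 (ZT.leaf []) (ZT.leaf []))) (ZT.node 14918 (ZT.leaf []) (ZT.node 14919 (ZT.leaf [Int.negSucc 428, Int.negSucc 452, Int.ofNat 122, Int.negSucc 89, Int.negSucc 0, Int.negSucc 108, Int.negSucc 13, Int.ofNat 26, Int.ofNat 4, Int.ofNat 0, Int.ofNat 1, Int.ofNat 0, Int.negSucc 0, Int.negSucc 1, Int.ofNat 142, Int.ofNat 4, Int.negSucc 2, Int.ofNat 0, Int.negSucc 88]) (ZT.leaf [])))))) (ZT.node 14931 (ZT.node 14925 (ZT.node 14922 (ZT.node 14921 (ZT.leaf []) (ZT.leaf [])) (ZT.node 14923 (ZT.leaf [Int.ofNat 2443, Int.ofNat 1530, Int.negSucc 585, Int.ofNat 261, Int.ofNat 5, Int.ofNat 395, Int.ofNat 55, Int.negSucc 101, Int.negSucc 14, Int.ofNat 0, Int.ofNat 0, Int.ofNat 0, Int.ofNat 8, Int.ofNat 8, Int.negSucc 534, Int.negSucc 7, Int.ofNat 42, Int.ofNat 0, Int.ofNat 350]) (ZT.node 14924 (ZT.leaf [Int.negSucc 2872, Int.negSucc 2262, Int.ofNat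 752, Int.negSucc 411, Int.negSucc 12, Int.negSucc 555, Int.negSucc 79, Int.ofNat 201, Int.ofNat 34, Int.ofNat 0, Int.negSucc 0, Int.ofNat 1, Int.ofNat 7, Int.negSucc 9, Int.ofNat 734, Int.ofNat 20, Int.negSucc 91, Int.ofNat 1, Int.negSucc 492]) (ZT.leaf [Int.ofNat 12450, Int.ofNat 2739, Int.negSucc 2856, Int.ofNat 387, Int.negSucc 9, Int.ofNat 1269, Int.ofNat 113, Int.negSucc 155, Int.ofNat 49, Int.negSucc 0, Int.ofNat 0, Int.negSucc 0, Int.ofNat 46, Int.ofNat 17, Int.negSucc 958, Int.ofNat 11, Int.ofNat 165, Int.negSucc 0, Int.ofNat 1083])))) (ZT.node 14928 (ZT.node 14926 (ZT.leaf [Int.negSucc 12448, Int.negSucc 2738, Int.ofNat 2857, Int.negSucc 386, Int.ofNat 10, Int.negSucc 1268, Int.negSucc 112, Int.ofNat 156, Int.negSucc 48, Int.ofNat 1, Int.ofNat 0, Int.ofNat 1, Int.negSucc 45, Int.negSucc 16, Int.ofNat 959, Int.negSucc 10, Int.negSucc 164,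 Int.ofNat 1, Int.negSucc 1082]) (ZT.node 14927 (ZT.leaf []) (ZT.leaf [Int.ofNat 61984, Int.ofNat 28211, Int.negSucc 14459, Int.ofNat 4587, Int.ofNat 93, Int.ofNat 8465, Int.ofNat 1056, Int.negSucc 2213, Int.negSucc 212, Int.negSucc 2, Int.ofNat 1, Int.ofNat 1, Int.ofNat 129, Int.ofNat 84, Int.negSucc 9814, Int.negSucc 55, Int.ofNat 1389, Int.ofNat 2, Int.ofNat 7468]))) (ZT.node 14929 (ZT.leaf [Int.ofNat 5158, Int.negSucc 359, Int.negSucc 1039, Int.negSucc 183, Int.negSucc 11, Int.ofNat 219, Int.ofNat 28, Int.ofNat 38, Int.ofNat 33, Int.ofNat 0, Int.ofNat 0, Int.ofNat 0, Int.ofNat 31, Int.negSucc 1, Int.negSucc 23, Int.ofNat 29, Int.ofNat 50, Int.ofNat 0, Int.ofNat 216]) (ZT.node 14930 (ZT.leaf []) (ZT.leaf [Int.ofNat 430, Int.ofNat 453, Int.negSucc 121, Int.ofNat 90, Int.ofNat 1, Int.ofNat 109, Int.ofNat 14, Int.negSucc 25, Int.negSucc 3, Int.ofNat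 0, Int.negSucc 0, Int.ofNat 0, Int.ofNat 1, Int.ofNat 2, Int.negSucc 141, Int.negSucc 3, Int.ofNat 3, Int.ofNat 0, Int.ofNat 89]))))) (ZT.node 14937 (ZT.node 14934 (ZT.node 14932 (ZT.leaf [Int.ofNat 5918, Int.ofNat 3510, Int.negSucc 1357, Int.ofNat 563, Int.ofNat 15, Int.ofNat 876, Int.ofNat 125, Int.negSucc 270, Int.negSucc 43, Int.ofNat 0, Int.ofNat 0, Int.ofNat 1, Int.ofNat 14, Int.ofNat 16, Int.negSucc 1163, Int.negSucc 16, Int.ofNat 153, Int.ofNat 1, Int.ofNat 806]) (ZT.node 14933 (ZT.leaf []) (ZT.leaf []))) (ZT.node 14935 (ZT.leaf []) (ZT.node 14936 (ZT.leaf []) (ZT.leaf [])))) (ZT.node 14940 (ZT.node 14938 (ZT.leaf []) (ZT.node 14939 (ZT.leaf []) (ZT.leaf []))) (ZT.node 14941 (ZT.leaf []) (ZT.node 14942 (ZT.leaf [Int.ofNat 267, Int.ofNat 114, Int.negSucc 74, Int.ofNat 28, Int.ofNat 1, Int.ofNat 48, Int.ofNat 6, Int.negSucc 11, Int.ofNat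 2, Int.ofNat 1, Int.ofNat 0, Int.ofNat 0, Int.negSucc 2, Int.ofNat 1, Int.negSucc 32, Int.negSucc 0, Int.ofNat 1, Int.ofNat 0, Int.ofNat 36]) (ZT.leaf []))))))) (ZT.node 14965 (ZT.node 14954 (ZT.node 14948 (ZT.node 14945 (ZT.node 14944 (ZT.leaf []) (ZT.leaf [Int.ofNat 659, Int.ofNat 333, Int.negSucc 183, Int.ofNat 69, Int.ofNat 0, Int.ofNat 116, Int.ofNat 2, Int.negSucc 11, Int.ofNat 7, Int.ofNat 0, Int.ofNat 0, Int.ofNat 0, Int.ofNat 0, Int.ofNat 4, Int.negSucc 92, Int.negSucc 1, Int.ofNat 10, Int.ofNat 0, Int.ofNat 91])) (ZT.node 14946 (ZT.leaf []) (ZT.node 14947 (ZT.leaf []) (ZT.leaf [])))) (ZT.node 14951 (ZT.node 14949 (ZT.leaf []) (ZT.node 14950 (ZT.leaf []) (ZT.leaf []))) (ZT.node 14952 (ZT.leaf []) (ZT.node 14953 (ZT.leaf []) (ZT.leaf []))))) (ZT.node 14959 (ZT.node 14956 (ZT.node 14955 (ZT.leaf []) (ZT.leaf [])) (ZT.node 14957 (ZT.leaf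 []) (ZT.node 14958 (ZT.leaf [Int.ofNat 0, Int.ofNat 0, Int.ofNat 0, Int.ofNat 0, Int.ofNat 0, Int.ofNat 0, Int.ofNat 0, Int.ofNat 0, Int.ofNat 0, Int.ofNat 0, Int.ofNat 0, Int.ofNat 0, Int.ofNat 0, Int.ofNat 0, Int.ofNat 0, Int.ofNat 0, Int.negSucc 0]) (ZT.leaf [])))) (ZT.node 14962 (ZT.node 14960 (ZT.leaf []) (ZT.node 14961 (ZT.leaf []) (ZT.leaf []))) (ZT.node 14963 (ZT.leaf []) (ZT.node 14964 (ZT.leaf [Int.negSucc 685, Int.negSucc 344, Int.ofNat 178, Int.negSucc 65, Int.ofNat 0, Int.negSucc 106, Int.negSucc 3, Int.ofNat 13, Int.negSucc 4, Int.ofNat 0, Int.ofNat 0, Int.ofNat 0, Int.ofNat 0, Int.negSucc 3, Int.ofNat 92, Int.ofNat 2, Int.negSucc 11, Int.ofNat 0, Int.negSucc 86]) (ZT.leaf [])))))) (ZT.node 14976 (ZT.node 14970 (ZT.node 14967 (ZT.node 14966 (ZT.leaf []) (ZT.leaf [])) (ZT.node 14968 (ZT.leaf []) (ZT.node 14969 (ZT.leaf []) (ZT.leaf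 [])))) (ZT.node 14973 (ZT.node 14971 (ZT.leaf []) (ZT.node 14972 (ZT.leaf []) (ZT.leaf []))) (ZT.node 14974 (ZT.leaf []) (ZT.node 14975 (ZT.leaf [Int.ofNat 7768, Int.ofNat 3818, Int.negSucc 1871, Int.ofNat 649, Int.ofNat 15, Int.ofNat 1116, Int.ofNat 134, Int.negSucc 310, Int.negSucc 32, Int.ofNat 0, Int.ofNat 1, Int.ofNat 0, Int.ofNat 9, Int.ofNat 13, Int.negSucc 1303, Int.negSucc 13, Int.ofNat 188, Int.negSucc 0, Int.ofNat 989]) (ZT.leaf []))))) (ZT.node 14982 (ZT.node 14979 (ZT.node 14977 (ZT.leaf []) (ZT.node 14978 (ZT.leaf []) (ZT.leaf []))) (ZT.node 14980 (ZT.leaf [Int.negSucc 5119, Int.negSucc 1979, Int.ofNat 1153, Int.negSucc 283, Int.negSucc 4, Int.negSucc 614, Int.negSucc 81, Int.ofNat 151, Int.ofNat 14, Int.ofNat 0, Int.ofNat 0, Int.ofNat 0, Int.negSucc 15, Int.negSucc 5, Int.ofNat 746, Int.negSucc 3, Int.negSucc 112, Int.ofNat 0, Int.negSucc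 559]) (ZT.node 14981 (ZT.leaf []) (ZT.leaf [])))) (ZT.node 14985 (ZT.node 14983 (ZT.leaf [Int.negSucc 12836, Int.negSucc 3443, Int.ofNat 2983, Int.negSucc 520, Int.ofNat 4, Int.negSucc 1402, Int.negSucc 123, Int.ofNat 203, Int.negSucc 38, Int.ofNat 2, Int.negSucc 0, Int.ofNat 1, Int.negSucc 42, Int.negSucc 24, Int.ofNat 1178, Int.negSucc 1, Int.negSucc 195, Int.ofNat 0, Int.negSucc 1205]) (ZT.node 14984 (ZT.leaf []) (ZT.leaf []))) (ZT.node 14986 (ZT.leaf []) (ZT.node 14987 (ZT.leaf []) (ZT.leaf []))))))))) (ZT.node 15078 (ZT.node 15033 (ZT.node 15010 (ZT.node 14999 (ZT.node 14993 (ZT.node 14990 (ZT.node 14989 (ZT.leaf []) (ZT.leaf [])) (ZT.node 14991 (ZT.leaf []) (ZT.node 14992 (ZT.leaf []) (ZT.leaf [Int.ofNat 2])))) (ZT.node 14996 (ZT.node 14994 (ZT.leaf []) (ZT.node 14995 (ZT.leaf [Int.ofNat 87494, Int.ofNat 39168, Int.negSucc 20312, Int.ofNat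 6264, Int.ofNat 120, Int.ofNat 11887, Int.ofNat 1463, Int.negSucc 3080, Int.negSucc 272, Int.negSucc 4, Int.ofNat 3, Int.ofNat 2, Int.ofNat 173, Int.ofNat 142, Int.negSucc 13202, Int.negSucc 80, Int.ofNat 1916, Int.ofNat 3, Int.ofNat 10441]) (ZT.leaf []))) (ZT.node 14997 (ZT.leaf []) (ZT.node 14998 (ZT.leaf []) (ZT.leaf []))))) (ZT.node 15004 (ZT.node 15001 (ZT.node 15000 (ZT.leaf []) (ZT.leaf [])) (ZT.node 15002 (ZT.leaf []) (ZT.node 15003 (ZT.leaf []) (ZT.leaf [])))) (ZT.node 15007 (ZT.node 15005 (ZT.leaf []) (ZT.node 15006 (ZT.leaf []) (ZT.leaf []))) (ZT.node 15008 (ZT.leaf []) (ZT.node 15009 (ZT.leaf []) (ZT.leaf [])))))) (ZT.node 15021 (ZT.node 15015 (ZT.node 15012 (ZT.node 15011 (ZT.leaf []) (ZT.leaf [])) (ZT.node 15013 (ZT.leaf []) (ZT.node 15014 (ZT.leaf [Int.ofNat 9499, Int.ofNat 2298, Int.negSucc 1853, Int.ofNat 173, Int.ofNat 10, Int.ofNat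 742, Int.ofNat 140, Int.negSucc 221, Int.negSucc 35, Int.ofNat 2, Int.negSucc 0, Int.negSucc 0, Int.ofNat 32, Int.negSucc 8, Int.negSucc 1112, Int.ofNat 33, Int.ofNat 233, Int.ofNat 0, Int.ofNat 769]) (ZT.leaf [])))) (ZT.node 15018 (ZT.node 15016 (ZT.leaf []) (ZT.node 15017 (ZT.leaf []) (ZT.leaf []))) (ZT.node 15019 (ZT.leaf []) (ZT.node 15020 (ZT.leaf []) (ZT.leaf [Int.ofNat 1]))))) (ZT.node 15027 (ZT.node 15024 (ZT.node 15022 (ZT.leaf []) (ZT.node 15023 (ZT.leaf [Int.ofNat 15, Int.negSucc 4, Int.negSucc 1, Int.negSucc 0, Int.ofNat 0, Int.ofNat 0, Int.ofNat 0, Int.ofNat 1, Int.ofNat 1, Int.ofNat 1, Int.ofNat 0, Int.ofNat 0, Int.ofNat 0, Int.ofNat 0, Int.ofNat 6, Int.ofNat 0, Int.ofNat 0, Int.ofNat 0, Int.ofNat 0]) (ZT.leaf [Int.negSucc 1, Int.negSucc 1, Int.ofNat 0, Int.ofNat 0, Int.ofNat 0, Int.ofNat 0, Int.ofNat 0, Int.ofNat 0, Int.ofNat 0,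 Int.ofNat 0, Int.ofNat 0, Int.ofNat 0, Int.ofNat 0, Int.ofNat 0, Int.ofNat 1, Int.ofNat 0, Int.ofNat 0, Int.ofNat 0, Int.negSucc 0]))) (ZT.node 15025 (ZT.leaf []) (ZT.node 15026 (ZT.leaf []) (ZT.leaf [])))) (ZT.node 15030 (ZT.node 15028 (ZT.leaf []) (ZT.node 15029 (ZT.leaf []) (ZT.leaf []))) (ZT.node 15031 (ZT.leaf [Int.ofNat 12, Int.ofNat 434, Int.negSucc 50, Int.ofNat 97, Int.ofNat 5, Int.ofNat 81, Int.ofNat 0, Int.negSucc 29, Int.negSucc 4, Int.ofNat 0, Int.ofNat 1, Int.ofNat 0, Int.negSucc 4, Int.ofNat 5, Int.negSucc 128, Int.negSucc 6, Int.ofNat 24, Int.ofNat 1, Int.ofNat 69]) (ZT.node 15032 (ZT.leaf [Int.ofNat 78, Int.negSucc 74, Int.ofNat 32, Int.negSucc 35, Int.negSucc 1, Int.negSucc 30, Int.ofNat 4, Int.ofNat 6, Int.negSucc 2, Int.negSucc 0, Int.ofNat 1, Int.ofNat 0, Int.ofNat 4, Int.negSucc 2, Int.ofNat 15, Int.ofNat 3, Int.ofNat 1,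 Int.ofNat 0, Int.negSucc 18]) (ZT.leaf [Int.ofNat 42549, Int.ofNat 18066, Int.negSucc 9789, Int.ofNat 2837, Int.ofNat 64, Int.ofNat 5547, Int.ofNat 709, Int.negSucc 1470, Int.negSucc 133, Int.negSucc 1, Int.ofNat 0, Int.ofNat 1, Int.ofNat 82, Int.ofNat 54, Int.negSucc 6309, Int.negSucc 20, Int.ofNat 991, Int.ofNat 1, Int.ofNat 4935]))))))) (ZT.node 15055 (ZT.node 15044 (ZT.node 15038 (ZT.node 15035 (ZT.node 15034 (ZT.leaf []) (ZT.leaf [])) (ZT.node 15036 (ZT.leaf []) (ZT.node 15037 (ZT.leaf []) (ZT.leaf [])))) (ZT.node 15041 (ZT.node 15039 (ZT.leaf []) (ZT.node 15040 (ZT.leaf []) (ZT.leaf [Int.ofNat 80, Int.ofNat 8, Int.negSucc 22, Int.ofNat 4, Int.ofNat 0, Int.ofNat 10, Int.ofNat 0, Int.ofNat 0, Int.ofNat 1, Int.ofNat 0, Int.ofNat 0, Int.ofNat 0, Int.ofNat 0, Int.ofNat 0, Int.ofNat 0, Int.ofNat 1, Int.ofNat 2, Int.ofNat 0, Int.ofNat 8]))) (ZT.node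 15042 (ZT.leaf []) (ZT.node 15043 (ZT.leaf []) (ZT.leaf []))))) (ZT.node 15049 (ZT.node 15046 (ZT.node 15045 (ZT.leaf []) (ZT.leaf [])) (ZT.node 15047 (ZT.leaf []) (ZT.node 15048 (ZT.leaf []) (ZT.leaf [])))) (ZT.node 15052 (ZT.node 15050 (ZT.leaf []) (ZT.node 15051 (ZT.leaf []) (ZT.leaf [Int.negSucc 1090, Int.negSucc 1967, Int.ofNat 266, Int.negSucc 329, Int.negSucc 8, Int.negSucc 359, Int.negSucc 72, Int.ofNat 169, Int.ofNat 44, Int.ofNat 1, Int.ofNat 0, Int.ofNat 0, Int.ofNat 2, Int.negSucc 11, Int.ofNat 668, Int.ofNat 18, Int.negSucc 67, Int.ofNat 0, Int.negSucc 340]))) (ZT.node 15053 (ZT.leaf []) (ZT.node 15054 (ZT.leaf []) (ZT.leaf [])))))) (ZT.node 15066 (ZT.node 15060 (ZT.node 15057 (ZT.node 15056 (ZT.leaf []) (ZT.leaf [Int.ofNat 4765, Int.ofNat 1466, Int.negSucc 1067, Int.ofNat 203, Int.ofNat 3, Int.ofNat 527, Int.ofNat 63, Int.negSucc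 117, Int.negSucc 2, Int.ofNat 0, Int.ofNat 0, Int.ofNat 0, Int.ofNat 12, Int.ofNat 3, Int.negSucc 555, Int.ofNat 7, Int.ofNat 102, Int.ofNat 0, Int.ofNat 470])) (ZT.node 15058 (ZT.leaf []) (ZT.node 15059 (ZT.leaf []) (ZT.leaf [])))) (ZT.node 15063 (ZT.node 15061 (ZT.leaf []) (ZT.node 15062 (ZT.leaf []) (ZT.leaf []))) (ZT.node 15064 (ZT.leaf []) (ZT.node 15065 (ZT.leaf []) (ZT.leaf []))))) (ZT.node 15072 (ZT.node 15069 (ZT.node 15067 (ZT.leaf []) (ZT.node 15068 (ZT.leaf [Int.negSucc 37297, Int.negSucc 14606, Int.ofNat 8500, Int.negSucc 2240, Int.negSucc 46, Int.negSucc 4665, Int.negSucc 597, Int.ofNat 1199, Int.ofNat 96, Int.ofNat 3, Int.negSucc 0, Int.ofNat 0, Int.negSucc 77, Int.negSucc 33, Int.ofNat 5163, Int.ofNat 0, Int.negSucc 841, Int.ofNat 0, Int.negSucc 4143]) (ZT.leaf []))) (ZT.node 15070 (ZT.leaf [Int.ofNat 0, Int.ofNat 0, Int.ofNat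 0, Int.ofNat 0, Int.ofNat 0, Int.ofNat 0, Int.ofNat 0, Int.ofNat 0, Int.ofNat 0, Int.ofNat 0, Int.ofNat 0, Int.ofNat 0, Int.ofNat 0, Int.ofNat 0, Int.ofNat 0, Int.ofNat 0, Int.ofNat 0, Int.ofNat 0, Int.ofNat 1]) (ZT.node 15071 (ZT.leaf []) (ZT.leaf [])))) (ZT.node 15075 (ZT.node 15073 (ZT.leaf []) (ZT.node 15074 (ZT.leaf []) (ZT.leaf []))) (ZT.node 15076 (ZT.leaf []) (ZT.node 15077 (ZT.leaf []) (ZT.leaf [])))))))) (ZT.node 15123 (ZT.node 15100 (ZT.node 15089 (ZT.node 15083 (ZT.node 15080 (ZT.node 15079 (ZT.leaf []) (ZT.leaf [])) (ZT.node 15081 (ZT.leaf []) (ZT.node 15082 (ZT.leaf []) (ZT.leaf [])))) (ZT.node 15086 (ZT.node 15084 (ZT.leaf []) (ZT.node 15085 (ZT.leaf [Int.negSucc 129, Int.ofNat 37, Int.ofNat 32, Int.ofNat 6, Int.ofNat 0, Int.negSucc 3, Int.ofNat 4, Int.negSucc 6, Int.negSucc 3, Int.ofNat 0, Int.ofNat 0, Int.ofNat 0, Int.negSucc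 0, Int.ofNat 0, Int.negSucc 16, Int.ofNat 0, Int.ofNat 0, Int.ofNat 0, Int.negSucc 0]) (ZT.leaf []))) (ZT.node 15087 (ZT.leaf []) (ZT.node 15088 (ZT.leaf []) (ZT.leaf []))))) (ZT.node 15094 (ZT.node 15091 (ZT.node 15090 (ZT.leaf []) (ZT.leaf [])) (ZT.node 15092 (ZT.leaf []) (ZT.node 15093 (ZT.leaf []) (ZT.leaf [])))) (ZT.node 15097 (ZT.node 15095 (ZT.leaf []) (ZT.node 15096 (ZT.leaf []) (ZT.leaf []))) (ZT.node 15098 (ZT.leaf []) (ZT.node 15099 (ZT.leaf []) (ZT.leaf [Int.negSucc 2394, Int.negSucc 774, Int.ofNat 552, Int.negSucc 109, Int.ofNat 0, Int.negSucc 272, Int.negSucc 19, Int.ofNat 45, Int.negSucc 1, Int.ofNat 0, Int.ofNat 0, Int.ofNat 0, Int.negSucc 7, Int.negSucc 1, Int.ofNat 263, Int.negSucc 1, Int.negSucc 49, Int.ofNat 0, Int.negSucc 243])))))) (ZT.node 15111 (ZT.node 15105 (ZT.node 15102 (ZT.node 15101 (ZT.leaf [Int.ofNat 2646, Int.ofNat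 710, Int.negSucc 567, Int.ofNat 101, Int.ofNat 5, Int.ofNat 252, Int.ofNat 38, Int.negSucc 56, Int.negSucc 9, Int.ofNat 0, Int.negSucc 0, Int.ofNat 1, Int.ofNat 13, Int.negSucc 2, Int.negSucc 391, Int.ofNat 11, Int.ofNat 46, Int.ofNat 0, Int.ofNat 246]) (ZT.leaf [])) (ZT.node 15103 (ZT.leaf []) (ZT.node 15104 (ZT.leaf []) (ZT.leaf [])))) (ZT.node 15108 (ZT.node 15106 (ZT.leaf []) (ZT.node 15107 (ZT.leaf []) (ZT.leaf []))) (ZT.node 15109 (ZT.leaf []) (ZT.node 15110 (ZT.leaf [Int.negSucc 1]) (ZT.leaf []))))) (ZT.node 15117 (ZT.node 15114 (ZT.node 15112 (ZT.leaf []) (ZT.node 15113 (ZT.leaf []) (ZT.leaf []))) (ZT.node 15115 (ZT.leaf []) (ZT.node 15116 (ZT.leaf []) (ZT.leaf [Int.ofNat 12826, Int.ofNat 3010, Int.negSucc 2931, Int.ofNat 424, Int.negSucc 8, Int.ofNat 1322, Int.ofNat 124, Int.negSucc 172, Int.ofNat 44, Int.negSucc 1, Int.ofNat 0, Int.negSucc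 0, Int.ofNat 48, Int.ofNat 20, Int.negSucc 1048, Int.ofNat 9, Int.ofNat 172, Int.negSucc 0, Int.ofNat 1137])))) (ZT.node 15120 (ZT.node 15118 (ZT.leaf []) (ZT.node 15119 (ZT.leaf []) (ZT.leaf []))) (ZT.node 15121 (ZT.leaf [Int.negSucc 15827, Int.negSucc 4359, Int.ofNat 3301, Int.negSucc 499, Int.negSucc 22, Int.negSucc 1446, Int.negSucc 229, Int.ofNat 394, Int.ofNat 54, Int.negSucc 1, Int.ofNat 1, Int.ofNat 0, Int.negSucc 46, Int.ofNat 10, Int.ofNat 1967, Int.negSucc 41, Int.negSucc 356, Int.ofNat 1, Int.negSucc 1415]) (ZT.node 15122 (ZT.leaf [Int.ofNat 594, Int.ofNat 1905, Int.negSucc 188, Int.ofNat 337, Int.ofNat 10, Int.ofNat 328, Int.ofNat 64, Int.negSucc 163, Int.negSucc 43, Int.ofNat 0, Int.negSucc 0, Int.ofNat 0, Int.negSucc 2, Int.ofNat 14, Int.negSucc 649, Int.negSucc 19, Int.ofNat 65, Int.ofNat 0, Int.ofNat 314]) (ZT.leaf []))))))) (ZT.node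 15145 (ZT.node 15134 (ZT.node 15128 (ZT.node 15125 (ZT.node 15124 (ZT.leaf []) (ZT.leaf [])) (ZT.node 15126 (ZT.leaf []) (ZT.node 15127 (ZT.leaf []) (ZT.leaf [])))) (ZT.node 15131 (ZT.node 15129 (ZT.leaf []) (ZT.node 15130 (ZT.leaf []) (ZT.leaf []))) (ZT.node 15132 (ZT.leaf [Int.ofNat 1, Int.ofNat 3, Int.ofNat 0, Int.ofNat 0, Int.ofNat 0, Int.ofNat 0, Int.ofNat 0, Int.ofNat 0, Int.ofNat 0, Int.ofNat 0, Int.ofNat 0, Int.ofNat 0, Int.ofNat 0, Int.ofNat 0, Int.negSucc 0]) (ZT.node 15133 (ZT.leaf []) (ZT.leaf []))))) (ZT.node 15139 (ZT.node 15136 (ZT.node 15135 (ZT.leaf []) (ZT.leaf [])) (ZT.node 15137 (ZT.leaf []) (ZT.node 15138 (ZT.leaf []) (ZT.leaf [])))) (ZT.node 15142 (ZT.node 15140 (ZT.leaf []) (ZT.node 15141 (ZT.leaf [Int.ofNat 1282, Int.ofNat 731, Int.negSucc 253, Int.ofNat 92, Int.ofNat 1, Int.ofNat 149, Int.ofNat 26, Int.negSucc 44, Int.negSucc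 9, Int.ofNat 0, Int.ofNat 0, Int.ofNat 0, Int.ofNat 10, Int.ofNat 5, Int.negSucc 222, Int.negSucc 3, Int.ofNat 24, Int.ofNat 0, Int.ofNat 151]) (ZT.leaf [Int.negSucc 1588, Int.ofNat 999, Int.ofNat 283, Int.ofNat 232, Int.ofNat 12, Int.ofNat 106, Int.ofNat 18, Int.negSucc 116, Int.negSucc 30, Int.ofNat 0, Int.ofNat 0, Int.ofNat 0, Int.negSucc 24, Int.ofNat 2, Int.negSucc 262, Int.negSucc 16, Int.ofNat 23, Int.ofNat 0, Int.ofNat 71]))) (ZT.node 15143 (ZT.leaf []) (ZT.node 15144 (ZT.leaf []) (ZT.leaf [Int.ofNat 0, Int.negSucc 2, Int.ofNat 0, Int.ofNat 0, Int.ofNat 0, Int.ofNat 0, Int.ofNat 0, Int.ofNat 0, Int.ofNat 0, Int.ofNat 0, Int.ofNat 0, Int.ofNat 0, Int.ofNat 0, Int.ofNat 0, Int.ofNat 1, Int.ofNat 0, Int.ofNat 0, Int.ofNat 0, Int.ofNat 0])))))) (ZT.node 15156 (ZT.node 15150 (ZT.node 15147 (ZT.node 15146 (ZT.leaf [Int.ofNat 277, Int.ofNat 224,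 Int.negSucc 40, Int.ofNat 20, Int.ofNat 0, Int.ofNat 33, Int.ofNat 13, Int.negSucc 20, Int.negSucc 7, Int.ofNat 0, Int.ofNat 0, Int.ofNat 0, Int.ofNat 3, Int.ofNat 0, Int.negSucc 92, Int.ofNat 1, Int.ofNat 11, Int.ofNat 0, Int.ofNat 41]) (ZT.leaf [])) (ZT.node 15148 (ZT.leaf [Int.negSucc 0]) (ZT.node 15149 (ZT.leaf []) (ZT.leaf [Int.negSucc 0])))) (ZT.node 15153 (ZT.node 15151 (ZT.leaf []) (ZT.node 15152 (ZT.leaf []) (ZT.leaf [Int.ofNat 1, Int.ofNat 2, Int.ofNat 0, Int.ofNat 0, Int.ofNat 0, Int.ofNat 0, Int.ofNat 0, Int.ofNat 0, Int.ofNat 0, Int.ofNat 0, Int.ofNat 0, Int.ofNat 0, Int.ofNat 0, Int.ofNat 0, Int.negSucc 0, Int.ofNat 0, Int.ofNat 0, Int.ofNat 0, Int.ofNat 1]))) (ZT.node 15154 (ZT.leaf []) (ZT.node 15155 (ZT.leaf []) (ZT.leaf []))))) (ZT.node 15162 (ZT.node 15159 (ZT.node 15157 (ZT.leaf []) (ZT.node 15158 (ZT.leaf []) (ZT.leaf [Int.negSucc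 1, Int.negSucc 1, Int.ofNat 0, Int.ofNat 0, Int.ofNat 0, Int.ofNat 0, Int.ofNat 0, Int.ofNat 0, Int.ofNat 0, Int.ofNat 0, Int.ofNat 0, Int.ofNat 0, Int.ofNat 0, Int.ofNat 0, Int.ofNat 1, Int.ofNat 0, Int.ofNat 0, Int.ofNat 0, Int.negSucc 0]))) (ZT.node 15160 (ZT.leaf []) (ZT.node 15161 (ZT.leaf []) (ZT.leaf [])))) (ZT.node 15165 (ZT.node 15163 (ZT.leaf []) (ZT.node 15164 (ZT.leaf [Int.negSucc 0, Int.negSucc 0]) (ZT.leaf []))) (ZT.node 15166 (ZT.leaf [Int.negSucc 1, Int.negSucc 2, Int.ofNat 0, Int.ofNat 0, Int.ofNat 0, Int.ofNat 0, Int.ofNat 0, Int.ofNat 0, Int.ofNat 0, Int.ofNat 0, Int.ofNat 0, Int.ofNat 0, Int.ofNat 0, Int.ofNat 0, Int.ofNat 1, Int.ofNat 0, Int.ofNat 0, Int.ofNat 0, Int.negSucc 0]) (ZT.node 15167 (ZT.leaf [Int.ofNat 1, Int.ofNat 3, Int.ofNat 0, Int.ofNat 0, Int.ofNat 0, Int.ofNat 0, Int.ofNat 0, Int.ofNat 0, Int.ofNat 0, Int.ofNat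 0, Int.ofNat 0, Int.ofNat 0, Int.ofNat 0, Int.ofNat 0, Int.negSucc 0, Int.ofNat 0, Int.ofNat 0, Int.ofNat 0, Int.ofNat 1]) (ZT.leaf []))))))))))

end Cfsg.Agent.Helper9.TCData.L34L0
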